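import Mathlib
import Cfsg.Prelude.Def_Characters
import Cfsg.Agent.Helper6.CharBasic
import Cfsg.Agent.Helper6.FrobSchur

/-!
# Symmetric and exterior square of a character

For a character `ψ` of a group `G` the class functions
`g ↦ (ψ g ^ 2 + ψ (g * g)) / 2` and `g ↦ (ψ g ^ 2 - ψ (g * g)) / 2` are characters
(`br_as_isCharacter_sym`, `br_as_isCharacter_alt`).

Construction: if `R g` is the matrix of `ρ g`, then `G` acts on the `n × n` matrices by
`M ↦ R g * M * (R g)ᵀ`; the symmetric and the antisymmetric matrices are invariant subspaces, and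
the traces on them are computed with the projections `M ↦ (M ± Mᵀ) / 2`.
-/

set_option autoImplicit false
set_option linter.style.haveILetI false

namespace Cfsg.Agent.BR

open Cfsg Cfsg.Agent.Helper6 Matrix

universe u

variable {n : ℕ}

/-- `M ↦ A * M * B` -/
noncomputable def br_as_L (A B : Matrix (Fin n) (Fin n) ℂ) :
    Matrix (Fin n) (Fin n) ℂ →ₗ[ℂ] Matrix (Fin n) (Fin n) ℂ where
  toFun M := A * M * B
  map_add' M N := by rw [Matrix.mul_add, Matrix.add_mul]
  map_smul' c M := by simp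

/-- `M ↦ Mᵀ` -/
noncomputable def br_as_T : Matrix (Fin n) (Fin n) ℂ →ₗ[ℂ] Matrix (Fin n) (Fin n) ℂ where
  toFun M := Mᵀ
  map_add' M N := Matrix.transpose_add M N
  map_smul' c M := Matrix.transpose_smul c M

@[simp] theorem br_as_L_apply (A B M : Matrix (Fin n) (Fin n) ℂ) : br_as_L A B M = A * M * B := rfl

@[simp] theorem br_as_T_apply (M : Matrix (Fin n) (Fin n) ℂ) : br_as_T M = Mᵀ := rfl

theorem br_as_entry (A B : Matrix (Fin n) (Fin n) ℂ) (i j k l : Fin n) :
    (A * Matrix.single i j (1 : ℂ) * B) k l = A k i * B j l := by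
  rw [Matrix.mul_assoc, Matrix.mul_apply]
  simp [Matrix.single_apply, Matrix.mul_apply, ite_and, Finset.sum_ite_eq]

theorem br_as_repr (M : Matrix (Fin n) (Fin n) ℂ) (i j : Fin n) :
    (Matrix.stdBasis ℂ (Fin n) (Fin n)).repr M (i, j) = M i j := by
  simp [Matrix.stdBasis]

/-- the trace of `M ↦ A * M * B` -/
theorem br_as_trace_L (A B : Matrix (Fin n) (Fin n) ℂ) :
    LinearMap.trace ℂ _ (br_as_L A B) = A.trace * B.trace := by
  rw [LinearMap.trace_eq_matrix_trace ℂ (Matrix.stdBasis ℂ (Fin n) (Fin n)), Matrix.trace,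
    Fintype.sum_prod_type]
  have h : ∀ i j : Fin n, Matrix.diag (LinearMap.toMatrix (Matrix.stdBasis ℂ (Fin n) (Fin n))
      (Matrix.stdBasis ℂ (Fin n) (Fin n)) (br_as_L A B)) (i, j) = A i i * B j j := by
    intro i j
    rw [Matrix.diag_apply, LinearMap.toMatrix_apply, Matrix.stdBasis_eq_single, br_as_repr,
      br_as_L_apply, br_as_entry]
  simp_rw [h]
  rw [Matrix.trace, Matrix.trace, Finset.sum_mul_sum]
  rfl

/-- the trace of `M ↦ A * Mᵀ * B` -/
theorem br_as_trace_LT (A B : Matrix (Fin n) (Fin n) ℂ) :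
    LinearMap.trace ℂ _ (br_as_L A B ∘ₗ br_as_T) = (A * Bᵀ).trace := by
  rw [LinearMap.trace_eq_matrix_trace ℂ (Matrix.stdBasis ℂ (Fin n) (Fin n)), Matrix.trace,
    Fintype.sum_prod_type]
  have h : ∀ i j : Fin n, Matrix.diag (LinearMap.toMatrix (Matrix.stdBasis ℂ (Fin n) (Fin n))
      (Matrix.stdBasis ℂ (Fin n) (Fin n)) (br_as_L A B ∘ₗ br_as_T)) (i, j) = A i j * B i j := by
    intro i j
    rw [Matrix.diag_apply, LinearMap.toMatrix_apply, Matrix.stdBasis_eq_single, br_as_repr,
      LinearMap.comp_apply, br_as_T_apply, Matrix.transpose_single, br_as_L_apply, br_as_entry]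
  simp_rw [h]
  rw [Matrix.trace]
  apply Finset.sum_congr rfl
  intro i _
  rw [Matrix.diag_apply, Matrix.mul_apply]
  rfl

/-- the `s`-symmetric matrices, `s = 1` or `s = -1` -/
noncomputable def br_as_sub (s : ℂ) : Submodule ℂ (Matrix (Fin n) (Fin n) ℂ) where
  carrier := {M | Mᵀ = s • M}
  add_mem' := by
    intro M N hM hN
    show (M + N)ᵀ = s • (M + N)
    rw [Matrix.transpose_add, hM, hN, smul_add]
  zero_mem' := by
    show (0 : Matrix (Fin n) (Fin n) ℂ)ᵀ = s • 0
    simp
  smul_mem' := by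
    intro c M hM
    show (c • M)ᵀ = s • (c • M)
    rw [Matrix.transpose_smul, hM, smul_comm]

theorem br_as_mem_sub (s : ℂ) (M : Matrix (Fin n) (Fin n) ℂ) :
    M ∈ br_as_sub (n := n) s ↔ Mᵀ = s • M := Iff.rfl

theorem br_as_L_mem (s : ℂ) (A : Matrix (Fin n) (Fin n) ℂ) (M : Matrix (Fin n) (Fin n) ℂ)
    (hM : M ∈ br_as_sub (n := n) s) : br_as_L A Aᵀ M ∈ br_as_sub (n := n) s := by
  rw [br_as_mem_sub] at hM ⊢
  rw [br_as_L_apply, Matrix.transpose_mul, Matrix.transpose_mul, Matrix.transpose_transpose, hM,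
    Matrix.smul_mul, Matrix.mul_smul, Matrix.mul_assoc]

/-- the projection `M ↦ (M + s Mᵀ) / 2` -/
noncomputable def br_as_e (s : ℂ) :
    Matrix (Fin n) (Fin n) ℂ →ₗ[ℂ] Matrix (Fin n) (Fin n) ℂ :=
  (2 : ℂ)⁻¹ • (LinearMap.id + s • br_as_T)

theorem br_as_e_apply (s : ℂ) (M : Matrix (Fin n) (Fin n) ℂ) :
    br_as_e s M = (2 : ℂ)⁻¹ • (M + s • Mᵀ) := rfl

theorem br_as_e_mem (s : ℂ) (hs : s * s = 1) (M : Matrix (Fin n) (Fin n) ℂ) :
    br_as_e s M ∈ br_as_sub (n := n) s := by
  rw [br_as_mem_sub, br_as_e_apply]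
  ext i j
  simp only [Matrix.transpose_apply, Matrix.smul_apply, Matrix.add_apply, smul_eq_mul]
  linear_combination (-(2 : ℂ)⁻¹ * M j i) * hs

theorem br_as_e_of_mem (s : ℂ) (hs : s * s = 1) (M : Matrix (Fin n) (Fin n) ℂ)
    (hM : M ∈ br_as_sub (n := n) s) : br_as_e s M = M := by
  rw [br_as_mem_sub] at hM
  rw [br_as_e_apply, hM, smul_smul, hs, one_smul, ← two_smul ℂ M, smul_smul]
  norm_num

variable {G : Type u} [Group G] (ρ : Representation ℂ G (Fin n → ℂ))

/-- the representation of `G` on the `s`-symmetric matrices -/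
noncomputable def br_as_rep (s : ℂ) : Representation ℂ G (br_as_sub (n := n) s) where
  toFun g := (br_as_L (repMat ρ g) (repMat ρ g)ᵀ).restrict (fun M hM => br_as_L_mem s _ M hM)
  map_one' := by
    apply LinearMap.ext
    intro M
    apply Subtype.ext
    rw [LinearMap.coe_restrict_apply, br_as_L_apply, repMat_one]
    simp
  map_mul' g h := by
    apply LinearMap.ext
    intro M
    apply Subtype.ext
    rw [Module.End.mul_apply, LinearMap.coe_restrict_apply, LinearMap.coe_restrict_apply,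
      LinearMap.coe_restrict_apply, br_as_L_apply, br_as_L_apply, br_as_L_apply, repMat_mul,
      Matrix.transpose_mul]
    simp only [Matrix.mul_assoc]

/-- the character of `br_as_rep` -/
theorem br_as_character (s : ℂ) (hs : s * s = 1) (g : G) :
    (br_as_rep ρ s).character g =
      (2 : ℂ)⁻¹ * (ρ.character g ^ 2 + s * ρ.character (g * g)) := by
  set A := repMat ρ g with hA
  -- `f = L ∘ e` maps everything into the submodule and agrees with `L` there
  set f : Matrix (Fin n) (Fin n) ℂ →ₗ[ℂ] Matrix (Fin n) (Fin n) ℂ := br_as_L A Aᵀ ∘ₗ br_as_e s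
    with hf
  have hfmem : ∀ M, f M ∈ br_as_sub (n := n) s := fun M =>
    br_as_L_mem s A _ (br_as_e_mem s hs M)
  have hres : (br_as_rep ρ s) g = f.restrict (fun M _ => hfmem M) := by
    apply LinearMap.ext
    intro M
    apply Subtype.ext
    show (br_as_L A Aᵀ) M.1 = (br_as_L A Aᵀ) (br_as_e s M.1)
    rw [br_as_e_of_mem s hs M.1 M.2]
  rw [show (br_as_rep ρ s).character g = LinearMap.trace ℂ _ ((br_as_rep ρ s) g) from rfl,
    hres, LinearMap.trace_restrict_eq_of_forall_mem _ f hfmem]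
  have hf2 : f = (2 : ℂ)⁻¹ • (br_as_L A Aᵀ + s • (br_as_L A Aᵀ ∘ₗ br_as_T)) := by
    apply LinearMap.ext
    intro M
    simp only [hf, LinearMap.comp_apply, br_as_e_apply, LinearMap.smul_apply, LinearMap.add_apply,
      br_as_L_apply, br_as_T_apply, map_smul, map_add]
  rw [hf2, map_smul, map_add, map_smul, br_as_trace_L, br_as_trace_LT, Matrix.transpose_transpose,
    Matrix.trace_transpose, hA, ← repMat_mul, trace_repMat, trace_repMat, smul_eq_mul, smul_eq_mul]
  ring

/-- **the symmetric square** of a character is a character -/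
theorem br_as_isCharacter_sym {ψ : G → ℂ} (hψ : IsCharacter G ψ) :
    IsCharacter G (fun g => (2 : ℂ)⁻¹ * (ψ g ^ 2 + ψ (g * g))) := by
  obtain ⟨n, ρ, rfl⟩ := hψ
  have h := isCharacter_of_rep (br_as_rep ρ 1)
  have h2 : (br_as_rep ρ 1).character =
      fun g => (2 : ℂ)⁻¹ * (ρ.character g ^ 2 + ρ.character (g * g)) := by
    funext g
    rw [br_as_character ρ 1 (by norm_num) g, one_mul]
  rw [h2] at h
  exact h

/-- **the exterior square** of a character is a character -/
theorem br_as_isCharacter_alt {ψ : G → ℂ} (hψ : IsCharacter G ψ) :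
    IsCharacter G (fun g => (2 : ℂ)⁻¹ * (ψ g ^ 2 - ψ (g * g))) := by
  obtain ⟨n, ρ, rfl⟩ := hψ
  have h := isCharacter_of_rep (br_as_rep ρ (-1))
  have h2 : (br_as_rep ρ (-1)).character =
      fun g => (2 : ℂ)⁻¹ * (ρ.character g ^ 2 - ρ.character (g * g)) := by
    funext g
    rw [br_as_character ρ (-1) (by norm_num) g]
    ring
  rw [h2] at h
  exact h

end Cfsg.Agent.BR
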