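import Mathlib

/-!
# Brauer 1942-II / Brauer–Reynolds: the arithmetic lemmas

`p` a prime, `f ∣ p - 1`, `1 + n p` the number of Sylow `p`-subgroups.  A character of degree
`u p + 1` dividing `f (1 + n p)` forces `n (u + 1) = h u p + u² + u + h` with `h ≥ 0`, and `h = 0`
exactly when `u = n`; the same for the exceptional family of total degree `t (w p - f)`.
If `h ≥ 1` then `2 n ≥ p + 3`.
-/

set_option autoImplicit false

namespace Cfsg.Agent.BR

/-- a nonexceptional degree `u p + 1` dividing `f (1 + n p)` -/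
theorem br_arith_X {p f u n : ℕ} (hp : p.Prime) (hf : f ∣ p - 1)
    (hdiv : (u * p + 1) ∣ f * (1 + n * p)) :
    ∃ h : ℕ, n * (u + 1) = h * u * p + u ^ 2 + u + h ∧ (h = 0 ↔ u = n) := by
  have hp2 : 2 ≤ p := hp.two_le
  obtain ⟨t, ht⟩ := hf
  have hfpos : 0 < f := by
    rcases Nat.eq_zero_or_pos f with h | h
    · rw [h, zero_mul] at ht; omega
    · exact h
  have hflt : f < p := by
    have : f ≤ p - 1 := by
      rw [ht]; exact Nat.le_mul_of_pos_right f (by
        rcases Nat.eq_zero_or_pos t with h | h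
        · rw [h, mul_zero] at ht; omega
        · exact h)
    omega
  obtain ⟨k, hk⟩ := hdiv
  -- `k ≡ f mod p`
  have hkmod : k % p = f := by
    have h1 : (f * (1 + n * p)) % p = f % p := by
      rw [mul_add, mul_one, ← mul_assoc, Nat.add_mul_mod_self_right]
    have h2 : ((u * p + 1) * k) % p = k % p := by
      rw [add_mul, one_mul, mul_comm u p, mul_assoc, Nat.mul_add_mod]
    rw [hk, h2, Nat.mod_eq_of_lt hflt] at h1
    exact h1
  set h' := k / p with hh'
  have hkeq : k = p * h' + f := by
    have := Nat.div_add_mod k p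
    rw [hkmod] at this
    exact this.symm
  have htf : (p : ℤ) = f * t + 1 := by
    have : p = f * t + 1 := by omega
    exact_mod_cast this
  -- the key identity `h' (u p + 1) = f (n - u)` over ℤ
  have hkz : (f : ℤ) * (1 + n * p) = (u * p + 1) * (p * h' + f) := by
    rw [hkeq] at hk
    exact_mod_cast hk
  have hpz : (p : ℤ) ≠ 0 := by exact_mod_cast hp.ne_zero
  have key : (h' : ℤ) * (u * p + 1) = f * (n - u) := by
    have : (p : ℤ) * ((h' : ℤ) * (u * p + 1) - f * (n - u)) = 0 := by
      linear_combination -hkz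
    rcases mul_eq_zero.mp this with h | h
    · exact absurd h hpz
    · linarith
  -- `h := n - u - u t h'`
  have hmain : ((u : ℤ) + 1) * (n - u) = (u * p + 1) * (n - u - u * t * h') := by
    rw [htf]
    have key' := key
    rw [htf] at key'
    linear_combination ((u : ℤ) * t) * key'
  have hupos : (0 : ℤ) < u * p + 1 := by positivity
  have hnu : (0 : ℤ) ≤ n - u := by
    have h1 : (0 : ℤ) ≤ (h' : ℤ) * (u * p + 1) := by positivity
    rw [key] at h1
    have hfz : (0 : ℤ) < f := by exact_mod_cast hfpos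
    by_contra hneg
    push Not at hneg
    have : (f : ℤ) * (n - u) < 0 := mul_neg_of_pos_of_neg hfz hneg
    linarith
  have hhnn : (0 : ℤ) ≤ n - u - u * t * h' := by
    by_contra hneg
    push Not at hneg
    have h1 : ((u : ℤ) * p + 1) * (n - u - u * t * h') < 0 := mul_neg_of_pos_of_neg hupos hneg
    have h2 : (0 : ℤ) ≤ ((u : ℤ) + 1) * (n - u) := by positivity
    linarith
  obtain ⟨h, hh⟩ := Int.eq_ofNat_of_zero_le hhnn
  refine ⟨h, ?_, ?_⟩
  · have : ((n : ℤ)) * (u + 1) = h * u * p + u ^ 2 + u + h := by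
      rw [hh] at hmain
      linear_combination hmain
    exact_mod_cast this
  · constructor
    · intro h0
      rw [h0] at hh
      rw [hh] at hmain
      have h3 : ((u : ℤ) + 1) * (n - u) = 0 := by rw [hmain]; simp
      rcases mul_eq_zero.mp h3 with h4 | h4
      · exfalso; have : (0 : ℤ) ≤ u := by positivity
        linarith
      · have : (u : ℤ) = n := by linarith
        exact_mod_cast this
    · intro hun
      have h3 : ((u : ℤ) * p + 1) * (n - u - u * t * h') = 0 := by
        rw [← hmain, hun]; ring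
      rcases mul_eq_zero.mp h3 with h4 | h4
      · exfalso; linarith
      · rw [hh] at h4
        exact_mod_cast h4

/-- the exceptional family, of degree `y = w p - f` each and total degree `t y = u p + 1`,
`u = t w - 1`, with `y ∣ f (1 + n p)` -/
theorem br_arith_E {p f t w n : ℕ} (hp : p.Prime) (htf : t * f = p - 1) (hw : f < w * p)
    (hdiv : (w * p - f) ∣ f * (1 + n * p)) :
    ∃ h : ℕ, n * (t * w) = h * (t * w - 1) * p + (t * w - 1) ^ 2 + (t * w - 1) + h ∧
      (h = 0 ↔ t * (w * p - f) = 1 + n * p) := by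
  have hp2 : 2 ≤ p := hp.two_le
  have hfpos : 0 < f := by
    rcases Nat.eq_zero_or_pos f with h | h
    · rw [h, mul_zero] at htf; omega
    · exact h
  have htpos : 0 < t := by
    rcases Nat.eq_zero_or_pos t with h | h
    · rw [h, zero_mul] at htf; omega
    · exact h
  have hflt : f < p := by
    have : f ≤ p - 1 := by
      rw [← htf]; exact Nat.le_mul_of_pos_left f htpos
    omega
  have hwpos : 0 < w := by
    rcases Nat.eq_zero_or_pos w with h | h
    · rw [h, zero_mul] at hw; omega
    · exact h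
  obtain ⟨k, hk⟩ := hdiv
  have hpz : (p : ℤ) = t * f + 1 := by
    have : p = t * f + 1 := by omega
    exact_mod_cast this
  have hyz : ((w * p - f : ℕ) : ℤ) = w * p - f := by
    rw [Nat.cast_sub hw.le]; push_cast; ring
  have hkz : (f : ℤ) * (1 + n * p) = (w * p - f) * k := by
    have := congrArg (fun x : ℕ => (x : ℤ)) hk
    simp only [Nat.cast_mul, hyz] at this
    push_cast at this
    exact this
  -- `p ∣ k + 1`
  have hdvd : (p : ℤ) ∣ (k : ℤ) + 1 := by
    have h1 : (p : ℤ) ∣ (f : ℤ) * (k + 1) := by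
      refine ⟨(w : ℤ) * k - f * n, ?_⟩
      linear_combination hkz
    have hcop : IsCoprime (p : ℤ) (f : ℤ) := by
      rw [Int.isCoprime_iff_gcd_eq_one]
      have : Nat.Coprime p f := (Nat.Prime.coprime_iff_not_dvd hp).mpr (fun hd => by
        have := Nat.le_of_dvd hfpos hd; omega)
      simpa [Int.gcd, Int.natAbs_natCast] using this
    exact hcop.dvd_of_dvd_mul_left h1
  obtain ⟨h', hh'⟩ := hdvd
  -- `w (h' p - 1) = f (n + h')`
  have hpne : (p : ℤ) ≠ 0 := by exact_mod_cast hp.ne_zero
  have hk' : (k : ℤ) = p * h' - 1 := by linarith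
  have E1 : (w : ℤ) * (h' * p - 1) = f * (n + h') := by
    have : (p : ℤ) * ((w : ℤ) * (h' * p - 1) - f * (n + h')) = 0 := by
      rw [hk'] at hkz
      linear_combination -hkz
    rcases mul_eq_zero.mp this with h | h
    · exact absurd h hpne
    · linarith
  -- `f h = w (h' - 1)` with `h := n + h' - t w h'`
  have E3 : (f : ℤ) * (n + h' - t * w * h') = w * (h' - 1) := by
    rw [hpz] at E1
    linear_combination -E1
  have hh'pos : (1 : ℤ) ≤ h' := by
    have hkpos : (0 : ℤ) ≤ k := by positivity
    have hppos : (0 : ℤ) < p := by exact_mod_cast hp.pos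
    by_contra hneg
    push Not at hneg
    have : (p : ℤ) * h' ≤ 0 := mul_nonpos_of_nonneg_of_nonpos hppos.le (by linarith)
    linarith
  have hfz : (0 : ℤ) < f := by exact_mod_cast hfpos
  have hhnn : (0 : ℤ) ≤ n + h' - t * w * h' := by
    by_contra hneg
    push Not at hneg
    have h1 : (f : ℤ) * (n + h' - t * w * h') < 0 := mul_neg_of_pos_of_neg hfz hneg
    have h2 : (0 : ℤ) ≤ (w : ℤ) * (h' - 1) := mul_nonneg (by positivity) (by linarith)
    linarith
  obtain ⟨h, hh⟩ := Int.eq_ofNat_of_zero_le hhnn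
  have htw : 1 ≤ t * w := Nat.one_le_iff_ne_zero.mpr (Nat.mul_ne_zero htpos.ne' hwpos.ne')
  have htwz : ((t * w - 1 : ℕ) : ℤ) = t * w - 1 := by
    rw [Nat.cast_sub htw]; push_cast; ring
  refine ⟨h, ?_, ?_⟩
  · have : (n : ℤ) * (t * w) = h * (t * w - 1) * p + (t * w - 1) ^ 2 + (t * w - 1) + h := by
      rw [hh] at E3
      rw [hpz]
      have hhz : (h : ℤ) = n + h' - t * w * h' := hh.symm
      linear_combination (-((t : ℤ) * w)) * hhz + (-((t : ℤ) * (t * w - 1))) * E3
    have h2 := this
    rw [← htwz] at h2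
    exact_mod_cast h2
  · have hyeq : ((t * (w * p - f) : ℕ) : ℤ) = t * (w * p - f) := by
      rw [Nat.cast_mul, hyz]
    constructor
    · intro h0
      rw [h0] at hh
      have hh0 : (n : ℤ) + h' - t * w * h' = 0 := by rw [hh]; simp
      rw [hh0, mul_zero] at E3
      have hh1 : h' = 1 := by
        have hwz : (w : ℤ) ≠ 0 := by exact_mod_cast hwpos.ne'
        rcases mul_eq_zero.mp E3.symm with h4 | h4
        · exact absurd h4 hwz
        · linarith
      have : (t : ℤ) * (w * p - f) = 1 + n * p := by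
        rw [hh1] at hh0
        rw [hpz]
        linear_combination (-(t : ℤ) * f - 1) * hh0
      rw [← hyeq] at this
      exact_mod_cast this
    · intro hty
      have htyz : (t : ℤ) * (w * p - f) = 1 + n * p := by
        rw [← hyeq]; exact_mod_cast hty
      -- then `k = p - 1`, `h' = 1`
      have hh1 : h' = 1 := by
        have h5 : ((w : ℤ) * p - f) * (k - t * f) = 0 := by
          rw [hpz] at htyz hkz ⊢
          linear_combination -hkz - (f : ℤ) * htyz
        have hy0 : ((w : ℤ) * p - f) ≠ 0 := by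
          have : (f : ℤ) < w * p := by exact_mod_cast hw
          linarith
        rcases mul_eq_zero.mp h5 with h6 | h6
        · exact absurd h6 hy0
        · have h7 : (p : ℤ) * h' = p * 1 := by rw [hpz] at hk' ⊢; linarith
          exact mul_left_cancel₀ hpne h7
      rw [hh1] at E3
      have : (f : ℤ) * (h : ℤ) = 0 := by
        rw [← hh, hh1]; linear_combination E3
      rcases mul_eq_zero.mp this with h6 | h6
      · exfalso; linarith
      · exact_mod_cast h6

/-- if `h ≥ 1` then `2 n ≥ p + 3` -/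
theorem br_arith_bound {p u n h : ℕ} (hu : 1 ≤ u) (hh : 1 ≤ h)
    (heq : n * (u + 1) = h * u * p + u ^ 2 + u + h) : p + 3 ≤ 2 * n := by
  have h1 : u * p + u ^ 2 + u + 1 ≤ n * (u + 1) := by
    rw [heq]
    have : u * p ≤ h * u * p := by
      rw [mul_assoc]; exact Nat.le_mul_of_pos_left _ hh
    omega
  -- (p+3)(u+1) ≤ 2 (u p + u² + u + 1) since (u-1)(p+2u+1) ≥ 0
  by_contra hlt
  push Not at hlt
  have h2 : 2 * n + 1 ≤ p + 3 := by omega
  have h3 : (2 * n + 1) * (u + 1) ≤ (p + 3) * (u + 1) := Nat.mul_le_mul_right _ h2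
  have h4 : 2 * (u * p + u ^ 2 + u + 1) ≤ 2 * (n * (u + 1)) := Nat.mul_le_mul_left _ h1
  obtain ⟨v, rfl⟩ : ∃ v, u = v + 1 := ⟨u - 1, by omega⟩
  nlinarith [Nat.zero_le (v * p), Nat.zero_le (v * v), Nat.zero_le v]

end Cfsg.Agent.BR
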