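/-
Brauer–Reynolds track (helper3): arithmetic of the quotient step of S4700.

If `1 + n p = (1 + n̄ p)(1 + a p)` with `n̄, a ≥ 1` then `n` has the form
`n (u + 1) = h u p + u^2 + u + h` with `u = n̄`, `h = a (n̄ + 1)` (third alternative of S4700);
and if `a = 0` then `n = n̄`.
-/
import Mathlib

set_option autoImplicit false

namespace Cfsg.Agent.BR

/-- the number of Sylow subgroups of a quotient: a proper factor gives the third alternative -/
theorem br_arith_quot {p n nb a : ℕ} (hp : 0 < p) (h : 1 + n * p = (1 + nb * p) * (1 + a * p))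
    (hnb : 1 ≤ nb) (ha : 1 ≤ a) :
    ∃ h u : ℕ, 0 < h ∧ 0 < u ∧ n * (u + 1) = h * u * p + u ^ 2 + u + h := by
  have h1 : n * p = (nb + a + a * nb * p) * p := by
    have h2 : (1 + nb * p) * (1 + a * p) = 1 + (nb + a + a * nb * p) * p := by ring
    omega
  have h3 : n = nb + a + a * nb * p := Nat.eq_of_mul_eq_mul_right hp h1
  refine ⟨a * (nb + 1), nb, Nat.mul_pos ha (by omega), hnb, ?_⟩
  rw [h3]
  ring

/-- the number of Sylow subgroups of a quotient: a trivial factor -/
theorem br_arith_quot_zero {p n nb : ℕ} (hp : 0 < p) (h : 1 + n * p = (1 + nb * p) * (1 + 0 * p)) :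
    n = nb := by
  have h1 : n * p = nb * p := by
    rw [zero_mul, add_zero, mul_one] at h
    omega
  exact Nat.eq_of_mul_eq_mul_right hp h1

/-- the degree equation of a block all of whose members are non-exceptional (`f = p - 1`):
a member of degree `(p - 1)(1 + n p)` is impossible -/
theorem br_arith_exception {p n a b c : ℕ} (hp : 2 ≤ p) (hn : 1 ≤ n) (hcard : 1 + a + b + c = p)
    (hdeg : 1 + a * (1 + n * p) = b * (p - 1) + c * ((p - 1) * (1 + n * p))) : c = 0 := by
  by_contra hc
  have hc1 : 1 ≤ c := Nat.one_le_iff_ne_zero.mpr hc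
  have ha : a + 2 ≤ p := by omega
  have hS : 3 ≤ 1 + n * p := by nlinarith
  have h1 : (p - 1) * (1 + n * p) ≤ c * ((p - 1) * (1 + n * p)) := Nat.le_mul_of_pos_left _ hc1
  have h2 : a * (1 + n * p) + 2 * (1 + n * p) ≤ p * (1 + n * p) := by
    rw [← Nat.add_mul]; exact Nat.mul_le_mul_right _ ha
  have h3 : (p - 1) * (1 + n * p) + (1 + n * p) = p * (1 + n * p) := by
    have : p - 1 + 1 = p := by omega
    rw [← Nat.succ_mul, Nat.succ_eq_add_one, this]
  omega

end Cfsg.Agent.BR
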