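/-
Brauer–Reynolds track (helper3): arithmetic for characters of "minus type" (helper9's Lemma 1').

A degree `u p - 1` (`u ≥ 2`) dividing `f (1 + n p)` has cofactor `k = h' p - f`, and `k` plays the
role of the exceptional degree `y = w p - f` in helper1's `br_arith_E` (with `w = h'`); `t k` is
the total degree `u' p + 1`, `u' = t h' - 1 < n`, so `n` has the form
`n (u' + 1) = h u' p + u'^2 + u' + h` with `h, u' ≥ 1` (third alternative of S4700), unless
`t = h' = 1`, i.e. `u p - 1 = (p - 1) (1 + n p)`.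
-/
import Mathlib
import Cfsg.Agent.BR.Arith
import Cfsg.Agent.BR.ArithQ

set_option autoImplicit false

namespace Cfsg.Agent.BR

/-- **Lemma 1'**: a degree `u p - 1`, `u ≥ 2`, dividing `f (1 + n p)` forces the third
alternative, or equals `(p - 1) (1 + n p)` -/
theorem br_arith_minus {p f t u n : ℕ} (hp : p.Prime) (htf : t * f = p - 1) (hu : 2 ≤ u)
    (hdiv : (u * p - 1) ∣ f * (1 + n * p)) :
    u * p - 1 = (p - 1) * (1 + n * p) ∨
      ∃ h u' : ℕ, 0 < h ∧ 0 < u' ∧ n * (u' + 1) = h * u' * p + u' ^ 2 + u' + h := by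
  have hp2 : 2 ≤ p := hp.two_le
  have hfpos : 0 < f := by
    rcases Nat.eq_zero_or_pos f with h | h
    · rw [h, mul_zero] at htf; omega
    · exact h
  have htpos : 0 < t := by
    rcases Nat.eq_zero_or_pos t with h | h
    · rw [h, zero_mul] at htf; omega
    · exact h
  have hflt : f < p := by
    have : f ≤ p - 1 := by
      rw [← htf]; exact Nat.le_mul_of_pos_left f htpos
    omega
  have hup : 4 ≤ u * p := by nlinarith
  obtain ⟨k, hk⟩ := hdiv
  have hkpos : 0 < k := by
    rcases Nat.eq_zero_or_pos k with h | h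
    · rw [h, mul_zero] at hk
      have : 0 < f * (1 + n * p) := Nat.mul_pos hfpos (by omega)
      omega
    · exact h
  -- integer form of the cofactor equation
  have hkz : (f : ℤ) * (1 + n * p) = ((u : ℤ) * p - 1) * k := by
    have h1 : ((u * p - 1 : ℕ) : ℤ) = (u : ℤ) * p - 1 := by
      rw [Nat.cast_sub (by omega)]; push_cast; ring
    have h2 : ((f * (1 + n * p) : ℕ) : ℤ) = (((u * p - 1) * k : ℕ) : ℤ) := by rw [hk]
    rw [Nat.cast_mul, Nat.cast_mul, h1] at h2
    rw [← h2]
    push_cast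
    ring
  -- `p ∣ k + f`
  have hdvd : (p : ℤ) ∣ (k : ℤ) + f := by
    refine ⟨(u : ℤ) * k - f * n, ?_⟩
    linear_combination hkz
  obtain ⟨h', hh'⟩ : ∃ h' : ℕ, k + f = h' * p := by
    have h1 : (p : ℤ) ∣ ((k + f : ℕ) : ℤ) := by
      push_cast
      exact hdvd
    obtain ⟨c, hc⟩ := Int.natCast_dvd_natCast.mp h1
    exact ⟨c, by rw [hc, mul_comm]⟩
  have hh'pos : 0 < h' := by
    rcases Nat.eq_zero_or_pos h' with h | h
    · rw [h, zero_mul] at hh'; omega
    · exact h
  have hw : f < h' * p := by omega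
  have hkeq : h' * p - f = k := by omega
  have hdiv' : (h' * p - f) ∣ f * (1 + n * p) := ⟨u * p - 1, by rw [hkeq, hk, mul_comm]⟩
  obtain ⟨h, heq, hzero⟩ := br_arith_E hp htf hw hdiv'
  -- `h ≠ 0`
  have hhpos : 0 < h := by
    rcases Nat.eq_zero_or_pos h with h0 | h0
    · exfalso
      have h1 := hzero.mp h0
      rw [hkeq] at h1
      -- `(u p - 1) k = f (1 + n p) = f t k = (p - 1) k`
      have h2 : (u * p - 1) * k = (p - 1) * k := by
        rw [← hk, ← h1, ← htf]
        ring
      have h3 : u * p - 1 = p - 1 := Nat.eq_of_mul_eq_mul_right hkpos h2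
      have h4 : 2 * p ≤ u * p := Nat.mul_le_mul_right p hu
      omega
    · exact h0
  -- the exception `t h' = 1`
  rcases Nat.lt_or_ge (t * h') 2 with hth | hth
  · left
    have h1 : t * h' = 1 := by
      have : 0 < t * h' := Nat.mul_pos htpos hh'pos
      omega
    have ht1 : t = 1 := Nat.eq_one_of_mul_eq_one_right h1
    have hh1 : h' = 1 := Nat.eq_one_of_mul_eq_one_left h1
    rw [ht1, one_mul] at htf
    rw [hh1, one_mul] at hh'
    have hk1 : k = 1 := by omega
    rw [hk1, mul_one] at hk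
    rw [← hk, htf]
  · right
    refine ⟨h, t * h' - 1, hhpos, by omega, ?_⟩
    have h1 : t * h' - 1 + 1 = t * h' := by omega
    rw [h1]
    exact heq

/-- if all members of `X` had sign `+` the exceptional degree would be `y = f + (f - 1) n p`,
which does not divide `f (1 + n p)` -/
theorem br_arith_none' {p f n y : ℕ} (hp : p.Prime) (hf : 2 ≤ f) (hfp : f < p) (hn : 1 ≤ n)
    (hy : y = f + (f - 1) * n * p) (hdiv : y ∣ f * (1 + n * p)) : False := by
  obtain ⟨g, rfl⟩ : ∃ g, f = g + 1 := ⟨f - 1, by omega⟩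
  have hg : 1 ≤ g := by omega
  rw [Nat.add_sub_cancel] at hy
  have h1 : (g + 1) * (1 + n * p) = y + n * p := by rw [hy]; ring
  rw [h1] at hdiv
  have h2 : y ∣ n * p := (Nat.dvd_add_right (dvd_refl y)).mp hdiv
  have hnd : ¬ p ∣ y := by
    intro hpy
    rw [hy] at hpy
    have h3 : p ∣ g * n * p := Dvd.intro_left _ rfl
    have h4 : p ∣ g + 1 := (Nat.dvd_add_left h3).mp hpy
    have := Nat.le_of_dvd (by omega) h4
    omega
  have hcop : Nat.Coprime y p := ((Nat.Prime.coprime_iff_not_dvd hp).mpr hnd).symm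
  have h3 : y ∣ n := hcop.dvd_of_dvd_mul_right h2
  have h4 : y ≤ n := Nat.le_of_dvd hn h3
  have hp2 : 2 ≤ p := hp.two_le
  have h5 : n * 2 ≤ g * n * p := by
    calc n * 2 = 1 * n * 2 := by ring
      _ ≤ g * n * p := Nat.mul_le_mul (Nat.mul_le_mul_right n hg) hp2
  omega

/-- a "giant" member of `X` (degree `(p - 1)(1 + n p)`, sign `-`) is impossible: the exceptional
degree `y = c (p - 1)(1 + n p) - a (1 + n p) - 1` would not divide `(p - 1)(1 + n p)` -/
theorem br_arith_giant {p n a c y : ℕ} (hp : p.Prime) (hn : 1 ≤ n) (hc : 1 ≤ c)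
    (hac : a + c + 2 ≤ p) (hy : y + 1 + a * (1 + n * p) = c * (p - 1) * (1 + n * p))
    (hdiv : y ∣ (p - 1) * (1 + n * p)) : False := by
  have hp2 : 2 ≤ p := hp.two_le
  have hcp : a + 2 ≤ c * (p - 1) := by
    have h1 : 1 * (p - 1) ≤ c * (p - 1) := Nat.mul_le_mul_right _ hc
    omega
  obtain ⟨m, hm⟩ : ∃ m, c * (p - 1) = a + m := ⟨c * (p - 1) - a, by omega⟩
  have hm2 : 2 ≤ m := by omega
  rw [hm, Nat.add_mul] at hy
  have hy1 : y + 1 = m * (1 + n * p) := by omega
  have hcop1 : Nat.Coprime y (y + 1) := by simp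
  rw [hy1] at hcop1
  have hcop : Nat.Coprime y (1 + n * p) := Nat.Coprime.coprime_mul_left_right hcop1
  have h3 : y ∣ p - 1 := hcop.dvd_of_dvd_mul_right hdiv
  have h4 : y ≤ p - 1 := Nat.le_of_dvd (by omega) h3
  have h5 : 2 * (1 + n * p) ≤ m * (1 + n * p) := Nat.mul_le_mul_right _ hm2
  have h6 : 1 * p ≤ n * p := Nat.mul_le_mul_right _ hn
  omega

end Cfsg.Agent.BR
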