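/-
Brauer–Reynolds track (helper3): the section-2 interface of
`notes/BrauerReynolds_blueprint_helper1.md`, part A.

`br_blk_IsData P X Y dl ep O` packages the character-theoretic input for a Sylow `p`-subgroup `P`
of order `p` with `C_G(P) = P`, `f = |N_G(P) : P|`:
* `Irr(G) = X ⊔ Y ⊔ Z`, `|X| = f`, `|Y| f = p - 1`, the trivial character lies in `X`;
* `χ ∈ X` is constant `= dl χ = ± 1` on `P ∖ 1`;
* `ψ ∈ Y` is `ep * ∑_{l ∈ O ψ} l` on `P ∖ 1`, the `O ψ` (`ψ ∈ Y`) partition the nontrivial linear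
  characters of `P` into sets of size `f`; the members of `Y` agree on `p`-regular elements;
* everything else vanishes on `P ∖ 1`.
This file derives the consequences that the rest of the proof consumes (sums over `P`,
the linear-independence lemma, the degree equations, the divisibility of the degrees);
the existence of the data is in `BR/BlockEx.lean`.
-/
import Mathlib
import Cfsg.Prelude.Def_Characters
import Cfsg.Prelude.Def_Blocks
import Cfsg.Agent.Helper6.Osima3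
import Cfsg.Agent.Helper6.DefectZeroBlock
import Cfsg.Agent.D1C.BrbOrb

set_option autoImplicit false
set_option linter.style.haveILetI false

namespace Cfsg.Agent.BR

open Cfsg Cfsg.Agent.Helper6 Cfsg.Agent.D1
open scoped ComplexConjugate

universe u

/-! ### sums of linear characters -/

/-- the sum of a finite set of linear characters -/
noncomputable def br_blk_eta {Q : Type u} [Group Q] (A : Finset (Q →* ℂˣ)) (x : Q) : ℂ :=
  ∑ l ∈ A, ((l x : ℂˣ) : ℂ)

theorem br_blk_eta_one {Q : Type u} [Group Q] (A : Finset (Q →* ℂˣ)) :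
    br_blk_eta A 1 = (A.card : ℂ) := by
  unfold br_blk_eta
  simp

theorem br_blk_sum_eta {Q : Type u} [Group Q] [Fintype Q] (A : Finset (Q →* ℂˣ))
    (hA : ∀ l ∈ A, l ≠ 1) : ∑ x : Q, br_blk_eta A x = 0 := by
  classical
  unfold br_blk_eta
  rw [Finset.sum_comm]
  apply Finset.sum_eq_zero
  intro l hl
  rw [d1_valp_sum_hom, if_neg (hA l hl)]

/-- orthogonality of linear characters -/
theorem br_blk_hom_inner {Q : Type u} [Group Q] [Fintype Q] (l l' : Q →* ℂˣ)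
    [Decidable (l = l')] :
    ∑ x : Q, ((l x : ℂˣ) : ℂ) * conj ((l' x : ℂˣ) : ℂ) =
      if l = l' then (Fintype.card Q : ℂ) else 0 := by
  split_ifs with h
  · subst h
    have h1 : ∀ x : Q, ((l x : ℂˣ) : ℂ) * conj ((l x : ℂˣ) : ℂ) = 1 := by
      intro x
      rw [Complex.mul_conj, Complex.normSq_eq_norm_sq, d1_brbo_norm_hom]
      simp
    rw [Finset.sum_congr rfl (fun x _ => h1 x)]
    simp
  · exact d1_brbo_hom_orth l l' h

open Classical in
/-- the inner product of two sums of linear characters -/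
theorem br_blk_inner_eta {Q : Type u} [Group Q] [Fintype Q] (A B : Finset (Q →* ℂˣ)) :
    ∑ x : Q, br_blk_eta A x * conj (br_blk_eta B x) =
      (Fintype.card Q : ℂ) * ((A ∩ B).card : ℂ) := by
  unfold br_blk_eta
  simp_rw [map_sum, Finset.sum_mul_sum]
  rw [Finset.sum_comm]
  have h1 : ∀ l ∈ A, ∑ x : Q, ∑ l' ∈ B, ((l x : ℂˣ) : ℂ) * conj ((l' x : ℂˣ) : ℂ) =
      if l ∈ B then (Fintype.card Q : ℂ) else 0 := by
    intro l _
    rw [Finset.sum_comm, Finset.sum_congr rfl (fun l' _ => br_blk_hom_inner l l'),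
      Finset.sum_ite_eq]
  rw [Finset.sum_congr rfl h1, ← Finset.sum_filter, Finset.sum_const, nsmul_eq_mul, mul_comm,
    Finset.filter_mem_eq_inter]

/-- a sum over a group from the values off `1` -/
theorem br_blk_sum_off_one {Q : Type u} [Group Q] [Fintype Q] (F F' : Q → ℂ)
    (h : ∀ x : Q, x ≠ 1 → F x = F' x) :
    ∑ x : Q, F x = ∑ x : Q, F' x + (F 1 - F' 1) := by
  classical
  rw [← Finset.add_sum_erase Finset.univ F (Finset.mem_univ 1),
    ← Finset.add_sum_erase Finset.univ F' (Finset.mem_univ 1),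
    Finset.sum_congr rfl (fun x hx => h x (Finset.ne_of_mem_erase hx))]
  ring

variable {G : Type u} [Group G] {p : ℕ}

/-! ### the data -/

/-- **the section-2 data** for a Sylow `p`-subgroup `P` of order `p` with `C_G(P) = P` -/
structure br_blk_IsData (P : Sylow p G) (X Y : Set (Cfsg.IrrCharacter G))
    (dl : Cfsg.IrrCharacter G → ℤ) (ep : ℤ)
    (O : Cfsg.IrrCharacter G → Finset (↥(P : Subgroup G) →* ℂˣ)) : Prop where
  card_P : Nat.card (P : Subgroup G) = p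
  cent_P : Subgroup.centralizer ((P : Subgroup G) : Set G) = (P : Subgroup G)
  disj : Disjoint X Y
  card_X : Nat.card X =
    (P : Subgroup G).relIndex (Subgroup.normalizer ((P : Subgroup G) : Set G))
  card_Y : Nat.card Y *
    (P : Subgroup G).relIndex (Subgroup.normalizer ((P : Subgroup G) : Set G)) = p - 1
  triv_mem : trivIrr G ∈ X
  dl_sign : ∀ χ, dl χ = 1 ∨ dl χ = -1
  ep_sign : ep = 1 ∨ ep = -1
  val_X : ∀ χ ∈ X, ∀ x : G, x ∈ (P : Subgroup G) → x ≠ 1 → (χ : G → ℂ) x = (dl χ : ℂ)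
  val_Y : ∀ ψ ∈ Y, ∀ x : ↥(P : Subgroup G), x ≠ 1 →
    (ψ : G → ℂ) (x : G) = (ep : ℂ) * br_blk_eta (O ψ) x
  val_Z : ∀ ζ : Cfsg.IrrCharacter G, ζ ∉ X → ζ ∉ Y → ∀ x : G, x ∈ (P : Subgroup G) → x ≠ 1 →
    (ζ : G → ℂ) x = 0
  O_card : ∀ ψ ∈ Y, (O ψ).card =
    (P : Subgroup G).relIndex (Subgroup.normalizer ((P : Subgroup G) : Set G))
  O_ne : ∀ ψ ∈ Y, ∀ l ∈ O ψ, l ≠ 1
  O_disj : ∀ ψ ∈ Y, ∀ ψ' ∈ Y, ψ ≠ ψ' → Disjoint (O ψ) (O ψ')
  O_cover : ∀ l : ↥(P : Subgroup G) →* ℂˣ, l ≠ 1 → ∃ ψ ∈ Y, l ∈ O ψ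
  reg_Y : ∀ ψ ∈ Y, ∀ ψ' ∈ Y, ∀ g : G, ¬ p ∣ orderOf g → (ψ : G → ℂ) g = (ψ' : G → ℂ) g

section consequences

variable [hp : Fact p.Prime] {P : Sylow p G} {X Y : Set (Cfsg.IrrCharacter G)}
  {dl : Cfsg.IrrCharacter G → ℤ} {ep : ℤ}
  {O : Cfsg.IrrCharacter G → Finset (↥(P : Subgroup G) →* ℂˣ)}

theorem br_blk_f_pos (h : br_blk_IsData P X Y dl ep O) :
    0 < (P : Subgroup G).relIndex (Subgroup.normalizer ((P : Subgroup G) : Set G)) := by
  rcases Nat.eq_zero_or_pos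
    ((P : Subgroup G).relIndex (Subgroup.normalizer ((P : Subgroup G) : Set G))) with h0 | h0
  · have h1 := h.card_Y
    rw [h0, mul_zero] at h1
    have := hp.out.two_le
    omega
  · exact h0

theorem br_blk_f_dvd (h : br_blk_IsData P X Y dl ep O) :
    (P : Subgroup G).relIndex (Subgroup.normalizer ((P : Subgroup G) : Set G)) ∣ p - 1 :=
  ⟨Nat.card Y, by rw [mul_comm]; exact h.card_Y.symm⟩

theorem br_blk_ep_sq (h : br_blk_IsData P X Y dl ep O) : (ep : ℂ) * (ep : ℂ) = 1 := by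
  rcases h.ep_sign with h1 | h1 <;> rw [h1] <;> norm_num

theorem br_blk_card_fintype (h : br_blk_IsData P X Y dl ep O) [Fintype ↥(P : Subgroup G)] :
    (Fintype.card ↥(P : Subgroup G) : ℂ) = (p : ℂ) := by
  rw [← Nat.card_eq_fintype_card, h.card_P]

/-- `P` is commutative -/
theorem br_blk_comm (h : br_blk_IsData P X Y dl ep O) (a b : ↥(P : Subgroup G)) :
    a * b = b * a :=
  Subtype.ext (d1_sec_comm (P : Subgroup G) h.card_P _ a.2 _ b.2)

theorem br_blk_ne_one_coe (x : ↥(P : Subgroup G)) (hx : x ≠ 1) : (x : G) ≠ 1 :=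
  fun h => hx (Subtype.ext h)

/-! ### sums over `P` -/

/-- **(B1)** the sum of `χ ∈ X` over `P` -/
theorem br_blk_sum_P_X (h : br_blk_IsData P X Y dl ep O) [Fintype ↥(P : Subgroup G)]
    (χ : Cfsg.IrrCharacter G) (hχ : χ ∈ X) :
    ∑ x : ↥(P : Subgroup G), (χ : G → ℂ) (x : G) =
      (χ : G → ℂ) 1 + ((p : ℂ) - 1) * (dl χ : ℂ) := by
  rw [br_blk_sum_off_one (fun x : ↥(P : Subgroup G) => (χ : G → ℂ) (x : G))
    (fun _ => (dl χ : ℂ)) (fun x hx => h.val_X χ hχ x x.2 (br_blk_ne_one_coe x hx))]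
  rw [Finset.sum_const, Finset.card_univ, nsmul_eq_mul, br_blk_card_fintype h,
    OneMemClass.coe_one]
  ring

/-- **(B2)** the sum of `ψ ∈ Y` over `P` -/
theorem br_blk_sum_P_Y (h : br_blk_IsData P X Y dl ep O) [Fintype ↥(P : Subgroup G)]
    (ψ : Cfsg.IrrCharacter G) (hψ : ψ ∈ Y) :
    ∑ x : ↥(P : Subgroup G), (ψ : G → ℂ) (x : G) = (ψ : G → ℂ) 1 - (ep : ℂ) *
      ((P : Subgroup G).relIndex (Subgroup.normalizer ((P : Subgroup G) : Set G)) : ℂ) := by
  rw [br_blk_sum_off_one (fun x : ↥(P : Subgroup G) => (ψ : G → ℂ) (x : G))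
    (fun x => (ep : ℂ) * br_blk_eta (O ψ) x) (fun x hx => h.val_Y ψ hψ x hx)]
  rw [← Finset.mul_sum, br_blk_sum_eta (O ψ) (h.O_ne ψ hψ), br_blk_eta_one, h.O_card ψ hψ,
    OneMemClass.coe_one]
  ring

/-- the sum of `ζ ∉ X ∪ Y` over `P` -/
theorem br_blk_sum_P_Z (h : br_blk_IsData P X Y dl ep O) [Fintype ↥(P : Subgroup G)]
    (ζ : Cfsg.IrrCharacter G) (hX : ζ ∉ X) (hY : ζ ∉ Y) :
    ∑ x : ↥(P : Subgroup G), (ζ : G → ℂ) (x : G) = (ζ : G → ℂ) 1 := by
  rw [br_blk_sum_off_one (fun x : ↥(P : Subgroup G) => (ζ : G → ℂ) (x : G))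
    (fun _ => (0 : ℂ)) (fun x hx => h.val_Z ζ hX hY x x.2 (br_blk_ne_one_coe x hx))]
  rw [Finset.sum_const_zero, OneMemClass.coe_one]
  ring

open Classical in
/-- **(B2)** the inner product of two members of `Y` over `P` -/
theorem br_blk_inner_P_Y (h : br_blk_IsData P X Y dl ep O) [Fintype ↥(P : Subgroup G)]
    (ψ ψ' : Cfsg.IrrCharacter G) (hψ : ψ ∈ Y) (hψ' : ψ' ∈ Y) :
    ∑ x : ↥(P : Subgroup G), (ψ : G → ℂ) (x : G) * conj ((ψ' : G → ℂ) (x : G)) =
      (ψ : G → ℂ) 1 * conj ((ψ' : G → ℂ) 1) + (if ψ = ψ' then (p : ℂ) *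
        ((P : Subgroup G).relIndex (Subgroup.normalizer ((P : Subgroup G) : Set G)) : ℂ) else 0) -
      ((P : Subgroup G).relIndex (Subgroup.normalizer ((P : Subgroup G) : Set G)) : ℂ) ^ 2 := by
  rw [br_blk_sum_off_one
    (fun x : ↥(P : Subgroup G) => (ψ : G → ℂ) (x : G) * conj ((ψ' : G → ℂ) (x : G)))
    (fun x => br_blk_eta (O ψ) x * conj (br_blk_eta (O ψ') x))]
  · rw [br_blk_inner_eta, br_blk_card_fintype h, br_blk_eta_one, br_blk_eta_one, h.O_card ψ hψ,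
      h.O_card ψ' hψ', OneMemClass.coe_one, Complex.conj_natCast]
    by_cases hne : ψ = ψ'
    · rw [if_pos hne, ← hne, Finset.inter_self, h.O_card ψ hψ]
      ring
    · rw [if_neg hne, Finset.disjoint_iff_inter_eq_empty.mp (h.O_disj ψ hψ ψ' hψ' hne),
        Finset.card_empty]
      push_cast
      ring
  · intro x hx
    show (ψ : G → ℂ) (x : G) * conj ((ψ' : G → ℂ) (x : G)) = _
    rw [h.val_Y ψ hψ x hx, h.val_Y ψ' hψ' x hx, map_mul, map_intCast]
    have := br_blk_ep_sq h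
    linear_combination (br_blk_eta (O ψ) x * conj (br_blk_eta (O ψ') x)) * this

end consequences

end Cfsg.Agent.BR
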