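/-
Brauer–Reynolds track (helper3): the section-2 interface, part B.

Consequences of `br_blk_IsData` (see `BR/Block.lean`):
* `br_blk_sum_over_Y` : `∑_{ψ ∈ Y} ψ(x) = - ep` for `1 ≠ x ∈ P`;
* `br_blk_indep` : **(B3)** the linear-independence lemma;
* `br_blk_deg_*` : **(B4)** the degree equations;
* `br_blk_dvd_X`, `br_blk_dvd_Y` : the degrees of the members of `X` and `Y` divide
  `f * |Syl_p(G)|`.
-/
import Mathlib
import Cfsg.Prelude.Def_Characters
import Cfsg.Prelude.Def_Blocks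
import Cfsg.Agent.Helper6.DegreeDvd
import Cfsg.Agent.BR.Block

set_option autoImplicit false
set_option linter.style.haveILetI false

namespace Cfsg.Agent.BR

open Cfsg Cfsg.Agent.Helper6 Cfsg.Agent.D1
open scoped ComplexConjugate

universe u

variable {G : Type u} [Group G] {p : ℕ} [hp : Fact p.Prime] {P : Sylow p G}
  {X Y : Set (Cfsg.IrrCharacter G)} {dl : Cfsg.IrrCharacter G → ℤ} {ep : ℤ}
  {O : Cfsg.IrrCharacter G → Finset (↥(P : Subgroup G) →* ℂˣ)}

/-- `P` is finite -/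
theorem br_blk_finite_P (h : br_blk_IsData P X Y dl ep O) : Finite ↥(P : Subgroup G) :=
  Nat.finite_of_card_ne_zero (by rw [h.card_P]; exact hp.out.ne_zero)

/-- the linear characters of `P` are finite in number -/
theorem br_blk_finite_hom (h : br_blk_IsData P X Y dl ep O) :
    Finite (↥(P : Subgroup G) →* ℂˣ) := by
  haveI := br_blk_finite_P h
  apply Nat.finite_of_card_ne_zero
  rw [card_hom_units]
  exact Subgroup.index_ne_zero_of_finite

/-- there is a nontrivial element of `P` -/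
theorem br_blk_exists_ne_one (h : br_blk_IsData P X Y dl ep O) :
    ∃ x : ↥(P : Subgroup G), x ≠ 1 := by
  haveI := br_blk_finite_P h
  have h1 : 1 < Nat.card ↥(P : Subgroup G) := by rw [h.card_P]; exact hp.out.one_lt
  haveI : Nontrivial ↥(P : Subgroup G) := Finite.one_lt_card_iff_nontrivial.mp h1
  exact exists_ne 1

open Classical in
/-- the union of the `O ψ` is the set of nontrivial linear characters -/
theorem br_blk_biUnion (h : br_blk_IsData P X Y dl ep O)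
    [Fintype (↥(P : Subgroup G) →* ℂˣ)] (hY : Y.Finite) :
    hY.toFinset.biUnion O = Finset.univ.erase (1 : ↥(P : Subgroup G) →* ℂˣ) := by
  ext l
  rw [Finset.mem_biUnion, Finset.mem_erase]
  constructor
  · rintro ⟨ψ, hψ, hl⟩
    exact ⟨h.O_ne ψ ((Set.Finite.mem_toFinset _).mp hψ) l hl, Finset.mem_univ _⟩
  · rintro ⟨hl, -⟩
    obtain ⟨ψ, hψ, hlψ⟩ := h.O_cover l hl
    exact ⟨ψ, (Set.Finite.mem_toFinset _).mpr hψ, hlψ⟩

theorem br_blk_pairwiseDisjoint (h : br_blk_IsData P X Y dl ep O) (hY : Y.Finite) :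
    ((hY.toFinset : Finset (Cfsg.IrrCharacter G)) :
      Set (Cfsg.IrrCharacter G)).PairwiseDisjoint O := by
  intro ψ hψ ψ' hψ' hne
  rw [Finset.mem_coe, Set.Finite.mem_toFinset] at hψ hψ'
  exact h.O_disj ψ hψ ψ' hψ' hne

/-- **(B2)** `∑_{ψ ∈ Y} ψ(x) = - ep` for `1 ≠ x ∈ P` -/
theorem br_blk_sum_over_Y [Finite G] (h : br_blk_IsData P X Y dl ep O)
    (x : ↥(P : Subgroup G)) (hx : x ≠ 1) :
    ∑ᶠ ψ ∈ Y, (ψ : G → ℂ) (x : G) = -(ep : ℂ) := by
  classical
  haveI := br_blk_finite_P h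
  haveI := br_blk_finite_hom h
  haveI : Fintype (↥(P : Subgroup G) →* ℂˣ) := Fintype.ofFinite _
  haveI : Finite (Cfsg.IrrCharacter G) := irr_finite
  rw [finsum_mem_eq_finite_toFinset_sum _ (Set.toFinite Y)]
  have h1 : ∀ ψ ∈ (Set.toFinite Y).toFinset, (ψ : G → ℂ) (x : G) =
      (ep : ℂ) * br_blk_eta (O ψ) x := fun ψ hψ =>
    h.val_Y ψ ((Set.Finite.mem_toFinset _).mp hψ) x hx
  rw [Finset.sum_congr rfl h1, ← Finset.mul_sum]
  unfold br_blk_eta
  rw [← Finset.sum_biUnion (br_blk_pairwiseDisjoint h (Set.toFinite Y)),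
    br_blk_biUnion h (Set.toFinite Y),
    Finset.sum_erase_eq_sub (Finset.mem_univ _), sum_hom_units_apply (br_blk_comm h) x,
    if_neg hx, MonoidHom.one_apply, Units.val_one]
  ring

/-- splitting a sum over all irreducible characters -/
theorem br_blk_sum_split [Fintype (Cfsg.IrrCharacter G)]
    (h : br_blk_IsData P X Y dl ep O) (F : Cfsg.IrrCharacter G → ℂ)
    (hF : ∀ ζ : Cfsg.IrrCharacter G, ζ ∉ X → ζ ∉ Y → F ζ = 0) :
    ∑ χ, F χ = ∑ χ ∈ (Set.toFinite X).toFinset, F χ + ∑ χ ∈ (Set.toFinite Y).toFinset, F χ := by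
  classical
  have hd : Disjoint (Set.toFinite X).toFinset (Set.toFinite Y).toFinset := by
    rw [Finset.disjoint_left]
    intro χ hX hY
    rw [Set.Finite.mem_toFinset] at hX hY
    exact Set.disjoint_left.mp h.disj hX hY
  rw [← Finset.sum_union hd]
  symm
  apply Finset.sum_subset (Finset.subset_univ _)
  intro ζ _ hζ
  rw [Finset.mem_union, Set.Finite.mem_toFinset, Set.Finite.mem_toFinset, not_or] at hζ
  exact hF ζ hζ.1 hζ.2

/-- **(B3) linear independence**: if `∑_χ m(χ) χ(x) = c` for all `1 ≠ x ∈ P` then `m` is constant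
`= m'` on `Y` and `∑_{χ ∈ X} m(χ) dl(χ) - ep m' = c` -/
theorem br_blk_indep [Finite G] [Fintype (Cfsg.IrrCharacter G)]
    (h : br_blk_IsData P X Y dl ep O) (m : Cfsg.IrrCharacter G → ℂ) (c : ℂ)
    (hm : ∀ x : G, x ∈ (P : Subgroup G) → x ≠ 1 → ∑ χ, m χ * (χ : G → ℂ) x = c) :
    ∃ m' : ℂ, (∀ ψ ∈ Y, m ψ = m') ∧ (∑ᶠ χ ∈ X, m χ * (dl χ : ℂ)) - (ep : ℂ) * m' = c := by
  classical
  haveI := br_blk_finite_P h
  haveI : Fintype ↥(P : Subgroup G) := Fintype.ofFinite _
  obtain ⟨f, hf⟩ : ∃ f : ℕ, f =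
    (P : Subgroup G).relIndex (Subgroup.normalizer ((P : Subgroup G) : Set G)) := ⟨_, rfl⟩
  obtain ⟨A, hA⟩ : ∃ A : ℂ, A = ∑ χ ∈ (Set.toFinite X).toFinset, m χ * (dl χ : ℂ) := ⟨_, rfl⟩
  obtain ⟨T, hT⟩ : ∃ T : ↥(P : Subgroup G) → ℂ, T = fun x =>
    ∑ ψ ∈ (Set.toFinite Y).toFinset, m ψ * br_blk_eta (O ψ) x := ⟨_, rfl⟩
  obtain ⟨sY, hsY⟩ : ∃ sY : ℂ, sY = ∑ ψ ∈ (Set.toFinite Y).toFinset, m ψ := ⟨_, rfl⟩
  have hep := br_blk_ep_sq h
  have hpC : (p : ℂ) ≠ 0 := by exact_mod_cast hp.out.ne_zero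
  -- the values of `T` off `1`
  have hToff : ∀ x : ↥(P : Subgroup G), x ≠ 1 → T x = (ep : ℂ) * (c - A) := by
    intro x hx
    have h1 := hm (x : G) x.2 (br_blk_ne_one_coe x hx)
    rw [br_blk_sum_split h (fun χ => m χ * (χ : G → ℂ) (x : G)) (fun ζ hζX hζY => by
      rw [h.val_Z ζ hζX hζY x x.2 (br_blk_ne_one_coe x hx), mul_zero])] at h1
    have h2 : ∑ χ ∈ (Set.toFinite X).toFinset, m χ * (χ : G → ℂ) (x : G) = A := by
      rw [hA]
      apply Finset.sum_congr rfl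
      intro χ hχ
      rw [h.val_X χ ((Set.Finite.mem_toFinset _).mp hχ) x x.2 (br_blk_ne_one_coe x hx)]
    have h3 : ∑ ψ ∈ (Set.toFinite Y).toFinset, m ψ * (ψ : G → ℂ) (x : G) = (ep : ℂ) * T x := by
      rw [hT, Finset.mul_sum]
      apply Finset.sum_congr rfl
      intro ψ hψ
      rw [h.val_Y ψ ((Set.Finite.mem_toFinset _).mp hψ) x hx]
      ring
    rw [h2, h3] at h1
    linear_combination (ep : ℂ) * h1 - T x * hep
  have hT1 : T 1 = (f : ℂ) * sY := by
    rw [hT, hsY, Finset.mul_sum]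
    apply Finset.sum_congr rfl
    intro ψ hψ
    rw [br_blk_eta_one, h.O_card ψ ((Set.Finite.mem_toFinset _).mp hψ), ← hf]
    ring
  -- the key identity
  have hkey : ∀ ψ₀ ∈ Y, (p : ℂ) * m ψ₀ = (f : ℂ) * sY - (ep : ℂ) * (c - A) := by
    intro ψ₀ hψ₀
    have hne : (O ψ₀).Nonempty := by
      rw [← Finset.card_pos, h.O_card ψ₀ hψ₀]
      exact br_blk_f_pos h
    obtain ⟨l₀, hl₀⟩ := hne
    have hl₀1 : l₀ ≠ 1 := h.O_ne ψ₀ hψ₀ l₀ hl₀
    -- first evaluation
    have e1 : ∑ x : ↥(P : Subgroup G), T x * conj (((l₀ x : ℂˣ) : ℂ)) = (p : ℂ) * m ψ₀ := by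
      rw [hT]
      simp_rw [Finset.sum_mul]
      rw [Finset.sum_comm]
      have h5 : ∀ ψ ∈ (Set.toFinite Y).toFinset,
          ∑ x : ↥(P : Subgroup G), m ψ * br_blk_eta (O ψ) x * conj (((l₀ x : ℂˣ) : ℂ)) =
          if ψ = ψ₀ then (p : ℂ) * m ψ₀ else 0 := by
        intro ψ hψ
        have hψY : ψ ∈ Y := (Set.Finite.mem_toFinset _).mp hψ
        have h6 : ∀ x : ↥(P : Subgroup G),
            m ψ * br_blk_eta (O ψ) x * conj (((l₀ x : ℂˣ) : ℂ)) =
            m ψ * (br_blk_eta (O ψ) x * conj (br_blk_eta {l₀} x)) := by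
          intro x
          unfold br_blk_eta
          rw [Finset.sum_singleton]
          ring
        rw [Finset.sum_congr rfl (fun x _ => h6 x), ← Finset.mul_sum, br_blk_inner_eta,
          br_blk_card_fintype h]
        by_cases hψe : ψ = ψ₀
        · rw [if_pos hψe, hψe, Finset.inter_singleton_of_mem hl₀, Finset.card_singleton]
          push_cast
          ring
        · rw [if_neg hψe]
          have : l₀ ∉ O ψ := fun hmem =>
            Finset.disjoint_left.mp (h.O_disj ψ hψY ψ₀ hψ₀ hψe) hmem hl₀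
          rw [Finset.inter_singleton_of_notMem this, Finset.card_empty]
          push_cast
          ring
      rw [Finset.sum_congr rfl h5, Finset.sum_ite_eq', if_pos ((Set.Finite.mem_toFinset _).mpr hψ₀)]
    -- second evaluation
    have e2 : ∑ x : ↥(P : Subgroup G), T x * conj (((l₀ x : ℂˣ) : ℂ)) =
        (f : ℂ) * sY - (ep : ℂ) * (c - A) := by
      rw [br_blk_sum_off_one (fun x => T x * conj (((l₀ x : ℂˣ) : ℂ)))
        (fun x => (ep : ℂ) * (c - A) * conj (((l₀ x : ℂˣ) : ℂ)))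
        (fun x hx => by rw [hToff x hx])]
      rw [← Finset.mul_sum, ← map_sum, d1_valp_sum_hom, if_neg hl₀1, map_zero, mul_zero, zero_add,
        map_one, Units.val_one, map_one, mul_one, mul_one, hT1]
    rw [← e1, e2]
  refine ⟨((f : ℂ) * sY - (ep : ℂ) * (c - A)) / (p : ℂ), ?_, ?_⟩
  · intro ψ hψ
    rw [eq_div_iff hpC, mul_comm]
    exact hkey ψ hψ
  · rw [finsum_mem_eq_finite_toFinset_sum _ (Set.toFinite X), ← hA]
    obtain ⟨m', hm'⟩ : ∃ m' : ℂ, m' = ((f : ℂ) * sY - (ep : ℂ) * (c - A)) / (p : ℂ) := ⟨_, rfl⟩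
    rw [← hm']
    have hconst : ∀ ψ ∈ (Set.toFinite Y).toFinset, m ψ = m' := by
      intro ψ hψ
      rw [hm', eq_div_iff hpC, mul_comm]
      exact hkey ψ ((Set.Finite.mem_toFinset _).mp hψ)
    have hsY' : sY = ((Set.toFinite Y).toFinset.card : ℂ) * m' := by
      rw [hsY, Finset.sum_congr rfl hconst, Finset.sum_const, nsmul_eq_mul]
    have hcard : ((Set.toFinite Y).toFinset.card : ℂ) * (f : ℂ) = (p : ℂ) - 1 := by
      have h7 := h.card_Y
      rw [Nat.card_eq_card_finite_toFinset (Set.toFinite Y), ← hf] at h7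
      have h8 : 1 ≤ p := hp.out.one_le
      have h9 : ((Set.toFinite Y).toFinset.card * f : ℕ) + 1 = p := by omega
      have h10 : (((Set.toFinite Y).toFinset.card * f : ℕ) : ℂ) + 1 = (p : ℂ) := by
        exact_mod_cast h9
      push_cast at h10
      linear_combination h10
    have h11 : (p : ℂ) * m' = (f : ℂ) * sY - (ep : ℂ) * (c - A) := by
      rw [hm']
      field_simp
    rw [hsY'] at h11
    linear_combination (-(ep : ℂ)) * h11 + (-(ep : ℂ) * m') * hcard + (c - A) * hep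

end Cfsg.Agent.BR
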