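/-
Brauer–Reynolds track (helper3): the section-2 interface, part C.

Consequences of `br_blk_IsData` (see `BR/Block.lean`):
* **(B4)** the degree equations `br_blk_deg_X_pos`, `br_blk_deg_X_neg`, `br_blk_deg_Y_pos`,
  `br_blk_deg_Y_neg`, `br_blk_deg_Z` (together with the `P`-fixed dimension);
* `br_blk_dvd_X`, `br_blk_dvd_Y` : the degrees of the members of `X` and of `Y` divide
  `f * |Syl_p(G)|` (the hypotheses `hdiv` of `br_arith_X`, `br_arith_E`).
-/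
import Mathlib
import Cfsg.Prelude.Def_Characters
import Cfsg.Prelude.Def_Blocks
import Cfsg.Agent.Helper6.DegreeDvd
import Cfsg.Agent.Helper6.Osima3
import Cfsg.Agent.Helper6.DefectZeroBlock
import Cfsg.Agent.Helper6.IrrDegree
import Cfsg.Agent.BR.BlockB

set_option autoImplicit false
set_option linter.style.haveILetI false

namespace Cfsg.Agent.BR

open Cfsg Cfsg.Agent.Helper6 Cfsg.Agent.D1
open scoped ComplexConjugate

universe u

variable {G : Type u} [Group G] {p : ℕ} [hp : Fact p.Prime] {P : Sylow p G}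
  {X Y : Set (Cfsg.IrrCharacter G)} {dl : Cfsg.IrrCharacter G → ℤ} {ep : ℤ}
  {O : Cfsg.IrrCharacter G → Finset (↥(P : Subgroup G) →* ℂˣ)}

/-- the sum of an irreducible character over `P` is `p` times a natural number -/
theorem br_blk_sum_nat (h : br_blk_IsData P X Y dl ep O) [Fintype ↥(P : Subgroup G)]
    (χ : Cfsg.IrrCharacter G) :
    ∃ n : ℕ, ∑ x : ↥(P : Subgroup G), (χ : G → ℂ) (x : G) = (p : ℂ) * (n : ℂ) := by
  obtain ⟨n, hn⟩ := d1_valp_sum_nat (P : Subgroup G) (χ : G → ℂ)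
    (IsIrrCharacter.isCharacter χ.2)
  rw [h.card_P] at hn
  exact ⟨n, hn⟩

theorem br_blk_deg_cast (χ : Cfsg.IrrCharacter G) :
    (Cfsg.charDegree (χ : G → ℂ) : ℂ) = (χ : G → ℂ) 1 :=
  charDegree_cast_of_isCharacter (IsIrrCharacter.isCharacter χ.2)

/-- **(B4)** `χ ∈ X`, `dl χ = 1`: `χ(1) = u p + 1` and the `P`-fixed dimension is `u + 1` -/
theorem br_blk_deg_X_pos (h : br_blk_IsData P X Y dl ep O) [Fintype ↥(P : Subgroup G)]
    (χ : Cfsg.IrrCharacter G) (hχ : χ ∈ X) (hdl : dl χ = 1) :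
    ∃ u : ℕ, Cfsg.charDegree (χ : G → ℂ) = u * p + 1 ∧
      ∑ x : ↥(P : Subgroup G), (χ : G → ℂ) (x : G) = (p : ℂ) * ((u + 1 : ℕ) : ℂ) := by
  obtain ⟨n, hn⟩ := br_blk_sum_nat h χ
  have h1 := br_blk_sum_P_X h χ hχ
  rw [hn, hdl, ← br_blk_deg_cast] at h1
  have hp2 : 2 ≤ p := hp.out.two_le
  have h2 : ((p * n + 1 : ℕ) : ℂ) = ((Cfsg.charDegree (χ : G → ℂ) + p : ℕ) : ℂ) := by
    push_cast
    linear_combination h1
  have h3 : p * n + 1 = Cfsg.charDegree (χ : G → ℂ) + p := Nat.cast_injective h2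
  have hn1 : 1 ≤ n := by
    rcases Nat.eq_zero_or_pos n with h0 | h0
    · rw [h0] at h3
      omega
    · exact h0
  obtain ⟨u, rfl⟩ : ∃ u, n = u + 1 := ⟨n - 1, by omega⟩
  refine ⟨u, ?_, ?_⟩
  · have : p * (u + 1) = u * p + p := by ring
    omega
  · rw [hn]

/-- **(B4)** `χ ∈ X`, `dl χ = -1`: `χ(1) + 1 = (u + 1) p` and the `P`-fixed dimension is `u` -/
theorem br_blk_deg_X_neg (h : br_blk_IsData P X Y dl ep O) [Fintype ↥(P : Subgroup G)]
    (χ : Cfsg.IrrCharacter G) (hχ : χ ∈ X) (hdl : dl χ = -1) :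
    ∃ u : ℕ, Cfsg.charDegree (χ : G → ℂ) + 1 = (u + 1) * p ∧
      ∑ x : ↥(P : Subgroup G), (χ : G → ℂ) (x : G) = (p : ℂ) * (u : ℂ) := by
  obtain ⟨n, hn⟩ := br_blk_sum_nat h χ
  have h1 := br_blk_sum_P_X h χ hχ
  rw [hn, hdl, ← br_blk_deg_cast] at h1
  have h2 : ((p * n + p : ℕ) : ℂ) = ((Cfsg.charDegree (χ : G → ℂ) + 1 : ℕ) : ℂ) := by
    push_cast
    linear_combination h1
  have h3 : p * n + p = Cfsg.charDegree (χ : G → ℂ) + 1 := Nat.cast_injective h2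
  refine ⟨n, ?_, hn⟩
  have : (n + 1) * p = p * n + p := by ring
  omega

/-- **(B4)** `ψ ∈ Y`, `ep = 1`: `ψ(1) = w p + f` and the `P`-fixed dimension is `w` -/
theorem br_blk_deg_Y_pos (h : br_blk_IsData P X Y dl ep O) [Fintype ↥(P : Subgroup G)]
    (ψ : Cfsg.IrrCharacter G) (hψ : ψ ∈ Y) (hep : ep = 1) :
    ∃ w : ℕ, Cfsg.charDegree (ψ : G → ℂ) = w * p +
        (P : Subgroup G).relIndex (Subgroup.normalizer ((P : Subgroup G) : Set G)) ∧
      ∑ x : ↥(P : Subgroup G), (ψ : G → ℂ) (x : G) = (p : ℂ) * (w : ℂ) := by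
  obtain ⟨n, hn⟩ := br_blk_sum_nat h ψ
  have h1 := br_blk_sum_P_Y h ψ hψ
  rw [hn, hep, ← br_blk_deg_cast] at h1
  have h2 : ((p * n + (P : Subgroup G).relIndex
      (Subgroup.normalizer ((P : Subgroup G) : Set G)) : ℕ) : ℂ) =
      ((Cfsg.charDegree (ψ : G → ℂ) : ℕ) : ℂ) := by
    push_cast
    linear_combination h1
  have h3 := Nat.cast_injective h2
  refine ⟨n, ?_, hn⟩
  rw [← h3]
  ring

/-- **(B4)** `ψ ∈ Y`, `ep = -1`: `ψ(1) + f = w p` and the `P`-fixed dimension is `w` -/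
theorem br_blk_deg_Y_neg (h : br_blk_IsData P X Y dl ep O) [Fintype ↥(P : Subgroup G)]
    (ψ : Cfsg.IrrCharacter G) (hψ : ψ ∈ Y) (hep : ep = -1) :
    ∃ w : ℕ, Cfsg.charDegree (ψ : G → ℂ) +
        (P : Subgroup G).relIndex (Subgroup.normalizer ((P : Subgroup G) : Set G)) = w * p ∧
      ∑ x : ↥(P : Subgroup G), (ψ : G → ℂ) (x : G) = (p : ℂ) * (w : ℂ) := by
  obtain ⟨n, hn⟩ := br_blk_sum_nat h ψ
  have h1 := br_blk_sum_P_Y h ψ hψ
  rw [hn, hep, ← br_blk_deg_cast] at h1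
  have h2 : ((p * n : ℕ) : ℂ) = ((Cfsg.charDegree (ψ : G → ℂ) + (P : Subgroup G).relIndex
      (Subgroup.normalizer ((P : Subgroup G) : Set G)) : ℕ) : ℂ) := by
    push_cast
    linear_combination h1
  have h3 := Nat.cast_injective h2
  refine ⟨n, ?_, hn⟩
  rw [← h3]
  ring

/-- **(B4)** `ζ ∉ X ∪ Y`: `ζ(1) = z p` and the `P`-fixed dimension is `z` -/
theorem br_blk_deg_Z (h : br_blk_IsData P X Y dl ep O) [Fintype ↥(P : Subgroup G)]
    (ζ : Cfsg.IrrCharacter G) (hX : ζ ∉ X) (hY : ζ ∉ Y) :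
    ∃ z : ℕ, Cfsg.charDegree (ζ : G → ℂ) = z * p ∧
      ∑ x : ↥(P : Subgroup G), (ζ : G → ℂ) (x : G) = (p : ℂ) * (z : ℂ) := by
  obtain ⟨n, hn⟩ := br_blk_sum_nat h ζ
  have h1 := br_blk_sum_P_Z h ζ hX hY
  rw [hn, ← br_blk_deg_cast] at h1
  have h2 : ((p * n : ℕ) : ℂ) = ((Cfsg.charDegree (ζ : G → ℂ) : ℕ) : ℂ) := by
    push_cast
    linear_combination h1
  have h3 := Nat.cast_injective h2
  refine ⟨n, ?_, hn⟩
  rw [← h3]
  ring

/-! ### divisibility -/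

/-- the index of `P` -/
theorem br_blk_index_P [Finite G] (h : br_blk_IsData P X Y dl ep O) :
    (P : Subgroup G).index =
      (P : Subgroup G).relIndex (Subgroup.normalizer ((P : Subgroup G) : Set G)) *
        Nat.card (Sylow p G) := by
  rw [P.card_eq_index_normalizer]
  exact (Subgroup.relIndex_mul_index Subgroup.le_normalizer).symm

/-- the degree of `χ ∈ X` divides `f |Syl_p(G)|` -/
theorem br_blk_dvd_X [Finite G] (h : br_blk_IsData P X Y dl ep O)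
    (χ : Cfsg.IrrCharacter G) (hχ : χ ∈ X) :
    Cfsg.charDegree (χ : G → ℂ) ∣
      (P : Subgroup G).relIndex (Subgroup.normalizer ((P : Subgroup G) : Set G)) *
        Nat.card (Sylow p G) := by
  haveI := br_blk_finite_P h
  haveI : Fintype ↥(P : Subgroup G) := Fintype.ofFinite _
  have h1 : Cfsg.charDegree (χ : G → ℂ) ∣ Nat.card G := charDegree_dvd_card χ.2
  rw [← Subgroup.card_mul_index (P : Subgroup G), h.card_P, br_blk_index_P h] at h1
  have hcop : Nat.Coprime (Cfsg.charDegree (χ : G → ℂ)) p := by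
    rw [Nat.coprime_comm, Nat.Prime.coprime_iff_not_dvd hp.out]
    intro hdvd
    have hp2 : 2 ≤ p := hp.out.two_le
    rcases h.dl_sign χ with hdl | hdl
    · obtain ⟨u, hu, -⟩ := br_blk_deg_X_pos h χ hχ hdl
      rw [hu] at hdvd
      have h2 : p ∣ 1 := (Nat.dvd_add_right (Dvd.intro_left u rfl)).mp hdvd
      have := Nat.le_of_dvd Nat.one_pos h2
      omega
    · obtain ⟨u, hu, -⟩ := br_blk_deg_X_neg h χ hχ hdl
      have h2 : p ∣ Cfsg.charDegree (χ : G → ℂ) + 1 := by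
        rw [hu]
        exact Dvd.intro_left _ rfl
      have h3 : p ∣ 1 := (Nat.dvd_add_right hdvd).mp h2
      have := Nat.le_of_dvd Nat.one_pos h3
      omega
  exact hcop.dvd_of_dvd_mul_left h1

/-- the degree of `ψ ∈ Y` divides `f |Syl_p(G)|` -/
theorem br_blk_dvd_Y [Finite G] (h : br_blk_IsData P X Y dl ep O)
    (ψ₀ : Cfsg.IrrCharacter G) (hψ₀ : ψ₀ ∈ Y) :
    Cfsg.charDegree (ψ₀ : G → ℂ) ∣
      (P : Subgroup G).relIndex (Subgroup.normalizer ((P : Subgroup G) : Set G)) *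
        Nat.card (Sylow p G) := by
  classical
  haveI : Finite (Cfsg.IrrCharacter G) := irr_finite
  obtain ⟨x, hx⟩ := br_blk_exists_ne_one h
  have hx1 : (x : G) ≠ 1 := br_blk_ne_one_coe x hx
  have hcent : Subgroup.centralizer ({(x : G)} : Set G) = (P : Subgroup G) := by
    rw [d1_sec_centralizer_singleton (P : Subgroup G) h.card_P (x : G) x.2 hx1, h.cent_P]
  have hone : ¬ p ∣ orderOf (1 : G) := by
    rw [orderOf_one]
    exact hp.out.one_lt.ne' ∘ Nat.dvd_one.mp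
  have hdeg : ∀ ψ ∈ Y, (ψ : G → ℂ) 1 = (Cfsg.charDegree (ψ₀ : G → ℂ) : ℂ) := by
    intro ψ hψ
    rw [br_blk_deg_cast]
    exact h.reg_Y ψ hψ ψ₀ hψ₀ 1 hone
  have hy0 : Cfsg.charDegree (ψ₀ : G → ℂ) ≠ 0 := by
    intro h0
    have h1 := br_blk_deg_cast ψ₀
    rw [h0, Nat.cast_zero] at h1
    exact IsIrrCharacter.apply_one_ne_zero ψ₀.2 h1.symm
  have hyC : (Cfsg.charDegree (ψ₀ : G → ℂ) : ℂ) ≠ 0 := by exact_mod_cast hy0
  have hep := br_blk_ep_sq h
  -- the algebraic integer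
  have hint : IsIntegral ℤ (((-ep : ℤ) : ℂ) *
      ∑ ψ ∈ (Set.toFinite Y).toFinset, Cfsg.centralChar (ψ : G → ℂ) (x : G)) :=
    IsIntegral.mul (isIntegral_intCast (-ep)) (IsIntegral.sum _ (fun ψ _ =>
      isIntegral_centralChar ψ (x : G)))
  have hsum := br_blk_sum_over_Y h x hx
  rw [finsum_mem_eq_finite_toFinset_sum _ (Set.toFinite Y)] at hsum
  have hval : ((-ep : ℤ) : ℂ) *
      ∑ ψ ∈ (Set.toFinite Y).toFinset, Cfsg.centralChar (ψ : G → ℂ) (x : G) =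
      ((P : Subgroup G).index : ℂ) / (Cfsg.charDegree (ψ₀ : G → ℂ) : ℂ) := by
    have h1 : ∀ ψ ∈ (Set.toFinite Y).toFinset, Cfsg.centralChar (ψ : G → ℂ) (x : G) =
        ((P : Subgroup G).index : ℂ) / (Cfsg.charDegree (ψ₀ : G → ℂ) : ℂ) *
          (ψ : G → ℂ) (x : G) := by
      intro ψ hψ
      unfold Cfsg.centralChar
      rw [hcent, hdeg ψ ((Set.Finite.mem_toFinset _).mp hψ)]
      ring
    rw [Finset.sum_congr rfl h1, ← Finset.mul_sum, hsum]
    push_cast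
    field_simp
    linear_combination ((P : Subgroup G).index : ℂ) * hep
  rw [hval] at hint
  have h2 : (((P : Subgroup G).index : ℕ) : ℂ) = (Cfsg.charDegree (ψ₀ : G → ℂ) : ℂ) *
      (((P : Subgroup G).index : ℂ) / (Cfsg.charDegree (ψ₀ : G → ℂ) : ℂ)) := by
    field_simp
  have h3 := nat_dvd_of_isIntegral _ _ hy0 _ hint h2
  rwa [br_blk_index_P h] at h3

end Cfsg.Agent.BR
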