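/-
Brauer–Reynolds track (helper3): the section-2 interface, existence.

`br_blk_exists`: for a Sylow `p`-subgroup `P` of order `p` of a finite group `G` with
`C_G(P) ≤ P` the data `br_blk_IsData P X Y dl ep O` of `BR/Block.lean` exist.

Source: `d1_conc_split` for the principal block (root = the trivial character of `C_G(P)`),
the section formula `d1_valp_section`, and the second/third main theorems (a character outside
the principal block vanishes on `P ∖ 1`, because the `p`-group `C_G(P) = P` has only one block).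
For `f = p - 1` the split is symmetric; if the trivial character came out as the exceptional
one it is swapped with a member of `X`.
-/
import Mathlib
import Cfsg.Prelude.Def_Characters
import Cfsg.Prelude.Def_Blocks
import Cfsg.Prelude.Def_BlockLocal
import Cfsg.Agent.Helper6.PowCongr
import Cfsg.Agent.Helper6.NormalComplementBlock
import Cfsg.Agent.Helper6.MaximalPairDefect
import Cfsg.Agent.D1C.Principal
import Cfsg.Agent.D1C.Conc
import Cfsg.Agent.D1C.ValP
import Cfsg.Agent.D1C.BrbOrb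
import Cfsg.Agent.BR.Block

set_option autoImplicit false
set_option linter.style.haveILetI false

namespace Cfsg.Agent.BR

open Cfsg Cfsg.Agent.Helper6 Cfsg.Agent.D1
open scoped ComplexConjugate

universe u

variable {G : Type u} [Group G] {p : ℕ} [hp : Fact p.Prime] {Q C N : Subgroup G}
  {τ : ↥C →* ↥Q} {M : Ideal Cfsg.AlgInt}

/-! ### values on `Q ∖ 1` from the section data -/

/-- members of the principal block with constant section numbers -/
theorem br_blkx_val_X [Finite G] [Fintype C] (hM : Cfsg.IsPModular p M)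
    (S : d1_sec_Setup p Q C N τ) (χ : Cfsg.IrrCharacter G)
    (hχ : χ ∈ Cfsg.principalBlock M G) (w : ℤ)
    (hw : ∀ j, d1_sec_vJ S (trivIrr C) χ j = w) (x : G) (hxQ : x ∈ Q) (hx : x ≠ 1) :
    (χ : G → ℂ) x = -(w : ℂ) := by
  have hx' : (⟨x, hxQ⟩ : Q) ≠ 1 := fun h => hx (congrArg Subtype.val h)
  have h := d1_valp_value hM S χ hχ w (fun l hl => by
    rw [← d1_sec_vJ_pi S (trivIrr C) χ ⟨l, hl⟩]
    exact hw _) ⟨x, hxQ⟩ hx' 1 (map_one τ)
  rwa [OneMemClass.coe_one, mul_one] at h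

open Classical in
/-- exceptional members of the principal block -/
theorem br_blkx_val_Y [Finite G] [Fintype C] [Fintype (↥Q →* ℂˣ)] (hM : Cfsg.IsPModular p M)
    (S : d1_sec_Setup p Q C N τ) (ψ : Cfsg.IrrCharacter G)
    (hψ : ψ ∈ Cfsg.principalBlock M G) (j₀ : d1_sec_J S (trivIrr C)) (δ : ℤ)
    (hv : ∀ j, d1_sec_vJ S (trivIrr C) ψ j = if j = j₀ then δ else 0) (x : Q) (hx : x ≠ 1) :
    (ψ : G → ℂ) (x : G) = (δ : ℂ) *
      br_blk_eta (Finset.univ.filter (d1_brbo_In S (trivIrr C) j₀)) x := by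
  have h := d1_valp_section hM S ψ hψ x hx 1 (map_one τ)
  rw [OneMemClass.coe_one, mul_one] at h
  rw [h]
  unfold br_blk_eta
  rw [Finset.sum_filter, Finset.mul_sum]
  apply Finset.sum_congr rfl
  intro l _
  by_cases hl : l = 1
  · have hnot : ¬ d1_brbo_In S (trivIrr C) j₀ l := fun ⟨h1, _⟩ => h1 hl
    rw [if_neg hnot, hl, d1_sec_v_one, mul_zero, mul_zero]
  · have h1 : d1_sec_v τ ((trivIrr C : Cfsg.IrrCharacter C) : C → ℂ) (ψ : G → ℂ) l =
        ((if d1_sec_pi S (trivIrr C) ⟨l, hl⟩ = j₀ then δ else 0 : ℤ) : ℂ) := by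
      rw [d1_sec_vZ_spec, ← hv (d1_sec_pi S (trivIrr C) ⟨l, hl⟩), d1_sec_vJ_pi]
    rw [h1]
    by_cases hin : d1_sec_pi S (trivIrr C) ⟨l, hl⟩ = j₀
    · have hin' : d1_brbo_In S (trivIrr C) j₀ l := ⟨hl, hin⟩
      rw [if_pos hin, if_pos hin']
      ring
    · have hin' : ¬ d1_brbo_In S (trivIrr C) j₀ l := fun ⟨_, h2⟩ => hin h2
      rw [if_neg hin, if_neg hin', Int.cast_zero, mul_zero, mul_zero]

/-- a `p`-group has only the principal block -/
theorem br_blkx_principal_univ {K : Type u} [Group K] [Finite K] (hM : Cfsg.IsPModular p M)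
    (k : ℕ) (hK : Nat.card K = p ^ k) (ψ : Cfsg.IrrCharacter K) :
    ψ ∈ Cfsg.principalBlock M K := by
  have h := principalBlock_eq_kernelSet p hM.2.1 hM.2.2 (⊥ : Subgroup K)
    (by rw [Subgroup.card_bot]; exact Nat.coprime_one_left p) k
    (by rw [Subgroup.index_bot]; exact hK)
  rw [h]
  intro n hn
  rw [Subgroup.mem_bot] at hn
  rw [hn]

/-- a character outside the principal block vanishes on `Q ∖ 1` when `C_G(Q)` has order `p` -/
theorem br_blkx_val_Z [Finite G] [Fintype C] (hM : Cfsg.IsPModular p M)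
    (S : d1_sec_Setup p Q C N τ) (hCp : Nat.card C = p) (ζ : Cfsg.IrrCharacter G)
    (hζ : ζ ∉ Cfsg.principalBlock M G) (x : G) (hxQ : x ∈ Q) (hx : x ≠ 1) :
    (ζ : G → ℂ) x = 0 := by
  have hC := S.C_eq_singleton hxQ hx
  have hpx := S.isPElement hxQ
  have hy : ¬ p ∣ orderOf (1 : C) := by
    rw [orderOf_one]
    exact hp.out.one_lt.ne' ∘ Nat.dvd_one.mp
  have h := d1_valp_second_main hM x hpx C hC (Cfsg.blockOf M (ζ : G → ℂ)) ⟨ζ, rfl⟩ ζ
    (mem_blockOf_self hM.2.1 ζ) 1 hy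
  rw [OneMemClass.coe_one, mul_one] at h
  rw [← h]
  have hempty : {ψ : Cfsg.IrrCharacter C |
      Cfsg.IsInducedBlock M C (Cfsg.blockOf M (ψ : C → ℂ)) (Cfsg.blockOf M (ζ : G → ℂ))} = ∅ := by
    rw [Set.eq_empty_iff_forall_notMem]
    intro ψ hψ
    have hψ' : Cfsg.IsInducedBlock M C (Cfsg.blockOf M (ψ : C → ℂ))
        (Cfsg.blockOf M (ζ : G → ℂ)) := hψ
    have hprin : ψ ∈ Cfsg.principalBlock M C :=
      br_blkx_principal_univ hM 1 (by rw [hCp, pow_one]) ψ
    have hb : Cfsg.blockOf M (ψ : C → ℂ) = Cfsg.principalBlock M C :=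
      (eq_blockOf_of_mem hM.2.1 _ (isPBlock_principalBlock C) ψ hprin).symm
    have hdef := d1_valp_defined hM x hpx C hC (Cfsg.blockOf M (ψ : C → ℂ)) ⟨ψ, rfl⟩
    have h3 : Cfsg.IsInducedBlock M C (Cfsg.blockOf M (ψ : C → ℂ)) (Cfsg.principalBlock M G) :=
      (third_main hM C _ hdef).mpr hb
    have h4 := isInducedBlock_unique hM.2.1 C _ _ _ hψ' h3
    apply hζ
    rw [← h4]
    exact mem_blockOf_self hM.2.1 ζ
  rw [hempty]
  exact finsum_mem_empty

/-! ### the data without the normalization `1 ∈ X`, and the swap -/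

/-- the section-2 data without the requirement that the trivial character lies in `X` -/
structure br_blkx_IsPre (P : Sylow p G) (X Y : Set (Cfsg.IrrCharacter G))
    (dl : Cfsg.IrrCharacter G → ℤ) (ep : ℤ)
    (O : Cfsg.IrrCharacter G → Finset (↥(P : Subgroup G) →* ℂˣ)) : Prop where
  card_P : Nat.card (P : Subgroup G) = p
  cent_P : Subgroup.centralizer ((P : Subgroup G) : Set G) = (P : Subgroup G)
  disj : Disjoint X Y
  card_X : Nat.card X =
    (P : Subgroup G).relIndex (Subgroup.normalizer ((P : Subgroup G) : Set G))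
  card_Y : Nat.card Y *
    (P : Subgroup G).relIndex (Subgroup.normalizer ((P : Subgroup G) : Set G)) = p - 1
  dl_sign : ∀ χ, dl χ = 1 ∨ dl χ = -1
  ep_sign : ep = 1 ∨ ep = -1
  val_X : ∀ χ ∈ X, ∀ x : G, x ∈ (P : Subgroup G) → x ≠ 1 → (χ : G → ℂ) x = (dl χ : ℂ)
  val_Y : ∀ ψ ∈ Y, ∀ x : ↥(P : Subgroup G), x ≠ 1 →
    (ψ : G → ℂ) (x : G) = (ep : ℂ) * br_blk_eta (O ψ) x
  val_Z : ∀ ζ : Cfsg.IrrCharacter G, ζ ∉ X → ζ ∉ Y → ∀ x : G, x ∈ (P : Subgroup G) → x ≠ 1 →
    (ζ : G → ℂ) x = 0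
  O_card : ∀ ψ ∈ Y, (O ψ).card =
    (P : Subgroup G).relIndex (Subgroup.normalizer ((P : Subgroup G) : Set G))
  O_ne : ∀ ψ ∈ Y, ∀ l ∈ O ψ, l ≠ 1
  O_disj : ∀ ψ ∈ Y, ∀ ψ' ∈ Y, ψ ≠ ψ' → Disjoint (O ψ) (O ψ')
  O_cover : ∀ l : ↥(P : Subgroup G) →* ℂˣ, l ≠ 1 → ∃ ψ ∈ Y, l ∈ O ψ
  reg_Y : ∀ ψ ∈ Y, ∀ ψ' ∈ Y, ∀ g : G, ¬ p ∣ orderOf g → (ψ : G → ℂ) g = (ψ' : G → ℂ) g

section swap

variable {P : Sylow p G} {X Y : Set (Cfsg.IrrCharacter G)}
  {dl : Cfsg.IrrCharacter G → ℤ} {ep : ℤ}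
  {O : Cfsg.IrrCharacter G → Finset (↥(P : Subgroup G) →* ℂˣ)}

theorem br_blkx_isData_of_mem (h : br_blkx_IsPre P X Y dl ep O) (ht : trivIrr G ∈ X) :
    br_blk_IsData P X Y dl ep O :=
  { card_P := h.card_P, cent_P := h.cent_P, disj := h.disj, card_X := h.card_X,
    card_Y := h.card_Y, triv_mem := ht, dl_sign := h.dl_sign, ep_sign := h.ep_sign,
    val_X := h.val_X, val_Y := h.val_Y, val_Z := h.val_Z, O_card := h.O_card, O_ne := h.O_ne,
    O_disj := h.O_disj, O_cover := h.O_cover, reg_Y := h.reg_Y }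

/-- if the trivial character is exceptional then `ep = -1` and `f = p - 1` -/
theorem br_blkx_full (h : br_blkx_IsPre P X Y dl ep O) (ht : trivIrr G ∈ Y) :
    (P : Subgroup G).relIndex (Subgroup.normalizer ((P : Subgroup G) : Set G)) = p - 1 ∧
      ∀ x : ↥(P : Subgroup G), x ≠ 1 → br_blk_eta (O (trivIrr G)) x = (ep : ℂ) := by
  haveI : Finite ↥(P : Subgroup G) :=
    Nat.finite_of_card_ne_zero (by rw [h.card_P]; exact hp.out.ne_zero)
  haveI : Fintype ↥(P : Subgroup G) := Fintype.ofFinite _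
  have hep : (ep : ℂ) * (ep : ℂ) = 1 := by
    rcases h.ep_sign with h1 | h1 <;> rw [h1] <;> norm_num
  have heta : ∀ x : ↥(P : Subgroup G), x ≠ 1 → br_blk_eta (O (trivIrr G)) x = (ep : ℂ) := by
    intro x hx
    have h1 := h.val_Y (trivIrr G) ht x hx
    have h2 : ((trivIrr G : Cfsg.IrrCharacter G) : G → ℂ) (x : G) = 1 := rfl
    rw [h2] at h1
    linear_combination (-(ep : ℂ)) * h1 - br_blk_eta (O (trivIrr G)) x * hep
  refine ⟨?_, heta⟩
  have h3 := br_blk_sum_eta (O (trivIrr G)) (h.O_ne _ ht)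
  rw [br_blk_sum_off_one (br_blk_eta (O (trivIrr G))) (fun _ => (ep : ℂ)) heta,
    Finset.sum_const, Finset.card_univ, nsmul_eq_mul, br_blk_eta_one, h.O_card _ ht,
    ← Nat.card_eq_fintype_card, h.card_P] at h3
  have hp1 : 1 ≤ p := hp.out.one_le
  rcases h.ep_sign with h1 | h1
  · exfalso
    rw [h1] at h3
    have h4 : ((p + (P : Subgroup G).relIndex
        (Subgroup.normalizer ((P : Subgroup G) : Set G)) : ℕ) : ℂ) = ((1 : ℕ) : ℂ) := by
      push_cast
      linear_combination h3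
    have h5 := Nat.cast_injective h4
    have := hp.out.two_le
    omega
  · rw [h1] at h3
    have h4 : (((P : Subgroup G).relIndex
        (Subgroup.normalizer ((P : Subgroup G) : Set G)) + 1 : ℕ) : ℂ) = ((p : ℕ) : ℂ) := by
      push_cast
      linear_combination h3
    have h5 := Nat.cast_injective h4
    omega

open Classical in
/-- **the swap**: if the trivial character is exceptional, exchange it with a member of `X` -/
theorem br_blkx_swap [Finite G] (h : br_blkx_IsPre P X Y dl ep O) (ht : trivIrr G ∈ Y) :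
    ∃ (X' Y' : Set (Cfsg.IrrCharacter G)) (dl' : Cfsg.IrrCharacter G → ℤ) (ep' : ℤ)
      (O' : Cfsg.IrrCharacter G → Finset (↥(P : Subgroup G) →* ℂˣ)),
      br_blk_IsData P X' Y' dl' ep' O' := by
  haveI : Finite (Cfsg.IrrCharacter G) := irr_finite
  obtain ⟨hf, heta⟩ := br_blkx_full h ht
  have hp2 : 2 ≤ p := hp.out.two_le
  have hfpos : 0 < (P : Subgroup G).relIndex
      (Subgroup.normalizer ((P : Subgroup G) : Set G)) := by omega
  -- `Y` is a singleton
  have hcY : Nat.card Y = 1 := by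
    have h1 := h.card_Y
    rw [hf] at h1
    have h2 : Nat.card Y * (p - 1) = 1 * (p - 1) := by rw [h1, one_mul]
    exact Nat.eq_of_mul_eq_mul_right (by omega) h2
  have hYeq : ∀ ψ ∈ Y, ψ = trivIrr G := by
    intro ψ hψ
    haveI : Subsingleton Y := (Nat.card_eq_one_iff_unique.mp hcY).1
    exact congrArg Subtype.val (Subsingleton.elim (⟨ψ, hψ⟩ : Y) ⟨trivIrr G, ht⟩)
  -- a member of `X`
  obtain ⟨⟨χ₀, hχ₀⟩⟩ : Nonempty X := by
    have h1 : 0 < Nat.card X := by rw [h.card_X]; exact hfpos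
    exact (Nat.card_pos_iff.mp h1).1
  have hne₀ : χ₀ ≠ trivIrr G := fun he => Set.disjoint_left.mp h.disj hχ₀ (he ▸ ht)
  have htX : trivIrr G ∉ X := fun hX => Set.disjoint_left.mp h.disj hX ht
  have hep : (ep : ℂ) * (ep : ℂ) = 1 := by
    rcases h.ep_sign with h1 | h1 <;> rw [h1] <;> norm_num
  refine ⟨insert (trivIrr G) (X \ {χ₀}), {χ₀}, Function.update dl (trivIrr G) 1, dl χ₀ * ep,
    fun _ => O (trivIrr G), ?_⟩
  refine
    { card_P := h.card_P, cent_P := h.cent_P, disj := ?_, card_X := ?_, card_Y := ?_,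
      triv_mem := Set.mem_insert _ _, dl_sign := ?_, ep_sign := ?_, val_X := ?_, val_Y := ?_,
      val_Z := ?_, O_card := fun _ _ => h.O_card _ ht, O_ne := fun _ _ => h.O_ne _ ht,
      O_disj := ?_, O_cover := ?_, reg_Y := ?_ }
  · -- disj
    rw [Set.disjoint_singleton_right]
    intro hmem
    rcases hmem with h1 | h1
    · exact hne₀ h1
    · exact h1.2 rfl
  · -- card_X
    rw [Nat.card_coe_set_eq, Set.ncard_insert_of_notMem (fun hm => htX hm.1)
      (Set.toFinite _), Set.ncard_sdiff_singleton_add_one hχ₀ (Set.toFinite X),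
      ← Nat.card_coe_set_eq, h.card_X]
  · -- card_Y
    rw [Nat.card_coe_set_eq, Set.ncard_singleton, one_mul, hf]
  · -- dl_sign
    intro χ
    by_cases hχ : χ = trivIrr G
    · left
      rw [hχ, Function.update_self]
    · rw [Function.update_of_ne hχ]
      exact h.dl_sign χ
  · -- ep_sign
    rcases h.dl_sign χ₀ with h1 | h1 <;> rcases h.ep_sign with h2 | h2 <;> rw [h1, h2] <;> simp
  · -- val_X
    intro χ hχ x hx hx1
    rcases hχ with h1 | h1
    · rw [h1, Function.update_self]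
      simp only [Int.cast_one]
      rfl
    · have hχne : χ ≠ trivIrr G := fun he => htX (he ▸ h1.1)
      rw [Function.update_of_ne hχne]
      exact h.val_X χ h1.1 x hx hx1
  · -- val_Y
    intro ψ hψ x hx
    rw [Set.mem_singleton_iff] at hψ
    rw [hψ, h.val_X χ₀ hχ₀ x x.2 (fun he => hx (Subtype.ext he)), heta x hx]
    push_cast
    linear_combination (-(dl χ₀ : ℂ)) * hep
  · -- val_Z
    intro ζ hζX hζY x hx hx1
    rw [Set.mem_singleton_iff] at hζY
    have h1 : ζ ∉ X := fun hX => hζX (Set.mem_insert_of_mem _ ⟨hX, hζY⟩)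
    have h2 : ζ ∉ Y := fun hY => hζX (by rw [hYeq ζ hY]; exact Set.mem_insert _ _)
    exact h.val_Z ζ h1 h2 x hx hx1
  · -- O_disj
    intro ψ hψ ψ' hψ' hne
    rw [Set.mem_singleton_iff] at hψ hψ'
    exact absurd (hψ.trans hψ'.symm) hne
  · -- O_cover
    intro l hl
    obtain ⟨ψ, hψ, hlψ⟩ := h.O_cover l hl
    rw [hYeq ψ hψ] at hlψ
    exact ⟨χ₀, Set.mem_singleton _, hlψ⟩
  · -- reg_Y
    intro ψ hψ ψ' hψ' g _
    rw [Set.mem_singleton_iff] at hψ hψ'
    rw [hψ, hψ']

end swap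

/-! ### existence -/

/-- **existence of the section-2 data** for a Sylow `p`-subgroup of order `p` with
`C_G(P) ≤ P` -/
theorem br_blk_exists {G : Type u} [Group G] [Finite G] (p : ℕ) [hp : Fact p.Prime]
    (P : Sylow p G) (hP : Nat.card (P : Subgroup G) = p)
    (hC : Subgroup.centralizer ((P : Subgroup G) : Set G) ≤ (P : Subgroup G)) :
    ∃ (X Y : Set (Cfsg.IrrCharacter G)) (dl : Cfsg.IrrCharacter G → ℤ) (ep : ℤ)
      (O : Cfsg.IrrCharacter G → Finset (↥(P : Subgroup G) →* ℂˣ)),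
      br_blk_IsData P X Y dl ep O := by
  classical
  obtain ⟨M, hM⟩ := exists_isPModular p hp.out
  haveI : Fintype (Subgroup.centralizer ((P : Subgroup G) : Set G)) := Fintype.ofFinite _
  haveI : Finite (Cfsg.IrrCharacter G) := irr_finite
  obtain ⟨τ, S⟩ := d1_sec_exists_setup P hP
  have hCeq : Subgroup.centralizer ((P : Subgroup G) : Set G) = (P : Subgroup G) :=
    le_antisymm hC (d1_fin_le_centralizer (P : Subgroup G) hP)
  have hrel : (Subgroup.centralizer ((P : Subgroup G) : Set G)).relIndex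
      (Subgroup.normalizer ((P : Subgroup G) : Set G)) =
      (P : Subgroup G).relIndex (Subgroup.normalizer ((P : Subgroup G) : Set G)) := by
    rw [hCeq]
  have hCp : Nat.card (Subgroup.centralizer ((P : Subgroup G) : Set G)) = p := by
    rw [hCeq]
    exact hP
  have hroot := d1_fin_principal_root p hM P hP
  have hB : Cfsg.IsPBlock M (Cfsg.principalBlock M G) := isPBlock_principalBlock G
  have hBP := d1_fin_principal_defect p hM P
  obtain ⟨X, Y, w, δ, jj, hXY, hdisj, hcardX, hcardY, hw, hδ, hvX, hvY, hbij⟩ :=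
    d1_conc_split p hM P hP S (Cfsg.principalBlock M G) hB hBP _ _ hroot
  rw [d1_fin_principal_T, hrel] at hcardX hcardY
  haveI : Finite (↥(P : Subgroup G) →* ℂˣ) := d1_sec_finite_hom S
  haveI : Fintype (↥(P : Subgroup G) →* ℂˣ) := Fintype.ofFinite _
  have hStab := d1_brbo_isStab_triv S
  have hXB : ∀ χ ∈ X, χ ∈ Cfsg.principalBlock M G := fun χ hχ => by
    rw [hXY]; exact Or.inl hχ
  have hYB : ∀ χ ∈ Y, χ ∈ Cfsg.principalBlock M G := fun χ hχ => by
    rw [hXY]; exact Or.inr hχ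
  have hpre : br_blkx_IsPre P X Y (fun χ => - w χ) δ
      (fun ψ => Finset.univ.filter (d1_brbo_In S
        (trivIrr (Subgroup.centralizer ((P : Subgroup G) : Set G))) (jj ψ))) := by
    refine
      { card_P := hP, cent_P := hCeq, disj := hdisj, card_X := hcardX, card_Y := hcardY,
        dl_sign := ?_, ep_sign := hδ, val_X := ?_, val_Y := ?_, val_Z := ?_, O_card := ?_,
        O_ne := ?_, O_disj := ?_, O_cover := ?_, reg_Y := ?_ }
    · intro χ
      rcases hw χ with h | h <;> rw [h] <;> simp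
    · intro χ hχ x hx hx1
      rw [br_blkx_val_X hM S χ (hXB χ hχ) (w χ) (hvX χ hχ) x hx hx1]
      push_cast
      ring
    · intro ψ hψ x hx
      exact br_blkx_val_Y hM S ψ (hYB ψ hψ) (jj ψ) δ (hvY ψ hψ) x hx
    · intro ζ hζX hζY x hx hx1
      refine br_blkx_val_Z hM S hCp ζ ?_ x hx hx1
      rw [hXY]
      exact fun h => h.elim hζX hζY
    · intro ψ _
      have h1 := d1_brbo_card_In hStab (jj ψ)
      rw [← hrel, ← h1, Nat.card_eq_fintype_card, Fintype.card_subtype]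
    · intro ψ _ l hl
      obtain ⟨h1, _⟩ := (Finset.mem_filter.mp hl).2
      exact h1
    · intro ψ hψ ψ' hψ' hne
      rw [Finset.disjoint_left]
      intro l hl hl'
      obtain ⟨h1, e1⟩ := (Finset.mem_filter.mp hl).2
      obtain ⟨h1', e1'⟩ := (Finset.mem_filter.mp hl').2
      have h2 : jj ψ = jj ψ' := e1.symm.trans e1'
      exact hne (hbij.injOn hψ hψ' h2)
    · intro l hl
      obtain ⟨ψ, hψ, hj⟩ := hbij.surjOn (Set.mem_univ (d1_sec_pi S
        (trivIrr (Subgroup.centralizer ((P : Subgroup G) : Set G))) ⟨l, hl⟩))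
      exact ⟨ψ, hψ, Finset.mem_filter.mpr ⟨Finset.mem_univ _, hl, hj.symm⟩⟩
    · intro ψ hψ ψ' hψ' g hg
      exact d1_brbo_agree hM S (Cfsg.principalBlock M G) _ hroot.1 _ hroot.2.1 hroot.2.2
        X Y w δ jj hXY hδ hvX hvY hbij.injOn ψ ψ' hψ hψ' g hg
  have htB : trivIrr G ∈ Cfsg.principalBlock M G := trivIrr_mem_principalBlock hM.2.1
  rw [hXY] at htB
  rcases htB with ht | ht
  · exact ⟨X, Y, _, _, _, br_blkx_isData_of_mem hpre ht⟩
  · exact br_blkx_swap hpre ht

end Cfsg.Agent.BR
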