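import Mathlib
import Cfsg.Prelude.Def_Characters
import Cfsg.Agent.Helper6.CentralChar
import Cfsg.Agent.Helper6.Regular
import Cfsg.Agent.Helper6.DegreeDvd

/-!
# Class multiplication coefficients (copy of `Helper6/ClassMult` under fresh names)

`Helper6/ClassMult` and `Helper6/StructConst` both declare `Helper6.sum_classFinset_char`, so they
cannot be imported together; the Brauer-Reynolds files need `class_mult_count` next to the block
library (which imports `StructConst`).  Same proofs, names prefixed `br_cm_`.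
-/

set_option autoImplicit false
set_option linter.style.haveILetI false

namespace Cfsg.Agent.BR

open Cfsg.Agent.Helper6

open Module Representation
open scoped ComplexConjugate

universe u v

variable {G : Type u} [Group G]

theorem br_cm_sum_classFinset_char [Fintype G] {V : Type v} [AddCommGroup V] [Module ℂ V]
    [FiniteDimensional ℂ V] (ρ : Representation ℂ G V) (g : G) :
    ∑ x ∈ classFinset g, ρ.character x = ((classFinset g).card : ℂ) * ρ.character g := by
  rw [← nsmul_eq_mul, ← Finset.sum_const]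
  apply Finset.sum_congr rfl
  intro x hx
  rw [mem_classFinset] at hx
  obtain ⟨a, ha⟩ := isConj_iff.mp hx
  rw [← ha, char_conj]

/-- The class sum of an irreducible representation is the scalar `|K| χ(g) / χ(1)`. -/
theorem br_cm_sum_classFinset_rep [Fintype G] {V : Type v} [AddCommGroup V] [Module ℂ V]
    [FiniteDimensional ℂ V] (ρ : Representation ℂ G V) [hirr : ρ.IsIrreducible] (g : G) :
    ∑ x ∈ classFinset g, ρ x =
      (((classFinset g).card : ℂ) * ρ.character g / (finrank ℂ V : ℂ)) •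
        (LinearMap.id : V →ₗ[ℂ] V) := by
  haveI : Nontrivial V := irr_nontrivial ρ
  have hd : (finrank ℂ V : ℂ) ≠ 0 := by
    have : finrank ℂ V ≠ 0 := Module.finrank_pos.ne'
    exact_mod_cast this
  obtain ⟨c, -, hc, hc2⟩ := exists_central_value ρ (classFinset g) (by
    intro a x hx
    rw [mem_classFinset] at hx ⊢
    exact hx.trans (isConj_iff.mpr ⟨a, rfl⟩))
  rw [hc]
  congr 1
  rw [br_cm_sum_classFinset_char] at hc2
  rw [← hc2]
  field_simp

theorem br_cm_class_mult_rep [Fintype G] {V : Type v} [AddCommGroup V] [Module ℂ V]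
    [FiniteDimensional ℂ V] (ρ : Representation ℂ G V) [hirr : ρ.IsIrreducible] (a b c : G) :
    ∑ x ∈ classFinset a, ∑ y ∈ classFinset b, ρ.character (x * y * c) =
      (((classFinset a).card : ℂ) * ρ.character a / (finrank ℂ V : ℂ)) *
      (((classFinset b).card : ℂ) * ρ.character b / (finrank ℂ V : ℂ)) * ρ.character c := by
  unfold Representation.character
  simp_rw [← map_sum]
  have h1 : ∑ x ∈ classFinset a, ∑ y ∈ classFinset b, ρ (x * y * c) =
      (∑ x ∈ classFinset a, ρ x) * (∑ y ∈ classFinset b, ρ y) * ρ c := by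
    rw [Finset.sum_mul_sum, Finset.sum_mul]
    apply Finset.sum_congr rfl
    intro x _
    rw [Finset.sum_mul]
    apply Finset.sum_congr rfl
    intro y _
    rw [map_mul, map_mul]
  rw [h1, br_cm_sum_classFinset_rep, br_cm_sum_classFinset_rep]
  have hid : (LinearMap.id : V →ₗ[ℂ] V) = 1 := rfl
  rw [hid]
  simp only [smul_mul_assoc, mul_smul_comm, one_mul, map_smul, smul_eq_mul]
  unfold Representation.character
  ring

/-- Class multiplication coefficients, as a sum over the two classes. -/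
theorem br_cm_class_mult_count [Fintype G] [Fintype (Cfsg.IrrCharacter G)] [DecidableEq G]
    (a b c : G) :
    ∑ x ∈ classFinset a, ∑ y ∈ classFinset b, (if x * y = c then (1 : ℂ) else 0) =
      ((classFinset a).card : ℂ) * ((classFinset b).card : ℂ) / (Nat.card G : ℂ) *
        ∑ χ : Cfsg.IrrCharacter G,
          (χ : G → ℂ) a * (χ : G → ℂ) b * conj ((χ : G → ℂ) c) / (χ : G → ℂ) 1 := by
  have hG0 : (Nat.card G : ℂ) ≠ 0 := by
    have : 0 < Nat.card G := Nat.card_pos
    exact_mod_cast this.ne'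
  have hind : ∀ x y : G, (if x * y = c then (1 : ℂ) else 0) =
      (Nat.card G : ℂ)⁻¹ * ∑ χ : Cfsg.IrrCharacter G,
        (χ : G → ℂ) 1 * (χ : G → ℂ) (x * y * c⁻¹) := by
    intro x y
    rw [sum_degree_mul_irr]
    have hiff : x * y * c⁻¹ = 1 ↔ x * y = c := mul_inv_eq_one
    by_cases h : x * y = c
    · rw [if_pos h, if_pos (hiff.mpr h), inv_mul_cancel₀ hG0]
    · rw [if_neg h, if_neg (fun h' => h (hiff.mp h')), mul_zero]
  simp_rw [hind, ← Finset.mul_sum]
  have hswap : ∑ x ∈ classFinset a, ∑ y ∈ classFinset b, ∑ χ : Cfsg.IrrCharacter G,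
      (χ : G → ℂ) 1 * (χ : G → ℂ) (x * y * c⁻¹) =
      ∑ χ : Cfsg.IrrCharacter G, ∑ x ∈ classFinset a, ∑ y ∈ classFinset b,
        (χ : G → ℂ) 1 * (χ : G → ℂ) (x * y * c⁻¹) := by
    calc _ = ∑ x ∈ classFinset a, ∑ χ : Cfsg.IrrCharacter G, ∑ y ∈ classFinset b,
          (χ : G → ℂ) 1 * (χ : G → ℂ) (x * y * c⁻¹) :=
          Finset.sum_congr rfl (fun x _ => Finset.sum_comm)
      _ = _ := Finset.sum_comm
  rw [hswap]
  have hχ : ∀ χ : Cfsg.IrrCharacter G, ∑ x ∈ classFinset a, ∑ y ∈ classFinset b,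
      (χ : G → ℂ) 1 * (χ : G → ℂ) (x * y * c⁻¹) =
      ((classFinset a).card : ℂ) * ((classFinset b).card : ℂ) *
        ((χ : G → ℂ) a * (χ : G → ℂ) b * conj ((χ : G → ℂ) c) / (χ : G → ℂ) 1) := by
    intro χ
    obtain ⟨n, ρ, hirr, hρ⟩ := χ.2
    haveI := hirr
    haveI : Nontrivial (Fin n → ℂ) := irr_nontrivial ρ
    have hd : (finrank ℂ (Fin n → ℂ) : ℂ) ≠ 0 := by
      have : finrank ℂ (Fin n → ℂ) ≠ 0 := Module.finrank_pos.ne'
      exact_mod_cast this
    simp_rw [← Finset.mul_sum]
    rw [← hρ, br_cm_class_mult_rep ρ a b c⁻¹, char_one, char_inv_eq_conj]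
    field_simp
  simp_rw [hχ]
  rw [← Finset.mul_sum]
  field_simp

end Cfsg.Agent.BR
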