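import Mathlib.GroupTheory.OrderOfElement
import Mathlib.Algebra.Order.BigOperators.Group.Finset
import Mathlib.Algebra.BigOperators.Ring.Finset
import Mathlib.Tactic

/-!
# Brauer–Reynolds track, S4707: the dual-side lemma (pure Mathlib)

`A` a finite abelian group of odd order (in the application: the dual of an abelian `p'`-subgroup),
`m : A → ℕ` a symmetric multiplicity function of total mass `c + 1`, `c ≥ 4`, satisfying the
coefficientwise form of the `T`-relation `F(h²) = F(h)² - c F(h)`: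

  `∑_{a² = ν} m a + c * m ν = ∑_a m a * m (ν a⁻¹)`.

Then `m` is a constant `m₁ > 0` on a subgroup and `0` elsewhere.
-/

set_option autoImplicit false

namespace Cfsg.Agent.BR

open Finset

/-- square roots in an abelian group of odd order -/
theorem br_cycd_sqrt {A : Type*} [CommGroup A] [Fintype A] (hodd : Odd (Fintype.card A)) :
    ∃ r : A → A, (∀ a, r a * r a = a) ∧ (∀ a, r (a * a) = a) := by
  have hcop : (Nat.card A).Coprime 2 := by
    rw [Nat.card_eq_fintype_card]
    exact (Nat.coprime_two_right.mpr hodd)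
  refine ⟨(powCoprime hcop).symm, fun a => ?_, fun a => ?_⟩
  · have h := (powCoprime hcop).apply_symm_apply a
    rw [powCoprime_apply] at h
    rw [← sq]; exact h
  · have h := (powCoprime hcop).symm_apply_apply a
    rw [powCoprime_apply, sq] at h
    exact h

/-- Cauchy–Schwarz for the convolution -/
theorem br_cycd_conv_le {A : Type*} [CommGroup A] [Fintype A] (m : A → ℕ) (ν : A) :
    ∑ a, m a * m (ν * a⁻¹) ≤ ∑ a, m a * m a := by
  have h2 : ∑ a, m (ν * a⁻¹) * m (ν * a⁻¹) = ∑ a, m a * m a := by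
    refine Fintype.sum_equiv ((Equiv.inv A).trans (Equiv.mulLeft ν)) _ _ (fun a => ?_)
    simp
  have h3 : ∀ a, 2 * (m a * m (ν * a⁻¹)) ≤ m a * m a + m (ν * a⁻¹) * m (ν * a⁻¹) := by
    intro a
    nlinarith [sq_nonneg ((m a : ℤ) - (m (ν * a⁻¹) : ℤ)), sq_abs ((m a : ℤ) - m (ν * a⁻¹))]
  have h4 : 2 * ∑ a, m a * m (ν * a⁻¹) ≤ 2 * ∑ a, m a * m a := by
    calc 2 * ∑ a, m a * m (ν * a⁻¹) = ∑ a, 2 * (m a * m (ν * a⁻¹)) := by rw [Finset.mul_sum]
      _ ≤ ∑ a, (m a * m a + m (ν * a⁻¹) * m (ν * a⁻¹)) := Finset.sum_le_sum (fun a _ => h3 a)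
      _ = 2 * ∑ a, m a * m a := by rw [Finset.sum_add_distrib, h2]; ring
  omega

/-- the filter `{a | a * a = ν}` is the singleton `{r ν}` -/
theorem br_cycd_filter_sq {A : Type*} [CommGroup A] [Fintype A] [DecidableEq A] (r : A → A)
    (hr1 : ∀ a, r a * r a = a) (hr2 : ∀ a, r (a * a) = a) (m : A → ℕ) (ν : A) :
    ∑ a ∈ Finset.univ.filter (fun a => a * a = ν), m a = m (r ν) := by
  have : Finset.univ.filter (fun a => a * a = ν) = {r ν} := by
    ext a
    simp only [Finset.mem_filter, Finset.mem_univ, true_and, Finset.mem_singleton]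
    constructor
    · intro h; rw [← h, hr2]
    · intro h; rw [h, hr1]
  rw [this, Finset.sum_singleton]

/-- **two values**: `m` takes only the values `0` and `m 1 > 0` -/
theorem br_cycd_two_val {A : Type*} [CommGroup A] [Fintype A] [DecidableEq A]
    (hodd : Odd (Fintype.card A)) (m : A → ℕ) (hsym : ∀ a, m a⁻¹ = m a)
    (c : ℕ) (hc : 1 ≤ c) (hsum : ∑ a, m a = c + 1)
    (hT : ∀ ν, ∑ a ∈ Finset.univ.filter (fun a => a * a = ν), m a + c * m ν
      = ∑ a, m a * m (ν * a⁻¹)) :
    0 < m 1 ∧ ∀ a, m a = 0 ∨ m a = m 1 := by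
  obtain ⟨r, hr1, hr2⟩ := br_cycd_sqrt hodd
  have hT' : ∀ ν, m (r ν) + c * m ν = ∑ a, m a * m (ν * a⁻¹) := by
    intro ν; rw [← hT ν, br_cycd_filter_sq r hr1 hr2]
  have hr_one : r 1 = 1 := by have := hr2 1; rwa [one_mul] at this
  -- `∑ m² = (c+1) m 1`
  have hsq : ∑ a, m a * m a = (c + 1) * m 1 := by
    have h := hT' 1
    rw [hr_one] at h
    have h2 : ∑ a, m a * m (1 * a⁻¹) = ∑ a, m a * m a := by
      refine Finset.sum_congr rfl (fun a _ => ?_)
      rw [one_mul, hsym]
    rw [h2] at h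
    rw [← h]; ring
  -- `c * m ν ≤ (c+1) m 1`
  have hle : ∀ ν, c * m ν ≤ (c + 1) * m 1 := by
    intro ν
    have h1 := hT' ν
    have h2 := br_cycd_conv_le m ν
    rw [hsq] at h2
    omega
  -- `m 1 > 0`
  have hpos : 0 < m 1 := by
    rcases Nat.eq_zero_or_pos (m 1) with h0 | h0
    · exfalso
      have hz : ∀ a, m a = 0 := by
        intro a
        have := hle a
        rw [h0, mul_zero] at this
        have h3 : c * m a = 0 := Nat.le_zero.mp this
        rcases Nat.mul_eq_zero.mp h3 with h4 | h4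
        · omega
        · exact h4
      have : ∑ a, m a = 0 := Finset.sum_eq_zero (fun a _ => hz a)
      omega
    · exact h0
  -- `m ν ≤ m 1`
  have hmax : ∀ ν, m ν ≤ m 1 := by
    intro ν
    by_contra hcon
    replace hcon := not_le.mp hcon
    have hν1 : ν ≠ 1 := by rintro rfl; exact lt_irrefl _ hcon
    -- `m 1 + m ν ≤ c + 1`
    have h2 : m 1 + m ν ≤ c + 1 := by
      rw [← hsum]
      have : ({1, ν} : Finset A) ⊆ Finset.univ := Finset.subset_univ _
      calc m 1 + m ν = ∑ a ∈ ({1, ν} : Finset A), m a := by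
            rw [Finset.sum_pair (Ne.symm hν1)]
        _ ≤ ∑ a, m a := Finset.sum_le_sum_of_subset this
    have h3 := hle ν
    -- `c * m ν ≤ c * m 1 + m 1`, `m ν ≥ m 1 + 1` so `c ≤ m 1`
    have h4 : c ≤ m 1 := by nlinarith
    nlinarith
  refine ⟨hpos, fun a => ?_⟩
  -- `∑ m a * m a = ∑ m a * m 1` termwise `≤`
  have hsum2 : ∑ a, m a * m a = ∑ a, m a * m 1 := by
    rw [hsq, ← Finset.sum_mul, hsum]
  have hterm : ∀ a ∈ (Finset.univ : Finset A), m a * m a ≤ m a * m 1 :=
    fun a _ => Nat.mul_le_mul_left _ (hmax a)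
  have := (Finset.sum_eq_sum_iff_of_le hterm).mp hsum2 a (Finset.mem_univ a)
  rcases Nat.eq_zero_or_pos (m a) with h0 | h0
  · exact Or.inl h0
  · exact Or.inr (Nat.eq_of_mul_eq_mul_left h0 this)

/-- the convolution of an indicator-like function counts pairs -/
theorem br_cycd_conv_count {A : Type*} [CommGroup A] [Fintype A] [DecidableEq A]
    (m : A → ℕ) (S : Finset A) (m₁ : ℕ) (hm : ∀ a, m a = if a ∈ S then m₁ else 0) (ν : A) :
    ∑ a, m a * m (ν * a⁻¹) = m₁ * m₁ * (S.filter (fun a => ν * a⁻¹ ∈ S)).card := by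
  have h1 : ∀ a, m a * m (ν * a⁻¹) = if a ∈ S.filter (fun a => ν * a⁻¹ ∈ S) then m₁ * m₁ else 0 := by
    intro a
    rw [hm a, hm (ν * a⁻¹)]
    by_cases h1 : a ∈ S <;> by_cases h2 : ν * a⁻¹ ∈ S <;> simp [h1, h2, Finset.mem_filter]
  rw [Finset.sum_congr rfl (fun a _ => h1 a), Finset.sum_ite_mem, Finset.univ_inter,
    Finset.sum_const, smul_eq_mul, mul_comm]

/-- **combinatorial core**: a symmetric set containing `1` with the counting property is closed
under multiplication -/
theorem br_cycd_closed {A : Type*} [CommGroup A] [Fintype A] [DecidableEq A]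
    (S : Finset A) (h1 : (1 : A) ∈ S) (hinv : ∀ a ∈ S, a⁻¹ ∈ S)
    (c m₁ : ℕ) (hc : 4 ≤ c) (hcard : S.card * m₁ = c + 1) (t : A → ℕ)
    (ht : ∀ ν, t ν ≤ m₁)
    (hN : ∀ ν, t ν + c * (if ν ∈ S then m₁ else 0)
      = m₁ * m₁ * (S.filter (fun a => ν * a⁻¹ ∈ S)).card) :
    ∀ a ∈ S, ∀ b ∈ S, a * b ∈ S := by
  have hm₁ : 0 < m₁ := by
    rcases Nat.eq_zero_or_pos m₁ with h | h
    · rw [h, mul_zero] at hcard; omega
    · exact h
  rcases Nat.lt_or_ge m₁ 2 with hlt | hge
  · -- `m₁ = 1`
    have hm1 : m₁ = 1 := by omega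
    subst hm1
    rw [mul_one] at hcard
    -- `ν ∉ S → N ν ≤ 1`
    have hout : ∀ ν, ν ∉ S → (S.filter (fun a => ν * a⁻¹ ∈ S)).card ≤ 1 := by
      intro ν hν
      have h := hN ν
      rw [if_neg hν, mul_zero, add_zero, one_mul, one_mul] at h
      rw [← h]; exact ht ν
    -- (ii)
    have hii : ∀ a ∈ S, ∀ b ∈ S, a ≠ b → a * b ∈ S := by
      intro a ha b hb hab
      by_contra hcon
      have h := hout _ hcon
      have hsub : ({a, b} : Finset A) ⊆ S.filter (fun x => a * b * x⁻¹ ∈ S) := by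
        intro x hx
        rw [Finset.mem_insert, Finset.mem_singleton] at hx
        rw [Finset.mem_filter]
        rcases hx with rfl | rfl
        · refine ⟨ha, ?_⟩
          have : x * b * x⁻¹ = b := by rw [mul_comm x b, mul_inv_cancel_right]
          rw [this]; exact hb
        · refine ⟨hb, ?_⟩
          rw [mul_inv_cancel_right]; exact ha
      have h2 := Finset.card_le_card hsub
      rw [Finset.card_pair hab] at h2
      omega
    -- squares
    have hsq : ∀ a ∈ S, a * a ∈ S := by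
      intro a ha
      by_contra hcon
      have h := hout _ hcon
      have ha1 : a ≠ 1 := by
        rintro rfl; rw [one_mul] at hcon; exact hcon h1
      -- pick `b ∈ S \ {1, a, a⁻¹}`
      have hex : ∃ b ∈ S, b ≠ 1 ∧ b ≠ a ∧ b ≠ a⁻¹ := by
        by_contra hne
        push Not at hne
        have hsub : S ⊆ ({1, a, a⁻¹} : Finset A) := by
          intro b hb
          rw [Finset.mem_insert, Finset.mem_insert, Finset.mem_singleton]
          by_cases hb1 : b = 1
          · exact Or.inl hb1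
          · by_cases hba : b = a
            · exact Or.inr (Or.inl hba)
            · exact Or.inr (Or.inr (hne b hb hb1 hba))
        have h3 := Finset.card_le_card hsub
        have h4 : ({1, a, a⁻¹} : Finset A).card ≤ 3 := Finset.card_le_three
        omega
      obtain ⟨b, hb, hb1, hba, hbai⟩ := hex
      have hab : a * b ∈ S := hii a ha b hb (Ne.symm hba)
      have haab : a * (a * b) ∈ S := by
        refine hii a ha _ hab ?_
        intro h5
        apply hb1
        have : a * 1 = a * b := by rw [mul_one]; exact h5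
        exact (mul_left_cancel this).symm
      have hsub : ({a, b⁻¹} : Finset A) ⊆ S.filter (fun x => a * a * x⁻¹ ∈ S) := by
        intro x hx
        rw [Finset.mem_insert, Finset.mem_singleton] at hx
        rw [Finset.mem_filter]
        rcases hx with rfl | rfl
        · refine ⟨ha, ?_⟩
          rw [mul_inv_cancel_right]; exact ha
        · refine ⟨hinv b hb, ?_⟩
          rw [inv_inv, mul_assoc]; exact haab
      have hne : a ≠ b⁻¹ := by
        intro h5; apply hbai; rw [h5, inv_inv]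
      have h2 := Finset.card_le_card hsub
      rw [Finset.card_pair hne] at h2
      omega
    intro a ha b hb
    by_cases hab : a = b
    · subst hab; exact hsq a ha
    · exact hii a ha b hb hab
  · -- `m₁ ≥ 2`
    have hin : ∀ ν ∈ S, S.filter (fun a => ν * a⁻¹ ∈ S) = S := by
      intro ν hν
      apply Finset.eq_of_subset_of_card_le (Finset.filter_subset _ _)
      by_contra hcon
      replace hcon := not_le.mp hcon
      have h := hN ν
      rw [if_pos hν] at h
      have h2 : m₁ * m₁ * ((S.filter (fun a => ν * a⁻¹ ∈ S)).card + 1) ≤ m₁ * m₁ * S.card :=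
        Nat.mul_le_mul_left _ hcon
      have h3 : m₁ * m₁ * S.card = m₁ * (c + 1) := by rw [← hcard]; ring
      have h4 : 2 * m₁ ≤ m₁ * m₁ := Nat.mul_le_mul_right _ hge
      nlinarith
    intro a ha b hb
    have hb' : b⁻¹ ∈ S := hinv b hb
    have := hin a ha
    have h2 : b⁻¹ ∈ S.filter (fun x => a * x⁻¹ ∈ S) := by rw [this]; exact hb'
    rw [Finset.mem_filter, inv_inv] at h2
    exact h2.2

/-- **the dual-side lemma** (S4707): a symmetric multiplicity function of mass `c + 1 ≥ 5` on a finite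
abelian group of odd order satisfying the coefficientwise `T`-relation is a positive constant on a
subgroup and `0` elsewhere. -/
theorem br_cycd_main {A : Type*} [CommGroup A] [Fintype A] [DecidableEq A]
    (hodd : Odd (Fintype.card A)) (m : A → ℕ) (hsym : ∀ a, m a⁻¹ = m a)
    (c : ℕ) (hc : 4 ≤ c) (hsum : ∑ a, m a = c + 1)
    (hT : ∀ ν, ∑ a ∈ Finset.univ.filter (fun a => a * a = ν), m a + c * m ν
      = ∑ a, m a * m (ν * a⁻¹)) :
    ∃ (S : Subgroup A) (m₁ : ℕ), 0 < m₁ ∧ (∀ a ∈ S, m a = m₁) ∧ (∀ a, a ∉ S → m a = 0) := by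
  obtain ⟨hpos, htwo⟩ := br_cycd_two_val hodd m hsym c (by omega) hsum hT
  obtain ⟨r, hr1, hr2⟩ := br_cycd_sqrt hodd
  set S : Finset A := Finset.univ.filter (fun a => m a ≠ 0) with hS
  have hmS : ∀ a, a ∈ S ↔ m a ≠ 0 := by
    intro a; rw [hS, Finset.mem_filter]; simp
  have hm : ∀ a, m a = if a ∈ S then m 1 else 0 := by
    intro a
    by_cases h : a ∈ S
    · rw [if_pos h]
      rcases htwo a with h0 | h0
      · exact absurd h0 ((hmS a).mp h)
      · exact h0
    · rw [if_neg h]
      by_contra h0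
      exact h ((hmS a).mpr h0)
  have h1S : (1 : A) ∈ S := (hmS 1).mpr (by omega)
  have hinvS : ∀ a ∈ S, a⁻¹ ∈ S := by
    intro a ha; rw [hmS, hsym]; exact (hmS a).mp ha
  have hcard : S.card * m 1 = c + 1 := by
    rw [← hsum, Finset.sum_congr rfl (fun a _ => hm a), Finset.sum_ite_mem, Finset.univ_inter,
      Finset.sum_const, smul_eq_mul]
  have hN : ∀ ν, m (r ν) + c * (if ν ∈ S then m 1 else 0)
      = m 1 * m 1 * (S.filter (fun a => ν * a⁻¹ ∈ S)).card := by
    intro ν
    rw [← br_cycd_conv_count m S (m 1) hm ν, ← hT ν, br_cycd_filter_sq r hr1 hr2, ← hm ν]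
  have htle : ∀ ν, m (r ν) ≤ m 1 := by
    intro ν
    rcases htwo (r ν) with h | h
    · rw [h]; exact Nat.zero_le _
    · rw [h]
  have hclosed := br_cycd_closed S h1S hinvS c (m 1) hc hcard (fun ν => m (r ν)) htle hN
  refine ⟨{ carrier := {a | a ∈ S}
            mul_mem' := fun {a b} ha hb => hclosed a ha b hb
            one_mem' := h1S
            inv_mem' := fun {a} ha => hinvS a ha }, m 1, hpos, fun a ha => ?_, fun a ha => ?_⟩
  · have ha' : a ∈ S := ha
    rw [hm a, if_pos ha']
  · have ha' : a ∉ S := ha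
    rw [hm a, if_neg ha']

/-- **the dual-side lemma, square-root-free form of the hypothesis** (the shape the primal side
produces): `m μ + c * m (μ²) = ∑_a m a * m (μ² a⁻¹)` for all `μ`. No `Decidable` instance in the
statement. -/
theorem br_cycd_main_sq {A : Type*} [CommGroup A] [Fintype A]
    (hodd : Odd (Fintype.card A)) (m : A → ℕ) (hsym : ∀ a, m a⁻¹ = m a)
    (c : ℕ) (hc : 4 ≤ c) (hsum : ∑ a, m a = c + 1)
    (hT : ∀ μ : A, m μ + c * m (μ * μ) = ∑ a, m a * m (μ * μ * a⁻¹)) :
    ∃ (S : Subgroup A) (m₁ : ℕ), 0 < m₁ ∧ (∀ a ∈ S, m a = m₁) ∧ (∀ a, a ∉ S → m a = 0) := by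
  classical
  obtain ⟨r, hr1, hr2⟩ := br_cycd_sqrt hodd
  refine br_cycd_main hodd m hsym c hc hsum (fun ν => ?_)
  rw [br_cycd_filter_sq r hr1 hr2]
  have h := hT (r ν)
  rw [hr1] at h
  exact h

end Cfsg.Agent.BR
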