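/-
BR/CycT.lean (helper8): the PRIMAL half of helper5's "cyclic Fourier" step (S4707 chain).
A real faithful character `F` of degree `d ≥ 5` of a finite abelian group `H` of odd order
with `F (h * h) = F h ^ 2 - (d - 1) * F h` vanishes off `1`.
Expansion `F = ∑ m_l l` over `H →* ℂˣ`, symmetry, degree sum and the convolution identity are
proved here; the combinatorial core is helper2's `br_cycd_main_sq` (BR/CycD).
-/
import Mathlib
import Cfsg.Prelude.Def_Characters
import Cfsg.Agent.Helper6.CharBasic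
import Cfsg.Agent.Helper6.Linear
import Cfsg.Agent.Helper6.Expansion
import Cfsg.Agent.Helper6.Induced
import Cfsg.Agent.BR.CycD

set_option autoImplicit false
set_option linter.style.haveILetI false
set_option linter.unusedSectionVars false

namespace Cfsg.Agent.BR

open Cfsg Cfsg.Agent.Helper6
open scoped ComplexConjugate
open Classical

universe u

section cyct

variable {H : Type u} [CommGroup H] [Fintype H]

/-- a hom `H →* ℂˣ` as a complex function. -/
noncomputable def br_cyct_fn (l : H →* ℂˣ) : H → ℂ := fun h => ((l h : ℂˣ) : ℂ)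

theorem br_cyct_fn_irr (l : H →* ℂˣ) : IsIrrCharacter H (br_cyct_fn l) :=
  isIrrCharacter_of_hom l

theorem br_cyct_fn_inj {l l' : H →* ℂˣ} (h : br_cyct_fn l = br_cyct_fn l') : l = l' := by
  ext g
  exact congrFun h g

theorem br_cyct_finite : Finite (H →* ℂˣ) := by
  haveI : Finite (IrrCharacter H) := irr_finite
  exact Finite.of_equiv _ (homEquivLinearIrr (G := H)).symm

/-- every irreducible character of an abelian group is one of the `br_cyct_fn l`. -/
theorem br_cyct_irr_eq (χ : IrrCharacter H) : ∃ l : H →* ℂˣ, (χ : H → ℂ) = br_cyct_fn l := by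
  have h1 : (χ : H → ℂ) 1 = 1 :=
    (comm_iff_forall_irr_degree_one (G := H)).mp (fun a b => mul_comm a b) χ
  exact exists_hom_of_irr_degree_one χ.2 h1

variable [Fintype (H →* ℂˣ)]

/-- coefficient extraction. -/
theorem br_cyct_coeff (f : (H →* ℂˣ) → ℂ) (μ : H →* ℂˣ) :
    classInner (fun h => ∑ l : H →* ℂˣ, f l * br_cyct_fn l h) (br_cyct_fn μ) = f μ := by
  classical
  have h0 : (fun h => ∑ l : H →* ℂˣ, f l * br_cyct_fn l h) =
      ∑ l : H →* ℂˣ, f l • br_cyct_fn l := by
    funext h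
    simp [Finset.sum_apply]
  rw [h0, classInner_sum_left, Finset.sum_eq_single μ]
  · rw [classInner_smul_left, classInner_irr_self (br_cyct_fn_irr μ), mul_one]
  · intro l _ hne
    rw [classInner_smul_left, classInner_irr_ne (br_cyct_fn_irr l) (br_cyct_fn_irr μ)
      (fun h => hne (br_cyct_fn_inj h)), mul_zero]
  · intro h
    exact absurd (Finset.mem_univ _) h

/-- uniqueness of coefficients. -/
theorem br_cyct_coeff_ext (f g : (H →* ℂˣ) → ℂ)
    (h : ∀ x : H, ∑ l : H →* ℂˣ, f l * br_cyct_fn l x = ∑ l : H →* ℂˣ, g l * br_cyct_fn l x) :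
    f = g := by
  funext μ
  rw [← br_cyct_coeff f μ, ← br_cyct_coeff g μ]
  congr 1
  funext x
  exact h x

/-- expansion of a character of an abelian group with natural coefficients. -/
theorem br_cyct_expand (F : H → ℂ) (hF : IsCharacter H F) :
    ∃ m : (H →* ℂˣ) → ℕ, ∀ x : H, F x = ∑ l : H →* ℂˣ, (m l : ℂ) * br_cyct_fn l x := by
  classical
  haveI : Finite (IrrCharacter H) := irr_finite
  haveI : Fintype (IrrCharacter H) := Fintype.ofFinite _
  have hm : ∀ l : H →* ℂˣ, ∃ k : ℕ, classInner F (br_cyct_fn l) = k := fun l =>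
    classInner_char_char_nat hF (IsIrrCharacter.isCharacter (br_cyct_fn_irr l))
  choose m hm using hm
  refine ⟨m, ?_⟩
  -- the difference is a class function orthogonal to all irreducibles
  have hexp := classFunction_expansion F (IsCharacter.isClassFunction hF)
  -- reindex
  let e : (H →* ℂˣ) → IrrCharacter H := fun l => ⟨br_cyct_fn l, br_cyct_fn_irr l⟩
  have he : Function.Bijective e := by
    constructor
    · intro l l' h
      exact br_cyct_fn_inj (congrArg Subtype.val h)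
    · intro χ
      obtain ⟨l, hl⟩ := br_cyct_irr_eq χ
      exact ⟨l, Subtype.ext hl.symm⟩
  intro x
  have hx := congrFun hexp x
  rw [hx]
  simp only [Finset.sum_apply, Pi.smul_apply, smul_eq_mul]
  rw [← Fintype.sum_bijective e he (fun l => (m l : ℂ) * br_cyct_fn l x)
    (fun χ => classInner F (χ : H → ℂ) * (χ : H → ℂ) x)]
  intro l
  rw [← hm l]


theorem br_cyct_fn_one (l : H →* ℂˣ) : br_cyct_fn l 1 = 1 := by
  simp [br_cyct_fn]

theorem br_cyct_fn_mul (l l' : H →* ℂˣ) (x : H) :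
    br_cyct_fn (l * l') x = br_cyct_fn l x * br_cyct_fn l' x := by
  simp [br_cyct_fn]

theorem br_cyct_fn_mul_arg (l : H →* ℂˣ) (x y : H) :
    br_cyct_fn l (x * y) = br_cyct_fn l x * br_cyct_fn l y := by
  simp [br_cyct_fn]

theorem br_cyct_fn_conj (l : H →* ℂˣ) (x : H) :
    conj (br_cyct_fn l x) = br_cyct_fn l⁻¹ x := by
  have hpow : (br_cyct_fn l x) ^ (Fintype.card H) = 1 := by
    unfold br_cyct_fn
    rw [← Units.val_pow_eq_pow_val, ← map_pow, pow_card_eq_one, map_one, Units.val_one]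
  have hnorm : ‖br_cyct_fn l x‖ = 1 :=
    Complex.norm_eq_one_of_pow_eq_one hpow Fintype.card_ne_zero
  rw [← Complex.inv_eq_conj hnorm]
  simp [br_cyct_fn]

/-- symmetry of the multiplicities of a real character. -/
theorem br_cyct_sym (F : H → ℂ) (hF : IsCharacter H F) (hreal : ∀ h, F h⁻¹ = F h)
    (m : (H →* ℂˣ) → ℕ) (hm : ∀ x : H, F x = ∑ l : H →* ℂˣ, (m l : ℂ) * br_cyct_fn l x) :
    ∀ l, m l⁻¹ = m l := by
  have hconj : ∀ x, conj (F x) = F x := by
    intro x
    rw [← IsCharacter.inv_eq_conj hF x, hreal]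
  have key : (fun l : H →* ℂˣ => ((m l⁻¹ : ℕ) : ℂ)) = fun l => ((m l : ℕ) : ℂ) := by
    apply br_cyct_coeff_ext
    intro x
    rw [← hm x, ← hconj x, hm x, map_sum]
    rw [← Equiv.sum_comp (Equiv.inv (H →* ℂˣ))]
    refine Finset.sum_congr rfl (fun l _ => ?_)
    rw [map_mul, Complex.conj_natCast, br_cyct_fn_conj]
    simp
  intro l
  have := congrFun key l
  exact_mod_cast this

/-- the multiplicities sum to the degree. -/
theorem br_cyct_sum (F : H → ℂ) (d : ℕ) (hd : F 1 = d)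
    (m : (H →* ℂˣ) → ℕ) (hm : ∀ x : H, F x = ∑ l : H →* ℂˣ, (m l : ℂ) * br_cyct_fn l x) :
    ∑ l, m l = d := by
  have h1 := hm 1
  rw [hd] at h1
  simp only [br_cyct_fn_one, mul_one] at h1
  exact_mod_cast h1.symm


/-- squaring is injective on the dual of a group of odd order. -/
theorem br_cyct_sq_inj (hodd : Odd (Fintype.card H)) {l μ : H →* ℂˣ} (h : l * l = μ * μ) :
    l = μ := by
  obtain ⟨k, hk⟩ := hodd
  ext x
  have h2 : (l x) * (l x) = (μ x) * (μ x) := by
    have := congrArg (fun f : H →* ℂˣ => f x) h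
    simpa using this
  have hl : (l x) ^ (Fintype.card H) = 1 := by
    rw [← map_pow, pow_card_eq_one, map_one]
  have hμ : (μ x) ^ (Fintype.card H) = 1 := by
    rw [← map_pow, pow_card_eq_one, map_one]
  have hl' : l x = ((l x) * (l x))⁻¹ ^ k := by
    rw [hk, pow_succ, pow_mul, sq] at hl
    rw [inv_pow, eq_inv_iff_mul_eq_one, mul_comm]
    exact hl
  have hμ' : μ x = ((μ x) * (μ x))⁻¹ ^ k := by
    rw [hk, pow_succ, pow_mul, sq] at hμ
    rw [inv_pow, eq_inv_iff_mul_eq_one, mul_comm]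
    exact hμ
  rw [hl', hμ', h2]

/-- first coefficient function: fibres of squaring. -/
noncomputable def br_cyct_f1 (m : (H →* ℂˣ) → ℕ) : (H →* ℂˣ) → ℂ :=
  fun ν => ∑ l, if l * l = ν then (m l : ℂ) else 0

/-- second coefficient function: convolution square. -/
noncomputable def br_cyct_f2 (m : (H →* ℂˣ) → ℕ) : (H →* ℂˣ) → ℂ :=
  fun ν => ∑ a, (m a : ℂ) * (m (ν * a⁻¹) : ℂ)

theorem br_cyct_e1 (F : H → ℂ)
    (m : (H →* ℂˣ) → ℕ) (hm : ∀ x : H, F x = ∑ l : H →* ℂˣ, (m l : ℂ) * br_cyct_fn l x) (x : H) :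
    ∑ ν, br_cyct_f1 m ν * br_cyct_fn ν x = F (x * x) := by
  rw [hm (x * x)]
  unfold br_cyct_f1
  simp only [Finset.sum_mul]
  rw [Finset.sum_comm]
  refine Finset.sum_congr rfl (fun l _ => ?_)
  rw [Finset.sum_eq_single (l * l)]
  · rw [if_pos rfl, br_cyct_fn_mul, br_cyct_fn_mul_arg]
  · intro ν _ hne
    rw [if_neg (fun h => hne h.symm), zero_mul]
  · intro h
    exact absurd (Finset.mem_univ _) h

theorem br_cyct_e2 (F : H → ℂ)
    (m : (H →* ℂˣ) → ℕ) (hm : ∀ x : H, F x = ∑ l : H →* ℂˣ, (m l : ℂ) * br_cyct_fn l x) (x : H) :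
    ∑ ν, br_cyct_f2 m ν * br_cyct_fn ν x = F x ^ 2 := by
  rw [sq, hm x, Finset.sum_mul_sum]
  unfold br_cyct_f2
  rw [Finset.sum_congr rfl (fun ν _ => Finset.sum_mul _ _ _), Finset.sum_comm]
  refine Finset.sum_congr rfl (fun a _ => ?_)
  rw [← Equiv.sum_comp (Equiv.mulRight a)]
  refine Finset.sum_congr rfl (fun b _ => ?_)
  simp only [Equiv.coe_mulRight, mul_inv_cancel_right, br_cyct_fn_mul]
  ring

theorem br_cyct_f1_sq (hodd : Odd (Fintype.card H)) (m : (H →* ℂˣ) → ℕ) (μ : H →* ℂˣ) :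
    br_cyct_f1 m (μ * μ) = (m μ : ℂ) := by
  unfold br_cyct_f1
  rw [Finset.sum_eq_single μ]
  · rw [if_pos rfl]
  · intro l _ hne
    rw [if_neg (fun h => hne (br_cyct_sq_inj hodd h))]
  · intro h
    exact absurd (Finset.mem_univ _) h

/-- the convolution identity coming from `(T)`. -/
theorem br_cyct_conv (hodd : Odd (Fintype.card H)) (F : H → ℂ) (c : ℕ)
    (hT : ∀ h, F (h * h) = F h ^ 2 - (c : ℂ) * F h)
    (m : (H →* ℂˣ) → ℕ) (hm : ∀ x : H, F x = ∑ l : H →* ℂˣ, (m l : ℂ) * br_cyct_fn l x) :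
    ∀ μ : H →* ℂˣ, m μ + c * m (μ * μ) = ∑ a, m a * m (μ * μ * a⁻¹) := by
  have key : (fun ν => br_cyct_f1 m ν + (c : ℂ) * (m ν : ℂ)) = br_cyct_f2 m := by
    apply br_cyct_coeff_ext
    intro x
    simp only [add_mul, Finset.sum_add_distrib]
    rw [br_cyct_e1 F m hm x, br_cyct_e2 F m hm x, hT x]
    have e3 : ∑ ν : H →* ℂˣ, (c : ℂ) * (m ν : ℂ) * br_cyct_fn ν x = (c : ℂ) * F x := by
      rw [hm x, Finset.mul_sum]
      refine Finset.sum_congr rfl (fun ν _ => ?_)
      ring
    rw [e3]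
    ring
  intro μ
  have hμ := congrFun key (μ * μ)
  beta_reduce at hμ
  rw [br_cyct_f1_sq hodd m μ] at hμ
  unfold br_cyct_f2 at hμ
  exact_mod_cast hμ


/-- a character supported (with constant multiplicity) on a subgroup of the dual vanishes
off its kernel. -/
theorem br_cyct_final (F : H → ℂ) (d : ℕ) (hd : F 1 = d) (hfaith : ∀ h, F h = d → h = 1)
    (m : (H →* ℂˣ) → ℕ) (hm : ∀ x : H, F x = ∑ l : H →* ℂˣ, (m l : ℂ) * br_cyct_fn l x)
    (S : Subgroup (H →* ℂˣ)) (m₁ : ℕ) (hS : ∀ a, m a = if a ∈ S then m₁ else 0) :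
    ∀ h, h ≠ 1 → F h = 0 := by
  intro h hh
  have hF : ∀ x, F x = (m₁ : ℂ) * ∑ l : H →* ℂˣ, if l ∈ S then br_cyct_fn l x else 0 := by
    intro x
    rw [hm x, Finset.mul_sum]
    refine Finset.sum_congr rfl (fun l _ => ?_)
    rw [hS l]
    by_cases hl : l ∈ S
    · simp [hl]
    · simp [hl]
  by_cases hcase : ∃ l0 ∈ S, br_cyct_fn l0 h ≠ 1
  · obtain ⟨l0, hl0, hne⟩ := hcase
    have hT : (∑ l : H →* ℂˣ, if l ∈ S then br_cyct_fn l h else 0) =
        br_cyct_fn l0 h * ∑ l : H →* ℂˣ, if l ∈ S then br_cyct_fn l h else 0 := by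
      conv_lhs => rw [← Equiv.sum_comp (Equiv.mulLeft l0)]
      rw [Finset.mul_sum]
      refine Finset.sum_congr rfl (fun l _ => ?_)
      by_cases hl : l ∈ S
      · have h2 : (Equiv.mulLeft l0) l ∈ S := S.mul_mem hl0 hl
        rw [if_pos h2, if_pos hl]
        exact br_cyct_fn_mul l0 l h
      · have h2 : (Equiv.mulLeft l0) l ∉ S :=
          fun h' => hl ((Subgroup.mul_mem_cancel_left S hl0).mp h')
        rw [if_neg h2, if_neg hl, mul_zero]
    have hT0 : (∑ l : H →* ℂˣ, if l ∈ S then br_cyct_fn l h else 0) = 0 := by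
      have : (1 - br_cyct_fn l0 h) *
          (∑ l : H →* ℂˣ, if l ∈ S then br_cyct_fn l h else 0) = 0 := by
        rw [sub_mul, one_mul, ← hT, sub_self]
      rcases mul_eq_zero.mp this with h1 | h1
      · exact absurd (sub_eq_zero.mp h1).symm hne
      · exact h1
    rw [hF h, hT0, mul_zero]
  · push Not at hcase
    exfalso
    apply hh
    apply hfaith
    rw [← hd, hF h, hF 1]
    congr 1
    refine Finset.sum_congr rfl (fun l _ => ?_)
    by_cases hl : l ∈ S
    · rw [if_pos hl, if_pos hl, hcase l hl, br_cyct_fn_one]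
    · rw [if_neg hl, if_neg hl]


end cyct

section main

variable {H : Type u} [CommGroup H] [Fintype H]

theorem br_cyct_card_dual [Fintype (H →* ℂˣ)] : Fintype.card (H →* ℂˣ) = Fintype.card H := by
  have h := card_hom_units (G := H)
  have hb : commutator H = ⊥ := by
    rw [commutator_eq_bot_iff_center_eq_top]
    exact CommGroup.center_eq_top
  rw [hb, Subgroup.index_bot, Nat.card_eq_fintype_card, Nat.card_eq_fintype_card] at h
  exact h

/-- **cyclic Fourier (primal form)**: a real faithful character `F` of degree `d ≥ 5` of an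
abelian group of odd order satisfying the `(T)`-relation vanishes off the identity. -/
theorem br_cyct_main (hodd : Odd (Fintype.card H)) (F : H → ℂ) (hF : IsCharacter H F)
    (hreal : ∀ h, F h⁻¹ = F h) (d : ℕ) (hd : F 1 = d) (hd5 : 5 ≤ d)
    (hT : ∀ h, F (h * h) = F h ^ 2 - ((d : ℂ) - 1) * F h)
    (hfaith : ∀ h, F h = d → h = 1) : ∀ h, h ≠ 1 → F h = 0 := by
  haveI : Finite (H →* ℂˣ) := br_cyct_finite
  letI : Fintype (H →* ℂˣ) := Fintype.ofFinite _
  obtain ⟨c, rfl⟩ : ∃ c, d = c + 1 := ⟨d - 1, by omega⟩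
  obtain ⟨m, hm⟩ := br_cyct_expand F hF
  have hsym := br_cyct_sym F hF hreal m hm
  have hsum := br_cyct_sum F (c + 1) hd m hm
  have hT' : ∀ h, F (h * h) = F h ^ 2 - (c : ℂ) * F h := by
    intro h
    rw [hT h]
    push_cast
    ring
  have hconv := br_cyct_conv hodd F c hT' m hm
  have hoddA : Odd (Fintype.card (H →* ℂˣ)) := by
    rw [br_cyct_card_dual]
    exact hodd
  obtain ⟨S, m₁, -, hS1, hS0⟩ := br_cycd_main_sq hoddA m hsym c (by omega) hsum hconv
  have hS : ∀ a, m a = if a ∈ S then m₁ else 0 := by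
    intro a
    by_cases ha : a ∈ S
    · rw [if_pos ha, hS1 a ha]
    · rw [if_neg ha, hS0 a ha]
  exact br_cyct_final F (c + 1) hd hfaith m hm S m₁ hS

end main

end Cfsg.Agent.BR
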