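import Mathlib

/-!
# BR / DblComb : the combinatorics of L5 (5a, 5b, `f = 4`) over an abstract cyclic group

(`notes/BrauerReynolds_blueprint_helper1.md`, L5/L6.)  `A` is the (cyclic, order `f`) group of
linear characters of `N = N_G(P)` trivial on `P`, written multiplicatively; the `n` non-trivial
`(N,N)`-double cosets act on `A` by power maps `k ↦ k ^ c i` with `c i` prime to `f`, and
`⟨Θ_k, Θ_l⟩ = [k = l] + #{i : l = k ^ c i}` (`br_dc_gram`).  `S` is the set of `k` with
`Θ_k = Λ_S` (the sum of the `t` exceptional characters), `w = #S`, `t w = n + 1`.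

* `br_dc_even`  (5a): `f` even ⟹ `S = {k₀}` with `k₀` of order two, `w = 1`, `t = n + 1`.
* `br_dc_odd`   (5b): `S ≠ ∅`, `2 ≤ t` ⟹ `w + 1 = m` for a prime `m ∣ f`.
* `br_dc_odd_false` : the arithmetic contradiction closing 5b.
* `br_dc_count_le` : an irreducible `Θ_k` equal to `n + 1` of the `Θ_l` forces
  `n + 1 ≤ φ(orderOf k)`;  `br_dc_four` : `f = 4` ⟹ `t ≤ 2`.
-/

set_option autoImplicit false

namespace Cfsg.Agent.BR

open scoped Classical in
/-- the Gram function `⟨Θ_k, Θ_l⟩ = [k = l] + #{i : l = k ^ c i}`. -/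
noncomputable def br_dc_gram {A : Type*} [Monoid A] {ι : Type*} [Fintype ι] (c : ι → ℕ)
    (k l : A) : ℕ :=
  (if k = l then 1 else 0) + (Finset.univ.filter (fun i => l = k ^ c i)).card

section

variable {A : Type*} [CommGroup A] {ι : Type*} [Fintype ι]

theorem br_dc_gram_pos_iff (c : ι → ℕ) (k l : A) :
    br_dc_gram c k l ≠ 0 ↔ k = l ∨ ∃ i, l = k ^ c i := by
  classical
  unfold br_dc_gram
  constructor
  · intro h
    by_contra hcon
    push Not at hcon
    apply h
    rw [if_neg hcon.1, zero_add, Finset.card_eq_zero, Finset.filter_eq_empty_iff]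
    intro i _
    exact hcon.2 i
  · rintro (h | ⟨i, hi⟩)
    · rw [if_pos h]; omega
    · have : 0 < (Finset.univ.filter (fun i => l = k ^ c i)).card :=
        Finset.card_pos.2 ⟨i, Finset.mem_filter.2 ⟨Finset.mem_univ _, hi⟩⟩
      omega

/-- if every `c i` fixes `k` then `⟨Θ_k, Θ_k⟩ = 1 + n`. -/
theorem br_dc_gram_self_of_fixed (c : ι → ℕ) (k : A) (h : ∀ i, k ^ c i = k) :
    br_dc_gram c k k = 1 + Fintype.card ι := by
  classical
  unfold br_dc_gram
  rw [if_pos rfl, Finset.filter_true_of_mem (fun i _ => (h i).symm), Finset.card_univ]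

/-- lower bound: the `c i` fixing `k₀` also fix every power of `k₀`. -/
theorem br_dc_gram_self_pow_ge (c : ι → ℕ) (k₀ : A) (j : ℕ) :
    br_dc_gram c k₀ k₀ ≤ br_dc_gram c (k₀ ^ j) (k₀ ^ j) := by
  classical
  unfold br_dc_gram
  rw [if_pos rfl, if_pos rfl]
  apply Nat.add_le_add_left
  apply Finset.card_le_card
  intro i hi
  rw [Finset.mem_filter] at hi ⊢
  refine ⟨Finset.mem_univ _, ?_⟩
  rw [← pow_mul, mul_comm, pow_mul, ← hi.2]

variable [Fintype A]

/-- **5a.** -/
theorem br_dc_even (f : ℕ) (hf : Fintype.card A = f) (heven : Even f) (c : ι → ℕ)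
    (hc : ∀ i, (c i).Coprime f) (n : ℕ) (hn : Fintype.card ι = n) (hn1 : 1 ≤ n)
    (S : Finset A) (t w : ℕ) (hw : S.card = w) (htw : S.Nonempty → t * w = n + 1)
    (hSS : ∀ k ∈ S, ∀ l ∈ S, br_dc_gram c k l = t)
    (hirr : ∀ k, k ∉ S → k ≠ 1 → br_dc_gram c k k = 1) :
    ∃ k₀ : A, orderOf k₀ = 2 ∧ S = {k₀} ∧ w = 1 ∧ t = n + 1 := by
  classical
  have h2 : 2 ∣ Fintype.card A := by rw [hf]; exact even_iff_two_dvd.1 heven
  obtain ⟨k₀, hk₀⟩ := exists_prime_orderOf_dvd_card 2 h2
  have hk₀1 : k₀ ≠ 1 := by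
    intro h; rw [h, orderOf_one] at hk₀; omega
  have hfix : ∀ i, k₀ ^ c i = k₀ := by
    intro i
    have hodd : c i % 2 = 1 := by
      have h2f : 2 ∣ f := even_iff_two_dvd.1 heven
      have hcop : (c i).Coprime 2 := Nat.Coprime.coprime_dvd_right h2f (hc i)
      rcases Nat.mod_two_eq_zero_or_one (c i) with h0 | h1
      · exfalso
        have : 2 ∣ c i := Nat.dvd_of_mod_eq_zero h0
        have := Nat.eq_one_of_dvd_coprimes hcop this (dvd_refl 2)
        omega
      · exact h1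
    rw [← pow_mod_orderOf, hk₀, hodd, pow_one]
  have hg : br_dc_gram c k₀ k₀ = 1 + n := by rw [br_dc_gram_self_of_fixed c k₀ hfix, hn]
  have hkS : k₀ ∈ S := by
    by_contra hnot
    have := hirr k₀ hnot hk₀1
    omega
  have ht : t = n + 1 := by
    have := hSS k₀ hkS k₀ hkS
    rw [hg] at this
    omega
  have hw1 : w = 1 := by
    have h := htw ⟨k₀, hkS⟩
    rw [ht] at h
    have hpos : 0 < n + 1 := by omega
    exact Nat.eq_of_mul_eq_mul_left hpos (by rw [h, mul_one])
  refine ⟨k₀, hk₀, ?_, hw1, ht⟩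
  rw [← hw, Finset.card_eq_one] at hw1
  obtain ⟨a, ha⟩ := hw1
  rw [ha] at hkS ⊢
  rw [Finset.mem_singleton.1 hkS]

/-- **5b**, combinatorial part. -/
theorem br_dc_odd (f : ℕ) (hf : Fintype.card A = f) (c : ι → ℕ)
    (hc : ∀ i, (c i).Coprime f) (S : Finset A) (t w : ℕ) (hw : S.card = w) (ht : 2 ≤ t)
    (hS1 : (1 : A) ∉ S) (hSne : S.Nonempty)
    (hSS : ∀ k ∈ S, ∀ l ∈ S, br_dc_gram c k l = t)
    (hirr : ∀ k, k ∉ S → k ≠ 1 → br_dc_gram c k k = 1) :
    ∃ m : ℕ, m.Prime ∧ m ∣ f ∧ w + 1 = m := by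
  classical
  obtain ⟨k₀, hk₀S⟩ := hSne
  have hk₀1 : k₀ ≠ 1 := fun h => hS1 (h ▸ hk₀S)
  have hg₀ : br_dc_gram c k₀ k₀ = t := hSS k₀ hk₀S k₀ hk₀S
  -- powers of k₀ other than 1 lie in S
  have hpow : ∀ j : ℕ, k₀ ^ j ≠ 1 → k₀ ^ j ∈ S := by
    intro j hj
    by_contra hnot
    have h1 := hirr _ hnot hj
    have h2 := br_dc_gram_self_pow_ge c k₀ j
    omega
  -- members of S are powers of k₀ of the same order
  have hmem : ∀ l ∈ S, l ∈ Subgroup.zpowers k₀ ∧ orderOf l = orderOf k₀ := by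
    intro l hl
    have h1 : br_dc_gram c k₀ l ≠ 0 := by rw [hSS k₀ hk₀S l hl]; omega
    rcases (br_dc_gram_pos_iff c k₀ l).1 h1 with h | ⟨i, hi⟩
    · subst h; exact ⟨Subgroup.mem_zpowers _, rfl⟩
    · refine ⟨hi ▸ Subgroup.npow_mem_zpowers k₀ (c i), ?_⟩
      rw [hi]
      apply Nat.Coprime.orderOf_pow
      have hdvd : orderOf k₀ ∣ f := hf ▸ orderOf_dvd_card
      exact (Nat.Coprime.coprime_dvd_right hdvd (hc i)).symm
  set m := orderOf k₀ with hm
  have hm2 : 2 ≤ m := by
    have h0 : 0 < m := orderOf_pos k₀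
    have h1 : m ≠ 1 := fun h => hk₀1 (orderOf_eq_one_iff.1 h)
    omega
  have hmf : m ∣ f := hf ▸ orderOf_dvd_card
  -- m is prime
  have hprime : m.Prime := by
    set q := m.minFac with hq
    have hqp : q.Prime := Nat.minFac_prime (by omega)
    have hqm : q ∣ m := Nat.minFac_dvd m
    obtain ⟨r, hr⟩ := hqm
    have hrpos : 0 < r := by
      rcases Nat.eq_zero_or_pos r with h | h
      · rw [h, mul_zero] at hr; omega
      · exact h
    have hord : orderOf (k₀ ^ r) = q := by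
      have hrm : r ∣ orderOf k₀ := ⟨q, by rw [← hm, hr, mul_comm]⟩
      rw [orderOf_pow_of_dvd hrpos.ne' hrm, ← hm, hr, Nat.mul_div_cancel _ hrpos]
    have hne1 : k₀ ^ r ≠ 1 := by
      intro h
      rw [h, orderOf_one] at hord
      exact hqp.one_lt.ne hord
    have := (hmem _ (hpow r hne1)).2
    rw [hord] at this
    rw [← this]; exact hqp
  -- S = zpowers k₀ minus 1
  have hSeq : S = (Finset.univ.filter (fun l : A => l ∈ Subgroup.zpowers k₀)).erase 1 := by
    ext l
    rw [Finset.mem_erase, Finset.mem_filter]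
    constructor
    · intro hl
      exact ⟨fun h => hS1 (h ▸ hl), Finset.mem_univ _, (hmem l hl).1⟩
    · rintro ⟨hl1, -, hl⟩
      obtain ⟨j, rfl⟩ := (Subgroup.mem_zpowers_iff).1 hl
      -- reduce the integer exponent to a natural one
      have : k₀ ^ j = k₀ ^ (j % (orderOf k₀ : ℤ)).toNat := by
        rw [← zpow_natCast, Int.toNat_of_nonneg (Int.emod_nonneg _ (by exact_mod_cast (orderOf_pos k₀).ne')),
          zpow_mod_orderOf]
      rw [this] at hl1 ⊢
      exact hpow _ hl1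
  refine ⟨m, hprime, hmf, ?_⟩
  rw [← hw, hSeq, Finset.card_erase_of_mem]
  · have hcard : (Finset.univ.filter (fun l : A => l ∈ Subgroup.zpowers k₀)).card = m := by
      rw [hm, ← Nat.card_zpowers, Nat.card_eq_fintype_card, Fintype.card_subtype]
    rw [hcard]; omega
  · exact Finset.mem_filter.2 ⟨Finset.mem_univ _, Subgroup.one_mem _⟩

end

/-- **5b**, arithmetic endgame: `|N_G(H)| = f (n+1) = f t w` divides `|G| = p f t y`, `y = w p - f`,
`p f` odd, `w = m - 1` with `m ∣ f` prime: impossible. -/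
theorem br_dc_odd_false (p f t w y n m : ℕ) (hp : Odd p) (hf : Odd f) (hfpos : 0 < f)
    (htpos : 0 < t) (hmf : m ∣ f) (hwm : w + 1 = m) (htw : t * w = n + 1)
    (hy : y + f = w * p) (hdiv : f * (n + 1) ∣ p * f * (t * y)) : False := by
  -- w ∣ p * y
  have h1 : f * t * w ∣ f * t * (p * y) := by
    have : f * (n + 1) = f * t * w := by rw [← htw]; ring
    rw [this] at hdiv
    have h2 : p * f * (t * y) = f * t * (p * y) := by ring
    rwa [h2] at hdiv
  have hft : 0 < f * t := Nat.mul_pos hfpos htpos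
  have h2 : w ∣ p * y := (Nat.mul_dvd_mul_iff_left hft).1 h1
  -- w ∣ p * f
  have h3 : w ∣ p * f := by
    have h4 : p * y + p * f = w * (p * p) := by
      have := congrArg (fun z => p * z) hy
      simp only [mul_add] at this
      rw [this]; ring
    have h5 : w ∣ p * y + p * f := ⟨p * p, h4⟩
    exact (Nat.dvd_add_right h2).1 h5
  have hpf : Odd (p * f) := hp.mul hf
  have hwodd : Odd w := by
    obtain ⟨r, hr⟩ := h3
    rw [hr] at hpf
    exact (Nat.odd_mul.1 hpf).1
  -- m is an odd prime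
  have hmodd : Odd m := by
    obtain ⟨r, hr⟩ := hmf
    rw [hr] at hf
    exact (Nat.odd_mul.1 hf).1
  rw [← hwm] at hmodd
  have : Even (w + 1) := hwodd.add_one
  exact (Nat.not_even_iff_odd.2 hmodd) this

section

variable {A : Type*} [CommGroup A] [Fintype A] {ι : Type*} [Fintype ι]

open scoped Classical in
/-- an irreducible `Θ_k` which equals `N` of the `Θ_l` forces `N ≤ φ(orderOf k)`. -/
theorem br_dc_count_le [IsCyclic A] (f : ℕ) (hf : Fintype.card A = f) (c : ι → ℕ)
    (hc : ∀ i, (c i).Coprime f) (k : A) (N : ℕ)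
    (hcount : (Finset.univ.filter (fun l : A => br_dc_gram c k l ≠ 0)).card = N) :
    N ≤ Nat.totient (orderOf k) := by
  have hdvd : orderOf k ∣ Fintype.card A := orderOf_dvd_card
  rw [← IsCyclic.card_orderOf_eq_totient hdvd, ← hcount]
  apply Finset.card_le_card
  intro l hl
  rw [Finset.mem_filter] at hl ⊢
  refine ⟨Finset.mem_univ _, ?_⟩
  rcases (br_dc_gram_pos_iff c k l).1 hl.2 with h | ⟨i, hi⟩
  · rw [h]
  · rw [hi]
    apply Nat.Coprime.orderOf_pow
    have hd : orderOf k ∣ f := hf ▸ orderOf_dvd_card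
    exact (Nat.Coprime.coprime_dvd_right hd (hc i)).symm

open scoped Classical in
/-- `f = 4`: an irreducible `Θ_k`, `k` a generator, is equal to `n + 1 = t` of the `Θ_l`, all of
order four; so `t ≤ 2`. -/
theorem br_dc_four [IsCyclic A] (hf : Fintype.card A = 4) (c : ι → ℕ)
    (hc : ∀ i, (c i).Coprime 4) (t : ℕ)
    (hcount : ∀ k : A, orderOf k = 4 →
      (Finset.univ.filter (fun l : A => br_dc_gram c k l ≠ 0)).card = t) :
    t ≤ 2 := by
  obtain ⟨g, hg⟩ := IsCyclic.exists_generator (α := A)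
  have hord : orderOf g = 4 := by
    rw [orderOf_eq_card_of_forall_mem_zpowers hg, Nat.card_eq_fintype_card, hf]
  have h := br_dc_count_le 4 hf c hc g t (hcount g hord)
  rw [hord] at h
  have h4 : Nat.totient 4 = 2 := by decide
  omega

end

end Cfsg.Agent.BR
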