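import Cfsg.Agent.BR.Nodes
import Cfsg.Agent.BR.DblComb

/-!
# Brauer-Reynolds track: 5a, 5b, 5c (lead)

Assembly of `BR/Nodes` (L2/L3) and `BR/DblComb` over the abstract bundle `br_nd_Hyp`, the index set
being a finite commutative group `A` with `l₀ = 1`, and the Gram matrix of the `Θ_l` given in the
form `br_dc_gram c` (`BR/DblGram`).

* `br_dbl_even` (5a, 5c): `f` even ⟹ `ε = -1`, exactly one `k₀` (of order two) has
  `Θ k₀ = ∑ ψ ∈ Y, ψ`, `w = 1` and `|Y| = n + 1`.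
* `br_dbl_odd` (5b): `f` odd, `ε = -1`, `|Y| ≥ 2` and `f (n + 1) ∣ |G|` are contradictory.
-/

set_option autoImplicit false

namespace Cfsg.Agent.BR

open Cfsg Cfsg.Agent.Helper6 Finset
open scoped ComplexConjugate Classical

universe u v

variable {G : Type u} [Group G] [Fintype G]
variable {p : ℕ} {P : Subgroup G} [Fintype P] {f n : ℕ} {X Y : Finset (IrrCharacter G)}
  {dl : IrrCharacter G → ℤ} {ε : ℤ} {A : Type v} [CommGroup A] [Fintype A] {Θ : A → G → ℂ}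
  {κ : Type*} [Fintype κ]

/-- the set `S` of the `k ≠ 1` with `Θ k = Λ_S` -/
noncomputable def br_dbl_S (Θ : A → G → ℂ) (Y : Finset (IrrCharacter G)) : Finset A :=
  Finset.univ.filter (fun k => k ≠ 1 ∧ Θ k = ∑ ψ ∈ Y, (ψ : G → ℂ))

theorem br_dbl_mem_S (Θ : A → G → ℂ) (Y : Finset (IrrCharacter G)) (k : A) :
    k ∈ br_dbl_S Θ Y ↔ (k ≠ 1 ∧ Θ k = ∑ ψ ∈ Y, (ψ : G → ℂ)) := by
  unfold br_dbl_S
  simp

theorem br_dbl_w_eq (Θ : A → G → ℂ) (Y : Finset (IrrCharacter G)) :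
    br_nd_w Θ 1 Y = (br_dbl_S Θ Y).card :=
  br_nd_w_eq_card Θ 1 Y (br_dbl_S Θ Y) (br_dbl_mem_S Θ Y)

/-- a nonempty `S` forces `ε = -1` -/
theorem br_dbl_eps_of_mem (H : br_nd_Hyp p P f n X Y dl ε Θ (1 : A)) {k : A}
    (hk : k ∈ br_dbl_S Θ Y) : ε = -1 := by
  rw [br_dbl_mem_S] at hk
  rcases H.node k hk.1 with ⟨χ, hχX, -, -, hΘ⟩ | ⟨he, -⟩
  · exact (H.node_excl (Θ k) χ hχX hΘ hk.2).elim
  · exact he

/-- the norm of `Λ_S` -/
theorem br_dbl_norm_sumY (Y : Finset (IrrCharacter G)) :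
    classInner (∑ ψ ∈ Y, (ψ : G → ℂ)) (∑ ψ ∈ Y, (ψ : G → ℂ)) = (Y.card : ℂ) := by
  rw [classInner_sum_right,
    Finset.sum_congr rfl (fun ψ hψ => (br_nd_inner_sumY_left Y ψ).1 hψ), Finset.sum_const,
    nsmul_eq_mul, mul_one]

/-- the three hypotheses of `BR/DblComb` on `S` -/
theorem br_dbl_hyps (H : br_nd_Hyp p P f n X Y dl ε Θ (1 : A)) (c : κ → ℕ)
    (hg : ∀ k l : A, classInner (Θ k) (Θ l) = (br_dc_gram c k l : ℂ)) :
    ((br_dbl_S Θ Y).Nonempty → Y.card * (br_dbl_S Θ Y).card = n + 1) ∧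
    (∀ k ∈ br_dbl_S Θ Y, ∀ l ∈ br_dbl_S Θ Y, br_dc_gram c k l = Y.card) ∧
    (∀ k, k ∉ br_dbl_S Θ Y → k ≠ 1 → br_dc_gram c k k = 1) := by
  refine ⟨?_, ?_, ?_⟩
  · rintro ⟨k, hk⟩
    rw [← br_dbl_w_eq]
    exact H.card_Y_mul_w (br_dbl_eps_of_mem H hk)
  · intro k hk l hl
    have h1 := hg k l
    rw [((br_dbl_mem_S Θ Y k).mp hk).2, ((br_dbl_mem_S Θ Y l).mp hl).2, br_dbl_norm_sumY] at h1
    exact_mod_cast h1.symm
  · intro k hkS hk1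
    have h1 := hg k k
    rcases H.norm_node k hk1 with h | ⟨-, hΘ, -⟩
    · rw [h] at h1
      exact_mod_cast h1.symm
    · exact absurd ((br_dbl_mem_S Θ Y k).mpr ⟨hk1, hΘ⟩) hkS

/-- **5a and 5c.** -/
theorem br_dbl_even (H : br_nd_Hyp p P f n X Y dl ε Θ (1 : A)) (c : κ → ℕ)
    (hc : ∀ i, (c i).Coprime f) (hκ : Fintype.card κ = n)
    (hg : ∀ k l : A, classInner (Θ k) (Θ l) = (br_dc_gram c k l : ℂ))
    (heven : Even f) (hn1 : 1 ≤ n) :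
    ∃ k₀ : A, orderOf k₀ = 2 ∧ br_dbl_S Θ Y = {k₀} ∧ br_nd_w Θ 1 Y = 1 ∧ Y.card = n + 1 ∧
      ε = -1 := by
  obtain ⟨h1, h2, h3⟩ := br_dbl_hyps H c hg
  obtain ⟨k₀, hk₀, hS, hw, ht⟩ := br_dc_even f H.card_ι heven c hc n hκ hn1 (br_dbl_S Θ Y)
    Y.card (br_dbl_S Θ Y).card rfl h1 h2 h3
  refine ⟨k₀, hk₀, hS, ?_, ht, ?_⟩
  · rw [br_dbl_w_eq]; exact hw
  · apply br_dbl_eps_of_mem H (k := k₀)
    rw [hS]; exact Finset.mem_singleton_self k₀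

/-- **5b.** -/
theorem br_dbl_odd (H : br_nd_Hyp p P f n X Y dl ε Θ (1 : A)) (c : κ → ℕ)
    (hc : ∀ i, (c i).Coprime f)
    (hg : ∀ k l : A, classInner (Θ k) (Θ l) = (br_dc_gram c k l : ℂ))
    (hodd : Odd f) (he : ε = -1) (ht : 2 ≤ Y.card)
    (hdiv : f * (n + 1) ∣ p * f * (1 + n * p)) : False := by
  obtain ⟨h1, h2, h3⟩ := br_dbl_hyps H c hg
  have hw := H.card_Y_mul_w he
  rw [br_dbl_w_eq] at hw
  have hSne : (br_dbl_S Θ Y).Nonempty := by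
    rw [Finset.nonempty_iff_ne_empty]
    intro h0
    rw [h0, Finset.card_empty, mul_zero] at hw
    omega
  have hS1 : (1 : A) ∉ br_dbl_S Θ Y := fun h => ((br_dbl_mem_S Θ Y 1).mp h).1 rfl
  obtain ⟨m, -, hmf, hwm⟩ := br_dc_odd f H.card_ι c hc (br_dbl_S Θ Y) Y.card
    (br_dbl_S Θ Y).card rfl ht hS1 hSne h2 h3
  obtain ⟨ψ₀, hψ₀⟩ := H.Y_nonempty
  have hy := H.deg_eps_minus he ψ₀ hψ₀
  rw [br_dbl_w_eq] at hy
  -- all members of `Y` have the degree of `ψ₀`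
  have hdeg : ∀ ψ ∈ Y, charDegree (ψ : G → ℂ) = charDegree (ψ₀ : G → ℂ) := by
    intro ψ hψ
    have := H.deg_eps_minus he ψ hψ
    rw [br_dbl_w_eq] at this
    omega
  have hty : Y.card * charDegree (ψ₀ : G → ℂ) = 1 + n * p := by
    rw [← H.star_Y he, Finset.sum_congr rfl hdeg, Finset.sum_const, smul_eq_mul]
  have hfpos : 0 < f := by
    rcases hodd with ⟨j, hj⟩; omega
  have hp3 : 3 ≤ p := by
    have := H.card_Y
    have : 2 * 1 ≤ Y.card * f := Nat.mul_le_mul ht hfpos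
    omega
  have hpodd : Odd p := H.prime.odd_of_ne_two (by omega)
  rw [← hty] at hdiv
  exact br_dc_odd_false p f Y.card (br_dbl_S Θ Y).card (charDegree (ψ₀ : G → ℂ)) n m hpodd hodd
    hfpos (by omega) hmf hwm hw hy hdiv

end Cfsg.Agent.BR
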