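import Mathlib
import Cfsg.Prelude.Def_Characters
import Cfsg.Agent.Helper6.IndFun

/-!
# Brauer-Reynolds track: (F3), the inner product of two induced functions (lead)

For functions `φ ψ` on a subgroup `N` of the finite group `G`
`⟨Ind φ, Ind ψ⟩ = |N|⁻² ∑_{x ∈ G} ∑_{m ∈ N} φ(m) conj ψ°(x⁻¹ m x)`,
and if `ψ` is a class function of `N` the terms with `x ∈ N` add up to `⟨φ, ψ⟩_N`.
-/

set_option autoImplicit false

namespace Cfsg.Agent.BR

open scoped ComplexConjugate

universe u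

variable {G : Type u} [Group G] [Fintype G]

/-- (F3), first form. -/
theorem br_mky_inner (N : Subgroup G) [Fintype N] (φ ψ : N → ℂ) :
    Cfsg.classInner (Cfsg.indFun N φ) (Cfsg.indFun N ψ) =
      ((Nat.card N : ℂ)⁻¹) ^ 2 *
        ∑ x : G, ∑ m : N, φ m * conj (Cfsg.extendByZero N ψ (x⁻¹ * (m : G) * x)) := by
  rw [Cfsg.Agent.Helper6.frobenius_reciprocity N φ _
    (Cfsg.Agent.Helper6.indFun_isClassFunction N ψ)]
  rw [Cfsg.Agent.Helper6.classInner_def]
  simp_rw [Cfsg.Agent.Helper6.indFun_apply]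
  rw [Finset.sum_comm, pow_two, mul_assoc]
  congr 1
  rw [Finset.mul_sum]
  apply Finset.sum_congr rfl
  intro m _
  rw [map_mul, map_inv₀, Complex.conj_natCast, map_sum, Finset.mul_sum, Finset.mul_sum,
    Finset.mul_sum]
  apply Finset.sum_congr rfl
  intro x _
  ring

omit [Fintype G] in
/-- The terms `x ∈ N` of (F3) when `ψ` is a class function of `N`. -/
theorem br_mky_diag (N : Subgroup G) [Fintype N] (φ ψ : N → ℂ)
    (hψ : Cfsg.IsClassFunction N ψ) (x : G) (hx : x ∈ N) :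
    ∑ m : N, φ m * conj (Cfsg.extendByZero N ψ (x⁻¹ * (m : G) * x)) =
      ∑ m : N, φ m * conj (ψ m) := by
  apply Finset.sum_congr rfl
  intro m _
  have h1 : x⁻¹ * (m : G) * x = ((⟨x, hx⟩ : N)⁻¹ * m * (⟨x, hx⟩ : N)⁻¹⁻¹ : N) := by
    simp
  rw [h1, Cfsg.Agent.Helper6.extendByZero_coe, hψ m (⟨x, hx⟩ : N)⁻¹]

/-- (F3), second form: the diagonal part is `⟨φ, ψ⟩_N`. -/
theorem br_mky_inner_split (N : Subgroup G) [Fintype N] [DecidablePred (· ∈ N)] (φ ψ : N → ℂ)
    (hψ : Cfsg.IsClassFunction N ψ) :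
    Cfsg.classInner (Cfsg.indFun N φ) (Cfsg.indFun N ψ) =
      Cfsg.classInner φ ψ +
      ((Nat.card N : ℂ)⁻¹) ^ 2 *
        ∑ x ∈ Finset.univ.filter (fun x : G => x ∉ N),
          ∑ m : N, φ m * conj (Cfsg.extendByZero N ψ (x⁻¹ * (m : G) * x)) := by
  rw [br_mky_inner]
  rw [← Finset.sum_filter_add_sum_filter_not Finset.univ (fun x : G => x ∈ N), mul_add]
  congr 1
  rw [Finset.sum_congr rfl (fun x hx => br_mky_diag N φ ψ hψ x (Finset.mem_filter.mp hx).2)]
  rw [Finset.sum_const, nsmul_eq_mul, Cfsg.Agent.Helper6.classInner_def]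
  have hc : (Finset.univ.filter (fun x : G => x ∈ N)).card = Nat.card N := by
    rw [Nat.card_eq_fintype_card, Fintype.card_subtype]
  rw [hc]
  have hne : (Nat.card N : ℂ) ≠ 0 := by
    have : 0 < Nat.card N := Nat.card_pos
    exact_mod_cast this.ne'
  field_simp

end Cfsg.Agent.BR
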