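import Mathlib
import Cfsg.Prelude.Def_Characters
import Cfsg.Agent.Helper6.IndFun
import Cfsg.Agent.BR.Mackey

/-!
# Brauer-Reynolds track: (F3) for two linear characters (lead)

For `l₁ l₂ : N →* ℂˣ` and `x : G` put `D_x = N ∩ x N x⁻¹` and
`χ_x : D_x →* ℂˣ, m ↦ l₁(m) l₂(x⁻¹ m x)⁻¹`.  Then
`⟨Ind l₁, Ind l₂⟩ = [l₁ = l₂] + |N|⁻² ∑_{x ∉ N} (if χ_x = 1 then |D_x| else 0)`.
-/

set_option autoImplicit false

namespace Cfsg.Agent.BR

open scoped ComplexConjugate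

universe u

variable {G : Type u} [Group G]

/-- the function `N → ℂ` of a linear character -/
def br_mky_fn (N : Subgroup G) (l : N →* ℂˣ) : N → ℂ := fun m => ((l m : ℂˣ) : ℂ)

theorem br_mky_fn_apply (N : Subgroup G) (l : N →* ℂˣ) (m : N) :
    br_mky_fn N l m = ((l m : ℂˣ) : ℂ) := rfl

theorem br_mky_fn_isClassFunction (N : Subgroup G) (l : N →* ℂˣ) :
    Cfsg.IsClassFunction N (br_mky_fn N l) := by
  intro g h
  simp only [br_mky_fn, map_mul, map_inv]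
  rw [mul_comm (l h) (l g), mul_assoc, mul_inv_cancel, mul_one]

/-- `x⁻¹ m x ∈ N` for `m ∈ N ∩ x N x⁻¹` -/
theorem br_mky_conj_mem (N : Subgroup G) (x : G) {m : G}
    (hm : m ∈ N ⊓ N.map (MulAut.conj x).toMonoidHom) : x⁻¹ * m * x ∈ N := by
  obtain ⟨n, hn, rfl⟩ := hm.2
  have : x⁻¹ * ((MulAut.conj x).toMonoidHom n) * x = n := by
    simp [MulAut.conj_apply, mul_assoc]
  rw [this]
  exact hn

theorem br_mky_mem_D (N : Subgroup G) (x m : G) :
    m ∈ N ⊓ N.map (MulAut.conj x).toMonoidHom ↔ m ∈ N ∧ x⁻¹ * m * x ∈ N := by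
  constructor
  · intro hm
    exact ⟨hm.1, br_mky_conj_mem N x hm⟩
  · rintro ⟨h1, h2⟩
    refine ⟨h1, x⁻¹ * m * x, h2, ?_⟩
    simp [MulAut.conj_apply, mul_assoc]

/-- the linear character `m ↦ l₁(m) l₂(x⁻¹ m x)⁻¹` of `N ∩ x N x⁻¹` -/
def br_mky_chi (N : Subgroup G) (l₁ l₂ : N →* ℂˣ) (x : G) :
    ↥(N ⊓ N.map (MulAut.conj x).toMonoidHom) →* ℂˣ where
  toFun m := l₁ ⟨m, m.2.1⟩ * (l₂ ⟨x⁻¹ * m * x, br_mky_conj_mem N x m.2⟩)⁻¹
  map_one' := by
    have h1 : (⟨((1 : ↥(N ⊓ N.map (MulAut.conj x).toMonoidHom)) : G), (1 : ↥(N ⊓ N.map (MulAut.conj x).toMonoidHom)).2.1⟩ : N) = 1 := rfl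
    have h2 : (⟨x⁻¹ * ((1 : ↥(N ⊓ N.map (MulAut.conj x).toMonoidHom)) : G) * x,
        br_mky_conj_mem N x (1 : ↥(N ⊓ N.map (MulAut.conj x).toMonoidHom)).2⟩ : N) = 1 := by
      apply Subtype.ext
      simp
    rw [h1, h2, map_one, map_one, inv_one, mul_one]
  map_mul' a b := by
    have h1 : (⟨((a * b : ↥(N ⊓ N.map (MulAut.conj x).toMonoidHom)) : G), (a * b).2.1⟩ : N) =
        ⟨a, a.2.1⟩ * ⟨b, b.2.1⟩ := rfl
    have h2 : (⟨x⁻¹ * ((a * b : ↥(N ⊓ N.map (MulAut.conj x).toMonoidHom)) : G) * x,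
        br_mky_conj_mem N x (a * b).2⟩ : N) =
        ⟨x⁻¹ * a * x, br_mky_conj_mem N x a.2⟩ * ⟨x⁻¹ * b * x, br_mky_conj_mem N x b.2⟩ := by
      apply Subtype.ext
      simp only [Subgroup.coe_mul]
      group
    rw [h1, h2, map_mul, map_mul, mul_inv]
    exact mul_mul_mul_comm _ _ _ _

theorem br_mky_chi_apply (N : Subgroup G) (l₁ l₂ : N →* ℂˣ) (x : G)
    (m : ↥(N ⊓ N.map (MulAut.conj x).toMonoidHom)) :
    br_mky_chi N l₁ l₂ x m =
      l₁ ⟨m, m.2.1⟩ * (l₂ ⟨x⁻¹ * m * x, br_mky_conj_mem N x m.2⟩)⁻¹ := rfl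

/-- `χ_x = 1` means that `l₁` and `l₂ ∘ (conjugation by x⁻¹)` agree on `N ∩ x N x⁻¹`. -/
theorem br_mky_chi_eq_one_iff (N : Subgroup G) (l₁ l₂ : N →* ℂˣ) (x : G) :
    br_mky_chi N l₁ l₂ x = 1 ↔
      ∀ (m : G) (hm : m ∈ N) (hm' : x⁻¹ * m * x ∈ N), l₁ ⟨m, hm⟩ = l₂ ⟨x⁻¹ * m * x, hm'⟩ := by
  constructor
  · intro h m hm hm'
    have h1 := DFunLike.congr_fun h ⟨m, (br_mky_mem_D N x m).mpr ⟨hm, hm'⟩⟩
    rw [br_mky_chi_apply, MonoidHom.one_apply, mul_inv_eq_one] at h1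
    exact h1
  · intro h
    ext m
    rw [br_mky_chi_apply, MonoidHom.one_apply,
      h m m.2.1 (br_mky_conj_mem N x m.2), mul_inv_cancel]

/-- a unit of `ℂ` in the image of a finite group: its conjugate is its inverse -/
theorem br_mky_conj_eq_inv {A : Type*} [Group A] [Finite A] (l : A →* ℂˣ) (a : A) :
    conj ((l a : ℂˣ) : ℂ) = (((l a)⁻¹ : ℂˣ) : ℂ) := by
  have h1 : ((l a : ℂˣ) : ℂ) ^ Nat.card A = 1 := by
    rw [← Units.val_pow_eq_pow_val, ← map_pow, pow_card_eq_one', map_one, Units.val_one]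
  have h2 : ‖((l a : ℂˣ) : ℂ)‖ = 1 :=
    Complex.norm_eq_one_of_pow_eq_one h1 Nat.card_pos.ne'
  rw [Units.val_inv_eq_inv_val, Complex.inv_eq_conj h2]

variable [Fintype G]

/-- the inner sum of (F3) for two linear characters is the sum of `χ_x` over `N ∩ x N x⁻¹` -/
theorem br_mky_inner_sum (N : Subgroup G) [Fintype N] (l₁ l₂ : N →* ℂˣ) (x : G)
    [Fintype ↥(N ⊓ N.map (MulAut.conj x).toMonoidHom)] :
    ∑ m : N, br_mky_fn N l₁ m * conj (Cfsg.extendByZero N (br_mky_fn N l₂) (x⁻¹ * (m : G) * x)) =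
      ∑ d : ↥(N ⊓ N.map (MulAut.conj x).toMonoidHom), ((br_mky_chi N l₁ l₂ x d : ℂˣ) : ℂ) := by
  classical
  rw [← Cfsg.Agent.Helper6.sum_extendByZero_mul N (br_mky_fn N l₁)
    (fun g => conj (Cfsg.extendByZero N (br_mky_fn N l₂) (x⁻¹ * g * x)))]
  rw [← Cfsg.Agent.Helper6.sum_extendByZero (N ⊓ N.map (MulAut.conj x).toMonoidHom)
    (fun d => ((br_mky_chi N l₁ l₂ x d : ℂˣ) : ℂ))]
  apply Finset.sum_congr rfl
  intro g _
  by_cases hg : g ∈ N ⊓ N.map (MulAut.conj x).toMonoidHom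
  · have hg' := (br_mky_mem_D N x g).mp hg
    rw [Cfsg.Agent.Helper6.extendByZero_mem _ _ hg, Cfsg.Agent.Helper6.extendByZero_mem _ _ hg'.1,
      Cfsg.Agent.Helper6.extendByZero_mem _ _ hg'.2, br_mky_chi_apply, br_mky_fn_apply,
      br_mky_fn_apply, br_mky_conj_eq_inv, Units.val_mul]
  · rw [Cfsg.Agent.Helper6.extendByZero_not_mem _ _ hg]
    rw [br_mky_mem_D] at hg
    by_cases h1 : g ∈ N
    · have h2 : x⁻¹ * g * x ∉ N := fun h => hg ⟨h1, h⟩
      rw [Cfsg.Agent.Helper6.extendByZero_not_mem _ _ h2, map_zero, mul_zero]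
    · rw [Cfsg.Agent.Helper6.extendByZero_not_mem _ _ h1, zero_mul]

/-- orthogonality of the linear characters of `N` -/
theorem br_mky_inner_lin (N : Subgroup G) [Fintype N] (l₁ l₂ : N →* ℂˣ) [Decidable (l₁ = l₂)] :
    Cfsg.classInner (br_mky_fn N l₁) (br_mky_fn N l₂) = if l₁ = l₂ then 1 else 0 := by
  classical
  rw [Cfsg.Agent.Helper6.classInner_def]
  have h1 : ∀ m : N, br_mky_fn N l₁ m * conj (br_mky_fn N l₂ m) =
      ((Units.coeHom ℂ).comp (l₁ * l₂⁻¹)) m := by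
    intro m
    rw [br_mky_fn_apply, br_mky_fn_apply, br_mky_conj_eq_inv]
    simp
  simp_rw [h1]
  rw [sum_hom_units]
  have hne : (Nat.card N : ℂ) ≠ 0 := by
    have : 0 < Nat.card N := Nat.card_pos
    exact_mod_cast this.ne'
  have hiff : ((Units.coeHom ℂ).comp (l₁ * l₂⁻¹) = 1) ↔ l₁ = l₂ := by
    constructor
    · intro h
      ext m
      have h2 := DFunLike.congr_fun h m
      simp only [MonoidHom.coe_comp, Function.comp_apply, MonoidHom.mul_apply,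
        MonoidHom.inv_apply, Units.coeHom_apply, MonoidHom.one_apply] at h2
      have h3 : l₁ m * (l₂ m)⁻¹ = 1 := Units.ext h2
      rw [mul_inv_eq_one] at h3
      rw [h3]
    · intro h
      rw [h]
      apply MonoidHom.ext
      intro m
      simp
  by_cases h : l₁ = l₂
  · rw [if_pos (hiff.mpr h), if_pos h, Nat.card_eq_fintype_card]
    field_simp
  · rw [if_neg (fun h' => h (hiff.mp h')), if_neg h]
    simp

/-- **(F3) for two linear characters.** -/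
theorem br_mky_lin (N : Subgroup G) [Fintype N] (l₁ l₂ : N →* ℂˣ) [Decidable (l₁ = l₂)]
    [DecidablePred (· ∈ N)] [∀ x : G, Decidable (br_mky_chi N l₁ l₂ x = 1)] :
    Cfsg.classInner (Cfsg.indFun N (br_mky_fn N l₁)) (Cfsg.indFun N (br_mky_fn N l₂)) =
      (if l₁ = l₂ then 1 else 0) +
      ((Nat.card N : ℂ)⁻¹) ^ 2 *
        ∑ x ∈ Finset.univ.filter (fun x : G => x ∉ N),
          (if br_mky_chi N l₁ l₂ x = 1 then
            (Nat.card ↥(N ⊓ N.map (MulAut.conj x).toMonoidHom) : ℂ) else 0) := by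
  classical
  rw [br_mky_inner_split N _ _ (br_mky_fn_isClassFunction N l₂), br_mky_inner_lin]
  congr 2
  apply Finset.sum_congr rfl
  intro x _
  rw [br_mky_inner_sum N l₁ l₂ x]
  have h1 := sum_hom_units ((Units.coeHom ℂ).comp (br_mky_chi N l₁ l₂ x))
  simp only [MonoidHom.coe_comp, Function.comp_apply, Units.coeHom_apply] at h1
  rw [h1]
  have hiff : ((Units.coeHom ℂ).comp (br_mky_chi N l₁ l₂ x) = 1) ↔ br_mky_chi N l₁ l₂ x = 1 := by
    constructor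
    · intro h
      apply MonoidHom.ext
      intro m
      apply Units.ext
      have h2 := DFunLike.congr_fun h m
      change ((br_mky_chi N l₁ l₂ x m : ℂˣ) : ℂ) = 1 at h2
      change _ = ((1 : ℂˣ) : ℂ)
      rw [Units.val_one]
      exact h2
    · intro h
      rw [h]
      apply MonoidHom.ext
      intro m
      rfl
  by_cases h : br_mky_chi N l₁ l₂ x = 1
  · rw [if_pos (hiff.mpr h), if_pos h, Nat.card_eq_fintype_card]
  · rw [if_neg (fun h' => h (hiff.mp h')), if_neg h, Nat.cast_zero]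

end Cfsg.Agent.BR
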