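import Mathlib
import Cfsg.Prelude.Def_Characters
import Cfsg.Agent.Helper6.Induced
import Cfsg.Agent.Helper6.Linear
import Cfsg.Agent.BR.MackeyLin
import Cfsg.Agent.BR.DblComb

/-!
# Brauer-Reynolds track: the Gram matrix of the `Θ_l = Ind_N^G l` (lead)

`A` is a finite cyclic group of linear characters of `N`, all `N ∩ x N x⁻¹` (`x ∉ N`) have the same
order `f = |A|`, restriction to them is injective on `A`, and conjugation by `x` acts on `A` through
the power map `l ↦ l ^ cx x`.  Then there are `n` exponents `c i`, prime to `f`, with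
`⟨Θ_k, Θ_l⟩ = [k = l] + #{i : l = k ^ c i}` - the function `br_dc_gram` of `BR/DblComb`.
No double cosets are counted: the multiplicities are integers because the `Θ_l` are characters.
-/

set_option autoImplicit false

namespace Cfsg.Agent.BR

open scoped ComplexConjugate Classical

universe u

variable {G : Type u} [Group G] [Fintype G]

/-- `Θ_l = Ind_N^G l` -/
noncomputable def br_dg_theta (N : Subgroup G) (l : N →* ℂˣ) : G → ℂ :=
  Cfsg.indFun N (br_mky_fn N l)

theorem br_dg_theta_isCharacter (N : Subgroup G) (l : N →* ℂˣ) :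
    Cfsg.IsCharacter G (br_dg_theta N l) :=
  Cfsg.Agent.Helper6.isCharacter_indFun N _
    (Cfsg.Agent.Helper6.IsIrrCharacter.isCharacter (Cfsg.Agent.Helper6.isIrrCharacter_of_hom l))

/-- the hypotheses on `N`, the group `A` of linear characters, `f`, `n` and the exponents `cx` -/
structure br_dg_Hyp (N : Subgroup G) (A : Subgroup (↥N →* ℂˣ)) (f n : ℕ) (cx : G → ℕ) : Prop where
  f_pos : 0 < f
  card_A : Nat.card A = f
  cyc : IsCyclic A
  card_D : ∀ x, x ∉ N → Nat.card ↥(N ⊓ N.map (MulAut.conj x).toMonoidHom) = f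
  expo : ∀ x, x ∉ N → ∀ l ∈ A, ∀ (m : G) (hm : m ∈ N) (hm' : x⁻¹ * m * x ∈ N),
    l ⟨x⁻¹ * m * x, hm'⟩ = (l ⟨m, hm⟩) ^ (cx x)
  inj : ∀ x, x ∉ N → ∀ l₁ ∈ A, ∀ l₂ ∈ A,
    (∀ (m : G) (hm : m ∈ N) (_ : x⁻¹ * m * x ∈ N), l₁ ⟨m, hm⟩ = l₂ ⟨m, hm⟩) → l₁ = l₂
  cop : ∀ x, x ∉ N → (cx x).Coprime f
  card_G : f * Nat.card G = f * Nat.card N + n * Nat.card N ^ 2

variable {N : Subgroup G} {A : Subgroup (↥N →* ℂˣ)} {f n : ℕ} {cx : G → ℕ}

omit [Fintype G] in
/-- `χ_x = 1` iff `l₁ = l₂ ^ cx x` -/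
theorem br_dg_Hyp.chi_eq_one_iff (H : br_dg_Hyp N A f n cx) (l₁ l₂ : A) (x : G) (hx : x ∉ N) :
    br_mky_chi N (l₁ : ↥N →* ℂˣ) (l₂ : ↥N →* ℂˣ) x = 1 ↔ l₁ = l₂ ^ (cx x % f) := by
  have hpow : l₂ ^ (cx x % f) = l₂ ^ cx x := by
    rw [← H.card_A]; exact pow_mod_natCard l₂ (cx x)
  rw [hpow, br_mky_chi_eq_one_iff]
  constructor
  · intro h
    apply Subtype.ext
    apply H.inj x hx _ l₁.2 _ (l₂ ^ cx x).2
    intro m hm hm'
    rw [h m hm hm', H.expo x hx _ l₂.2 m hm hm', Subgroup.coe_pow, MonoidHom.pow_apply]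
  · intro h m hm hm'
    rw [h, H.expo x hx _ l₂.2 m hm hm', Subgroup.coe_pow, MonoidHom.pow_apply]

/-- (E1): the Gram matrix as a sum over `x ∉ N` -/
theorem br_dg_Hyp.inner_eq (H : br_dg_Hyp N A f n cx) [Fintype N] (l₁ l₂ : A) :
    Cfsg.classInner (br_dg_theta N l₁) (br_dg_theta N l₂) =
      (if l₁ = l₂ then 1 else 0) +
      ((Nat.card N : ℂ)⁻¹) ^ 2 *
        ∑ x ∈ Finset.univ.filter (fun x : G => x ∉ N),
          (if l₁ = l₂ ^ (cx x % f) then (f : ℂ) else 0) := by
  unfold br_dg_theta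
  rw [br_mky_lin]
  congr 1
  · by_cases h : l₁ = l₂
    · rw [if_pos h, if_pos (congrArg Subtype.val h)]
    · rw [if_neg h, if_neg (fun h' => h (Subtype.ext h'))]
  · congr 1
    apply Finset.sum_congr rfl
    intro x hx
    have hx' : x ∉ N := (Finset.mem_filter.mp hx).2
    rw [H.card_D x hx']
    by_cases h : l₁ = l₂ ^ (cx x % f)
    · rw [if_pos h, if_pos ((H.chi_eq_one_iff l₁ l₂ x hx').mpr h)]
    · rw [if_neg h, if_neg (fun h' => h ((H.chi_eq_one_iff l₁ l₂ x hx').mp h'))]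

/-- the multiplicity (a priori a complex number) of the exponent `r` -/
noncomputable def br_dg_nu (N : Subgroup G) (f : ℕ) (cx : G → ℕ) (r : ℕ) : ℂ :=
  ((Nat.card N : ℂ)⁻¹) ^ 2 *
    (((Finset.univ.filter (fun x : G => x ∉ N)).filter (fun x => cx x % f = r)).card : ℂ) * (f : ℂ)

/-- (E2): the Gram matrix as a sum over the exponents `r < f` -/
theorem br_dg_Hyp.inner_eq_nu (H : br_dg_Hyp N A f n cx) [Fintype N] (l₁ l₂ : A) :
    Cfsg.classInner (br_dg_theta N l₁) (br_dg_theta N l₂) =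
      (if l₁ = l₂ then 1 else 0) +
        ∑ r ∈ Finset.range f, (if l₁ = l₂ ^ r then br_dg_nu N f cx r else 0) := by
  rw [H.inner_eq]
  congr 1
  have hmaps : ∀ x ∈ Finset.univ.filter (fun x : G => x ∉ N), cx x % f ∈ Finset.range f :=
    fun x _ => Finset.mem_range.mpr (Nat.mod_lt _ H.f_pos)
  rw [← Finset.sum_fiberwise_of_maps_to hmaps, Finset.mul_sum]
  apply Finset.sum_congr rfl
  intro r _
  have h1 : ∀ x ∈ (Finset.univ.filter (fun x : G => x ∉ N)).filter (fun x => cx x % f = r),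
      (if l₁ = l₂ ^ (cx x % f) then (f : ℂ) else 0) = (if l₁ = l₂ ^ r then (f : ℂ) else 0) := by
    intro x hx
    rw [(Finset.mem_filter.mp hx).2]
  rw [Finset.sum_congr rfl h1, Finset.sum_const, nsmul_eq_mul]
  unfold br_dg_nu
  by_cases h : l₁ = l₂ ^ r
  · rw [if_pos h, if_pos h]; ring
  · rw [if_neg h, if_neg h]; ring

omit [Fintype G] in
/-- the multiplicity is a nonnegative real number -/
theorem br_dg_nu_real (N : Subgroup G) [Fintype G] (f : ℕ) (cx : G → ℕ) (r : ℕ) :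
    ∃ q : ℝ, 0 ≤ q ∧ br_dg_nu N f cx r = (q : ℂ) := by
  refine ⟨((Nat.card N : ℝ)⁻¹) ^ 2 *
    (((Finset.univ.filter (fun x : G => x ∉ N)).filter (fun x => cx x % f = r)).card : ℝ) *
      (f : ℝ), by positivity, ?_⟩
  unfold br_dg_nu
  push_cast
  rfl

/-- (E3): the multiplicities are natural numbers, because the `Θ_l` are characters -/
theorem br_dg_Hyp.nu_nat (H : br_dg_Hyp N A f n cx) [Fintype N] (r : ℕ) (hr : r < f) :
    ∃ k : ℕ, br_dg_nu N f cx r = k := by
  have := H.cyc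
  obtain ⟨α, hα⟩ := IsCyclic.exists_generator (α := A)
  have hord : orderOf α = f := by
    rw [orderOf_eq_card_of_forall_mem_zpowers hα, H.card_A]
  have h1 := H.inner_eq_nu (α ^ r) α
  have h2 : ∑ r' ∈ Finset.range f, (if α ^ r = α ^ r' then br_dg_nu N f cx r' else 0) =
      br_dg_nu N f cx r := by
    rw [Finset.sum_eq_single r]
    · rw [if_pos rfl]
    · intro r' hr' hne
      rw [if_neg]
      intro h
      apply hne
      have hr'' : r' < orderOf α := by rw [hord]; exact Finset.mem_range.mp hr'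
      have hr0 : r < orderOf α := by rw [hord]; exact hr
      exact (pow_injOn_Iio_orderOf (Set.mem_Iio.mpr hr0) (Set.mem_Iio.mpr hr'') h).symm
    · intro h; exact absurd (Finset.mem_range.mpr hr) h
  rw [h2] at h1
  obtain ⟨k0, hk0⟩ := Cfsg.Agent.Helper6.classInner_char_char_nat
    (br_dg_theta_isCharacter N ((α ^ r : A) : ↥N →* ℂˣ)) (br_dg_theta_isCharacter N (α : ↥N →* ℂˣ))
  rw [hk0] at h1
  obtain ⟨q, hq0, hq⟩ := br_dg_nu_real N f cx r
  rw [hq] at h1 ⊢
  by_cases hδ : α ^ r = α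
  · rw [if_pos hδ] at h1
    have h3 : (k0 : ℝ) = 1 + q := by exact_mod_cast h1
    have h4 : 1 ≤ k0 := by
      have : (1 : ℝ) ≤ (k0 : ℝ) := by rw [h3]; linarith
      exact_mod_cast this
    refine ⟨k0 - 1, ?_⟩
    have h5 : q = ((k0 - 1 : ℕ) : ℝ) := by
      rw [Nat.cast_sub h4]; push_cast; linarith
    rw [h5]; norm_cast
  · rw [if_neg hδ, zero_add] at h1
    exact ⟨k0, h1.symm⟩

/-- the number of `x ∉ N` -/
theorem br_dg_card_compl (N : Subgroup G) [Fintype N] :
    (Finset.univ.filter (fun x : G => x ∉ N)).card + Nat.card N = Nat.card G := by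
  have h1 := Finset.card_filter_add_card_filter_not (s := (Finset.univ : Finset G))
    (fun x : G => x ∈ N)
  have h2 : (Finset.univ.filter (fun x : G => x ∈ N)).card = Nat.card N := by
    rw [Nat.card_eq_fintype_card, Fintype.card_subtype]
  rw [h2, Finset.card_univ, ← Nat.card_eq_fintype_card] at h1
  omega

/-- the multiplicities add up to `n` -/
theorem br_dg_Hyp.sum_nu (H : br_dg_Hyp N A f n cx) [Fintype N] :
    ∑ r ∈ Finset.range f, br_dg_nu N f cx r = n := by
  unfold br_dg_nu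
  rw [← Finset.sum_mul, ← Finset.mul_sum, ← Nat.cast_sum]
  have hmaps : ∀ x ∈ Finset.univ.filter (fun x : G => x ∉ N), cx x % f ∈ Finset.range f :=
    fun x _ => Finset.mem_range.mpr (Nat.mod_lt _ H.f_pos)
  rw [← Finset.card_eq_sum_card_fiberwise hmaps]
  have h1 := br_dg_card_compl N
  have h2 := H.card_G
  have hM : 0 < Nat.card N := Nat.card_pos
  have h3 : f * (Finset.univ.filter (fun x : G => x ∉ N)).card = n * Nat.card N ^ 2 := by
    have : f * Nat.card G =
        f * (Finset.univ.filter (fun x : G => x ∉ N)).card + f * Nat.card N := by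
      rw [← h1]; ring
    omega
  have h4 : ((f : ℂ)) * ((Finset.univ.filter (fun x : G => x ∉ N)).card : ℂ) =
      (n : ℂ) * (Nat.card N : ℂ) ^ 2 := by exact_mod_cast h3
  have hne : (Nat.card N : ℂ) ≠ 0 := by exact_mod_cast hM.ne'
  calc ((Nat.card N : ℂ)⁻¹) ^ 2 * ((Finset.univ.filter (fun x : G => x ∉ N)).card : ℂ) * (f : ℂ)
      = ((Nat.card N : ℂ)⁻¹) ^ 2 *
          ((f : ℂ) * ((Finset.univ.filter (fun x : G => x ∉ N)).card : ℂ)) := by ring
    _ = (n : ℂ) := by rw [h4]; field_simp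

omit [Fintype G] in
theorem br_dg_coprime_mod {c f : ℕ} (h : c.Coprime f) : (c % f).Coprime f := by
  unfold Nat.Coprime at h ⊢
  rw [← Nat.gcd_rec f c, Nat.gcd_comm]
  exact h

/-- **The Gram matrix of the `Θ_l`** in the form of `BR/DblComb`. -/
theorem br_dg_main (H : br_dg_Hyp N A f n cx) [Fintype N] :
    ∃ (ι : Type) (_ : Fintype ι) (c : ι → ℕ), Fintype.card ι = n ∧ (∀ i, (c i).Coprime f) ∧
      ∀ l₁ l₂ : A, Cfsg.classInner (br_dg_theta N l₁) (br_dg_theta N l₂) =
        (br_dc_gram c l₁ l₂ : ℂ) := by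
  have hex : ∀ r : ℕ, ∃ k : ℕ, r < f → br_dg_nu N f cx r = k := by
    intro r
    by_cases hr : r < f
    · obtain ⟨k, hk⟩ := H.nu_nat r hr
      exact ⟨k, fun _ => hk⟩
    · exact ⟨0, fun h => absurd h hr⟩
  choose k hk using hex
  refine ⟨Σ r : Fin f, Fin (k r), inferInstance, fun i => (i.1 : ℕ), ?_, ?_, ?_⟩
  · rw [Fintype.card_sigma]
    simp only [Fintype.card_fin]
    have h1 : ((∑ r : Fin f, k r : ℕ) : ℂ) = (n : ℂ) := by
      push_cast
      rw [Fin.sum_univ_eq_sum_range (fun r => (k r : ℂ)) f]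
      rw [Finset.sum_congr rfl (fun r hr => (hk r (Finset.mem_range.mp hr)).symm)]
      exact H.sum_nu
    exact_mod_cast h1
  · rintro ⟨r, j⟩
    have hkpos : 0 < k r := Fin.pos j
    have hν : br_dg_nu N f cx r ≠ 0 := by
      rw [hk r r.2]; exact_mod_cast hkpos.ne'
    have hcard : ((Finset.univ.filter (fun x : G => x ∉ N)).filter
        (fun x => cx x % f = (r : ℕ))).card ≠ 0 := by
      intro h0
      apply hν
      unfold br_dg_nu
      rw [h0]; simp
    obtain ⟨x, hx⟩ := Finset.card_pos.mp (Nat.pos_of_ne_zero hcard)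
    rw [Finset.mem_filter, Finset.mem_filter] at hx
    change ((r : ℕ)).Coprime f
    rw [← hx.2]
    exact br_dg_coprime_mod (H.cop x hx.1.2)
  · intro l₁ l₂
    rw [Cfsg.Agent.Helper6.classInner_conj_symm (br_dg_theta N l₂) (br_dg_theta N l₁),
      H.inner_eq_nu l₂ l₁]
    have hsum : ∑ r ∈ Finset.range f, (if l₂ = l₁ ^ r then br_dg_nu N f cx r else 0) =
        (((Finset.univ : Finset (Σ r : Fin f, Fin (k r))).filter
          (fun i => l₂ = l₁ ^ (i.1 : ℕ))).card : ℂ) := by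
      rw [Finset.card_filter, Fintype.sum_sigma]
      push_cast
      rw [← Fin.sum_univ_eq_sum_range (fun r => (if l₂ = l₁ ^ r then br_dg_nu N f cx r else 0)) f]
      apply Finset.sum_congr rfl
      intro r _
      rw [Finset.sum_const, Finset.card_univ, Fintype.card_fin, nsmul_eq_mul, hk r r.2]
      by_cases h : l₂ = l₁ ^ (r : ℕ)
      · rw [if_pos h, if_pos h, mul_one]
      · rw [if_neg h, if_neg h, mul_zero]
    rw [hsum]
    unfold br_dc_gram
    push_cast
    rw [map_add, Complex.conj_natCast]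
    congr 1
    by_cases h : l₁ = l₂
    · rw [if_pos h, if_pos h.symm, map_one]
    · rw [if_neg h, if_neg (fun h' => h h'.symm), map_zero]

end Cfsg.Agent.BR
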