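import Cfsg.Agent.BR.Nodes
import Cfsg.Agent.D1C.BrbCore

/-!
# Brauer–Reynolds track: `ε = +` (L4 of `notes/BrauerReynolds_blueprint_helper1.md`) — helper8

Setting of `BR/Nodes` (`br_nd_Hyp`).  If `ε = 1` then every exceptional character `ψ ∈ Y` has
degree `f` (`br_nd_Hyp.deg_eps_plus`), it vanishes on `N ∖ P`, and `ψ ψ̄` contains the trivial
character and every irreducible node `Θ l` (`l ≠ l₀`).  Counting degrees:
`f ^ 2 ≥ 1 + a (1 + n p)` with `a (n + 1) = f - 1`, hence `n (t - 1) ≤ 1`.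

* `br_epl_degree_ge` : a character dominates (in degree) any finset of its constituents.
* `br_epl_inner_ind` : `⟨ψ ψ̄, Ind_N^G l⟩ = 1` for a function `l` on `N` which is `1` on `P`, if `ψ`
  vanishes on `N ∖ P` and `∑_{x ∈ P} |ψ x|² = |N|` (Frobenius reciprocity).
* `br_epl_arith` : the arithmetic.
* `br_epl_main` : **L4** in the abstract setting of `br_nd_Hyp`: `n = 1` and `|Y| = 2`.
* `br_epl_main_ind` : the same with the hypothesis in concrete form (`Θ l` induced from `N`).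
-/

set_option autoImplicit false
set_option linter.style.haveILetI false

namespace Cfsg.Agent.BR

open Cfsg Cfsg.Agent.Helper6 Cfsg.Agent.D1 Finset
open scoped ComplexConjugate

universe u v

variable {G : Type u} [Group G] [Fintype G]

/-- a character dominates, in degree, any finite set of its irreducible constituents -/
theorem br_epl_degree_ge {Φ : G → ℂ} (hΦ : IsCharacter G Φ) (S : Finset (IrrCharacter G))
    (hS : ∀ χ ∈ S, classInner Φ (χ : G → ℂ) ≠ 0) :
    ∑ χ ∈ S, charDegree (χ : G → ℂ) ≤ charDegree Φ := by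
  classical
  haveI : Finite (IrrCharacter G) := irr_finite
  haveI : Fintype (IrrCharacter G) := Fintype.ofFinite _
  obtain ⟨m, hm, -, hdeg⟩ := br_nd_mult Φ hΦ
  have h1 := hdeg (charDegree Φ) (charDegree_cast_of_isCharacter hΦ).symm
  rw [← h1]
  calc ∑ χ ∈ S, charDegree (χ : G → ℂ) ≤ ∑ χ ∈ S, m χ * charDegree (χ : G → ℂ) := by
        apply Finset.sum_le_sum
        intro χ hχ
        have h2 : m χ ≠ 0 := by
          intro h0
          apply hS χ hχ
          rw [hm χ, h0, Nat.cast_zero]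
        exact Nat.le_mul_of_pos_left _ (Nat.pos_of_ne_zero h2)
    _ ≤ ∑ χ : IrrCharacter G, m χ * charDegree (χ : G → ℂ) :=
        Finset.sum_le_sum_of_subset (Finset.subset_univ S)

/-- the degree of `ψ ψ̄` -/
theorem br_epl_degree_prod {ψ : G → ℂ} (hψ : IsCharacter G ψ) :
    charDegree (d1_brb_prod ψ ψ) = charDegree ψ * charDegree ψ := by
  have h1 := charDegree_cast_of_isCharacter (d1_brb_prod_isCharacter hψ hψ)
  have h2 := charDegree_cast_of_isCharacter hψ
  have h3 : ((charDegree (d1_brb_prod ψ ψ) : ℕ) : ℂ) =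
      ((charDegree ψ * charDegree ψ : ℕ) : ℂ) := by
    rw [h1, Nat.cast_mul, h2]
    unfold d1_brb_prod
    rw [← h2, Complex.conj_natCast]
  exact_mod_cast h3

/-- `⟨ψ ψ̄, 1⟩ = ⟨ψ, ψ⟩` -/
theorem br_epl_inner_triv (ψ : G → ℂ) :
    classInner (d1_brb_prod ψ ψ) ((trivIrr G : IrrCharacter G) : G → ℂ) = classInner ψ ψ := by
  rw [classInner_def, classInner_def]
  congr 1
  apply Finset.sum_congr rfl
  intro g _
  show ψ g * conj (ψ g) * conj (1 : ℂ) = _
  rw [map_one, mul_one]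

omit [Fintype G] in
/-- a sum over a subgroup as a filtered sum over the group -/
theorem br_epl_sum_subgroup [Fintype G] (K : Subgroup G) [Fintype K] [DecidablePred (· ∈ K)]
    (F : G → ℂ) : ∑ m : K, F (m : G) = ∑ g ∈ Finset.univ.filter (fun g : G => g ∈ K), F g := by
  rw [Finset.sum_subtype (Finset.univ.filter (fun g : G => g ∈ K)) (p := fun g => g ∈ K)
    (fun g => by simp) F]

/-- **Frobenius reciprocity for `ψ ψ̄`**: if `ψ` vanishes on `N ∖ P`, has `∑_{x ∈ P} |ψ x|² = |N|`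
and `l` is a function on `N` with value `1` on `P`, then `⟨ψ ψ̄, Ind_N^G l⟩ = 1`. -/
theorem br_epl_inner_ind (N P : Subgroup G) [Fintype N] [Fintype P] (hPN : P ≤ N)
    (ψ : G → ℂ) (hψ : IsClassFunction G ψ)
    (hvan : ∀ m : G, m ∈ N → m ∉ P → ψ m = 0)
    (hnorm : ∑ x : P, ψ (x : G) * conj (ψ (x : G)) = (Nat.card N : ℂ))
    (l : N → ℂ) (hl : ∀ m : N, (m : G) ∈ P → l m = 1) :
    classInner (d1_brb_prod ψ ψ) (indFun N l) = 1 := by
  classical
  have hcf : IsClassFunction G (d1_brb_prod ψ ψ) := by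
    intro g h
    unfold d1_brb_prod
    rw [hψ g h]
  rw [classInner_conj_symm, frobenius_reciprocity N l _ hcf, classInner_def]
  have hterm : ∀ m : N, l m * conj (d1_brb_prod ψ ψ (m : G)) =
      if (m : G) ∈ P then ψ (m : G) * conj (ψ (m : G)) else 0 := by
    intro m
    unfold d1_brb_prod
    split_ifs with h
    · rw [hl m h, one_mul, map_mul, Complex.conj_conj, mul_comm]
    · rw [hvan (m : G) m.2 h, zero_mul, map_zero, mul_zero]
  rw [Finset.sum_congr rfl (fun m _ => hterm m)]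
  have h1 : ∑ m : N, (if (m : G) ∈ P then ψ (m : G) * conj (ψ (m : G)) else 0) =
      ∑ x : P, ψ (x : G) * conj (ψ (x : G)) := by
    rw [br_epl_sum_subgroup N (fun g => if g ∈ P then ψ g * conj (ψ g) else 0),
      br_epl_sum_subgroup P (fun g => ψ g * conj (ψ g)), Finset.sum_ite, Finset.sum_const_zero,
      add_zero, Finset.filter_filter]
    apply Finset.sum_congr _ (fun _ _ => rfl)
    ext g
    simp only [Finset.mem_filter, Finset.mem_univ, true_and]
    exact ⟨fun h => h.2, fun h => ⟨hPN h, h⟩⟩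
  rw [h1, hnorm]
  have hne : (Nat.card N : ℂ) ≠ 0 := by
    have : 0 < Nat.card N := Nat.card_pos
    exact_mod_cast this.ne'
  rw [inv_mul_cancel₀ hne, map_one]

/-- the arithmetic of L4 -/
theorem br_epl_arith (p f n t a : ℕ) (hf : 2 ≤ f) (hn : 1 ≤ n) (ht : 2 ≤ t)
    (htf : t * f = p - 1) (hp : 1 ≤ p) (ha : f = 1 + a * (n + 1))
    (hdeg : 1 + a * (1 + n * p) ≤ f * f) : n = 1 ∧ t = 2 := by
  have hp' : p = t * f + 1 := by omega
  subst hp'
  -- `(f - 1) (1 + n p) ≤ (n + 1) (f² - 1)`, so `1 + n p ≤ (n + 1) (f + 1)`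
  have h1 : (1 + n * (t * f + 1)) ≤ (n + 1) * (f + 1) := by
    by_contra hlt
    push Not at hlt
    have h2 : a * (n + 1) * ((n + 1) * (f + 1) + 1) ≤ a * (n + 1) * (1 + n * (t * f + 1)) :=
      Nat.mul_le_mul_left _ (by omega)
    have h3 : (n + 1) * (1 + a * (1 + n * (t * f + 1))) ≤ (n + 1) * (f * f) :=
      Nat.mul_le_mul_left _ hdeg
    have ha1 : 1 ≤ a := by
      rcases Nat.eq_zero_or_pos a with h | h
      · rw [h] at ha; omega
      · exact h
    nlinarith [ha, h2, h3, ha1]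
  -- `n t f ≤ (n + 1) f`, so `n t ≤ n + 1`
  have h4 : n * t * f ≤ (n + 1) * f := by nlinarith [h1]
  have h5 : n * t ≤ n + 1 := Nat.le_of_mul_le_mul_right h4 (by omega)
  have h6 : n * 2 ≤ n * t := Nat.mul_le_mul_left _ ht
  have hn1 : n = 1 := by omega
  subst hn1
  exact ⟨rfl, by omega⟩

section main

variable {p : ℕ} {P : Subgroup G} [Fintype P] {f n : ℕ} {X Y : Finset (IrrCharacter G)}
  {dl : IrrCharacter G → ℤ} {ε : ℤ} {ι : Type v} [Fintype ι] {Θ : ι → G → ℂ} {l₀ : ι}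

open Classical in
/-- **L4** (`ε = +`), abstract form: if `ψ ψ̄` contains every `Θ l` (`l ≠ l₀`) for some `ψ ∈ Y`,
then `n = 1` and `|Y| = 2`. -/
theorem br_epl_main (H : br_nd_Hyp p P f n X Y dl ε Θ l₀) (he : ε = 1)
    (ψ : IrrCharacter G) (hψ : ψ ∈ Y)
    (hF : ∀ l, l ≠ l₀ → classInner (d1_brb_prod (ψ : G → ℂ) (ψ : G → ℂ)) (Θ l) ≠ 0)
    (hf : 2 ≤ f) (hn : 1 ≤ n) (hY : 2 ≤ Y.card) : n = 1 ∧ Y.card = 2 := by
  set A : Finset (IrrCharacter G) := X.filter (fun χ => χ ≠ trivIrr G ∧ dl χ = 1) with hA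
  have hAmem : ∀ χ, χ ∈ A ↔ (χ ∈ X ∧ χ ≠ trivIrr G ∧ dl χ = 1) := by
    intro χ
    rw [hA, Finset.mem_filter]
  have hcount := H.count A hAmem
  rw [H.w_eq_zero he, add_zero] at hcount
  have hψc : IsCharacter G (ψ : G → ℂ) := IsIrrCharacter.isCharacter ψ.2
  have hΦ : IsCharacter G (d1_brb_prod (ψ : G → ℂ) (ψ : G → ℂ)) :=
    d1_brb_prod_isCharacter hψc hψc
  -- the constituents
  have htA : trivIrr G ∉ A := fun h => ((hAmem _).1 h).2.1 rfl
  have hS : ∀ χ ∈ insert (trivIrr G) A,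
      classInner (d1_brb_prod (ψ : G → ℂ) (ψ : G → ℂ)) (χ : G → ℂ) ≠ 0 := by
    intro χ hχ
    rcases Finset.mem_insert.mp hχ with h | h
    · rw [h, br_epl_inner_triv, classInner_irr_self ψ.2]
      exact one_ne_zero
    · obtain ⟨hχX, hχt, hd⟩ := (hAmem χ).1 h
      have hc := H.card_eq χ hχX hχt hd
      have hne : (Finset.univ.filter (fun l => Θ l = (χ : G → ℂ))).Nonempty := by
        rw [← Finset.card_pos, hc]
        omega
      obtain ⟨l, hl⟩ := hne
      have hΘl : Θ l = (χ : G → ℂ) := (Finset.mem_filter.mp hl).2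
      have hl0 : l ≠ l₀ := by
        intro h0
        rw [h0] at hΘl
        exact H.perm_ne χ hχt hΘl
      rw [← hΘl]
      exact hF l hl0
  have hdeg := br_epl_degree_ge hΦ (insert (trivIrr G) A) hS
  rw [Finset.sum_insert htA, br_epl_degree_prod hψc, H.deg_eps_plus he ψ hψ] at hdeg
  have h1 : charDegree ((trivIrr G : IrrCharacter G) : G → ℂ) = 1 := by
    have h2 := charDegree_cast_of_isCharacter
      (IsIrrCharacter.isCharacter (trivIrr G : IrrCharacter G).2)
    have h3 : ((trivIrr G : IrrCharacter G) : G → ℂ) 1 = 1 := rfl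
    rw [h3] at h2
    exact_mod_cast h2
  have h2 : ∑ χ ∈ A, charDegree (χ : G → ℂ) = A.card * (1 + n * p) := by
    rw [Finset.sum_congr rfl (fun χ hχ => H.star_X χ ((hAmem χ).1 hχ).1 ((hAmem χ).1 hχ).2.1
      ((hAmem χ).1 hχ).2.2), Finset.sum_const, smul_eq_mul]
  rw [h1, h2] at hdeg
  exact br_epl_arith p f n Y.card A.card hf hn hY H.card_Y H.prime.pos hcount hdeg

/-- **L4** (`ε = +`), concrete form: `Θ l` is induced from a function `lam l` on `N ⊇ P` which is `1`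
on `P`, and some `ψ ∈ Y` vanishes on `N ∖ P` and has `∑_{x ∈ P} |ψ x|² = |N|`. -/
theorem br_epl_main_ind (H : br_nd_Hyp p P f n X Y dl ε Θ l₀) (he : ε = 1)
    (N : Subgroup G) [Fintype N] (hPN : P ≤ N) (lam : ι → N → ℂ)
    (hlam : ∀ l, ∀ m : N, (m : G) ∈ P → lam l m = 1) (hΘ : ∀ l, Θ l = indFun N (lam l))
    (ψ : IrrCharacter G) (hψ : ψ ∈ Y)
    (hvan : ∀ m : G, m ∈ N → m ∉ P → (ψ : G → ℂ) m = 0)
    (hnorm : ∑ x : P, (ψ : G → ℂ) (x : G) * conj ((ψ : G → ℂ) (x : G)) = (Nat.card N : ℂ))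
    (hf : 2 ≤ f) (hn : 1 ≤ n) (hY : 2 ≤ Y.card) : n = 1 ∧ Y.card = 2 := by
  apply br_epl_main H he ψ hψ _ hf hn hY
  intro l _
  rw [hΘ l, br_epl_inner_ind N P hPN (ψ : G → ℂ)
    (IsCharacter.isClassFunction (IsIrrCharacter.isCharacter ψ.2)) hvan hnorm (lam l) (hlam l)]
  exact one_ne_zero

end main

end Cfsg.Agent.BR
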