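import Mathlib
import Cfsg.Prelude.Def_Characters

/-!
# Brauer–Reynolds track: characters without `P`-fixed vectors (helper8)

Pure linear algebra on the representation behind `IsCharacter` (used for (F2) of
`notes/BrauerReynolds_blueprint_helper1.md` and for THEOREM B).

* `br_fixp_sum_mul` : if `∑_{x ∈ P} χ x = 0` (no `P`-fixed vectors) then `∑_{x ∈ P} χ (g x) = 0` for
  every `g`.
* `br_fixp_sum_mul'` : the same with `x g`.
* `br_fixp_coset_conj` : if `h` normalizes the abelian subgroup `P` and `C_P(h) = 1` then every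
  element of the coset `h P` is `P`-conjugate to `h`.
* `br_fixp_vanish` : under both hypotheses `χ h = 0`.
-/

set_option autoImplicit false

namespace Cfsg.Agent.BR

open Cfsg

universe u

variable {G : Type u} [Group G]

/-- the square of the sum of a representation over a subgroup -/
theorem br_fixp_sum_sq {n : ℕ} (ρ : Representation ℂ G (Fin n → ℂ)) (P : Subgroup G)
    [Fintype P] :
    (∑ x : P, ρ (x : G)) * (∑ x : P, ρ (x : G)) = (Fintype.card P : ℂ) • ∑ x : P, ρ (x : G) := by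
  rw [Finset.sum_mul_sum]
  have h1 : ∀ x : P, ∑ y : P, ρ (x : G) * ρ (y : G) = ∑ z : P, ρ (z : G) := by
    intro x
    rw [← Equiv.sum_comp (Equiv.mulLeft x) (fun z : P => ρ (z : G))]
    apply Finset.sum_congr rfl
    intro y _
    rw [← map_mul]
    rfl
  rw [Finset.sum_congr rfl (fun x _ => h1 x), Finset.sum_const, Finset.card_univ,
    Nat.cast_smul_eq_nsmul]

/-- a representation without `P`-fixed vectors: the sum over `P` is zero -/
theorem br_fixp_sum_eq_zero {n : ℕ} (ρ : Representation ℂ G (Fin n → ℂ)) (P : Subgroup G)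
    [Fintype P] (h0 : ∑ x : P, ρ.character (x : G) = 0) : ∑ x : P, ρ (x : G) = 0 := by
  have hc : (Fintype.card P : ℂ) ≠ 0 := by
    have : 0 < Fintype.card P := Fintype.card_pos
    exact_mod_cast this.ne'
  set s : Module.End ℂ (Fin n → ℂ) := ∑ x : P, ρ (x : G) with hs
  set e : Module.End ℂ (Fin n → ℂ) := (Fintype.card P : ℂ)⁻¹ • s with he
  have hidem : IsIdempotentElem e := by
    unfold IsIdempotentElem
    rw [he, smul_mul_smul_comm, br_fixp_sum_sq ρ P, smul_smul]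
    congr 1
    field_simp
  have htr : LinearMap.trace ℂ (Fin n → ℂ) e = 0 := by
    rw [he, map_smul, hs, map_sum]
    have : ∑ x : P, LinearMap.trace ℂ (Fin n → ℂ) (ρ (x : G)) = 0 := h0
    rw [this, smul_zero]
  have he0 : e = 0 := (LinearMap.IsIdempotentElem.trace_eq_zero_iff hidem).mp htr
  have : s = (Fintype.card P : ℂ) • e := by
    rw [he, smul_smul, mul_inv_cancel₀ hc, one_smul]
  rw [this, he0, smul_zero]

/-- **no `P`-fixed vectors**: if `∑_{x ∈ P} χ x = 0` then `∑_{x ∈ P} χ (g x) = 0` for all `g` -/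
theorem br_fixp_sum_mul (P : Subgroup G) [Fintype P] {χ : G → ℂ} (hχ : IsCharacter G χ)
    (h0 : ∑ x : P, χ (x : G) = 0) (g : G) : ∑ x : P, χ (g * (x : G)) = 0 := by
  obtain ⟨n, ρ, rfl⟩ := hχ
  have hs := br_fixp_sum_eq_zero ρ P h0
  have h1 : ∑ x : P, ρ.character (g * (x : G)) =
      LinearMap.trace ℂ (Fin n → ℂ) (ρ g * ∑ x : P, ρ (x : G)) := by
    rw [Finset.mul_sum, map_sum]
    apply Finset.sum_congr rfl
    intro x _
    rw [← map_mul]
    rfl
  rw [h1, hs, mul_zero, map_zero]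

/-- the same with multiplication on the right -/
theorem br_fixp_sum_mul' (P : Subgroup G) [Fintype P] {χ : G → ℂ} (hχ : IsCharacter G χ)
    (h0 : ∑ x : P, χ (x : G) = 0) (g : G) : ∑ x : P, χ ((x : G) * g) = 0 := by
  obtain ⟨n, ρ, rfl⟩ := hχ
  have hs := br_fixp_sum_eq_zero ρ P h0
  have h1 : ∑ x : P, ρ.character ((x : G) * g) =
      LinearMap.trace ℂ (Fin n → ℂ) ((∑ x : P, ρ (x : G)) * ρ g) := by
    rw [Finset.sum_mul, map_sum]
    apply Finset.sum_congr rfl
    intro x _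
    rw [← map_mul]
    rfl
  rw [h1, hs, zero_mul, map_zero]

/-- if `h` normalizes the abelian subgroup `P` and centralizes no nonidentity element of it, then
every element `h y` (`y ∈ P`) is conjugate to `h` under `P` -/
theorem br_fixp_coset_conj (P : Subgroup G) [Finite P]
    (hab : ∀ a ∈ P, ∀ b ∈ P, a * b = b * a) (h : G)
    (hnorm : ∀ x ∈ P, h⁻¹ * x * h ∈ P) (hfix : ∀ x ∈ P, h⁻¹ * x * h = x → x = 1)
    (y : G) (hy : y ∈ P) : ∃ x ∈ P, x⁻¹ * h * x = h * y := by
  -- `φ x = h⁻¹ x⁻¹ h x` is an injective self-map of `P`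
  let φ : P → P := fun x => ⟨h⁻¹ * (x : G)⁻¹ * h * x, by
    have h1 := hnorm (x : G)⁻¹ (P.inv_mem x.2)
    exact P.mul_mem h1 x.2⟩
  have hinj : Function.Injective φ := by
    intro x x' hxx
    have h1 : h⁻¹ * (x : G)⁻¹ * h * x = h⁻¹ * (x' : G)⁻¹ * h * x' := congrArg Subtype.val hxx
    -- set `c a = h⁻¹ a h`
    have hcx : h⁻¹ * (x : G)⁻¹ * h ∈ P := hnorm _ (P.inv_mem x.2)
    have hcx' : h⁻¹ * (x' : G)⁻¹ * h ∈ P := hnorm _ (P.inv_mem x'.2)
    have hd : (x' : G) * (x : G)⁻¹ ∈ P := P.mul_mem x'.2 (P.inv_mem x.2)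
    have h2 : h⁻¹ * ((x' : G) * (x : G)⁻¹) * h = (x' : G) * (x : G)⁻¹ := by
      -- `c(x' x⁻¹) = c(x') c(x)⁻¹` and `c(x)⁻¹ x = c(x')⁻¹ x'`
      have e1 : h⁻¹ * ((x' : G) * (x : G)⁻¹) * h =
          (h⁻¹ * (x' : G)⁻¹ * h)⁻¹ * (h⁻¹ * (x : G)⁻¹ * h) := by group
      rw [e1]
      -- from h1: (c x⁻¹) x = (c x'⁻¹) x'
      have e2 : (h⁻¹ * (x : G)⁻¹ * h) = (h⁻¹ * (x' : G)⁻¹ * h) * (x' : G) * (x : G)⁻¹ := by
        rw [← h1]; group
      rw [e2]
      have e3 : (h⁻¹ * (x' : G)⁻¹ * h) * (x' : G) * (x : G)⁻¹ =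
          (h⁻¹ * (x' : G)⁻¹ * h) * ((x' : G) * (x : G)⁻¹) := by group
      rw [e3, ← mul_assoc, inv_mul_cancel, one_mul]
    have h3 := hfix _ hd h2
    have h4 : (x' : G) = (x : G) := by
      have := mul_inv_eq_one.mp h3
      exact this
    exact Subtype.ext h4.symm
  have hsurj : Function.Surjective φ := Finite.surjective_of_injective hinj
  obtain ⟨x, hx⟩ := hsurj ⟨y, hy⟩
  refine ⟨x, x.2, ?_⟩
  have h1 : h⁻¹ * (x : G)⁻¹ * h * x = y := congrArg Subtype.val hx
  rw [← h1]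
  group

/-- **(F2), vanishing**: a character without `P`-fixed vectors vanishes at every `h` normalizing
the abelian subgroup `P` with `C_P(h) = 1` -/
theorem br_fixp_vanish (P : Subgroup G) [Fintype P]
    (hab : ∀ a ∈ P, ∀ b ∈ P, a * b = b * a) (h : G)
    (hnorm : ∀ x ∈ P, h⁻¹ * x * h ∈ P) (hfix : ∀ x ∈ P, h⁻¹ * x * h = x → x = 1)
    {χ : G → ℂ} (hχ : IsCharacter G χ) (h0 : ∑ x : P, χ (x : G) = 0) : χ h = 0 := by
  have hcf : ∀ a b : G, χ (b⁻¹ * a * b) = χ a := by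
    obtain ⟨n, ρ, rfl⟩ := hχ
    intro a b
    have := ρ.char_conj a b⁻¹
    rw [inv_inv] at this
    exact this
  have h1 : ∀ y : P, χ (h * (y : G)) = χ h := by
    intro y
    obtain ⟨x, -, hx⟩ := br_fixp_coset_conj P hab h hnorm hfix y y.2
    rw [← hx, hcf]
  have h2 := br_fixp_sum_mul P hχ h0 h
  rw [Finset.sum_congr rfl (fun y _ => h1 y), Finset.sum_const, Finset.card_univ,
    nsmul_eq_mul] at h2
  have hc : (Fintype.card P : ℂ) ≠ 0 := by
    have : 0 < Fintype.card P := Fintype.card_pos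
    exact_mod_cast this.ne'
  exact (mul_eq_zero.mp h2).resolve_left hc

end Cfsg.Agent.BR
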