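import Mathlib

/-!
# Brauer–Reynolds track: pure group theory of `N = N_G(P)` for `|P| = p`, `C_G(P) = P`

`f := |N : P|` (spelled `(P : Subgroup G).relIndex (Subgroup.normalizer ((P : Subgroup G) : Set G))`).
`N / P` is cyclic of order `f ∣ p - 1`; `f ≥ 2` for perfect `G`; a complement `H` exists
(cyclic of order `f`, fixed-point-free on `P`); complements are `P`-conjugate; `P` is T.I.; for
`x ∉ N` the group `N ∩ x N x⁻¹` meets `P` trivially, is cyclic, of order dividing `f`;
`|G| = p f |Syl_p|`.
-/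

set_option autoImplicit false
set_option linter.unusedSectionVars false
set_option linter.unusedVariables false
set_option linter.style.haveILetI false

namespace Cfsg.Agent.BR

open Subgroup

variable {G : Type*} [Group G]

def br_setup_D (N : Subgroup G) (x : G) : Subgroup G :=
  N ⊓ N.map (MulAut.conj x).toMonoidHom

theorem br_setup_mem_D (N : Subgroup G) (x m : G) :
    m ∈ br_setup_D N x ↔ m ∈ N ∧ x⁻¹ * m * x ∈ N := by
  unfold br_setup_D
  rw [Subgroup.mem_inf, Subgroup.mem_map]
  constructor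
  · rintro ⟨h1, y, hy, hym⟩
    refine ⟨h1, ?_⟩
    have : y = x⁻¹ * m * x := by
      rw [← hym]; simp [MulAut.conj_apply, mul_assoc]
    rw [← this]; exact hy
  · rintro ⟨h1, h2⟩
    exact ⟨h1, x⁻¹ * m * x, h2, by simp [MulAut.conj_apply, mul_assoc]⟩

theorem br_setup_toQuot_injective (P K D : Subgroup G) [hn : (P.subgroupOf K).Normal]
    (hDK : D ≤ K) (hDP : D ⊓ P = ⊥) :
    Function.Injective ((QuotientGroup.mk' (P.subgroupOf K)).comp (Subgroup.inclusion hDK)) := by
  rw [injective_iff_map_eq_one]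
  intro d hd
  have : Subgroup.inclusion hDK d ∈ P.subgroupOf K := by
    rwa [MonoidHom.comp_apply, QuotientGroup.mk'_apply, QuotientGroup.eq_one_iff] at hd
  rw [Subgroup.mem_subgroupOf] at this
  have h2 : (d : G) ∈ D ⊓ P := ⟨d.2, this⟩
  rw [hDP, Subgroup.mem_bot] at h2
  exact Subtype.ext h2

variable [Finite G] (p : ℕ) [Fact p.Prime] (P : Sylow p G)

theorem br_setup_card_N (hP : Nat.card P = p) :
    Nat.card (Subgroup.normalizer ((P : Subgroup G) : Set G)) =
      p * (P : Subgroup G).relIndex (Subgroup.normalizer ((P : Subgroup G) : Set G)) := by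
  have h := Subgroup.card_mul_index ((P : Subgroup G).subgroupOf
    (Subgroup.normalizer ((P : Subgroup G) : Set G)))
  rw [← h]
  congr 1
  exact (Nat.card_congr (Subgroup.subgroupOfEquivOfLe Subgroup.le_normalizer).toEquiv).trans hP

theorem br_setup_card_G (hP : Nat.card P = p) :
    Nat.card G = p * (P : Subgroup G).relIndex (Subgroup.normalizer ((P : Subgroup G) : Set G)) *
      Nat.card (Sylow p G) := by
  rw [← br_setup_card_N p P hP, P.card_eq_index_normalizer]
  exact (Subgroup.card_mul_index _).symm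

theorem br_setup_isCyclic_P (hP : Nat.card P = p) : IsCyclic (P : Subgroup G) :=
  isCyclic_of_prime_card hP

theorem br_setup_centralizer_eq (hP : Nat.card P = p)
    (hC : Subgroup.centralizer ((P : Subgroup G) : Set G) ≤ (P : Subgroup G)) :
    Subgroup.centralizer ((P : Subgroup G) : Set G) = (P : Subgroup G) := by
  haveI := br_setup_isCyclic_P p P hP
  exact le_antisymm hC (Subgroup.le_centralizer _)

theorem br_setup_f_dvd (hP : Nat.card P = p)
    (hC : Subgroup.centralizer ((P : Subgroup G) : Set G) ≤ (P : Subgroup G)) :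
    (P : Subgroup G).relIndex (Subgroup.normalizer ((P : Subgroup G) : Set G)) ∣ p - 1 := by
  have hcyc := br_setup_isCyclic_P p P hP
  have key := Subgroup.card_dvd_of_injective _
    (QuotientGroup.kerLift_injective (P : Subgroup G).normalizerMonoidHom)
  rw [normalizerMonoidHom_ker, ← index, ← relIndex, br_setup_centralizer_eq p P hP hC,
    hcyc.card_mulAut, hP, Nat.totient_prime Fact.out] at key
  exact key


/-- a `p`-element of `N_G(P)` lies in `P` -/
theorem br_setup_mem_P_of_mem_N {u : G} (hu : u ∈ Subgroup.normalizer ((P : Subgroup G) : Set G))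
    (k : ℕ) (hk : u ^ (p ^ k) = 1) : u ∈ (P : Subgroup G) := by
  have hpg : IsPGroup p (Subgroup.zpowers u) := by
    rw [IsPGroup.iff_orderOf]
    intro g
    obtain ⟨j, hj⟩ := Subgroup.mem_zpowers_iff.mp g.2
    have hg : g ^ (p ^ k) = 1 := by
      apply Subtype.ext
      rw [Subgroup.coe_pow, ← hj, ← zpow_natCast, ← zpow_mul, mul_comm, zpow_mul, zpow_natCast, hk,
        one_zpow, Subgroup.coe_one]
    obtain ⟨j, -, hj⟩ := (Nat.dvd_prime_pow Fact.out).mp (orderOf_dvd_of_pow_eq_one hg)
    exact ⟨j, hj⟩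
  have h := hpg.inf_normalizer_sylow P
  have h1 : u ∈ Subgroup.zpowers u ⊓ Subgroup.normalizer (P : Set G) :=
    ⟨Subgroup.mem_zpowers u, hu⟩
  rw [h] at h1
  exact h1.2

/-- a nontrivial element of `P` (of order `p`) generates it -/
theorem br_setup_zpowers_eq (hP : Nat.card P = p) {m : G} (hm : m ∈ (P : Subgroup G)) (h1 : m ≠ 1) :
    Subgroup.zpowers m = (P : Subgroup G) := by
  have hle : Subgroup.zpowers m ≤ (P : Subgroup G) := (Subgroup.zpowers_le).mpr hm
  apply Subgroup.eq_of_le_of_card_ge hle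
  rw [hP, Nat.card_zpowers]
  have hdvd : orderOf m ∣ p := by
    have := Subgroup.card_dvd_of_le hle
    rwa [Nat.card_zpowers, hP] at this
  rcases (Nat.dvd_prime Fact.out).mp hdvd with h | h
  · exact absurd (orderOf_eq_one_iff.mp h) h1
  · exact h.ge

theorem br_setup_pow_p (hP : Nat.card P = p) {m : G} (hm : m ∈ (P : Subgroup G)) : m ^ p = 1 := by
  have := pow_card_eq_one' (G := (P : Subgroup G)) (x := ⟨m, hm⟩)
  rw [hP] at this
  exact congrArg Subtype.val this

/-- `P` is T.I. -/
theorem br_setup_ti (hP : Nat.card P = p) (x : G)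
    (hx : x ∉ Subgroup.normalizer ((P : Subgroup G) : Set G)) (m : G) (hm : m ∈ (P : Subgroup G))
    (hm' : x⁻¹ * m * x ∈ Subgroup.normalizer ((P : Subgroup G) : Set G)) : m = 1 := by
  by_contra h1
  apply hx
  have hmp := br_setup_pow_p p P hP hm
  have h2 : x⁻¹ * m * x ∈ (P : Subgroup G) := by
    apply br_setup_mem_P_of_mem_N p P hm' 1
    rw [pow_one]
    have : (x⁻¹ * m * x) ^ p = x⁻¹ * m ^ p * x := by
      have := conj_pow (a := x⁻¹) (b := m) (i := p)
      simpa using this
    rw [this, hmp]; group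
  have h3 : x⁻¹ * m * x ≠ 1 := by
    intro h; apply h1
    have : m = x * (x⁻¹ * m * x) * x⁻¹ := by group
    rw [this, h]; group
  have e1 := br_setup_zpowers_eq p P hP hm h1
  have e2 := br_setup_zpowers_eq p P hP h2 h3
  -- `x⁻¹ ∈ N`
  have hxinv : x⁻¹ ∈ Subgroup.normalizer ((P : Subgroup G) : Set G) := by
    rw [Subgroup.mem_normalizer_iff_map_conj_eq]
    conv_lhs => rw [← e1]
    rw [MonoidHom.map_zpowers]
    conv_rhs => rw [← e2]
    congr 1
    simp
  simpa using Subgroup.inv_mem _ hxinv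

theorem br_setup_isCyclic_mulAut (hP : Nat.card P = p) : IsCyclic (MulAut (P : Subgroup G)) := by
  have hcyc := br_setup_isCyclic_P p P hP
  have e := IsCyclic.mulAutMulEquiv (P : Subgroup G)
  rw [hP] at e
  exact isCyclic_of_injective e.toMonoidHom e.injective

theorem br_setup_isCyclic_quot (hP : Nat.card P = p)
    (hC : Subgroup.centralizer ((P : Subgroup G) : Set G) ≤ (P : Subgroup G)) :
    IsCyclic (Subgroup.normalizer ((P : Subgroup G) : Set G) ⧸
      (P : Subgroup G).subgroupOf (Subgroup.normalizer ((P : Subgroup G) : Set G))) := by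
  have hA := br_setup_isCyclic_mulAut p P hP
  have hker : (P : Subgroup G).normalizerMonoidHom.ker =
      (P : Subgroup G).subgroupOf (Subgroup.normalizer ((P : Subgroup G) : Set G)) := by
    rw [normalizerMonoidHom_ker, br_setup_centralizer_eq p P hP hC]
  have h1 : IsCyclic (Subgroup.normalizer ((P : Subgroup G) : Set G) ⧸
      (P : Subgroup G).normalizerMonoidHom.ker) :=
    isCyclic_of_injective (QuotientGroup.kerLift (P : Subgroup G).normalizerMonoidHom)
      (QuotientGroup.kerLift_injective _)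
  exact isCyclic_of_surjective (QuotientGroup.quotientMulEquivOfEq hker).toMonoidHom
    (QuotientGroup.quotientMulEquivOfEq hker).surjective


/-- a complement of `P` in `N` -/
def br_setup_IsCompl (H : Subgroup G) : Prop :=
  H ≤ Subgroup.normalizer ((P : Subgroup G) : Set G) ∧
    Nat.card H = (P : Subgroup G).relIndex (Subgroup.normalizer ((P : Subgroup G) : Set G)) ∧
    H ⊓ (P : Subgroup G) = ⊥

theorem br_setup_coprime_f :
    Nat.Coprime p ((P : Subgroup G).relIndex (Subgroup.normalizer ((P : Subgroup G) : Set G))) := by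
  rw [Nat.Prime.coprime_iff_not_dvd Fact.out]
  intro h
  exact P.not_dvd_index (h.trans (Subgroup.relIndex_dvd_index_of_le Subgroup.le_normalizer))

theorem br_setup_exists_compl (hP : Nat.card P = p) :
    ∃ H : Subgroup G, br_setup_IsCompl p P H := by
  have hcop := br_setup_coprime_f p P
  have hcardP : Nat.card ((P : Subgroup G).subgroupOf
      (Subgroup.normalizer ((P : Subgroup G) : Set G))) = p :=
    (Nat.card_congr (Subgroup.subgroupOfEquivOfLe Subgroup.le_normalizer).toEquiv).trans hP
  obtain ⟨H₀, hH₀⟩ := Subgroup.exists_right_complement'_of_coprime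
    (N := (P : Subgroup G).subgroupOf (Subgroup.normalizer ((P : Subgroup G) : Set G)))
    (by rw [hcardP]; exact hcop)
  refine ⟨H₀.map (Subgroup.normalizer ((P : Subgroup G) : Set G)).subtype, ?_, ?_, ?_⟩
  · exact Subgroup.map_subtype_le _
  · rw [Subgroup.card_map_of_injective (Subgroup.subtype_injective _)]
    exact hH₀.symm.index_eq_card.symm
  · apply (Subgroup.disjoint_of_coprime_natCard _).eq_bot
    rw [Subgroup.card_map_of_injective (Subgroup.subtype_injective _), ← hH₀.symm.index_eq_card, hP]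
    exact hcop.symm

theorem br_setup_compl_sup (hP : Nat.card P = p) (H : Subgroup G) (hH : br_setup_IsCompl p P H) :
    H ⊔ (P : Subgroup G) = Subgroup.normalizer ((P : Subgroup G) : Set G) := by
  obtain ⟨hHN, hcard, -⟩ := hH
  have hle : H ⊔ (P : Subgroup G) ≤ Subgroup.normalizer ((P : Subgroup G) : Set G) :=
    sup_le hHN Subgroup.le_normalizer
  apply Subgroup.eq_of_le_of_card_ge hle
  have h1 : Nat.card H ∣ Nat.card (H ⊔ (P : Subgroup G) : Subgroup G) :=
    Subgroup.card_dvd_of_le le_sup_left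
  have h2 : Nat.card (P : Subgroup G) ∣ Nat.card (H ⊔ (P : Subgroup G) : Subgroup G) :=
    Subgroup.card_dvd_of_le le_sup_right
  rw [hcard] at h1
  rw [hP] at h2
  have h3 := (br_setup_coprime_f p P).mul_dvd_of_dvd_of_dvd h2 h1
  have hN : Nat.card (Subgroup.normalizer ((P : Subgroup G) : Set G)) =
      p * (P : Subgroup G).relIndex (Subgroup.normalizer ((P : Subgroup G) : Set G)) := by
    have h := Subgroup.card_mul_index ((P : Subgroup G).subgroupOf
      (Subgroup.normalizer ((P : Subgroup G) : Set G)))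
    rw [← h]
    congr 1
    exact (Nat.card_congr (Subgroup.subgroupOfEquivOfLe Subgroup.le_normalizer).toEquiv).trans hP
  rw [hN]
  exact Nat.le_of_dvd Nat.card_pos h3


theorem br_setup_two_le_f (hP : Nat.card P = p)
    (hC : Subgroup.centralizer ((P : Subgroup G) : Set G) ≤ (P : Subgroup G))
    (hperf : commutator G = ⊤) :
    2 ≤ (P : Subgroup G).relIndex (Subgroup.normalizer ((P : Subgroup G) : Set G)) := by
  by_contra hlt
  have hpos : 0 < (P : Subgroup G).relIndex (Subgroup.normalizer ((P : Subgroup G) : Set G)) :=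
    Nat.pos_of_dvd_of_pos (Subgroup.relIndex_dvd_card _ _) Nat.card_pos
  have h1 : (P : Subgroup G).relIndex (Subgroup.normalizer ((P : Subgroup G) : Set G)) = 1 := by
    omega
  rw [Subgroup.relIndex_eq_one] at h1
  have hcyc : IsCyclic (P : Subgroup G) := isCyclic_of_prime_card hP
  have hNC : Subgroup.normalizer (P : Set G) ≤ Subgroup.centralizer (P : Set G) :=
    h1.trans (Subgroup.le_centralizer (P : Subgroup G))
  have hcomp := MonoidHom.ker_transferSylow_isComplement' P hNC
  have hker : (MonoidHom.transferSylow P hNC).ker = ⊤ := by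
    rw [eq_top_iff, ← hperf, commutator_eq_closure, Subgroup.closure_le]
    rintro g ⟨a, b, rfl⟩
    rw [SetLike.mem_coe, MonoidHom.mem_ker, map_commutatorElement]
    have : ∀ u v : (P : Subgroup G), u * v = v * u := fun u v =>
      Subtype.ext (hNC (Subgroup.le_normalizer v.2) u u.2)
    rw [commutatorElement_def, this ((MonoidHom.transferSylow P hNC) a)]
    group
  rw [hker, Subgroup.isComplement'_top_left] at hcomp
  have : Nat.card (P : Subgroup G) = 1 := by rw [hcomp]; exact Subgroup.card_bot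
  have hp2 := (Fact.out : p.Prime).two_le
  have hP' : Nat.card (P : Subgroup G) = p := hP
  omega

theorem br_setup_D_le (N : Subgroup G) (x : G) : br_setup_D N x ≤ N := inf_le_left

theorem br_setup_D_inf_P (hP : Nat.card P = p) (x : G)
    (hx : x ∉ Subgroup.normalizer ((P : Subgroup G) : Set G)) :
    br_setup_D (Subgroup.normalizer ((P : Subgroup G) : Set G)) x ⊓ (P : Subgroup G) = ⊥ := by
  rw [eq_bot_iff]
  intro m hm
  obtain ⟨hmD, hmP⟩ := Subgroup.mem_inf.mp hm
  rw [br_setup_mem_D] at hmD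
  rw [Subgroup.mem_bot]
  exact br_setup_ti p P hP x hx m hmP hmD.2

theorem br_setup_card_D_dvd (hP : Nat.card P = p) (x : G)
    (hx : x ∉ Subgroup.normalizer ((P : Subgroup G) : Set G)) :
    Nat.card (br_setup_D (Subgroup.normalizer ((P : Subgroup G) : Set G)) x) ∣
      (P : Subgroup G).relIndex (Subgroup.normalizer ((P : Subgroup G) : Set G)) := by
  have hinj := br_setup_toQuot_injective (P : Subgroup G)
    (Subgroup.normalizer ((P : Subgroup G) : Set G))
    (br_setup_D (Subgroup.normalizer ((P : Subgroup G) : Set G)) x)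
    (br_setup_D_le _ x) (br_setup_D_inf_P p P hP x hx)
  have := Subgroup.card_dvd_of_injective _ hinj
  rwa [← Subgroup.index_eq_card] at this

theorem br_setup_card_D_le (hP : Nat.card P = p) (x : G)
    (hx : x ∉ Subgroup.normalizer ((P : Subgroup G) : Set G)) :
    Nat.card (br_setup_D (Subgroup.normalizer ((P : Subgroup G) : Set G)) x) ≤
      (P : Subgroup G).relIndex (Subgroup.normalizer ((P : Subgroup G) : Set G)) :=
  Nat.le_of_dvd (Nat.pos_of_dvd_of_pos (Subgroup.relIndex_dvd_card _ _) Nat.card_pos)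
    (br_setup_card_D_dvd p P hP x hx)

theorem br_setup_isCyclic_D (hP : Nat.card P = p)
    (hC : Subgroup.centralizer ((P : Subgroup G) : Set G) ≤ (P : Subgroup G)) (x : G)
    (hx : x ∉ Subgroup.normalizer ((P : Subgroup G) : Set G)) :
    IsCyclic (br_setup_D (Subgroup.normalizer ((P : Subgroup G) : Set G)) x) := by
  have hinj := br_setup_toQuot_injective (P : Subgroup G)
    (Subgroup.normalizer ((P : Subgroup G) : Set G))
    (br_setup_D (Subgroup.normalizer ((P : Subgroup G) : Set G)) x)
    (br_setup_D_le _ x) (br_setup_D_inf_P p P hP x hx)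
  have := br_setup_isCyclic_quot p P hP hC
  exact isCyclic_of_injective _ hinj

theorem br_setup_D_isCompl (hP : Nat.card P = p) (x : G)
    (hx : x ∉ Subgroup.normalizer ((P : Subgroup G) : Set G))
    (hD : Nat.card (br_setup_D (Subgroup.normalizer ((P : Subgroup G) : Set G)) x) =
      (P : Subgroup G).relIndex (Subgroup.normalizer ((P : Subgroup G) : Set G))) :
    br_setup_IsCompl p P (br_setup_D (Subgroup.normalizer ((P : Subgroup G) : Set G)) x) :=
  ⟨br_setup_D_le _ x, hD, br_setup_D_inf_P p P hP x hx⟩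

theorem br_setup_compl_isCyclic (hP : Nat.card P = p)
    (hC : Subgroup.centralizer ((P : Subgroup G) : Set G) ≤ (P : Subgroup G))
    (H : Subgroup G) (hH : br_setup_IsCompl p P H) : IsCyclic H := by
  have hinj := br_setup_toQuot_injective (P : Subgroup G)
    (Subgroup.normalizer ((P : Subgroup G) : Set G)) H hH.1 hH.2.2
  have := br_setup_isCyclic_quot p P hP hC
  exact isCyclic_of_injective _ hinj

/-- an element of `G` centralizing a nontrivial element of `P` centralizes `P` -/
theorem br_setup_mem_centralizer (hP : Nat.card P = p) (h x : G) (hx : x ∈ (P : Subgroup G))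
    (hx1 : x ≠ 1) (hcomm : h * x = x * h) :
    h ∈ Subgroup.centralizer ((P : Subgroup G) : Set G) := by
  rw [Subgroup.mem_centralizer_iff]
  intro y hy
  rw [SetLike.mem_coe, ← br_setup_zpowers_eq p P hP hx hx1, Subgroup.mem_zpowers_iff] at hy
  obtain ⟨k, rfl⟩ := hy
  have hc : Commute h x := hcomm
  exact (hc.zpow_right k).eq.symm

/-- fixed-point-freeness -/
theorem br_setup_compl_fpf (hP : Nat.card P = p)
    (hC : Subgroup.centralizer ((P : Subgroup G) : Set G) ≤ (P : Subgroup G))
    (H : Subgroup G) (hH : br_setup_IsCompl p P H) (h : G) (hh : h ∈ H) (h1 : h ≠ 1)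
    (x : G) (hx : x ∈ (P : Subgroup G)) (hcomm : h * x = x * h) : x = 1 := by
  by_contra hx1
  apply h1
  have h2 : h ∈ H ⊓ (P : Subgroup G) :=
    ⟨hh, hC (br_setup_mem_centralizer p P hP h x hx hx1 hcomm)⟩
  rw [hH.2.2, Subgroup.mem_bot] at h2
  exact h2

/-- a complement meets every coset of `P` in `N` -/
theorem br_setup_compl_surj (H : Subgroup G) (hH : br_setup_IsCompl p P H) (u : G)
    (hu : u ∈ Subgroup.normalizer ((P : Subgroup G) : Set G)) :
    ∃ h ∈ H, h⁻¹ * u ∈ (P : Subgroup G) := by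
  have hinj := br_setup_toQuot_injective (P : Subgroup G)
    (Subgroup.normalizer ((P : Subgroup G) : Set G)) H hH.1 hH.2.2
  have hbij := hinj.bijective_of_nat_card_le (by
    rw [hH.2.1, ← Subgroup.index_eq_card]; exact le_of_eq rfl)
  obtain ⟨h, hh⟩ := hbij.2 (QuotientGroup.mk ⟨u, hu⟩)
  refine ⟨h.1, h.2, ?_⟩
  rw [MonoidHom.comp_apply, QuotientGroup.mk'_apply, QuotientGroup.eq] at hh
  rw [Subgroup.mem_subgroupOf] at hh
  simpa using hh

/-- complements are conjugate under `P` -/
theorem br_setup_compl_conj (hP : Nat.card P = p)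
    (hC : Subgroup.centralizer ((P : Subgroup G) : Set G) ≤ (P : Subgroup G))
    (H H' : Subgroup G) (hH : br_setup_IsCompl p P H) (hH' : br_setup_IsCompl p P H') :
    ∃ m ∈ (P : Subgroup G), H' = H.map (MulAut.conj m).toMonoidHom := by
  have hcyc := br_setup_compl_isCyclic p P hP hC H hH
  obtain ⟨g, hg⟩ := hcyc.exists_generator
  -- `H = zpowers h`
  set h : G := (g : G) with hh_def
  have hhH : h ∈ H := g.2
  have hHz : H = Subgroup.zpowers h := by
    apply le_antisymm
    · intro y hy
      obtain ⟨k, hk⟩ := Subgroup.mem_zpowers_iff.mp (hg ⟨y, hy⟩)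
      rw [Subgroup.mem_zpowers_iff]
      exact ⟨k, by rw [hh_def, ← Subgroup.coe_zpow, hk]⟩
    · exact Subgroup.zpowers_le.mpr hhH
  have hord : orderOf h = (P : Subgroup G).relIndex (Subgroup.normalizer ((P : Subgroup G) : Set G)) := by
    rw [← Nat.card_zpowers, ← hHz, hH.2.1]
  have hhN : h ∈ Subgroup.normalizer ((P : Subgroup G) : Set G) := hH.1 hhH
  -- `h' ∈ H'` in the same coset
  obtain ⟨h', hh'H, hh'P⟩ := br_setup_compl_surj p P H' hH' h hhN
  have hh'N : h' ∈ Subgroup.normalizer ((P : Subgroup G) : Set G) := hH'.1 hh'H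
  -- `orderOf h' = f`, so `H' = zpowers h'`
  have hfpos : 0 < (P : Subgroup G).relIndex (Subgroup.normalizer ((P : Subgroup G) : Set G)) :=
    Nat.pos_of_dvd_of_pos (Subgroup.relIndex_dvd_card _ _) Nat.card_pos
  have hH'z : H' = Subgroup.zpowers h' := by
    symm
    apply Subgroup.eq_of_le_of_card_ge (Subgroup.zpowers_le.mpr hh'H)
    rw [hH'.2.1, Nat.card_zpowers, ← hord]
    -- `h ^ orderOf h' ∈ P ∩ H = 1`
    apply Nat.le_of_dvd (orderOf_pos h')
    apply orderOf_dvd_of_pow_eq_one
    have hmem : h ^ orderOf h' ∈ (P : Subgroup G) := by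
      -- in the quotient `N ⧸ P` the images of `h` and `h'` agree
      have e1 : (QuotientGroup.mk (s := (P : Subgroup G).subgroupOf
          (Subgroup.normalizer ((P : Subgroup G) : Set G))) ⟨h', hh'N⟩) =
          QuotientGroup.mk ⟨h, hhN⟩ := by
        rw [QuotientGroup.eq, Subgroup.mem_subgroupOf]
        simpa using hh'P
      have e2 : (QuotientGroup.mk (s := (P : Subgroup G).subgroupOf
          (Subgroup.normalizer ((P : Subgroup G) : Set G))) ⟨h, hhN⟩) ^ orderOf h' = 1 := by
        rw [← e1, ← QuotientGroup.mk_pow]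
        have : (⟨h', hh'N⟩ : Subgroup.normalizer ((P : Subgroup G) : Set G)) ^ orderOf h' = 1 := by
          apply Subtype.ext
          rw [Subgroup.coe_pow]
          exact pow_orderOf_eq_one h'
        rw [this]; rfl
      rw [← QuotientGroup.mk_pow, QuotientGroup.eq_one_iff, Subgroup.mem_subgroupOf] at e2
      simpa using e2
    have hmem2 : h ^ orderOf h' ∈ H ⊓ (P : Subgroup G) := ⟨H.pow_mem hhH _, hmem⟩
    rw [hH.2.2, Subgroup.mem_bot] at hmem2
    exact hmem2
  -- the case `h = 1`
  by_cases h1 : h = 1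
  · refine ⟨1, Subgroup.one_mem _, ?_⟩
    have hf1 : (P : Subgroup G).relIndex (Subgroup.normalizer ((P : Subgroup G) : Set G)) = 1 := by
      rw [← hord, h1, orderOf_one]
    have hb : H = ⊥ := Subgroup.eq_bot_of_card_eq _ (by rw [hH.2.1, hf1])
    have hb' : H' = ⊥ := Subgroup.eq_bot_of_card_eq _ (by rw [hH'.2.1, hf1])
    rw [hb, hb', Subgroup.map_bot]
  -- the map `m ↦ m h m⁻¹ h⁻¹` on `P`
  have hnorm : ∀ m ∈ (P : Subgroup G), h * m * h⁻¹ ∈ (P : Subgroup G) := fun m hm =>
    (Subgroup.mem_normalizer_iff.mp hhN m).mp hm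
  let ψ : ↥(P : Subgroup G) → ↥(P : Subgroup G) := fun m =>
    ⟨m * h * (m : G)⁻¹ * h⁻¹, by
      have : (m : G) * h * (m : G)⁻¹ * h⁻¹ = m * (h * (m : G)⁻¹ * h⁻¹) := by group
      rw [this]
      exact Subgroup.mul_mem _ m.2 (hnorm _ (Subgroup.inv_mem _ m.2))⟩
  have hψinj : Function.Injective ψ := by
    intro m m' hmm
    have e : (m : G) * h * (m : G)⁻¹ * h⁻¹ = m' * h * (m' : G)⁻¹ * h⁻¹ := congrArg Subtype.val hmm
    have e2 : (m : G) * h * (m : G)⁻¹ = m' * h * (m' : G)⁻¹ := mul_right_cancel e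
    have hcomm : h * ((m' : G)⁻¹ * m) = ((m' : G)⁻¹ * m) * h := by
      have : h = (m' : G)⁻¹ * ((m : G) * h * (m : G)⁻¹) * m' := by rw [e2]; group
      calc h * ((m' : G)⁻¹ * m) = ((m' : G)⁻¹ * ((m : G) * h * (m : G)⁻¹) * m') * ((m' : G)⁻¹ * m) := by
            rw [← this]
        _ = ((m' : G)⁻¹ * m) * h := by group
    have := br_setup_compl_fpf p P hP hC H hH h hhH h1 ((m' : G)⁻¹ * m)
      (Subgroup.mul_mem _ (Subgroup.inv_mem _ m'.2) m.2) hcomm
    apply Subtype.ext
    have : (m : G) = m' * ((m' : G)⁻¹ * m) := by group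
    rw [this, ‹(m' : G)⁻¹ * m = 1›, mul_one]
  have hψsurj : Function.Surjective ψ := Finite.injective_iff_surjective.mp hψinj
  -- `a = h' h⁻¹ ∈ P`
  have haP : h' * h⁻¹ ∈ (P : Subgroup G) := by
    have : h' * h⁻¹ = h * (h'⁻¹ * h)⁻¹ * h⁻¹ := by group
    rw [this]
    exact hnorm _ (Subgroup.inv_mem _ hh'P)
  obtain ⟨m, hm⟩ := hψsurj ⟨h' * h⁻¹, haP⟩
  have hm' : (m : G) * h * (m : G)⁻¹ = h' := by
    have := congrArg Subtype.val hm
    exact mul_right_cancel this
  refine ⟨m, m.2, ?_⟩
  rw [hH'z, hHz, MonoidHom.map_zpowers]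
  congr 1
  simp [MulAut.conj_apply, hm']

end Cfsg.Agent.BR
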