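import Cfsg.Agent.BR.EpsPlus
import Cfsg.Agent.BR.FixP
import Cfsg.Agent.BR.Setup
import Cfsg.Agent.BR.Block

/-!
# Brauer–Reynolds track: `ε = +` (L4), concrete form (helper8)

Discharges the two side hypotheses of `br_epl_main_ind` in the Sylow setting
(`P` a Sylow `p`-subgroup of order `p` with `C_G(P) ≤ P`, `N = N_G(P)`):

* `br_epl_vanish_N` : a character `χ` with `∑_{x ∈ P} χ x = 0` vanishes on `N ∖ P`
  (the vanishing part of (F2)).
* `br_epl_hvan` : in the setting of `br_nd_Hyp` with `ε = 1`, every `ψ ∈ Y` vanishes on `N ∖ P`.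
* `br_epl_hnorm` : from `br_blk_IsData`, `∑_{x ∈ P} |ψ x|² = |N|` for `ψ ∈ Y` of degree `f`.
* `br_epl_main_sylow` : **L4** with only `Θ l = Ind_N^G (lam l)`, `lam l = 1` on `P`, and `hnorm` left.
-/

set_option autoImplicit false
set_option linter.style.haveILetI false

namespace Cfsg.Agent.BR

open Cfsg Cfsg.Agent.Helper6 Cfsg.Agent.D1 Finset
open scoped ComplexConjugate

universe u v

variable {G : Type u} [Group G]

/-- **(F2), vanishing**: a character of `G` without `P`-fixed vectors vanishes on `N_G(P) ∖ P`. -/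
theorem br_epl_vanish_N [Finite G] (p : ℕ) [Fact p.Prime] (P : Sylow p G)
    (hP : Nat.card P = p)
    (hC : Subgroup.centralizer ((P : Subgroup G) : Set G) ≤ (P : Subgroup G))
    [Fintype ↥(P : Subgroup G)] {χ : G → ℂ} (hχ : IsCharacter G χ)
    (h0 : ∑ x : ↥(P : Subgroup G), χ (x : G) = 0) (h : G)
    (hN : h ∈ Subgroup.normalizer ((P : Subgroup G) : Set G)) (hnP : h ∉ (P : Subgroup G)) :
    χ h = 0 := by
  apply br_fixp_vanish (P : Subgroup G) _ h _ _ hχ h0
  · intro a ha b hb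
    haveI := br_setup_isCyclic_P p P hP
    letI : CommGroup ↥(P : Subgroup G) := IsCyclic.commGroup
    have := mul_comm (⟨a, ha⟩ : ↥(P : Subgroup G)) ⟨b, hb⟩
    exact congrArg Subtype.val this
  · intro x hx
    have h1 := (Subgroup.mem_normalizer_iff.mp (Subgroup.inv_mem _ hN) x).mp hx
    rwa [inv_inv] at h1
  · intro x hx hfix
    by_contra hx1
    apply hnP
    apply hC
    apply br_setup_mem_centralizer p P hP h x hx hx1
    calc h * x = h * (h⁻¹ * x * h) := by rw [hfix]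
      _ = x * h := by group

section main

variable [Fintype G] {p : ℕ} [Fact p.Prime] {Q : Sylow p G} [Fintype ↥(Q : Subgroup G)] {f n : ℕ}
  {X Y : Finset (IrrCharacter G)}
  {dl : IrrCharacter G → ℤ} {ε : ℤ} {ι : Type v} [Fintype ι] {Θ : ι → G → ℂ} {l₀ : ι}

/-- `ε = +`: the exceptional characters vanish on `N ∖ P` -/
theorem br_epl_hvan (H : br_nd_Hyp p (Q : Subgroup G) f n X Y dl ε Θ l₀) (he : ε = 1)
    (hC : Subgroup.centralizer ((Q : Subgroup G) : Set G) ≤ (Q : Subgroup G))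
    (ψ : IrrCharacter G) (hψ : ψ ∈ Y) (m : G)
    (hm : m ∈ Subgroup.normalizer ((Q : Subgroup G) : Set G)) (hmQ : m ∉ (Q : Subgroup G)) :
    (ψ : G → ℂ) m = 0 := by
  have hψc : IsCharacter G (ψ : G → ℂ) := IsIrrCharacter.isCharacter ψ.2
  apply br_epl_vanish_N p Q H.card_P hC hψc _ m hm hmQ
  rw [H.Y_sum ψ hψ, ← charDegree_cast_of_isCharacter hψc, H.deg_eps_plus he ψ hψ, he]
  push_cast
  ring

/-- **L4** in the Sylow setting: only the shape of `Θ` and `hnorm` are left as hypotheses -/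
theorem br_epl_main_sylow (H : br_nd_Hyp p (Q : Subgroup G) f n X Y dl ε Θ l₀) (he : ε = 1)
    (hC : Subgroup.centralizer ((Q : Subgroup G) : Set G) ≤ (Q : Subgroup G))
    [Fintype ↥(Subgroup.normalizer ((Q : Subgroup G) : Set G))]
    (lam : ι → ↥(Subgroup.normalizer ((Q : Subgroup G) : Set G)) → ℂ)
    (hlam : ∀ l, ∀ m : ↥(Subgroup.normalizer ((Q : Subgroup G) : Set G)),
      (m : G) ∈ (Q : Subgroup G) → lam l m = 1)
    (hΘ : ∀ l, Θ l = indFun (Subgroup.normalizer ((Q : Subgroup G) : Set G)) (lam l))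
    (ψ : IrrCharacter G) (hψ : ψ ∈ Y)
    (hnorm : ∑ x : ↥(Q : Subgroup G), (ψ : G → ℂ) (x : G) * conj ((ψ : G → ℂ) (x : G)) =
      (Nat.card ↥(Subgroup.normalizer ((Q : Subgroup G) : Set G)) : ℂ))
    (hf : 2 ≤ f) (hn : 1 ≤ n) (hY : 2 ≤ Y.card) : n = 1 ∧ Y.card = 2 :=
  br_epl_main_ind H he (Subgroup.normalizer ((Q : Subgroup G) : Set G)) Subgroup.le_normalizer lam
    hlam hΘ ψ hψ (fun m hm hmQ => br_epl_hvan H he hC ψ hψ m hm hmQ) hnorm hf hn hY

end main

/-- `∑_{x ∈ P} |ψ x|² = |N|` for an exceptional character of degree `f` -/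
theorem br_epl_hnorm [Finite G] {p : ℕ} [Fact p.Prime] {P : Sylow p G}
    {X Y : Set (IrrCharacter G)} {dl : IrrCharacter G → ℤ} {ep : ℤ}
    {O : IrrCharacter G → Finset (↥(P : Subgroup G) →* ℂˣ)}
    (h : br_blk_IsData P X Y dl ep O) [Fintype ↥(P : Subgroup G)]
    (ψ : IrrCharacter G) (hψ : ψ ∈ Y)
    (hdeg : charDegree (ψ : G → ℂ) =
      (P : Subgroup G).relIndex (Subgroup.normalizer ((P : Subgroup G) : Set G))) :
    ∑ x : ↥(P : Subgroup G), (ψ : G → ℂ) (x : G) * conj ((ψ : G → ℂ) (x : G)) =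
      (Nat.card ↥(Subgroup.normalizer ((P : Subgroup G) : Set G)) : ℂ) := by
  classical
  rw [br_blk_inner_P_Y h ψ ψ hψ hψ, if_pos rfl, br_setup_card_N p P h.card_P,
    ← charDegree_cast_of_isCharacter (IsIrrCharacter.isCharacter ψ.2), hdeg, Complex.conj_natCast]
  push_cast
  ring

end Cfsg.Agent.BR
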