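import Cfsg.Agent.BR.Setup

/-!
# Brauer–Reynolds track: the linear characters of `N = N_G(P)` trivial on `P`

`br_setup_A p P` is the subgroup of `↥N →* ℂˣ` of homomorphisms trivial on `P`.  It is cyclic of
order `f`, generated by a faithful `α` (kernel exactly `P`); restriction to a complement of `P` is
injective on it; and for `x ∉ N` with `|N ∩ x N x⁻¹| = f` there is an exponent `c` prime to `f` with
`l (x⁻¹ m x) = l m ^ c` for all `l` and all `m ∈ N ∩ x N x⁻¹`.
-/

set_option autoImplicit false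
set_option linter.unusedSectionVars false
set_option linter.unusedVariables false
set_option linter.style.haveILetI false

namespace Cfsg.Agent.BR

open Subgroup

variable {G : Type*} [Group G]
variable [Finite G] (p : ℕ) [Fact p.Prime] (P : Sylow p G)

/-- the linear characters of `N_G(P)` that are trivial on `P` -/
def br_setup_A : Subgroup (↥(Subgroup.normalizer ((P : Subgroup G) : Set G)) →* ℂˣ) where
  carrier := {l | (P : Subgroup G).subgroupOf (Subgroup.normalizer ((P : Subgroup G) : Set G)) ≤ l.ker}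
  mul_mem' := by
    intro a b ha hb u hu
    rw [MonoidHom.mem_ker, MonoidHom.mul_apply, MonoidHom.mem_ker.mp (ha hu),
      MonoidHom.mem_ker.mp (hb hu), one_mul]
  one_mem' := by
    intro u hu
    rw [MonoidHom.mem_ker, MonoidHom.one_apply]
  inv_mem' := by
    intro a ha u hu
    rw [MonoidHom.mem_ker, MonoidHom.inv_apply, MonoidHom.mem_ker.mp (ha hu), inv_one]

theorem br_setup_mem_A (l : ↥(Subgroup.normalizer ((P : Subgroup G) : Set G)) →* ℂˣ) :
    l ∈ br_setup_A p P ↔
      (P : Subgroup G).subgroupOf (Subgroup.normalizer ((P : Subgroup G) : Set G)) ≤ l.ker :=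
  Iff.rfl

theorem br_setup_A_apply_P (l : ↥(Subgroup.normalizer ((P : Subgroup G) : Set G)) →* ℂˣ)
    (hl : l ∈ br_setup_A p P) (u : G) (hu : u ∈ (P : Subgroup G)) :
    l ⟨u, Subgroup.le_normalizer hu⟩ = 1 := by
  have : (⟨u, Subgroup.le_normalizer hu⟩ : ↥(Subgroup.normalizer ((P : Subgroup G) : Set G))) ∈
      (P : Subgroup G).subgroupOf (Subgroup.normalizer ((P : Subgroup G) : Set G)) := by
    rw [Subgroup.mem_subgroupOf]; exact hu
  exact MonoidHom.mem_ker.mp (hl this)

/-- `A ≃* Hom(N ⧸ P, ℂˣ)` -/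
noncomputable def br_setup_A_equiv :
    ↥(br_setup_A p P) ≃*
      ((↥(Subgroup.normalizer ((P : Subgroup G) : Set G)) ⧸
        (P : Subgroup G).subgroupOf (Subgroup.normalizer ((P : Subgroup G) : Set G))) →* ℂˣ) where
  toFun l := QuotientGroup.lift _ l.1 l.2
  invFun χ := ⟨χ.comp (QuotientGroup.mk' _), by
    intro u hu
    rw [MonoidHom.mem_ker, MonoidHom.comp_apply, QuotientGroup.mk'_apply,
      (QuotientGroup.eq_one_iff u).mpr hu, map_one]⟩
  left_inv l := by
    apply Subtype.ext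
    apply MonoidHom.ext
    intro u
    rfl
  right_inv χ := by
    apply MonoidHom.ext
    intro u
    induction u using QuotientGroup.induction_on
    rfl
  map_mul' a b := by
    apply MonoidHom.ext
    intro u
    induction u using QuotientGroup.induction_on
    rfl

theorem br_setup_card_quot :
    Nat.card (↥(Subgroup.normalizer ((P : Subgroup G) : Set G)) ⧸
      (P : Subgroup G).subgroupOf (Subgroup.normalizer ((P : Subgroup G) : Set G))) =
      (P : Subgroup G).relIndex (Subgroup.normalizer ((P : Subgroup G) : Set G)) :=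
  (Subgroup.index_eq_card _).symm

/-- `A` is (non-canonically) isomorphic to `N ⧸ P` -/
theorem br_setup_A_equiv_quot (hP : Nat.card P = p)
    (hC : Subgroup.centralizer ((P : Subgroup G) : Set G) ≤ (P : Subgroup G)) :
    Nonempty (↥(br_setup_A p P) ≃*
      (↥(Subgroup.normalizer ((P : Subgroup G) : Set G)) ⧸
        (P : Subgroup G).subgroupOf (Subgroup.normalizer ((P : Subgroup G) : Set G)))) := by
  have hcyc := br_setup_isCyclic_quot p P hP hC
  letI : CommGroup (↥(Subgroup.normalizer ((P : Subgroup G) : Set G)) ⧸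
      (P : Subgroup G).subgroupOf (Subgroup.normalizer ((P : Subgroup G) : Set G))) :=
    IsCyclic.commGroup
  haveI : NeZero ((Nat.card (↥(Subgroup.normalizer ((P : Subgroup G) : Set G)) ⧸
      (P : Subgroup G).subgroupOf (Subgroup.normalizer ((P : Subgroup G) : Set G))) : ℕ) : ℂ) :=
    ⟨by exact_mod_cast Nat.card_pos.ne'⟩
  obtain ⟨e⟩ := IsCyclic.monoidHom_equiv_self (↥(Subgroup.normalizer ((P : Subgroup G) : Set G)) ⧸
      (P : Subgroup G).subgroupOf (Subgroup.normalizer ((P : Subgroup G) : Set G))) ℂ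
  exact ⟨(br_setup_A_equiv p P).trans e⟩

theorem br_setup_card_A (hP : Nat.card P = p)
    (hC : Subgroup.centralizer ((P : Subgroup G) : Set G) ≤ (P : Subgroup G)) :
    Nat.card (br_setup_A p P) =
      (P : Subgroup G).relIndex (Subgroup.normalizer ((P : Subgroup G) : Set G)) := by
  obtain ⟨e⟩ := br_setup_A_equiv_quot p P hP hC
  rw [Nat.card_congr e.toEquiv, br_setup_card_quot]

theorem br_setup_isCyclic_A (hP : Nat.card P = p)
    (hC : Subgroup.centralizer ((P : Subgroup G) : Set G) ≤ (P : Subgroup G)) :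
    IsCyclic (br_setup_A p P) := by
  obtain ⟨e⟩ := br_setup_A_equiv_quot p P hP hC
  have := br_setup_isCyclic_quot p P hP hC
  exact isCyclic_of_surjective e.symm.toMonoidHom e.symm.surjective

instance br_setup_finite_A : Finite (br_setup_A p P) := by
  haveI : NeZero ((Monoid.exponent (↥(Subgroup.normalizer ((P : Subgroup G) : Set G)) ⧸
      (P : Subgroup G).subgroupOf (Subgroup.normalizer ((P : Subgroup G) : Set G))) : ℕ) : ℂ) :=
    ⟨by exact_mod_cast Monoid.exponent_ne_zero_of_finite⟩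
  exact Finite.of_equiv _ (br_setup_A_equiv p P).symm.toEquiv

/-- the elements of `A` separate the points of `N ⧸ P` -/
theorem br_setup_A_separates (hP : Nat.card P = p)
    (hC : Subgroup.centralizer ((P : Subgroup G) : Set G) ≤ (P : Subgroup G))
    (u : ↥(Subgroup.normalizer ((P : Subgroup G) : Set G)))
    (hu : ∀ l ∈ br_setup_A p P, l u = 1) : (u : G) ∈ (P : Subgroup G) := by
  by_contra hne
  have hcyc := br_setup_isCyclic_quot p P hP hC
  letI : CommGroup (↥(Subgroup.normalizer ((P : Subgroup G) : Set G)) ⧸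
      (P : Subgroup G).subgroupOf (Subgroup.normalizer ((P : Subgroup G) : Set G))) :=
    IsCyclic.commGroup
  haveI : NeZero ((Monoid.exponent (↥(Subgroup.normalizer ((P : Subgroup G) : Set G)) ⧸
      (P : Subgroup G).subgroupOf (Subgroup.normalizer ((P : Subgroup G) : Set G))) : ℕ) : ℂ) :=
    ⟨by exact_mod_cast Monoid.exponent_ne_zero_of_finite⟩
  have hmk : (QuotientGroup.mk u : ↥(Subgroup.normalizer ((P : Subgroup G) : Set G)) ⧸
      (P : Subgroup G).subgroupOf (Subgroup.normalizer ((P : Subgroup G) : Set G))) ≠ 1 := by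
    intro h
    rw [QuotientGroup.eq_one_iff, Subgroup.mem_subgroupOf] at h
    exact hne h
  obtain ⟨φ, hφ⟩ := CommGroup.exists_apply_ne_one_of_hasEnoughRootsOfUnity
    (↥(Subgroup.normalizer ((P : Subgroup G) : Set G)) ⧸
      (P : Subgroup G).subgroupOf (Subgroup.normalizer ((P : Subgroup G) : Set G))) ℂ hmk
  exact hφ (hu _ ((br_setup_A_equiv p P).symm φ).2)

/-- a faithful generator of `A` -/
theorem br_setup_exists_alpha (hP : Nat.card P = p)
    (hC : Subgroup.centralizer ((P : Subgroup G) : Set G) ≤ (P : Subgroup G)) :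
    ∃ α ∈ br_setup_A p P,
      α.ker = (P : Subgroup G).subgroupOf (Subgroup.normalizer ((P : Subgroup G) : Set G)) ∧
      ∀ l ∈ br_setup_A p P, ∃ k : ℕ, l = α ^ k := by
  have hcyc := br_setup_isCyclic_A p P hP hC
  obtain ⟨a, ha⟩ := IsCyclic.exists_monoid_generator (α := ↥(br_setup_A p P))
  have hpow : ∀ l ∈ br_setup_A p P, ∃ k : ℕ, l = a.1 ^ k := by
    intro l hl
    obtain ⟨k, hk⟩ := Submonoid.mem_powers_iff _ _ |>.mp (ha ⟨l, hl⟩)
    refine ⟨k, ?_⟩
    have := congrArg Subtype.val hk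
    exact this.symm.trans (Subgroup.coe_pow _ _ _)
  refine ⟨a.1, a.2, le_antisymm ?_ a.2, hpow⟩
  intro u hu
  rw [Subgroup.mem_subgroupOf]
  apply br_setup_A_separates p P hP hC u
  intro l hl
  obtain ⟨k, rfl⟩ := hpow l hl
  rw [MonoidHom.pow_apply, MonoidHom.mem_ker.mp hu, one_pow]

/-- restriction to a complement is injective on `A` -/
theorem br_setup_A_ext_compl (H : Subgroup G) (hH : br_setup_IsCompl p P H)
    (l₁ l₂ : ↥(Subgroup.normalizer ((P : Subgroup G) : Set G)) →* ℂˣ)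
    (h₁ : l₁ ∈ br_setup_A p P) (h₂ : l₂ ∈ br_setup_A p P)
    (hag : ∀ m (hm : m ∈ H), l₁ ⟨m, hH.1 hm⟩ = l₂ ⟨m, hH.1 hm⟩) : l₁ = l₂ := by
  apply MonoidHom.ext
  intro u
  obtain ⟨h, hhH, hhP⟩ := br_setup_compl_surj p P H hH u.1 u.2
  have hu : u = ⟨h, hH.1 hhH⟩ * ⟨h⁻¹ * u, Subgroup.le_normalizer hhP⟩ := by
    apply Subtype.ext
    show (u : G) = h * (h⁻¹ * u)
    group
  rw [hu, map_mul, map_mul, br_setup_A_apply_P p P l₁ h₁ _ hhP, br_setup_A_apply_P p P l₂ h₂ _ hhP,
    hag h hhH]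

theorem br_setup_conj_zpow (x d : G) (j : ℤ) : (x⁻¹ * d * x) ^ j = x⁻¹ * d ^ j * x := by
  have := conj_zpow (a := x⁻¹) (b := d) (i := j)
  simpa using this

/-- **the exponent `c(x)`**: for `x ∉ N` with `|N ∩ x N x⁻¹| = f` there is `c` prime to `f` with
`l (x⁻¹ m x) = l m ^ c` for all `l ∈ A` and all `m ∈ N ∩ x N x⁻¹`. -/
theorem br_setup_exists_c (hP : Nat.card P = p)
    (hC : Subgroup.centralizer ((P : Subgroup G) : Set G) ≤ (P : Subgroup G)) (x : G)
    (hx : x ∉ Subgroup.normalizer ((P : Subgroup G) : Set G))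
    (hD : Nat.card (br_setup_D (Subgroup.normalizer ((P : Subgroup G) : Set G)) x) =
      (P : Subgroup G).relIndex (Subgroup.normalizer ((P : Subgroup G) : Set G))) :
    ∃ c : ℕ, c.Coprime ((P : Subgroup G).relIndex (Subgroup.normalizer ((P : Subgroup G) : Set G))) ∧
      ∀ l ∈ br_setup_A p P, ∀ (m : G)
        (hm : m ∈ Subgroup.normalizer ((P : Subgroup G) : Set G))
        (hm' : x⁻¹ * m * x ∈ Subgroup.normalizer ((P : Subgroup G) : Set G)),
        l ⟨x⁻¹ * m * x, hm'⟩ = (l ⟨m, hm⟩) ^ c := by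
  have hcomp := br_setup_D_isCompl p P hP x hx hD
  have hcyc := br_setup_isCyclic_D p P hP hC x hx
  obtain ⟨g, hg⟩ := hcyc.exists_generator
  set d : G := (g : G) with hd_def
  have hdD : d ∈ br_setup_D (Subgroup.normalizer ((P : Subgroup G) : Set G)) x := g.2
  have hDz : ∀ m ∈ br_setup_D (Subgroup.normalizer ((P : Subgroup G) : Set G)) x,
      ∃ j : ℤ, m = d ^ j := by
    intro m hm
    obtain ⟨j, hj⟩ := Subgroup.mem_zpowers_iff.mp (hg ⟨m, hm⟩)
    exact ⟨j, by rw [hd_def, ← Subgroup.coe_zpow, hj]⟩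
  have hDeq : br_setup_D (Subgroup.normalizer ((P : Subgroup G) : Set G)) x =
      Subgroup.zpowers d := by
    apply le_antisymm
    · intro m hm
      obtain ⟨j, hj⟩ := hDz m hm
      rw [Subgroup.mem_zpowers_iff]; exact ⟨j, hj.symm⟩
    · exact Subgroup.zpowers_le.mpr hdD
  set f := (P : Subgroup G).relIndex (Subgroup.normalizer ((P : Subgroup G) : Set G)) with hf_def
  have hfpos : 0 < f := Nat.pos_of_dvd_of_pos (Subgroup.relIndex_dvd_card _ _) Nat.card_pos
  have hord : orderOf d = f := by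
    rw [← Nat.card_zpowers, ← hDeq, hD]
  have hdN : d ∈ Subgroup.normalizer ((P : Subgroup G) : Set G) :=
    ((br_setup_mem_D _ x d).mp hdD).1
  have hd' : x⁻¹ * d * x ∈ Subgroup.normalizer ((P : Subgroup G) : Set G) :=
    ((br_setup_mem_D _ x d).mp hdD).2
  obtain ⟨α, hαA, hαker, hαgen⟩ := br_setup_exists_alpha p P hP hC
  have hαP : ∀ (u : ↥(Subgroup.normalizer ((P : Subgroup G) : Set G))), α u = 1 →
      (u : G) ∈ (P : Subgroup G) := by
    intro u hu
    have : u ∈ α.ker := MonoidHom.mem_ker.mpr hu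
    rw [hαker, Subgroup.mem_subgroupOf] at this
    exact this
  set a : ℂˣ := α ⟨d, hdN⟩ with ha_def
  set b : ℂˣ := α ⟨x⁻¹ * d * x, hd'⟩ with hb_def
  -- powers
  have hapow : ∀ j : ℕ, a ^ j = 1 → d ^ j = 1 := by
    intro j hj
    rw [ha_def, ← map_pow] at hj
    have h1 := hαP _ hj
    have h1' : d ^ j ∈ (P : Subgroup G) := by simpa using h1
    have h2 : d ^ j ∈ br_setup_D (Subgroup.normalizer ((P : Subgroup G) : Set G)) x ⊓
        (P : Subgroup G) := Subgroup.mem_inf.mpr ⟨Subgroup.pow_mem _ hdD j, h1'⟩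
    rw [hcomp.2.2, Subgroup.mem_bot] at h2
    exact h2
  have hbpow : ∀ j : ℕ, b ^ j = 1 → d ^ j = 1 := by
    intro j hj
    rw [hb_def, ← map_pow] at hj
    have h1 := hαP _ hj
    have h1' : x⁻¹ * d ^ j * x ∈ (P : Subgroup G) := by
      have e : (x⁻¹ * d * x) ^ j = x⁻¹ * d ^ j * x := by
        have := br_setup_conj_zpow x d (j : ℤ)
        simpa using this
      rw [← e]; simpa using h1
    have hxinv : x⁻¹ ∉ Subgroup.normalizer ((P : Subgroup G) : Set G) := fun h =>
      hx (by simpa using Subgroup.inv_mem _ h)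
    have h2 := br_setup_ti p P hP x⁻¹ hxinv _ h1' (by
      have e : x⁻¹⁻¹ * (x⁻¹ * d ^ j * x) * x⁻¹ = d ^ j := by group
      rw [e]; exact Subgroup.pow_mem _ hdN j)
    have e : d ^ j = x * (x⁻¹ * d ^ j * x) * x⁻¹ := by group
    rw [e, h2]; group
  have hfa : a ^ f = 1 := by
    rw [ha_def, ← map_pow]
    have : (⟨d, hdN⟩ : ↥(Subgroup.normalizer ((P : Subgroup G) : Set G))) ^ f = 1 := by
      apply Subtype.ext
      rw [Subgroup.coe_pow, Subgroup.coe_one]
      show d ^ f = 1
      rw [← hord]; exact pow_orderOf_eq_one d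
    rw [this, map_one]
  have horda : orderOf a = f := by
    apply Nat.dvd_antisymm (orderOf_dvd_of_pow_eq_one hfa)
    rw [← hord]
    exact orderOf_dvd_of_pow_eq_one (hapow _ (pow_orderOf_eq_one a))
  have hfb : b ^ f = 1 := by
    rw [hb_def, ← map_pow]
    have : (⟨x⁻¹ * d * x, hd'⟩ : ↥(Subgroup.normalizer ((P : Subgroup G) : Set G))) ^ f = 1 := by
      apply Subtype.ext
      rw [Subgroup.coe_pow, Subgroup.coe_one]
      show (x⁻¹ * d * x) ^ f = 1
      have e : (x⁻¹ * d * x) ^ f = x⁻¹ * d ^ f * x := by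
        have := br_setup_conj_zpow x d (f : ℤ)
        simpa using this
      rw [e, ← hord, pow_orderOf_eq_one]; group
    rw [this, map_one]
  have hordb : orderOf b = f := by
    apply Nat.dvd_antisymm (orderOf_dvd_of_pow_eq_one hfb)
    rw [← hord]
    exact orderOf_dvd_of_pow_eq_one (hbpow _ (pow_orderOf_eq_one b))
  -- `α u ∈ zpowers a` for every `u ∈ N`
  have hrange : ∀ u : ↥(Subgroup.normalizer ((P : Subgroup G) : Set G)), ∃ k : ℤ, α u = a ^ k := by
    intro u
    obtain ⟨h, hhD, hhP⟩ := br_setup_compl_surj p P _ hcomp u.1 u.2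
    obtain ⟨k, hk⟩ := hDz h hhD
    refine ⟨k, ?_⟩
    have hu : u = ⟨h, hcomp.1 hhD⟩ * ⟨h⁻¹ * u, Subgroup.le_normalizer hhP⟩ := by
      apply Subtype.ext
      show (u : G) = h * (h⁻¹ * u)
      group
    rw [hu, map_mul, br_setup_A_apply_P p P α hαA _ hhP, mul_one, ha_def, ← map_zpow]
    congr 1
    apply Subtype.ext
    rw [Subgroup.coe_zpow]
    exact hk
  obtain ⟨k, hk⟩ := hrange ⟨x⁻¹ * d * x, hd'⟩
  -- natural exponent
  have hfz : (f : ℤ) ≠ 0 := by exact_mod_cast hfpos.ne'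
  set c : ℕ := (k % (f : ℤ)).toNat with hc_def
  have hc : (c : ℤ) = k % (f : ℤ) := Int.toNat_of_nonneg (Int.emod_nonneg k hfz)
  have hbc : b = a ^ c := by
    rw [hb_def, hk, ← zpow_natCast, hc, ← horda, zpow_mod_orderOf]
  have hcop : c.Coprime f := by
    have h1 : orderOf (a ^ c) = f := by rw [← hbc, hordb]
    have hfin : IsOfFinOrder a := orderOf_pos_iff.mp (by rw [horda]; exact hfpos)
    rw [hfin.orderOf_pow, horda] at h1
    have hg : Nat.gcd f c ∣ f := Nat.gcd_dvd_left f c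
    have hgpos : 0 < Nat.gcd f c := Nat.gcd_pos_of_pos_left c hfpos
    have h2 : f / Nat.gcd f c * Nat.gcd f c = f := Nat.div_mul_cancel hg
    rw [h1] at h2
    have : Nat.gcd f c = 1 := by
      have : f * Nat.gcd f c = f * 1 := by rw [mul_one]; exact h2
      exact Nat.eq_of_mul_eq_mul_left hfpos this
    rw [Nat.coprime_comm]; exact this
  refine ⟨c, hcop, ?_⟩
  intro l hl m hm hm'
  have hmD : m ∈ br_setup_D (Subgroup.normalizer ((P : Subgroup G) : Set G)) x :=
    (br_setup_mem_D _ x m).mpr ⟨hm, hm'⟩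
  obtain ⟨j, hj⟩ := hDz m hmD
  obtain ⟨k', rfl⟩ := hαgen l hl
  have e1 : α ⟨m, hm⟩ = a ^ j := by
    rw [ha_def, ← map_zpow]
    congr 1
    apply Subtype.ext
    rw [Subgroup.coe_zpow]
    exact hj
  have e2 : α ⟨x⁻¹ * m * x, hm'⟩ = b ^ j := by
    rw [hb_def, ← map_zpow]
    congr 1
    apply Subtype.ext
    rw [Subgroup.coe_zpow]
    show x⁻¹ * m * x = (x⁻¹ * d * x) ^ j
    rw [br_setup_conj_zpow, hj]
  rw [MonoidHom.pow_apply, MonoidHom.pow_apply, e1, e2, hbc]
  rw [← zpow_natCast, ← zpow_natCast, ← zpow_natCast, ← zpow_natCast,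
    ← zpow_mul, ← zpow_mul, ← zpow_mul, ← zpow_mul]
  congr 1
  ring

end Cfsg.Agent.BR
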