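import Mathlib
import Cfsg.Prelude.Def_Characters
import Cfsg.Agent.Helper6.IndFun
import Cfsg.Agent.Helper6.CharBasic
import Cfsg.Agent.BR.DblGram
import Cfsg.Agent.BR.SetupA

/-!
# Brauer–Reynolds track: (F1) (helper9)

`N` a subgroup of the finite group `G`, `P ≤ N`, `A` a finite group of linear characters of `N`
that are trivial on `P` and separate the points of `N ∖ P`; `Θ_l = Ind_N^G l` (`br_dg_theta`).

* `br_f1_sum_A` : `∑_{l ∈ A} l(u) = |A|` for `u ∈ P` and `0` for `u ∈ N ∖ P`;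
* `br_f1_key` : for a class function `χ` of `G` and `h ∈ N`
  `∑_{l ∈ A} ⟨Θ_l, χ⟩ l(h) = |A| / |N| · ∑_{x ∈ P} conj χ(x h⁻¹)`;
* `br_f1_main` : **(F1)** `p · ∑_{l ∈ A} ⟨Θ_l, χ⟩ = ∑_{x ∈ P} χ(x)` in the Sylow setting
  (`A = br_setup_A p P`), for every character `χ` of `G`.
(F2) is in `BR/FTwoF.lean`.
-/

set_option autoImplicit false
set_option linter.style.haveILetI false

namespace Cfsg.Agent.BR

open Cfsg Cfsg.Agent.Helper6
open scoped ComplexConjugate

universe u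

/-- a nontrivial value kills the sum over a finite group of linear characters -/
theorem br_f1_sum_hom_zero {M : Type*} [Group M] (A : Subgroup (M →* ℂˣ)) [Fintype A] (u : M)
    (l₁ : A) (h : (l₁ : M →* ℂˣ) u ≠ 1) :
    ∑ l : A, (((l : M →* ℂˣ) u : ℂˣ) : ℂ) = 0 := by
  have h1 : ∑ l : A, (((l : M →* ℂˣ) u : ℂˣ) : ℂ) =
      (((l₁ : M →* ℂˣ) u : ℂˣ) : ℂ) * ∑ l : A, (((l : M →* ℂˣ) u : ℂˣ) : ℂ) := by
    rw [Finset.mul_sum, ← Equiv.sum_comp (Equiv.mulLeft l₁)]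
    apply Finset.sum_congr rfl
    intro l _
    simp [Subgroup.coe_mul, MonoidHom.mul_apply, Units.val_mul]
  have h2 : (((l₁ : M →* ℂˣ) u : ℂˣ) : ℂ) ≠ 1 := by
    intro h3
    apply h
    exact Units.ext h3
  have h3 : (1 - (((l₁ : M →* ℂˣ) u : ℂˣ) : ℂ)) *
      ∑ l : A, (((l : M →* ℂˣ) u : ℂˣ) : ℂ) = 0 := by
    rw [sub_mul, one_mul, ← h1, sub_self]
  rcases mul_eq_zero.mp h3 with h4 | h4
  · exact absurd (sub_eq_zero.mp h4).symm h2
  · exact h4

variable {G : Type u} [Group G]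

/-- `∑_{l ∈ A} l(u)` is `|A|` on `P` and `0` on `N ∖ P` -/
theorem br_f1_sum_A (N P : Subgroup G) (A : Subgroup (↥N →* ℂˣ)) [Fintype A]
    (hAP : ∀ l ∈ A, ∀ u : N, (u : G) ∈ P → l u = 1)
    (hsep : ∀ u : N, (∀ l ∈ A, l u = 1) → (u : G) ∈ P) [DecidablePred (· ∈ P)] (u : N) :
    ∑ l : A, (((l : ↥N →* ℂˣ) u : ℂˣ) : ℂ) =
      if (u : G) ∈ P then (Fintype.card A : ℂ) else 0 := by
  split_ifs with hu
  · have h1 : ∀ l ∈ (Finset.univ : Finset A), (((l : ↥N →* ℂˣ) u : ℂˣ) : ℂ) = 1 := by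
      intro l _
      rw [hAP l l.2 u hu, Units.val_one]
    rw [Finset.sum_congr rfl h1, Finset.sum_const, Finset.card_univ, nsmul_eq_mul, mul_one]
  · have h1 : ∃ l ∈ A, l u ≠ 1 := by
      by_contra hcon
      apply hu
      apply hsep u
      intro l hl
      by_contra hne
      exact hcon ⟨l, hl, hne⟩
    obtain ⟨l₁, hl₁, hne⟩ := h1
    exact br_f1_sum_hom_zero A u ⟨l₁, hl₁⟩ hne

variable [Fintype G]

/-- Frobenius reciprocity for `Θ_l` -/
theorem br_f1_inner_theta (N : Subgroup G) [Fintype N] (l : ↥N →* ℂˣ) (χ : G → ℂ)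
    (hχ : IsClassFunction G χ) :
    classInner (br_dg_theta N l) χ =
      (Nat.card N : ℂ)⁻¹ * ∑ m : N, ((l m : ℂˣ) : ℂ) * conj (χ (m : G)) := by
  unfold br_dg_theta
  rw [frobenius_reciprocity N _ χ hχ, classInner_def]
  rfl

omit [Fintype G] in
/-- reindexing: the `m ∈ N` with `m h ∈ P` are the `x h⁻¹`, `x ∈ P` -/
theorem br_f1_reindex (N P : Subgroup G) [Fintype N] [Fintype P] (hPN : P ≤ N)
    [DecidablePred (· ∈ P)] (h : N) (F : G → ℂ) :
    ∑ m : N, (if ((m * h : N) : G) ∈ P then F (m : G) else 0) =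
      ∑ x : P, F ((x : G) * (h : G)⁻¹) := by
  classical
  rw [← Finset.sum_filter]
  refine Finset.sum_bij' (fun m hm => (⟨((m * h : N) : G), (Finset.mem_filter.mp hm).2⟩ : P))
    (fun x _ => (⟨(x : G), hPN x.2⟩ * h⁻¹ : N)) ?_ ?_ ?_ ?_ ?_
  · intro m _
    exact Finset.mem_univ _
  · intro x _
    rw [Finset.mem_filter]
    refine ⟨Finset.mem_univ _, ?_⟩
    have : ((⟨(x : G), hPN x.2⟩ * h⁻¹ * h : N) : G) = (x : G) := by
      rw [inv_mul_cancel_right]
    rw [this]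
    exact x.2
  · intro m _
    apply Subtype.ext
    simp
  · intro x _
    apply Subtype.ext
    simp
  · intro m _
    simp

/-- **the key formula** behind (F1) and (F2) -/
theorem br_f1_key (N P : Subgroup G) [Fintype N] [Fintype P] (hPN : P ≤ N)
    (A : Subgroup (↥N →* ℂˣ)) [Fintype A]
    (hAP : ∀ l ∈ A, ∀ u : N, (u : G) ∈ P → l u = 1)
    (hsep : ∀ u : N, (∀ l ∈ A, l u = 1) → (u : G) ∈ P)
    (χ : G → ℂ) (hχ : IsClassFunction G χ) (h : N) :
    ∑ l : A, classInner (br_dg_theta N (l : ↥N →* ℂˣ)) χ * (((l : ↥N →* ℂˣ) h : ℂˣ) : ℂ) =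
      (Nat.card N : ℂ)⁻¹ * (Fintype.card A : ℂ) *
        ∑ x : P, conj (χ ((x : G) * (h : G)⁻¹)) := by
  classical
  simp_rw [br_f1_inner_theta N _ χ hχ]
  have h1 : ∀ l : A, (Nat.card N : ℂ)⁻¹ *
      (∑ m : N, (((l : ↥N →* ℂˣ) m : ℂˣ) : ℂ) * conj (χ (m : G))) *
        (((l : ↥N →* ℂˣ) h : ℂˣ) : ℂ) =
      (Nat.card N : ℂ)⁻¹ *
        ∑ m : N, conj (χ (m : G)) * (((l : ↥N →* ℂˣ) (m * h) : ℂˣ) : ℂ) := by
    intro l
    rw [mul_assoc, Finset.sum_mul]
    congr 1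
    apply Finset.sum_congr rfl
    intro m _
    rw [map_mul, Units.val_mul]
    ring
  rw [Finset.sum_congr rfl (fun l _ => h1 l), ← Finset.mul_sum, Finset.sum_comm, mul_assoc]
  congr 1
  have h2 : ∀ m : N, ∑ l : A, conj (χ (m : G)) * (((l : ↥N →* ℂˣ) (m * h) : ℂˣ) : ℂ) =
      (Fintype.card A : ℂ) * (if ((m * h : N) : G) ∈ P then conj (χ (m : G)) else 0) := by
    intro m
    rw [← Finset.mul_sum, br_f1_sum_A N P A hAP hsep (m * h)]
    split_ifs <;> ring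
  rw [Finset.sum_congr rfl (fun m _ => h2 m), ← Finset.mul_sum,
    br_f1_reindex N P hPN h (fun g => conj (χ g))]

/-- (F1), general form: `∑_{l ∈ A} ⟨Θ_l, χ⟩ = |A| / |N| · ∑_{x ∈ P} conj χ(x)` -/
theorem br_f1_general (N P : Subgroup G) [Fintype N] [Fintype P] (hPN : P ≤ N)
    (A : Subgroup (↥N →* ℂˣ)) [Fintype A]
    (hAP : ∀ l ∈ A, ∀ u : N, (u : G) ∈ P → l u = 1)
    (hsep : ∀ u : N, (∀ l ∈ A, l u = 1) → (u : G) ∈ P)
    (χ : G → ℂ) (hχ : IsClassFunction G χ) :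
    ∑ l : A, classInner (br_dg_theta N (l : ↥N →* ℂˣ)) χ =
      (Nat.card N : ℂ)⁻¹ * (Fintype.card A : ℂ) * ∑ x : P, conj (χ (x : G)) := by
  have h := br_f1_key N P hPN A hAP hsep χ hχ 1
  simpa using h

/-- for a character the sum over a subgroup is invariant under conjugation -/
theorem br_f1_sum_conj (P : Subgroup G) [Fintype P] (χ : G → ℂ) (hχ : IsCharacter G χ) :
    ∑ x : P, conj (χ (x : G)) = ∑ x : P, χ (x : G) := by
  rw [← Equiv.sum_comp (Equiv.inv P) (fun x : P => χ (x : G))]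
  apply Finset.sum_congr rfl
  intro x _
  rw [Equiv.inv_apply, Subgroup.coe_inv, IsCharacter.inv_eq_conj hχ]

/-- **(F1)** in the Sylow setting, in the shape of the field `F1` of `br_nd_Hyp`
(`ι := ↥(br_setup_A p P)`, `Θ l := br_dg_theta N l`) -/
theorem br_f1_main (p : ℕ) [Fact p.Prime] (P : Sylow p G) (hP : Nat.card P = p)
    (hC : Subgroup.centralizer ((P : Subgroup G) : Set G) ≤ (P : Subgroup G))
    [Fintype ↥(P : Subgroup G)] [Fintype ↥(br_setup_A p P)]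
    (χ : G → ℂ) (hχ : IsCharacter G χ) :
    (p : ℂ) * ∑ l : ↥(br_setup_A p P),
      classInner (br_dg_theta (Subgroup.normalizer ((P : Subgroup G) : Set G))
        (l : ↥(Subgroup.normalizer ((P : Subgroup G) : Set G)) →* ℂˣ)) χ =
      ∑ x : ↥(P : Subgroup G), χ (x : G) := by
  classical
  haveI : Fintype ↥(Subgroup.normalizer ((P : Subgroup G) : Set G)) := Fintype.ofFinite _
  rw [br_f1_general (Subgroup.normalizer ((P : Subgroup G) : Set G)) (P : Subgroup G)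
    Subgroup.le_normalizer (br_setup_A p P)
    (fun l hl u hu => br_setup_A_apply_P p P l hl (u : G) hu)
    (fun u hu => br_setup_A_separates p P hP hC u hu) χ (IsCharacter.isClassFunction hχ),
    br_f1_sum_conj (P : Subgroup G) χ hχ, br_setup_card_N p P hP,
    ← Nat.card_eq_fintype_card, br_setup_card_A p P hP hC]
  have hp0 : (p : ℂ) ≠ 0 := by
    exact_mod_cast (Fact.out : p.Prime).ne_zero
  have hf0 : (((P : Subgroup G).relIndex (Subgroup.normalizer ((P : Subgroup G) : Set G)) : ℕ) :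
      ℂ) ≠ 0 := by
    have h1 := br_setup_card_N p P hP
    have h2 : 0 < Nat.card (Subgroup.normalizer ((P : Subgroup G) : Set G)) := Nat.card_pos
    rw [h1] at h2
    have h3 := Nat.pos_of_mul_pos_left h2
    exact_mod_cast h3.ne'
  push_cast
  field_simp

end Cfsg.Agent.BR
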