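import Mathlib
import Cfsg.Prelude.Def_Characters
import Cfsg.Agent.BR.ClassMultB
import Cfsg.Agent.Helper6.ColumnOrth
import Cfsg.Agent.Helper6.Involutions

/-!
# Brauer–Reynolds track: involutions

Pure group theory and wrappers of the class-multiplication formula used by the steps L6 and L7 of
`notes/BrauerReynolds_blueprint_helper1.md`.

* `br_inv_pairs z y` : the number of pairs `(a, b)` of conjugates of `z` with `a * b = y`;
* `br_inv_pairs_le` : for an involution `z` this is at most `|C_G(y)|` (`a` inverts `y`);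
* `br_inv_pairs_self` : for `y = z` and all involutions conjugate to `z` it is the number of
  involutions of `C_G(z)` other than `z`;
* `br_inv_sq_of_pairs` : if that number is `|C_G(z)| - 2` then `C_G(z)` has exponent `2`;
* `br_inv_pairs_eq_sum` : the character formula for `br_inv_pairs`.
-/

set_option autoImplicit false
set_option linter.unusedSectionVars false
set_option linter.style.haveILetI false

namespace Cfsg.Agent.BR

open Cfsg.Agent.Helper6
open scoped ComplexConjugate

universe u

variable {G : Type u} [Group G]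

open Classical in
/-- the number of pairs of conjugates of `z` with product `y` -/
noncomputable def br_inv_pairs [Fintype G] (z y : G) : ℕ :=
  ((classFinset z ×ˢ classFinset z).filter (fun ab : G × G => ab.1 * ab.2 = y)).card

/-- an involution `a` with `a * b = y`, `b` an involution, inverts `y` -/
theorem br_inv_inverts {a b y : G} (ha : a * a = 1) (hb : b * b = 1) (hab : a * b = y) :
    a * y * a⁻¹ = y⁻¹ := by
  have ha' : a⁻¹ = a := inv_eq_of_mul_eq_one_left ha
  have hb' : b⁻¹ = b := inv_eq_of_mul_eq_one_left hb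
  rw [← hab, mul_inv_rev, ha', hb']
  calc a * (a * b) * a = (a * a) * b * a := by group
    _ = b * a := by rw [ha, one_mul]

/-- conjugates of an involution are involutions -/
theorem br_inv_conj_sq {z a : G} (hz : z * z = 1) (h : IsConj z a) : a * a = 1 := by
  obtain ⟨c, hc⟩ := isConj_iff.mp h
  rw [← hc]
  calc c * z * c⁻¹ * (c * z * c⁻¹) = c * (z * z) * c⁻¹ := by group
    _ = 1 := by rw [hz]; group

/-- two elements inverting `y` differ by an element of `C_G(y)` -/
theorem br_inv_mem_centralizer {a₀ a y : G} (h₀ : a₀ * y * a₀⁻¹ = y⁻¹) (h : a * y * a⁻¹ = y⁻¹) :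
    a₀⁻¹ * a ∈ Subgroup.centralizer ({y} : Set G) := by
  rw [Subgroup.mem_centralizer_iff]
  intro x hx
  rw [Set.mem_singleton_iff] at hx
  rw [hx]
  have h1 : a * y = y⁻¹ * a := by
    rw [← h]; group
  have h2 : a₀⁻¹ * y⁻¹ = y * a₀⁻¹ := by
    rw [← h₀]; group
  calc y * (a₀⁻¹ * a) = (y * a₀⁻¹) * a := by group
    _ = a₀⁻¹ * y⁻¹ * a := by rw [h2]
    _ = a₀⁻¹ * (y⁻¹ * a) := by group
    _ = a₀⁻¹ * (a * y) := by rw [h1]
    _ = a₀⁻¹ * a * y := by group

open Classical in
/-- the elements inverting `y` are at most `|C_G(y)|` -/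
theorem br_inv_card_inverting_le [Fintype G] (y : G) :
    (Finset.univ.filter (fun a : G => a * y * a⁻¹ = y⁻¹)).card ≤
      Nat.card (Subgroup.centralizer ({y} : Set G)) := by
  by_cases hne : (Finset.univ.filter (fun a : G => a * y * a⁻¹ = y⁻¹)).Nonempty
  · obtain ⟨a₀, ha₀⟩ := hne
    rw [Finset.mem_filter] at ha₀
    rw [Nat.card_eq_fintype_card, ← Fintype.card_coe]
    apply Fintype.card_le_of_injective
      (fun a : {a // a ∈ Finset.univ.filter (fun a : G => a * y * a⁻¹ = y⁻¹)} =>
        (⟨a₀⁻¹ * a.1, br_inv_mem_centralizer ha₀.2 (Finset.mem_filter.mp a.2).2⟩ :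
          Subgroup.centralizer ({y} : Set G)))
    intro a b hab
    have := congrArg Subtype.val hab
    simp only [mul_right_inj] at this
    exact Subtype.ext this
  · rw [Finset.not_nonempty_iff_eq_empty] at hne
    rw [hne, Finset.card_empty]
    exact Nat.zero_le _

open Classical in
/-- **(I1)** for an involution `z`, the number of pairs of conjugates of `z` with product `y` is
at most `|C_G(y)|` -/
theorem br_inv_pairs_le [Fintype G] (z y : G) (hz : z * z = 1) :
    br_inv_pairs z y ≤ Nat.card (Subgroup.centralizer ({y} : Set G)) := by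
  refine le_trans ?_ (br_inv_card_inverting_le y)
  unfold br_inv_pairs
  apply Finset.card_le_card_of_injOn (fun ab : G × G => ab.1)
  · intro ab hab
    rw [Finset.mem_coe, Finset.mem_filter, Finset.mem_product, mem_classFinset,
      mem_classFinset] at hab
    rw [Finset.mem_coe, Finset.mem_filter]
    exact ⟨Finset.mem_univ _,
      br_inv_inverts (br_inv_conj_sq hz hab.1.1) (br_inv_conj_sq hz hab.1.2) hab.2⟩
  · intro ab hab cd hcd h
    rw [Finset.mem_coe, Finset.mem_filter] at hab hcd
    have h1 : ab.1 = cd.1 := h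
    have h2 : ab.2 = cd.2 := by
      have := hab.2.trans hcd.2.symm
      rw [h1] at this
      exact mul_left_cancel this
    exact Prod.ext h1 h2

open Classical in
/-- **(I4)** the character formula for the number of pairs -/
theorem br_inv_pairs_eq_sum [Fintype G] [Fintype (Cfsg.IrrCharacter G)] (z y : G) :
    (br_inv_pairs z y : ℂ) =
      ((classFinset z).card : ℂ) * ((classFinset z).card : ℂ) / (Nat.card G : ℂ) *
        ∑ χ : Cfsg.IrrCharacter G,
          (χ : G → ℂ) z * (χ : G → ℂ) z * conj ((χ : G → ℂ) y) / (χ : G → ℂ) 1 := by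
  rw [← br_cm_class_mult_count z z y]
  unfold br_inv_pairs
  rw [Finset.card_filter, Finset.sum_product]
  push_cast
  rfl

open Classical in
/-- **(I2)** if all involutions are conjugate to `z`, the pairs of conjugates of `z` with product
`z` correspond to the involutions of `C_G(z)` other than `z` -/
theorem br_inv_pairs_self [Fintype G] (z : G) (hz : z * z = 1) (hz1 : z ≠ 1)
    (hconj : ∀ a : G, a * a = 1 → a ≠ 1 → IsConj z a) :
    br_inv_pairs z z =
      (Finset.univ.filter (fun a : G => a * z = z * a ∧ a * a = 1 ∧ a ≠ 1 ∧ a ≠ z)).card := by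
  unfold br_inv_pairs
  have hz' : z⁻¹ = z := inv_eq_of_mul_eq_one_left hz
  apply Finset.card_bij (fun (ab : G × G) _ => ab.1)
  · intro ab hab
    rw [Finset.mem_filter, Finset.mem_product, mem_classFinset, mem_classFinset] at hab
    obtain ⟨⟨ha, hb⟩, hab⟩ := hab
    have ha2 := br_inv_conj_sq hz ha
    have hb2 := br_inv_conj_sq hz hb
    have hinv := br_inv_inverts ha2 hb2 hab
    rw [hz'] at hinv
    rw [Finset.mem_filter]
    refine ⟨Finset.mem_univ _, ?_, ha2, ?_, ?_⟩
    · calc ab.1 * z = ab.1 * z * ab.1⁻¹ * ab.1 := by group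
        _ = z * ab.1 := by rw [hinv]
    · intro h1
      obtain ⟨c, hc⟩ := isConj_iff.mp ha
      rw [h1] at hc
      apply hz1
      calc z = c⁻¹ * (c * z * c⁻¹) * c := by group
        _ = 1 := by rw [hc]; group
    · intro h1
      rw [h1] at hab
      have hb1 : ab.2 = 1 := by
        have : z * ab.2 = z * 1 := by rw [hab, mul_one]
        exact mul_left_cancel this
      obtain ⟨c, hc⟩ := isConj_iff.mp hb
      rw [hb1] at hc
      apply hz1
      calc z = c⁻¹ * (c * z * c⁻¹) * c := by group
        _ = 1 := by rw [hc]; group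
  · intro ab hab cd hcd h
    rw [Finset.mem_filter] at hab hcd
    have h1 : ab.1 = cd.1 := h
    have h2 : ab.2 = cd.2 := by
      have := hab.2.trans hcd.2.symm
      rw [h1] at this
      exact mul_left_cancel this
    exact Prod.ext h1 h2
  · intro a ha
    rw [Finset.mem_filter] at ha
    obtain ⟨-, hcomm, ha2, ha1, haz⟩ := ha
    have ha' : a⁻¹ = a := inv_eq_of_mul_eq_one_left ha2
    refine ⟨(a, a * z), ?_, rfl⟩
    rw [Finset.mem_filter, Finset.mem_product, mem_classFinset, mem_classFinset]
    refine ⟨⟨hconj a ha2 ha1, hconj (a * z) ?_ ?_⟩, ?_⟩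
    · calc a * z * (a * z) = a * (z * a) * z := by group
        _ = a * (a * z) * z := by rw [hcomm]
        _ = (a * a) * (z * z) := by group
        _ = 1 := by rw [ha2, hz, one_mul]
    · intro h
      apply haz
      have : a * z = a * a := by rw [h, ha2]
      exact (mul_left_cancel this).symm
    · show a * (a * z) = z
      rw [← mul_assoc, ha2, one_mul]

open Classical in
/-- **(I3)** if the number of pairs is `|C_G(z)| - 2` and all involutions are conjugate to `z`,
then `C_G(z)` has exponent `2` -/
theorem br_inv_sq_of_pairs [Fintype G] (z : G) (hz : z * z = 1) (hz1 : z ≠ 1)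
    (hconj : ∀ a : G, a * a = 1 → a ≠ 1 → IsConj z a)
    (hcount : br_inv_pairs z z + 2 = Nat.card (Subgroup.centralizer ({z} : Set G)))
    (c : G) (hc : c ∈ Subgroup.centralizer ({z} : Set G)) : c * c = 1 := by
  by_contra hcc
  rw [br_inv_pairs_self z hz hz1 hconj] at hcount
  -- the set `{a ∈ C(z) : a² = 1}` misses `c`
  have hcard : Nat.card (Subgroup.centralizer ({z} : Set G)) =
      (Finset.univ.filter (fun a : G => a * z = z * a)).card := by
    rw [Nat.card_eq_fintype_card, Fintype.card_subtype]
    congr 1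
    ext a
    simp only [Finset.mem_filter, Finset.mem_univ, true_and]
    rw [Subgroup.mem_centralizer_iff]
    constructor
    · intro h
      exact (h z rfl).symm
    · intro h x hx
      rw [Set.mem_singleton_iff] at hx
      rw [hx]
      exact h.symm
  have hsub : insert (1 : G) (insert z
      (Finset.univ.filter (fun a : G => a * z = z * a ∧ a * a = 1 ∧ a ≠ 1 ∧ a ≠ z))) ⊆
      (Finset.univ.filter (fun a : G => a * z = z * a)).erase c := by
    intro a ha
    rw [Finset.mem_insert, Finset.mem_insert, Finset.mem_filter] at ha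
    rw [Finset.mem_erase, Finset.mem_filter]
    rcases ha with rfl | rfl | ⟨-, h1, h2, -, -⟩
    · exact ⟨fun h => hcc (by rw [← h, one_mul]), Finset.mem_univ _, by rw [one_mul, mul_one]⟩
    · exact ⟨fun h => hcc (by rw [← h, hz]), Finset.mem_univ _, rfl⟩
    · exact ⟨fun h => hcc (by rw [← h, h2]), Finset.mem_univ _, h1⟩
  have hcmem : c ∈ Finset.univ.filter (fun a : G => a * z = z * a) := by
    rw [Finset.mem_filter]
    refine ⟨Finset.mem_univ _, ?_⟩
    rw [Subgroup.mem_centralizer_iff] at hc
    exact (hc z rfl).symm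
  have h1 := Finset.card_le_card hsub
  rw [Finset.card_erase_of_mem hcmem, Finset.card_insert_of_notMem, Finset.card_insert_of_notMem]
    at h1
  · omega
  · rw [Finset.mem_filter]
    exact fun h => h.2.2.2.2 rfl
  · rw [Finset.mem_insert, Finset.mem_filter]
    rintro (h | h)
    · exact hz1 h.symm
    · exact h.2.2.2.1 rfl

/-- a group of exponent `2` is commutative -/
theorem br_inv_comm_of_sq {H : Type*} [Group H] (h : ∀ c : H, c * c = 1) (a b : H) :
    a * b = b * a := by
  have ha : a⁻¹ = a := inv_eq_of_mul_eq_one_left (h a)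
  have hb : b⁻¹ = b := inv_eq_of_mul_eq_one_left (h b)
  have hab : (a * b)⁻¹ = a * b := inv_eq_of_mul_eq_one_left (h (a * b))
  calc a * b = (a * b)⁻¹ := hab.symm
    _ = b⁻¹ * a⁻¹ := mul_inv_rev a b
    _ = b * a := by rw [ha, hb]

end Cfsg.Agent.BR
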