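import Mathlib
import Cfsg.Prelude.Def_Characters
import Cfsg.Agent.Helper6.Involutions
import Cfsg.Agent.Helper6.IrrDegree
import Cfsg.Agent.Helper6.BlockPart
import Cfsg.Agent.Helper6.ColumnOrth
import Cfsg.Agent.Helper6.CentralChar
import Cfsg.Agent.Helper6.PrincipalDefect
import Cfsg.Agent.BR.Invol
import Cfsg.Agent.S1230

/-!
# Brauer–Reynolds track, L7: the case `f = 2`

Core statement `br_ftwo_core`, in terms of three character sums at an involution `z`:
`|G| = p (p - 1) (p - 2)`, `|C_G(z)| = p - 1`, `∑ χ(1) ≤ (p - 1)²` and the class multiplication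
constant `a_{zzz} = p - 3`. Then all involutions are conjugate to `z`, `C_G(z)` is an elementary
abelian Sylow `2`-subgroup, neither cyclic nor normal, and S1230 gives `G ≅ PSL(2, F)`,
`|F| = p - 1`.
-/

set_option autoImplicit false
set_option linter.style.haveILetI false

namespace Cfsg.Agent.BR

open Cfsg Cfsg.Agent.Helper6
open scoped ComplexConjugate

universe u

variable {G : Type u} [Group G]

/-- a subgroup of exponent `2` is commutative -/
theorem br_ftwo_comm_of_sq (H : Subgroup G) (h : ∀ c ∈ H, c ^ 2 = 1) : IsMulCommutative H := by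
  refine ⟨⟨fun a b => Subtype.ext ?_⟩⟩
  have ha : (a : G) * a = 1 := by rw [← pow_two]; exact h a a.2
  have hb : (b : G) * b = 1 := by rw [← pow_two]; exact h b b.2
  have hab : ((a : G) * b) * (a * b) = 1 := by
    rw [← pow_two]; exact h _ (H.mul_mem a.2 b.2)
  show (a : G) * b = b * a
  calc (a : G) * b = (b * b) * (a * b) * (a * a) := by rw [ha, hb, one_mul, mul_one]
    _ = b * ((b * a) * (b * a)) * a := by group
    _ = b * a := by
      have hba : ((b : G) * a) * (b * a) = 1 := by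
        have h1 : ((b : G) * a) = ((a : G) * b)⁻¹ := by
          rw [mul_inv_rev]
          have : (a : G)⁻¹ = a := inv_eq_of_mul_eq_one_left ha
          have hb' : (b : G)⁻¹ = b := inv_eq_of_mul_eq_one_left hb
          rw [this, hb']
        rw [h1, ← mul_inv_rev, hab, inv_one]
      rw [hba, mul_one]


/-- if every involution-or-trivial element count is forced, the solutions of `s * s = 1` are `1`
and the conjugates of `z` -/
theorem br_ftwo_invol_conj [Fintype G] [DecidableEq G] (z : G) (hz : orderOf z = 2) (m : ℕ)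
    (hcl : (classFinset z).card = m)
    (hI : (Finset.univ.filter (fun s : G => s * s = 1)).card ≤ m + 1)
    (s : G) (hs : s * s = 1) (hs1 : s ≠ 1) : IsConj z s := by
  classical
  have hzz : z * z = 1 := by rw [← pow_two, ← hz]; exact pow_orderOf_eq_one z
  have hz1 : z ≠ 1 := by
    intro h
    rw [h, orderOf_one] at hz
    omega
  -- `insert 1 (classFinset z) ⊆ I`
  have hsub : insert (1 : G) (classFinset z) ⊆ Finset.univ.filter (fun s : G => s * s = 1) := by
    intro x hx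
    rw [Finset.mem_filter]
    refine ⟨Finset.mem_univ _, ?_⟩
    rcases Finset.mem_insert.mp hx with rfl | hx
    · exact one_mul 1
    · rw [mem_classFinset] at hx
      obtain ⟨a, ha⟩ := isConj_iff.mp hx
      rw [← ha]
      calc a * z * a⁻¹ * (a * z * a⁻¹) = a * (z * z) * a⁻¹ := by group
        _ = 1 := by rw [hzz, mul_one, mul_inv_cancel]
  have h1notin : (1 : G) ∉ classFinset z := by
    rw [mem_classFinset]
    intro h
    exact hz1 (isConj_one_left.mp h)
  have hcard : (insert (1 : G) (classFinset z)).card = m + 1 := by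
    rw [Finset.card_insert_of_notMem h1notin, hcl]
  have heq : insert (1 : G) (classFinset z) = Finset.univ.filter (fun s : G => s * s = 1) :=
    Finset.eq_of_subset_of_card_le hsub (by rw [hcard]; exact hI)
  have hsI : s ∈ Finset.univ.filter (fun s : G => s * s = 1) := by
    rw [Finset.mem_filter]; exact ⟨Finset.mem_univ _, hs⟩
  rw [← heq] at hsI
  rcases Finset.mem_insert.mp hsI with h | h
  · exact absurd h hs1
  · exact (mem_classFinset z s).mp h

/-- a subgroup of exponent `2` and odd index is a Sylow `2`-subgroup -/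
theorem br_ftwo_sylow [Finite G] (C : Subgroup G) (hexp : ∀ c ∈ C, c * c = 1)
    (hidx : ¬ 2 ∣ C.index) : ∃ T : Sylow 2 G, (T : Subgroup G) = C := by
  haveI : Fact (Nat.Prime 2) := ⟨Nat.prime_two⟩
  have hP : IsPGroup 2 C := by
    intro g
    refine ⟨1, ?_⟩
    rw [pow_one, pow_two]
    exact Subtype.ext (hexp g g.2)
  exact ⟨hP.toSylow hidx, hP.toSylow_coe hidx⟩

/-- a group of exponent `2` with more than two elements is not cyclic -/
theorem br_ftwo_not_cyclic [Finite G] (C : Subgroup G) (hexp : ∀ c ∈ C, c * c = 1)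
    (hcard : 2 < Nat.card C) : ¬ IsCyclic C := by
  intro hcyc
  obtain ⟨g, hg⟩ := hcyc.exists_generator
  have h1 : orderOf g = Nat.card C := orderOf_eq_card_of_forall_mem_zpowers hg
  have h2 : orderOf g ∣ 2 := by
    apply orderOf_dvd_of_pow_eq_one
    rw [pow_two]
    exact Subtype.ext (hexp g g.2)
  have := Nat.le_of_dvd (by norm_num) h2
  omega

/-- a centralizer smaller than the class is not normal -/
theorem br_ftwo_not_normal [Finite G] (z : G)
    (hlt : Nat.card (Subgroup.centralizer ({z} : Set G)) <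
      (Subgroup.centralizer ({z} : Set G)).index) :
    ¬ (Subgroup.centralizer ({z} : Set G)).Normal := by
  classical
  haveI : Fintype G := Fintype.ofFinite G
  intro hN
  have hz : z ∈ Subgroup.centralizer ({z} : Set G) := by
    rw [Subgroup.mem_centralizer_iff]
    intro h hh
    rw [Set.mem_singleton_iff] at hh
    rw [hh]
  have hle : (classFinset z).card ≤ Nat.card (Subgroup.centralizer ({z} : Set G)) := by
    rw [Nat.card_eq_fintype_card, Fintype.card_subtype]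
    apply Finset.card_le_card
    intro x hx
    rw [mem_classFinset] at hx
    obtain ⟨g, hg⟩ := isConj_iff.mp hx
    rw [Finset.mem_filter]
    exact ⟨Finset.mem_univ _, hg ▸ hN.conj_mem z hz g⟩
  rw [card_classFinset] at hle
  omega

/-- the centralizer of a conjugate of `z` has exponent `2` if that of `z` does -/
theorem br_ftwo_conj_sq (z t : G) (hconj : IsConj z t)
    (hsq : ∀ c ∈ Subgroup.centralizer ({z} : Set G), c * c = 1)
    (c : G) (hc : c ∈ Subgroup.centralizer ({t} : Set G)) : c * c = 1 := by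
  obtain ⟨g, hg⟩ := isConj_iff.mp hconj
  have hct : t * c = c * t := by
    rw [Subgroup.mem_centralizer_iff] at hc
    exact hc t rfl
  have hmem : g⁻¹ * c * g ∈ Subgroup.centralizer ({z} : Set G) := by
    rw [Subgroup.mem_centralizer_iff]
    intro h hh
    rw [Set.mem_singleton_iff] at hh
    subst hh
    have hh' : h = g⁻¹ * t * g := by rw [← hg]; group
    rw [hh']
    calc g⁻¹ * t * g * (g⁻¹ * c * g) = g⁻¹ * (t * c) * g := by group
      _ = g⁻¹ * (c * t) * g := by rw [hct]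
      _ = g⁻¹ * c * g * (g⁻¹ * t * g) := by group
  have h1 := hsq _ hmem
  have h2 : c * c = g * ((g⁻¹ * c * g) * (g⁻¹ * c * g)) * g⁻¹ := by group
  rw [h2, h1, mul_one, mul_inv_cancel]

/-- the index of the centralizer -/
theorem br_ftwo_index [Finite G] (p : ℕ) (hp5 : 5 ≤ p)
    (hG : Nat.card G = p * (p - 1) * (p - 2)) (z : G)
    (hC : Nat.card (Subgroup.centralizer ({z} : Set G)) = p - 1) :
    (Subgroup.centralizer ({z} : Set G)).index = p * (p - 2) := by
  have h1 := (Subgroup.centralizer ({z} : Set G)).card_mul_index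
  rw [hC, hG] at h1
  have hpos : 0 < p - 1 := by omega
  apply Nat.eq_of_mul_eq_mul_left hpos
  rw [h1]
  ring

/-- **L7, core**: `|G| = p (p - 1) (p - 2)`, an involution `z` with `|C_G(z)| = p - 1` of
exponent `2`, all involutions conjugate to `z`: then `G ≅ PSL(2, F)` with `|F| = p - 1`. -/
theorem br_ftwo_core [Finite G] (p : ℕ) (hp5 : 5 ≤ p) (hodd : Odd p)
    (hG : Nat.card G = p * (p - 1) * (p - 2))
    (z : G)
    (hC : Nat.card (Subgroup.centralizer ({z} : Set G)) = p - 1)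
    (hI : ∀ a : G, a * a = 1 → a ≠ 1 → IsConj z a)
    (hsq : ∀ c ∈ Subgroup.centralizer ({z} : Set G), c * c = 1) :
    ∃ (F : Type) (_ : Field F) (_ : Fintype F), Fintype.card F = p - 1 ∧
      Nonempty (G ≃* Matrix.ProjectiveSpecialLinearGroup (Fin 2) F) := by
  classical
  have hidx : (Subgroup.centralizer ({z} : Set G)).index = p * (p - 2) := by
    have h1 := (Subgroup.centralizer ({z} : Set G)).card_mul_index
    rw [hC, hG] at h1
    have hpos : 0 < p - 1 := by omega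
    apply Nat.eq_of_mul_eq_mul_left hpos
    rw [h1]
    ring
  have hnot2 : ¬ 2 ∣ (Subgroup.centralizer ({z} : Set G)).index := by
    rw [hidx]
    obtain ⟨k, hk⟩ := hodd
    have h2 : p - 2 = 2 * (k - 1) + 1 := by omega
    rw [h2, hk]
    intro h
    have hodd' : Odd ((2 * k + 1) * (2 * (k - 1) + 1)) := Odd.mul ⟨k, rfl⟩ ⟨k - 1, rfl⟩
    exact (Nat.not_even_iff_odd.mpr hodd') (even_iff_two_dvd.mpr h)
  obtain ⟨T, hT⟩ := br_ftwo_sylow (Subgroup.centralizer ({z} : Set G)) hsq hnot2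
  have hnc : ¬ IsCyclic (T : Subgroup G) := by
    rw [hT]
    exact br_ftwo_not_cyclic _ hsq (by rw [hC]; omega)
  have hnn : ¬ (T : Subgroup G).Normal := by
    rw [hT]
    apply br_ftwo_not_normal z
    rw [hC, hidx]
    have h3 : 3 ≤ p - 2 := by omega
    have h4 := Nat.mul_le_mul_left p h3
    omega
  have hCall : ∀ t : G, orderOf t = 2 →
      IsMulCommutative (Subgroup.centralizer ({t} : Set G)) ∧
        ∀ c ∈ Subgroup.centralizer ({t} : Set G), c ^ 2 = 1 := by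
    intro t ht
    have ht2 : t * t = 1 := by rw [← pow_two, ← ht]; exact pow_orderOf_eq_one t
    have ht1 : t ≠ 1 := by
      rintro rfl
      rw [orderOf_one] at ht
      omega
    have hconj := hI t ht2 ht1
    have hsq' : ∀ c ∈ Subgroup.centralizer ({t} : Set G), c ^ 2 = 1 := by
      intro c hc
      rw [pow_two]
      exact br_ftwo_conj_sq z t hconj hsq c hc
    exact ⟨br_ftwo_comm_of_sq _ hsq', hsq'⟩
  obtain ⟨F, hF1, hF2, hcard, hiso⟩ := Cfsg.Agent.S1230.result T hnc hnn hCall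
  refine ⟨F, hF1, hF2, ?_, hiso⟩
  rw [hcard]
  show Nat.card (T : Subgroup G) = p - 1
  rw [hT, hC]

open Classical in
/-- splitting a sum over `Irr(G) = {χ₀, χ₁} ⊔ Y ⊔ Z` -/
theorem br_ftwo_sum_split {I : Type*} [Fintype I] (X Y : Set I) (hdisj : Disjoint X Y)
    (χ₀ χ₁ : I) (h01 : χ₀ ≠ χ₁) (hX : X = {χ₀, χ₁}) (F : I → ℂ) (cY : ℂ)
    (hY : ∀ ψ ∈ Y, F ψ = cY) :
    ∑ χ, F χ = F χ₀ + F χ₁ + (Nat.card Y : ℂ) * cY +
      ∑ ζ ∈ Finset.univ.filter (fun ζ => ζ ∉ X ∧ ζ ∉ Y), F ζ := by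
  rw [← Finset.sum_filter_add_sum_filter_not Finset.univ (fun χ => χ ∈ X)]
  have h1 : Finset.univ.filter (fun χ => χ ∈ X) = {χ₀, χ₁} := by
    ext χ
    rw [Finset.mem_filter, hX]
    simp
  rw [h1, Finset.sum_pair h01]
  rw [← Finset.sum_filter_add_sum_filter_not (Finset.univ.filter (fun χ => χ ∉ X))
    (fun χ => χ ∈ Y)]
  rw [Finset.filter_filter, Finset.filter_filter]
  have h2 : Finset.univ.filter (fun χ => χ ∉ X ∧ χ ∈ Y) =
      Finset.univ.filter (fun χ => χ ∈ Y) := by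
    ext χ
    simp only [Finset.mem_filter, Finset.mem_univ, true_and]
    constructor
    · exact fun h => h.2
    · intro h
      exact ⟨fun hx => Set.disjoint_left.mp hdisj hx h, h⟩
  rw [h2, Finset.sum_congr rfl (fun ψ hψ => hY ψ (Finset.mem_filter.mp hψ).2), Finset.sum_const,
    nsmul_eq_mul]
  have h3 : (Finset.univ.filter (fun χ => χ ∈ Y)).card = Nat.card Y := by
    rw [Nat.card_eq_fintype_card, Fintype.card_subtype]
  rw [h3]
  ring

/-- **L7** (`eps = -`, `f = 2`): `Irr(G) = {1, χ₋} ⊔ Y ⊔ Z` with `χ₋(1) = p - 1`, `χ₋(z) = 0`,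
`|Y| = (p - 1)/2`, `ψ(1) = p - 2`, `ψ(z) = -1` on `Y`, `ζ(1) = p ζ(z)`, `ζ(z) ∈ ℕ` on `Z`, at an
involution `z`. Then `G ≅ PSL(2, F)` with `|F| = p - 1`. -/
theorem br_ftwo_main [Finite G] (p : ℕ) (hp5 : 5 ≤ p) (hodd : Odd p)
    (z : G) (hz : z * z = 1) (hz1 : z ≠ 1)
    (X Y : Set (Cfsg.IrrCharacter G)) (hdisj : Disjoint X Y) (htriv : trivIrr G ∈ X)
    (hcardX : Nat.card X = 2) (hcardY : Nat.card Y * 2 = p - 1)
    (hX : ∀ χ ∈ X, χ ≠ trivIrr G → (χ : G → ℂ) 1 = (p : ℂ) - 1 ∧ (χ : G → ℂ) z = 0)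
    (hY : ∀ ψ ∈ Y, (ψ : G → ℂ) 1 = (p : ℂ) - 2 ∧ (ψ : G → ℂ) z = -1)
    (hZ : ∀ ζ : Cfsg.IrrCharacter G, ζ ∉ X → ζ ∉ Y →
      ∃ k : ℕ, (ζ : G → ℂ) 1 = (p : ℂ) * k ∧ (ζ : G → ℂ) z = k) :
    ∃ (F : Type) (_ : Field F) (_ : Fintype F), Fintype.card F = p - 1 ∧
      Nonempty (G ≃* Matrix.ProjectiveSpecialLinearGroup (Fin 2) F) := by
  classical
  haveI : Fintype G := Fintype.ofFinite G
  haveI : Finite (Cfsg.IrrCharacter G) := irr_finite
  haveI : Fintype (Cfsg.IrrCharacter G) := Fintype.ofFinite _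
  -- `X = {1, χ₁}`
  obtain ⟨χ₁, h01, hXeq⟩ : ∃ χ₁, trivIrr G ≠ χ₁ ∧ X = {trivIrr G, χ₁} := by
    rw [_root_.Nat.card_coe_set_eq, Set.ncard_eq_two] at hcardX
    obtain ⟨a, b, hab, hX'⟩ := hcardX
    rw [hX'] at htriv
    rcases htriv with h | h
    · exact ⟨b, h ▸ hab, h ▸ hX'⟩
    · rw [Set.mem_singleton_iff] at h
      refine ⟨a, h ▸ hab.symm, ?_⟩
      rw [hX', h, Set.pair_comm]
  have hχ₁X : χ₁ ∈ X := by rw [hXeq]; simp
  obtain ⟨hχ₁1, hχ₁z⟩ := hX χ₁ hχ₁X (Ne.symm h01)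
  -- the multiplicities `k`
  have hZ' : ∀ ζ : Cfsg.IrrCharacter G, ∃ k : ℕ, ζ ∉ X → ζ ∉ Y →
      ((ζ : G → ℂ) 1 = (p : ℂ) * k ∧ (ζ : G → ℂ) z = k) := by
    intro ζ
    by_cases h1 : ζ ∈ X
    · exact ⟨0, fun h => absurd h1 h⟩
    by_cases h2 : ζ ∈ Y
    · exact ⟨0, fun _ h => absurd h2 h⟩
    obtain ⟨k, hk⟩ := hZ ζ h1 h2
    exact ⟨k, fun _ _ => hk⟩
  choose k hk using hZ'
  have hkZ : ∀ ζ ∈ Finset.univ.filter (fun ζ : Cfsg.IrrCharacter G => ζ ∉ X ∧ ζ ∉ Y),
      (ζ : G → ℂ) 1 = (p : ℂ) * k ζ ∧ (ζ : G → ℂ) z = k ζ := by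
    intro ζ hζ
    rw [Finset.mem_filter] at hζ
    exact hk ζ hζ.2.1 hζ.2.2
  have hkpos : ∀ ζ ∈ Finset.univ.filter (fun ζ : Cfsg.IrrCharacter G => ζ ∉ X ∧ ζ ∉ Y),
      1 ≤ k ζ := by
    intro ζ hζ
    rcases Nat.eq_zero_or_pos (k ζ) with h0 | h0
    · exfalso
      have := (hkZ ζ hζ).1
      rw [h0, Nat.cast_zero, mul_zero] at this
      exact IsIrrCharacter.apply_one_ne_zero ζ.2 this
    · exact h0
  obtain ⟨S, hS⟩ : ∃ S : ℕ, S = ∑ ζ ∈ Finset.univ.filter
      (fun ζ : Cfsg.IrrCharacter G => ζ ∉ X ∧ ζ ∉ Y), k ζ * k ζ := ⟨_, rfl⟩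
  obtain ⟨K, hK⟩ : ∃ K : ℕ, K = ∑ ζ ∈ Finset.univ.filter
      (fun ζ : Cfsg.IrrCharacter G => ζ ∉ X ∧ ζ ∉ Y), k ζ := ⟨_, rfl⟩
  have hKS : K ≤ S := by
    rw [hK, hS]
    exact Finset.sum_le_sum (fun ζ hζ => by nlinarith [hkpos ζ hζ])
  obtain ⟨t, ht⟩ : ∃ t : ℕ, t = Nat.card Y := ⟨_, rfl⟩
  rw [← ht] at hcardY
  have htp : (2 : ℂ) * t = p - 1 := by
    have h1 : ((t * 2 : ℕ) : ℂ) = ((p - 1 : ℕ) : ℂ) := by rw [hcardY]
    rw [Nat.cast_sub (by omega)] at h1
    push_cast at h1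
    linear_combination h1
  have hpC : (p : ℂ) ≠ 0 := by exact_mod_cast (by omega : p ≠ 0)
  -- the general evaluation of a sum over `Irr(G)`
  have hsplit : ∀ Φ : ℂ → ℂ → ℂ, ∑ χ : Cfsg.IrrCharacter G, Φ ((χ : G → ℂ) 1) ((χ : G → ℂ) z) =
      Φ 1 1 + Φ ((p : ℂ) - 1) 0 + (t : ℂ) * Φ ((p : ℂ) - 2) (-1) +
        ∑ ζ ∈ Finset.univ.filter (fun ζ : Cfsg.IrrCharacter G => ζ ∉ X ∧ ζ ∉ Y),
          Φ ((p : ℂ) * k ζ) (k ζ) := by
    intro Φ
    rw [br_ftwo_sum_split X Y hdisj (trivIrr G) χ₁ h01 hXeq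
      (fun χ => Φ ((χ : G → ℂ) 1) ((χ : G → ℂ) z)) (Φ ((p : ℂ) - 2) (-1))
      (fun ψ hψ => by rw [(hY ψ hψ).1, (hY ψ hψ).2]), ← ht]
    rw [hχ₁1, hχ₁z, Finset.sum_congr rfl (fun ζ hζ => by rw [(hkZ ζ hζ).1, (hkZ ζ hζ).2])]
    rfl
  have hp1C : (p : ℂ) - 1 ≠ 0 := by
    have h1 : ((p - 1 : ℕ) : ℂ) ≠ 0 := by exact_mod_cast (by omega : p - 1 ≠ 0)
    rwa [Nat.cast_sub (by omega), Nat.cast_one] at h1
  have hp2C : (p : ℂ) - 2 ≠ 0 := by
    have h1 : ((p - 2 : ℕ) : ℂ) ≠ 0 := by exact_mod_cast (by omega : p - 2 ≠ 0)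
    rwa [Nat.cast_sub (by omega), Nat.cast_ofNat] at h1
  have hcj1 : conj ((p : ℂ) - 1) = (p : ℂ) - 1 := by
    rw [map_sub, Complex.conj_natCast, map_one]
  have hcj2 : conj ((p : ℂ) - 2) = (p : ℂ) - 2 := by
    rw [map_sub, Complex.conj_natCast, Complex.conj_ofNat]
  have hnotconj : ¬ IsConj (1 : G) z := fun h => hz1 (isConj_one_right.mp h)
  -- (S1): the columns of `1` and `z` are orthogonal
  have hS1 : (1 : ℂ) - t * ((p : ℂ) - 2) + p * S = 0 := by
    have h := column_orthogonality_aux (1 : G) z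
    rw [if_neg hnotconj, hsplit (fun a b => a * conj b)] at h
    have hZ1 : ∑ ζ ∈ Finset.univ.filter (fun ζ : Cfsg.IrrCharacter G => ζ ∉ X ∧ ζ ∉ Y),
        (p : ℂ) * (k ζ : ℂ) * conj ((k ζ : ℕ) : ℂ) = p * S := by
      rw [hS]
      push_cast
      rw [Finset.mul_sum]
      refine Finset.sum_congr rfl (fun ζ _ => ?_)
      rw [Complex.conj_natCast]
      ring
    rw [hZ1, map_one, map_zero, map_neg, map_one] at h
    linear_combination h
  have h2S : (2 : ℂ) * S = p - 3 := by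
    have h1 : (p : ℂ) * (2 * S - (p - 3)) = 0 := by
      linear_combination 2 * hS1 + ((p : ℂ) - 2) * htp
    rcases mul_eq_zero.mp h1 with h | h
    · exact absurd h hpC
    · linear_combination h
  have hSn : 2 * S + 3 = p := by
    have h1 : ((2 * S + 3 : ℕ) : ℂ) = (p : ℂ) := by
      push_cast
      linear_combination h2S
    exact_mod_cast h1
  have htn : 2 * t + 1 = p := by omega
  -- (S2): the order of the centralizer of `z`
  have hCn : Nat.card (Subgroup.centralizer ({z} : Set G)) = p - 1 := by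
    have h := column_orthogonality_aux z z
    rw [if_pos (IsConj.refl z), hsplit (fun _ b => b * conj b)] at h
    have hZ2 : ∑ ζ ∈ Finset.univ.filter (fun ζ : Cfsg.IrrCharacter G => ζ ∉ X ∧ ζ ∉ Y),
        (k ζ : ℂ) * conj ((k ζ : ℕ) : ℂ) = S := by
      rw [hS]
      push_cast
      refine Finset.sum_congr rfl (fun ζ _ => ?_)
      rw [Complex.conj_natCast]
    rw [hZ2, map_one, map_zero, map_neg, map_one] at h
    have h1 : ((2 * Nat.card (Subgroup.centralizer ({z} : Set G)) : ℕ) : ℂ) =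
        ((2 + 2 * t + 2 * S : ℕ) : ℂ) := by
      push_cast
      linear_combination -2 * h
    have h2 := Nat.cast_injective h1
    omega
  -- (S3): the order of `G`
  have hGn : Nat.card G = p * (p - 1) * (p - 2) := by
    have h := column_orthogonality_aux (1 : G) 1
    rw [if_pos (IsConj.refl 1), hsplit (fun a _ => a * conj a)] at h
    have hZ3 : ∑ ζ ∈ Finset.univ.filter (fun ζ : Cfsg.IrrCharacter G => ζ ∉ X ∧ ζ ∉ Y),
        (p : ℂ) * (k ζ : ℂ) * conj ((p : ℂ) * (k ζ : ℂ)) = p ^ 2 * S := by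
      rw [hS]
      push_cast
      rw [Finset.mul_sum]
      refine Finset.sum_congr rfl (fun ζ _ => ?_)
      rw [map_mul, Complex.conj_natCast, Complex.conj_natCast]
      ring
    have htop : Subgroup.centralizer ({1} : Set G) = ⊤ := by
      ext g
      simp [Subgroup.mem_centralizer_iff]
    rw [hZ3, map_one, hcj1, hcj2, htop, Subgroup.card_top] at h
    have hGC : (Nat.card G : ℂ) = (p : ℂ) * ((p : ℂ) - 1) * ((p : ℂ) - 2) := by
      linear_combination -h + ((p : ℂ) - 2) ^ 2 / 2 * htp + (p : ℂ) ^ 2 / 2 * h2S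
    have h1 : ((Nat.card G : ℕ) : ℂ) = ((p * (p - 1) * (p - 2) : ℕ) : ℂ) := by
      rw [Nat.cast_mul, Nat.cast_mul, Nat.cast_sub (by omega), Nat.cast_sub (by omega)]
      push_cast
      exact hGC
    exact Nat.cast_injective h1
  have hcl : (classFinset z).card = p * (p - 2) := by
    rw [card_classFinset]
    exact br_ftwo_index p hp5 hGn z hCn
  -- (S4): Frobenius–Schur
  have hI : ∀ a : G, a * a = 1 → a ≠ 1 → IsConj z a := by
    have hzord : orderOf z = 2 := by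
      haveI : Fact (Nat.Prime 2) := ⟨Nat.prime_two⟩
      exact orderOf_eq_prime (by rw [pow_two]; exact hz) hz1
    refine br_ftwo_invol_conj z hzord (p * (p - 2)) hcl ?_
    have hZ4 : ∑ ζ ∈ Finset.univ.filter (fun ζ : Cfsg.IrrCharacter G => ζ ∉ X ∧ ζ ∉ Y),
        (p : ℂ) * (k ζ : ℂ) = p * K := by
      rw [hK]
      push_cast
      rw [Finset.mul_sum]
    have hsum : ∑ χ : Cfsg.IrrCharacter G, (χ : G → ℂ) 1 =
        ((p + t * (p - 2) + p * K : ℕ) : ℂ) := by
      rw [hsplit (fun a _ => a), hZ4]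
      rw [Nat.cast_add, Nat.cast_add, Nat.cast_mul, Nat.cast_mul, Nat.cast_sub (by omega)]
      push_cast
      ring
    have h1 := card_sq_eq_one_le (G := G)
    have h2 : ∑ χ ∈ Finset.univ.filter
        (fun χ : Cfsg.IrrCharacter G => ∀ g, ((χ : G → ℂ) g).im = 0), ((χ : G → ℂ) 1).re ≤
        ∑ χ : Cfsg.IrrCharacter G, ((χ : G → ℂ) 1).re := by
      apply Finset.sum_le_sum_of_subset_of_nonneg (Finset.filter_subset _ _)
      intro χ _ _
      obtain ⟨n, -, hn⟩ := IsIrrCharacter.apply_one_pos χ.2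
      rw [hn, Complex.natCast_re]
      exact Nat.cast_nonneg n
    have h2' : ∑ χ : Cfsg.IrrCharacter G, ((χ : G → ℂ) 1).re =
        ((p + t * (p - 2) + p * K : ℕ) : ℝ) := by
      rw [← Complex.re_sum, hsum, Complex.natCast_re]
    rw [h2'] at h2
    have h3 : (Finset.univ.filter (fun s : G => s * s = 1)).card ≤ p + t * (p - 2) + p * K := by
      exact_mod_cast h1.trans h2
    have h4 : p * K ≤ p * S := Nat.mul_le_mul_left p hKS
    have hp2 : p - 2 = 2 * S + 1 := by omega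
    have ht' : t = S + 1 := by omega
    have h5 : p + t * (p - 2) + p * S = p * (p - 2) + 1 := by
      rw [hp2, ht', ← hSn]
      ring
    omega
  -- (S5): the class multiplication constant
  have hcount : br_inv_pairs z z + 2 = Nat.card (Subgroup.centralizer ({z} : Set G)) := by
    have h := br_inv_pairs_eq_sum z z
    rw [hsplit (fun a b => b * b * conj b / a), hcl, hGn] at h
    have hZ5 : ∑ ζ ∈ Finset.univ.filter (fun ζ : Cfsg.IrrCharacter G => ζ ∉ X ∧ ζ ∉ Y),
        (k ζ : ℂ) * (k ζ : ℂ) * conj ((k ζ : ℕ) : ℂ) / ((p : ℂ) * (k ζ : ℂ)) = S / p := by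
      rw [hS]
      push_cast
      rw [Finset.sum_div]
      refine Finset.sum_congr rfl (fun ζ hζ => ?_)
      have hk0 : (k ζ : ℂ) ≠ 0 := by
        have := hkpos ζ hζ
        exact_mod_cast (by omega : k ζ ≠ 0)
      rw [Complex.conj_natCast]
      field_simp
    rw [hZ5, map_one, map_zero, map_neg, map_one] at h
    have ht' : (t : ℂ) = ((p : ℂ) - 1) / 2 := by linear_combination htp / 2
    have hS' : (S : ℂ) = ((p : ℂ) - 3) / 2 := by linear_combination h2S / 2
    rw [ht', hS', Nat.cast_mul, Nat.cast_mul, Nat.cast_mul, Nat.cast_sub (by omega),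
      Nat.cast_sub (by omega)] at h
    have h1 : (br_inv_pairs z z : ℂ) = (p : ℂ) - 3 := by
      rw [h]
      push_cast
      field_simp
      ring
    have h2 : ((br_inv_pairs z z + 3 : ℕ) : ℂ) = (p : ℂ) := by
      push_cast
      linear_combination h1
    have h3 : br_inv_pairs z z + 3 = p := by exact_mod_cast h2
    omega
  have hsq := br_inv_sq_of_pairs z hz hz1 hI hcount
  exact br_ftwo_core p hp5 hodd hGn z hCn hI hsq

/-- **L7 from the character table at `z`** in the shape of `br_f2m_table` (`BR/FTwoM`):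
`Irr(G) = {1, χm} ⊔ Y ⊔ Z` with `Y` a `Finset`, degrees as `charDegree`. -/
theorem br_ftwo_of_table [Finite G] (p : ℕ) (hp5 : 5 ≤ p)
    (z : G) (hz : z * z = 1) (hz1 : z ≠ 1)
    (Y : Finset (Cfsg.IrrCharacter G)) (χm : Cfsg.IrrCharacter G)
    (zz : Cfsg.IrrCharacter G → ℕ)
    (hne : χm ≠ trivIrr G) (hmY : χm ∉ Y) (htY : trivIrr G ∉ Y) (hY2 : 2 * Y.card = p - 1)
    (hdeg : Cfsg.charDegree (χm : G → ℂ) = p - 1) (hval : (χm : G → ℂ) z = 0)
    (hY : ∀ ψ ∈ Y, Cfsg.charDegree (ψ : G → ℂ) = p - 2 ∧ (ψ : G → ℂ) z = -1)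
    (hZ : ∀ ζ : Cfsg.IrrCharacter G, ζ ≠ trivIrr G → ζ ≠ χm → ζ ∉ Y →
      Cfsg.charDegree (ζ : G → ℂ) = p * zz ζ ∧ (ζ : G → ℂ) z = (zz ζ : ℂ)) :
    ∃ (F : Type) (_ : Field F) (_ : Fintype F), Fintype.card F = p - 1 ∧
      Nonempty (G ≃* Matrix.ProjectiveSpecialLinearGroup (Fin 2) F) := by
  classical
  have hodd : Odd p := ⟨Y.card, by omega⟩
  have hdegC : ∀ χ : Cfsg.IrrCharacter G, (χ : G → ℂ) 1 = (Cfsg.charDegree (χ : G → ℂ) : ℂ) :=
    fun χ => (charDegree_cast_of_isCharacter (IsIrrCharacter.isCharacter χ.2)).symm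
  refine br_ftwo_main p hp5 hodd z hz hz1 ({trivIrr G, χm} : Set (Cfsg.IrrCharacter G))
    (Y : Set (Cfsg.IrrCharacter G)) ?_ (by simp) ?_ ?_ ?_ ?_ ?_
  · rw [Set.disjoint_left]
    intro χ hχ hχY
    rw [Finset.mem_coe] at hχY
    rcases hχ with h | h
    · exact htY (h ▸ hχY)
    · rw [Set.mem_singleton_iff] at h
      exact hmY (h ▸ hχY)
  · rw [_root_.Nat.card_coe_set_eq, Set.ncard_pair (Ne.symm hne)]
  · rw [_root_.Nat.card_coe_set_eq, Set.ncard_coe_finset]
    omega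
  · intro χ hχ hχ1
    rcases hχ with h | h
    · exact absurd h hχ1
    · rw [Set.mem_singleton_iff] at h
      subst h
      refine ⟨?_, hval⟩
      rw [hdegC, hdeg, Nat.cast_sub (by omega), Nat.cast_one]
  · intro ψ hψ
    rw [Finset.mem_coe] at hψ
    refine ⟨?_, (hY ψ hψ).2⟩
    rw [hdegC, (hY ψ hψ).1, Nat.cast_sub (by omega), Nat.cast_ofNat]
  · intro ζ hζX hζY
    rw [Finset.mem_coe] at hζY
    have h1 : ζ ≠ trivIrr G := fun h => hζX (by rw [h]; simp)
    have h2 : ζ ≠ χm := fun h => hζX (by rw [h]; simp)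
    refine ⟨zz ζ, ?_, (hZ ζ h1 h2 hζY).2⟩
    rw [hdegC, (hZ ζ h1 h2 hζY).1, Nat.cast_mul]

end Cfsg.Agent.BR
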