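import Mathlib
import Cfsg.Agent.S1230

/-!
# Brauer–Reynolds track, L7, the group half

From the character-theoretic output of L7 (an involution `z` with `|C(z)| = p - 1`, all
involutions conjugate to `z`, `C(z)` of exponent two, `|G| = p (p - 1) (p - 2)`) to
`G ≃* PSL(2, F)` with `|F| = p - 1`, by the landed recognition theorem S1230:
`C(z)` is a Sylow 2-subgroup that is neither cyclic nor normal, and the centralizer of every
involution is elementary abelian.
-/

set_option autoImplicit false
set_option linter.style.haveILetI false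

namespace Cfsg.Agent.BR

universe u

variable {G : Type u} [Group G]

/-- a group of exponent two is commutative -/
theorem br_f2g_comm {H : Type*} [Group H] (h : ∀ c : H, c * c = 1) (a b : H) :
    a * b = b * a := by
  have ha : a⁻¹ = a := inv_eq_of_mul_eq_one_left (h a)
  have hb : b⁻¹ = b := inv_eq_of_mul_eq_one_left (h b)
  have hab : (a * b)⁻¹ = a * b := inv_eq_of_mul_eq_one_left (h (a * b))
  calc a * b = (a * b)⁻¹ := hab.symm
    _ = b⁻¹ * a⁻¹ := mul_inv_rev a b
    _ = b * a := by rw [ha, hb]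

/-- the centralizer of a conjugate of `z` has exponent two if `C(z)` has -/
theorem br_f2g_sq_conj (z : G)
    (hsq : ∀ c ∈ Subgroup.centralizer ({z} : Set G), c * c = 1) (g : G) (c : G)
    (hc : c ∈ Subgroup.centralizer ({g * z * g⁻¹} : Set G)) : c * c = 1 := by
  have hc' : g⁻¹ * c * g ∈ Subgroup.centralizer ({z} : Set G) := by
    rw [Subgroup.mem_centralizer_singleton_iff] at hc ⊢
    -- hc : c * (g * z * g⁻¹) = g * z * g⁻¹ * c
    have h1 : c * (g * z * g⁻¹) = g * z * g⁻¹ * c := hc
    calc g⁻¹ * c * g * z = g⁻¹ * (c * (g * z * g⁻¹)) * g := by group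
      _ = g⁻¹ * (g * z * g⁻¹ * c) * g := by rw [h1]
      _ = z * (g⁻¹ * c * g) := by group
  have h2 := hsq _ hc'
  have h3 : g⁻¹ * c * g * (g⁻¹ * c * g) = g⁻¹ * (c * c) * g := by group
  rw [h3] at h2
  have h4 : c * c = g * (g⁻¹ * (c * c) * g) * g⁻¹ := by group
  rw [h4, h2]
  group

/-- the number of cosets of `C(z)` is at most the size of a normal subgroup containing `z` -/
theorem br_f2g_index_le [Finite G] (z : G) (T : Subgroup G) [T.Normal] (hzT : z ∈ T) :
    (Subgroup.centralizer ({z} : Set G)).index ≤ Nat.card T := by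
  classical
  rw [Subgroup.index_eq_card]
  let φ : G ⧸ Subgroup.centralizer ({z} : Set G) → T :=
    Quotient.lift (s := QuotientGroup.leftRel (Subgroup.centralizer ({z} : Set G)))
      (fun g => (⟨g * z * g⁻¹, ‹T.Normal›.conj_mem z hzT g⟩ : T)) (by
        intro a b hab
        have hab' : a⁻¹ * b ∈ Subgroup.centralizer ({z} : Set G) :=
          QuotientGroup.leftRel_apply.mp hab
        rw [Subgroup.mem_centralizer_singleton_iff] at hab'
        apply Subtype.ext
        show a * z * a⁻¹ = b * z * b⁻¹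
        have h1 : a⁻¹ * b * z = z * (a⁻¹ * b) := hab'
        calc a * z * a⁻¹ = a * (z * (a⁻¹ * b)) * b⁻¹ := by group
          _ = a * (a⁻¹ * b * z) * b⁻¹ := by rw [h1]
          _ = b * z * b⁻¹ := by group)
  apply Nat.card_le_card_of_injective φ
  intro q₁ q₂
  refine Quotient.inductionOn₂ q₁ q₂ ?_
  intro a b hab
  apply Quotient.sound
  show QuotientGroup.leftRel (Subgroup.centralizer ({z} : Set G)) a b
  rw [QuotientGroup.leftRel_apply, Subgroup.mem_centralizer_singleton_iff]
  have h1 : a * z * a⁻¹ = b * z * b⁻¹ := congrArg Subtype.val hab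
  calc a⁻¹ * b * z = a⁻¹ * (b * z * b⁻¹) * b := by group
    _ = a⁻¹ * (a * z * a⁻¹) * b := by rw [h1]
    _ = z * (a⁻¹ * b) := by group

/-- **L7, group half.** -/
theorem br_f2g_main [Finite G] (p : ℕ) (hpp : p.Prime) (hp5 : 5 ≤ p) (z : G)
    (hG : Nat.card G = p * (p - 1) * (p - 2))
    (hCz : Nat.card (Subgroup.centralizer ({z} : Set G)) = p - 1)
    (hconj : ∀ t : G, t * t = 1 → t ≠ 1 → IsConj z t)
    (hsq : ∀ c ∈ Subgroup.centralizer ({z} : Set G), c * c = 1) :
    ∃ (F : Type) (_ : Field F) (_ : Fintype F), Fintype.card F = p - 1 ∧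
      Nonempty (G ≃* Matrix.ProjectiveSpecialLinearGroup (Fin 2) F) := by
  classical
  haveI : Fact (Nat.Prime 2) := ⟨Nat.prime_two⟩
  set C := Subgroup.centralizer ({z} : Set G) with hCdef
  have hpodd : Odd p := hpp.odd_of_ne_two (by omega)
  -- `C` is a 2-group
  have hC2 : IsPGroup 2 C := by
    intro c
    refine ⟨1, ?_⟩
    apply Subtype.ext
    have := hsq c.1 c.2
    simp [pow_two, this]
  obtain ⟨T, hCT⟩ := hC2.exists_le_sylow
  -- `|G| = |C| * (p (p - 2))`, the second factor odd
  have hoddidx : Odd (p * (p - 2)) := by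
    apply Odd.mul hpodd
    rcases hpodd with ⟨k, hk⟩
    exact ⟨k - 1, by omega⟩
  have hGC : Nat.card G = Nat.card C * (p * (p - 2)) := by
    rw [hCz, hG]; ring
  -- `T = C`
  obtain ⟨a, ha⟩ := IsPGroup.iff_card.mp T.isPGroup'
  obtain ⟨b, hb⟩ := IsPGroup.iff_card.mp hC2
  have hTG : Nat.card (T : Subgroup G) ∣ Nat.card G := Subgroup.card_subgroup_dvd_card _
  have hab : 2 ^ a ∣ 2 ^ b := by
    rw [ha, hGC, hb] at hTG
    exact (Nat.Coprime.pow_left a (Nat.coprime_two_left.mpr hoddidx)).dvd_of_dvd_mul_right hTG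
  have hTC : (T : Subgroup G) = C := by
    symm
    apply Subgroup.eq_of_le_of_card_ge hCT
    rw [ha, hb]
    exact Nat.le_of_dvd (by positivity) hab
  have hTcard : Nat.card (T : Subgroup G) = p - 1 := by rw [hTC, hCz]
  -- every element of `T` squares to one
  have hTsq : ∀ c : (T : Subgroup G), c * c = 1 := by
    intro c
    apply Subtype.ext
    have hc : c.1 ∈ C := by rw [← hTC]; exact c.2
    exact hsq c.1 hc
  -- not cyclic
  have hnc : ¬ IsCyclic (T : Subgroup G) := by
    intro hcyc
    obtain ⟨g, hg⟩ := hcyc.exists_generator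
    have h1 : orderOf g = Nat.card (T : Subgroup G) := orderOf_eq_card_of_forall_mem_zpowers hg
    have h2 : orderOf g ∣ 2 := orderOf_dvd_of_pow_eq_one (by rw [pow_two]; exact hTsq g)
    have h3 : orderOf g ≤ 2 := Nat.le_of_dvd (by norm_num) h2
    rw [h1, hTcard] at h3
    omega
  -- not normal
  have hnn : ¬ (T : Subgroup G).Normal := by
    intro hnorm
    haveI := hnorm
    have hzT : z ∈ (T : Subgroup G) := by
      rw [hTC]
      exact Subgroup.mem_centralizer_singleton_iff.mpr rfl
    have h1 := br_f2g_index_le z (T : Subgroup G) hzT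
    have h2 : C.index * Nat.card C = Nat.card G := by
      rw [mul_comm]; exact Subgroup.card_mul_index C
    rw [hTcard] at h1
    rw [hGC] at h2
    have hCpos : 0 < Nat.card C := Nat.card_pos
    have h3 : C.index = p * (p - 2) := by
      apply Nat.eq_of_mul_eq_mul_right hCpos
      rw [h2]; ring
    rw [← hCdef, h3] at h1
    have h4 : p * (p - 2) ≥ 5 * (p - 2) := Nat.mul_le_mul_right _ hp5
    omega
  -- centralizers of involutions
  have hC : ∀ t : G, orderOf t = 2 → IsMulCommutative (Subgroup.centralizer ({t} : Set G)) ∧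
      ∀ c ∈ Subgroup.centralizer ({t} : Set G), c ^ 2 = 1 := by
    intro t ht
    have ht2 : t * t = 1 := by
      have := pow_orderOf_eq_one t
      rw [ht, pow_two] at this
      exact this
    have ht1 : t ≠ 1 := by
      intro h
      rw [h, orderOf_one] at ht
      norm_num at ht
    obtain ⟨g, hg⟩ := isConj_iff.mp (hconj t ht2 ht1)
    have hsqt : ∀ c ∈ Subgroup.centralizer ({t} : Set G), c * c = 1 := by
      intro c hc
      rw [← hg] at hc
      exact br_f2g_sq_conj z hsq g c hc
    refine ⟨⟨⟨fun x y => ?_⟩⟩, fun c hc => by rw [pow_two]; exact hsqt c hc⟩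
    exact br_f2g_comm (fun c : Subgroup.centralizer ({t} : Set G) =>
      Subtype.ext (hsqt c.1 c.2)) x y
  obtain ⟨F, hF1, hF2, hcard, hiso⟩ := Cfsg.Agent.S1230.result T hnc hnn hC
  exact ⟨F, hF1, hF2, by rw [hcard, hTcard], hiso⟩

end Cfsg.Agent.BR
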