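import Cfsg.Agent.BR.Invol
import Cfsg.Agent.BR.FTwoG
import Cfsg.Agent.Helper6.PrincipalDefect
import Cfsg.Agent.Helper6.BlockPart

/-!
# Brauer–Reynolds track, L7: the character half

Input: the character table at the involution `z` for `f = 2` (the `∃`-block of `br_f2i_table`,
`BR/FTwoI`): `Irr(G) = {1} ∪ {χm} ∪ Y ∪ Z` with `χm(1) = p - 1`, `χm(z) = 0`; `ψ(1) = p - 2`,
`ψ(z) = -1` for the `(p - 1) / 2` characters `ψ ∈ Y`; `ζ(1) = p z_ζ`, `ζ(z) = z_ζ` for `ζ ∈ Z`,
`∑ z_ζ² = n`, `p = 2 n + 3`, `|G| = p (p - 1) (p - 2)`.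

Output: `|C_G(z)| = p - 1` (column orthogonality), all involutions are conjugate to `z`
(Frobenius–Schur count), `C_G(z)` has exponent `2` (class multiplication constant
`a_{zzz} = p - 3 = |C_G(z)| - 2`), hence `G ≃ PSL(2, F)`, `|F| = p - 1` (`br_f2g_main`).
-/

set_option autoImplicit false
set_option linter.unusedSectionVars false
set_option linter.style.haveILetI false

namespace Cfsg.Agent.BR

open Cfsg Cfsg.Agent.Helper6 Finset
open scoped ComplexConjugate

universe u

variable {G : Type u} [Group G] [Fintype G]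

/-- the four kinds of irreducible characters -/
noncomputable def br_f2c_kind (Y : Finset (IrrCharacter G)) (χm : IrrCharacter G)
    (χ : IrrCharacter G) : Fin 4 := by
  classical exact
    if χ = trivIrr G then 0 else if χ = χm then 1 else if χ ∈ Y then 2 else 3

theorem br_f2c_kind_zero (Y : Finset (IrrCharacter G)) (χm : IrrCharacter G)
    (χ : IrrCharacter G) : br_f2c_kind Y χm χ = 0 ↔ χ = trivIrr G := by
  classical
  unfold br_f2c_kind
  split_ifs <;> simp_all

theorem br_f2c_kind_one (Y : Finset (IrrCharacter G)) (χm : IrrCharacter G)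
    (χ : IrrCharacter G) : br_f2c_kind Y χm χ = 1 ↔ χ ≠ trivIrr G ∧ χ = χm := by
  classical
  unfold br_f2c_kind
  split_ifs <;> simp_all

theorem br_f2c_kind_two (Y : Finset (IrrCharacter G)) (χm : IrrCharacter G)
    (χ : IrrCharacter G) : br_f2c_kind Y χm χ = 2 ↔ χ ≠ trivIrr G ∧ χ ≠ χm ∧ χ ∈ Y := by
  classical
  unfold br_f2c_kind
  split_ifs <;> simp_all

theorem br_f2c_kind_three (Y : Finset (IrrCharacter G)) (χm : IrrCharacter G)
    (χ : IrrCharacter G) : br_f2c_kind Y χm χ = 3 ↔ χ ≠ trivIrr G ∧ χ ≠ χm ∧ χ ∉ Y := by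
  classical
  unfold br_f2c_kind
  split_ifs <;> simp_all

/-- splitting a sum over the irreducible characters by kind -/
theorem br_f2c_sum_kind {M : Type*} [AddCommMonoid M] [Fintype (IrrCharacter G)]
    (kind : IrrCharacter G → Fin 4) (F : IrrCharacter G → M) :
    ∑ χ : IrrCharacter G, F χ =
      ∑ χ ∈ Finset.univ.filter (fun χ => kind χ = 0), F χ +
      ∑ χ ∈ Finset.univ.filter (fun χ => kind χ = 1), F χ +
      ∑ χ ∈ Finset.univ.filter (fun χ => kind χ = 2), F χ +
      ∑ χ ∈ Finset.univ.filter (fun χ => kind χ = 3), F χ := by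
  rw [← Finset.sum_fiberwise Finset.univ kind F, Fin.sum_univ_four]

open Classical in
/-- **L7, character half + group half**: from the character table at `z` to
`G ≃ PSL(2, F)`, `|F| = p - 1`. -/
theorem br_f2c_main [Fintype (IrrCharacter G)] (p n : ℕ) (hpp : p.Prime) (hp5 : 5 ≤ p)
    (Y : Finset (IrrCharacter G)) (z : G) (χm : IrrCharacter G) (zz : IrrCharacter G → ℕ)
    (hz : z * z = 1) (hz1 : z ≠ 1) (hG : Nat.card G = p * (p - 1) * (p - 2))
    (hχm : χm ≠ trivIrr G) (hχmY : χm ∉ Y) (htY : trivIrr G ∉ Y) (hpn : p = 2 * n + 3)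
    (hYcard : 2 * Y.card = p - 1) (hdm : charDegree (χm : G → ℂ) = p - 1)
    (hvm : (χm : G → ℂ) z = 0)
    (hY : ∀ ψ ∈ Y, charDegree (ψ : G → ℂ) = p - 2 ∧ (ψ : G → ℂ) z = -1)
    (hZ : ∀ ζ : IrrCharacter G, ζ ≠ trivIrr G → ζ ≠ χm → ζ ∉ Y →
      charDegree (ζ : G → ℂ) = p * zz ζ ∧ (ζ : G → ℂ) z = (zz ζ : ℂ))
    (hZsum : ∑ ζ ∈ Finset.univ.filter
      (fun ζ : IrrCharacter G => ζ ≠ trivIrr G ∧ ζ ≠ χm ∧ ζ ∉ Y), (zz ζ) ^ 2 = n) :
    ∃ (F : Type) (_ : Field F) (_ : Fintype F), Fintype.card F = p - 1 ∧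
      Nonempty (G ≃* Matrix.ProjectiveSpecialLinearGroup (Fin 2) F) := by
  have hk0 := br_f2c_kind_zero Y χm
  have hk1 := br_f2c_kind_one Y χm
  have hk2 := br_f2c_kind_two Y χm
  have hk3 := br_f2c_kind_three Y χm
  have ht : Y.card = n + 1 := by omega
  -- the four finsets
  have hF0 : Finset.univ.filter (fun χ => br_f2c_kind Y χm χ = 0) = {trivIrr G} := by
    ext χ
    rw [Finset.mem_filter, Finset.mem_singleton, hk0]
    exact ⟨fun h => h.2, fun h => ⟨Finset.mem_univ _, h⟩⟩
  have hF1 : Finset.univ.filter (fun χ => br_f2c_kind Y χm χ = 1) = {χm} := by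
    ext χ
    rw [Finset.mem_filter, Finset.mem_singleton, hk1]
    exact ⟨fun h => h.2.2, fun h => ⟨Finset.mem_univ _, h ▸ hχm, h⟩⟩
  have hF2 : Finset.univ.filter (fun χ => br_f2c_kind Y χm χ = 2) = Y := by
    ext χ
    rw [Finset.mem_filter, hk2]
    constructor
    · exact fun h => h.2.2.2
    · exact fun h => ⟨Finset.mem_univ _, fun e => htY (e ▸ h), fun e => hχmY (e ▸ h), h⟩
  have hF3 : Finset.univ.filter (fun χ => br_f2c_kind Y χm χ = 3) =
      Finset.univ.filter (fun ζ : IrrCharacter G => ζ ≠ trivIrr G ∧ ζ ≠ χm ∧ ζ ∉ Y) := by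
    ext χ
    rw [Finset.mem_filter, Finset.mem_filter, hk3]
  have hZ' : ∀ ζ ∈ Finset.univ.filter
      (fun ζ : IrrCharacter G => ζ ≠ trivIrr G ∧ ζ ≠ χm ∧ ζ ∉ Y),
      charDegree (ζ : G → ℂ) = p * zz ζ ∧ (ζ : G → ℂ) z = (zz ζ : ℂ) := by
    intro ζ hζ
    rw [Finset.mem_filter] at hζ
    exact hZ ζ hζ.2.1 hζ.2.2.1 hζ.2.2.2
  have htriv : ∀ g : G, ((trivIrr G : IrrCharacter G) : G → ℂ) g = 1 := fun _ => rfl
  have hdeg : ∀ χ : IrrCharacter G, (χ : G → ℂ) 1 = (charDegree (χ : G → ℂ) : ℂ) :=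
    fun χ => (charDegree_cast_of_isCharacter (IsIrrCharacter.isCharacter χ.2)).symm
  -- (1) `|C_G(z)| = p - 1`
  have hCz : Nat.card (Subgroup.centralizer ({z} : Set G)) = p - 1 := by
    have key := column_orthogonality_aux z z
    rw [if_pos (IsConj.refl z), br_f2c_sum_kind (br_f2c_kind Y χm), hF0, hF1, hF2, hF3,
      Finset.sum_singleton, Finset.sum_singleton, htriv, hvm] at key
    have s2 : ∑ χ ∈ Y, (χ : G → ℂ) z * conj ((χ : G → ℂ) z) = (Y.card : ℂ) := by
      rw [Finset.sum_congr rfl (g := fun _ => (1 : ℂ))]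
      · rw [Finset.sum_const, nsmul_eq_mul, mul_one]
      · intro ψ hψ
        rw [(hY ψ hψ).2]; simp
    have s3 : ∑ χ ∈ Finset.univ.filter
        (fun ζ : IrrCharacter G => ζ ≠ trivIrr G ∧ ζ ≠ χm ∧ ζ ∉ Y),
        (χ : G → ℂ) z * conj ((χ : G → ℂ) z) = (n : ℂ) := by
      rw [Finset.sum_congr rfl (g := fun χ : IrrCharacter G => (((zz χ) ^ 2 : ℕ) : ℂ))]
      · rw [← Nat.cast_sum, hZsum]
      · intro ζ hζ
        rw [(hZ' ζ hζ).2, Complex.conj_natCast]; push_cast; ring
    rw [s2, s3, ht] at key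
    have : (Nat.card (Subgroup.centralizer ({z} : Set G)) : ℂ) = ((p - 1 : ℕ) : ℂ) := by
      rw [← key]
      have : p - 1 = 2 * n + 2 := by omega
      rw [this]
      push_cast
      simp
      ring
    exact_mod_cast this
  -- the class of `z`
  have hcl : (classFinset z).card = p * (p - 2) := by
    rw [card_classFinset]
    have h := (Subgroup.centralizer ({z} : Set G)).index_mul_card
    rw [hCz, hG] at h
    have hp1 : 0 < p - 1 := by omega
    apply Nat.eq_of_mul_eq_mul_right hp1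
    rw [h]; ring
  -- (2) all involutions are conjugate to `z`
  have hconj : ∀ t : G, t * t = 1 → t ≠ 1 → IsConj z t := by
    have hfs := card_sq_eq_one_le (G := G)
    -- the sum of all degrees
    have hsumdeg : ∑ χ : IrrCharacter G, charDegree (χ : G → ℂ) ≤ (p - 1) * (p - 1) := by
      rw [br_f2c_sum_kind (br_f2c_kind Y χm), hF0, hF1, hF2, hF3, Finset.sum_singleton,
        Finset.sum_singleton, hdm]
      have d0 : charDegree ((trivIrr G : IrrCharacter G) : G → ℂ) = 1 := by
        have h1 := hdeg (trivIrr G)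
        rw [htriv] at h1
        exact_mod_cast h1.symm
      have d2 : ∑ χ ∈ Y, charDegree (χ : G → ℂ) = Y.card * (p - 2) := by
        rw [Finset.sum_congr rfl (fun ψ hψ => (hY ψ hψ).1), Finset.sum_const, smul_eq_mul]
      have d3 : ∑ χ ∈ Finset.univ.filter
          (fun ζ : IrrCharacter G => ζ ≠ trivIrr G ∧ ζ ≠ χm ∧ ζ ∉ Y),
          charDegree (χ : G → ℂ) ≤ p * n := by
        rw [Finset.sum_congr rfl (fun ζ hζ => (hZ' ζ hζ).1), ← Finset.mul_sum, ← hZsum]
        apply Nat.mul_le_mul_left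
        apply Finset.sum_le_sum
        intro ζ _
        rw [pow_two]
        exact Nat.le_mul_self _
      rw [d0, d2, ht]
      have e1 : p - 1 = 2 * n + 2 := by omega
      have e2 : p - 2 = 2 * n + 1 := by omega
      rw [e1, e2]
      rw [hpn] at d3
      nlinarith [d3]
    have hle : (Finset.univ.filter (fun s : G => s * s = 1)).card ≤ (p - 1) * (p - 1) := by
      have h1 : ∑ χ ∈ Finset.univ.filter
          (fun χ : IrrCharacter G => ∀ g, ((χ : G → ℂ) g).im = 0), ((χ : G → ℂ) 1).re ≤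
          ∑ χ : IrrCharacter G, ((χ : G → ℂ) 1).re := by
        apply Finset.sum_le_sum_of_subset_of_nonneg (Finset.filter_subset _ _)
        intro χ _ _
        rw [hdeg χ, Complex.natCast_re]
        exact Nat.cast_nonneg _
      have h2 : ∑ χ : IrrCharacter G, ((χ : G → ℂ) 1).re =
          ((∑ χ : IrrCharacter G, charDegree (χ : G → ℂ) : ℕ) : ℝ) := by
        rw [Nat.cast_sum]
        apply Finset.sum_congr rfl
        intro χ _
        rw [hdeg χ, Complex.natCast_re]
      have h3 : ((Finset.univ.filter (fun s : G => s * s = 1)).card : ℝ) ≤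
          (((p - 1) * (p - 1) : ℕ) : ℝ) := by
        refine le_trans hfs (le_trans h1 ?_)
        rw [h2]
        exact_mod_cast hsumdeg
      exact_mod_cast h3
    -- `{1} ∪ cl(z)` consists of solutions of `s² = 1`
    have hsub : insert (1 : G) (classFinset z) ⊆ Finset.univ.filter (fun s : G => s * s = 1) := by
      intro s hs
      rw [Finset.mem_insert, mem_classFinset] at hs
      rw [Finset.mem_filter]
      refine ⟨Finset.mem_univ _, ?_⟩
      rcases hs with rfl | hs
      · exact one_mul 1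
      · exact br_inv_conj_sq hz hs
    have h1not : (1 : G) ∉ classFinset z := by
      rw [mem_classFinset, isConj_comm, isConj_one_right]
      exact hz1
    have hcardS : (insert (1 : G) (classFinset z)).card = (p - 1) * (p - 1) := by
      rw [Finset.card_insert_of_notMem h1not, hcl]
      have e1 : p - 1 = 2 * n + 2 := by omega
      have e2 : p - 2 = 2 * n + 1 := by omega
      rw [e1, e2, hpn]; ring
    have heq : insert (1 : G) (classFinset z) = Finset.univ.filter (fun s : G => s * s = 1) :=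
      Finset.eq_of_subset_of_card_le hsub (by rw [hcardS]; exact hle)
    intro t htt ht1
    have : t ∈ insert (1 : G) (classFinset z) := by
      rw [heq, Finset.mem_filter]
      exact ⟨Finset.mem_univ _, htt⟩
    rw [Finset.mem_insert, mem_classFinset] at this
    exact this.resolve_left ht1
  -- (3) the class multiplication constant
  have hpairs : br_inv_pairs z z + 2 = Nat.card (Subgroup.centralizer ({z} : Set G)) := by
    have key := br_inv_pairs_eq_sum z z
    rw [br_f2c_sum_kind (br_f2c_kind Y χm), hF0, hF1, hF2, hF3, Finset.sum_singleton,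
      Finset.sum_singleton, htriv, htriv, hvm, hcl, hG] at key
    have e1 : p - 1 = 2 * n + 2 := by omega
    have e2 : p - 2 = 2 * n + 1 := by omega
    have s2 : ∑ χ ∈ Y, (χ : G → ℂ) z * (χ : G → ℂ) z * conj ((χ : G → ℂ) z) / (χ : G → ℂ) 1 =
        (Y.card : ℂ) * (-1 / ((2 * n + 1 : ℕ) : ℂ)) := by
      rw [Finset.sum_congr rfl (g := fun _ => (-1 : ℂ) / ((2 * n + 1 : ℕ) : ℂ))]
      · rw [Finset.sum_const, nsmul_eq_mul]
      · intro ψ hψ
        rw [(hY ψ hψ).2, hdeg ψ, (hY ψ hψ).1, e2]; simp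
    have s3 : ∑ χ ∈ Finset.univ.filter
        (fun ζ : IrrCharacter G => ζ ≠ trivIrr G ∧ ζ ≠ χm ∧ ζ ∉ Y),
        (χ : G → ℂ) z * (χ : G → ℂ) z * conj ((χ : G → ℂ) z) / (χ : G → ℂ) 1 = (n : ℂ) / p := by
      rw [Finset.sum_congr rfl
        (g := fun χ : IrrCharacter G => (((zz χ) ^ 2 : ℕ) : ℂ) / p)]
      · rw [← Finset.sum_div, ← Nat.cast_sum, hZsum]
      · intro ζ hζ
        rw [(hZ' ζ hζ).2, hdeg ζ, (hZ' ζ hζ).1, Complex.conj_natCast]
        have hp0 : (p : ℂ) ≠ 0 := by exact_mod_cast hpp.ne_zero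
        by_cases hzz : (zz ζ : ℂ) = 0
        · push_cast
          rw [hzz]; simp
        · push_cast
          field_simp
    rw [s2, s3, ht, e1, e2] at key
    have hres : (br_inv_pairs z z : ℂ) = ((2 * n : ℕ) : ℂ) := by
      rw [key, hpn]
      have h1 : ((2 * n + 1 : ℕ) : ℂ) ≠ 0 := by exact_mod_cast (by omega : 2 * n + 1 ≠ 0)
      have h2 : ((2 * n + 2 : ℕ) : ℂ) ≠ 0 := by exact_mod_cast (by omega : 2 * n + 2 ≠ 0)
      have h3 : ((2 * n + 3 : ℕ) : ℂ) ≠ 0 := by exact_mod_cast (by omega : 2 * n + 3 ≠ 0)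
      push_cast at h1 h2 h3 ⊢
      simp only [map_one, mul_one, div_one, zero_mul, zero_div, add_zero]
      field_simp
      ring
    have : br_inv_pairs z z = 2 * n := by exact_mod_cast hres
    rw [this, hCz]
    omega
  -- (4) exponent two and the recognition theorem
  have hsq : ∀ c ∈ Subgroup.centralizer ({z} : Set G), c * c = 1 :=
    fun c hc => br_inv_sq_of_pairs z hz hz1 hconj hpairs c hc
  exact br_f2g_main p hpp hp5 z hG hCz hconj hsq

end Cfsg.Agent.BR
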