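import Cfsg.Agent.BR.MainC
import Cfsg.Agent.BR.FTwoC

/-!
# Brauer–Reynolds track, L7: the core in the shape of `br_mc_L7Core` (`BR/MainC`)
-/

set_option autoImplicit false

namespace Cfsg.Agent.BR

open Cfsg Cfsg.Agent.Helper6

universe u

/-- **the L7 core** -/
theorem br_f2_core {G : Type u} [Group G] [Fintype G] [Fintype (IrrCharacter G)] (p : ℕ) :
    br_mc_L7Core G p := by
  intro n Y z χm zz hpp hp5 hz hz1 hG hχm hχmY htY hpn hYcard hdm hvm hY hZ hZsum
  exact br_f2c_main p n hpp hp5 Y z χm zz hz hz1 hG hχm hχmY htY hpn hYcard hdm hvm hY hZ hZsum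

end Cfsg.Agent.BR
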