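import Cfsg.Agent.BR.FOne
import Cfsg.Agent.BR.FixP
import Cfsg.Agent.BR.Setup

/-!
# Brauer–Reynolds track: (F2) (helper9)

Sylow setting: `P` a Sylow `p`-subgroup of order `p` with `C_G(P) ≤ P`, `N = N_G(P)`,
`A = br_setup_A p P` the linear characters of `N` trivial on `P`, `Θ_l = Ind_N^G l`.

* `br_f2_coset` : for `h ∈ N ∖ P` every element of the coset `h P` is `P`-conjugate to `h`;
* `br_f2_general` : **(F2)** `∑_{l ∈ A} ⟨Θ_l, χ⟩ l(h) = χ(h)` for every character `χ` of `G` and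
  `h ∈ N ∖ P`;
* `br_f2_main` : the same in the shape of the field `F2` of `br_vl_Hyp` (`BR/Vals`), with
  `lam l h := extendByZero N (br_mky_fn N l) h`;
* `br_f2_lam_one` : `lam 1 h = 1` for `h ∈ N` (the field `lam_l₀`).
-/

set_option autoImplicit false
set_option linter.style.haveILetI false

namespace Cfsg.Agent.BR

open Cfsg Cfsg.Agent.Helper6
open scoped ComplexConjugate

universe u

variable {G : Type u} [Group G]

/-- for `h ∈ N_G(P) ∖ P` every element of the coset `h P` is `P`-conjugate to `h` -/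
theorem br_f2_coset [Finite G] (p : ℕ) [Fact p.Prime] (P : Sylow p G)
    (hP : Nat.card P = p)
    (hC : Subgroup.centralizer ((P : Subgroup G) : Set G) ≤ (P : Subgroup G)) (h : G)
    (hN : h ∈ Subgroup.normalizer ((P : Subgroup G) : Set G)) (hnP : h ∉ (P : Subgroup G))
    (y : G) (hy : y ∈ (P : Subgroup G)) : ∃ x ∈ (P : Subgroup G), x⁻¹ * h * x = h * y := by
  apply br_fixp_coset_conj (P : Subgroup G) _ h _ _ y hy
  · intro a ha b hb
    haveI := br_setup_isCyclic_P p P hP
    letI : CommGroup ↥(P : Subgroup G) := IsCyclic.commGroup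
    have := mul_comm (⟨a, ha⟩ : ↥(P : Subgroup G)) ⟨b, hb⟩
    exact congrArg Subtype.val this
  · intro x hx
    have h1 := (Subgroup.mem_normalizer_iff.mp (Subgroup.inv_mem _ hN) x).mp hx
    rwa [inv_inv] at h1
  · intro x hx hfix
    by_contra hx1
    apply hnP
    apply hC
    apply br_setup_mem_centralizer p P hP h x hx hx1
    calc h * x = h * (h⁻¹ * x * h) := by rw [hfix]
      _ = x * h := by group

variable [Fintype G]

/-- **(F2)**: `∑_{l ∈ A} ⟨Θ_l, χ⟩ l(h) = χ(h)` for `h ∈ N ∖ P` -/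
theorem br_f2_general (p : ℕ) [Fact p.Prime] (P : Sylow p G) (hP : Nat.card P = p)
    (hC : Subgroup.centralizer ((P : Subgroup G) : Set G) ≤ (P : Subgroup G))
    [Fintype ↥(br_setup_A p P)]
    (χ : G → ℂ) (hχ : IsCharacter G χ) (h : G)
    (hN : h ∈ Subgroup.normalizer ((P : Subgroup G) : Set G)) (hnP : h ∉ (P : Subgroup G)) :
    ∑ l : ↥(br_setup_A p P),
      classInner (br_dg_theta (Subgroup.normalizer ((P : Subgroup G) : Set G))
        (l : ↥(Subgroup.normalizer ((P : Subgroup G) : Set G)) →* ℂˣ)) χ *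
        (((l : ↥(Subgroup.normalizer ((P : Subgroup G) : Set G)) →* ℂˣ) ⟨h, hN⟩ : ℂˣ) : ℂ) =
      χ h := by
  classical
  haveI : Fintype ↥(Subgroup.normalizer ((P : Subgroup G) : Set G)) := Fintype.ofFinite _
  haveI : Fintype ↥(P : Subgroup G) := Fintype.ofFinite _
  have hcf := IsCharacter.isClassFunction hχ
  rw [br_f1_key (Subgroup.normalizer ((P : Subgroup G) : Set G)) (P : Subgroup G)
    Subgroup.le_normalizer (br_setup_A p P)
    (fun l hl u hu => br_setup_A_apply_P p P l hl (u : G) hu)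
    (fun u hu => br_setup_A_separates p P hP hC u hu) χ hcf ⟨h, hN⟩]
  have hinvN : h⁻¹ ∈ Subgroup.normalizer ((P : Subgroup G) : Set G) := Subgroup.inv_mem _ hN
  have hinvP : h⁻¹ ∉ (P : Subgroup G) := fun hh => hnP (by simpa using Subgroup.inv_mem _ hh)
  have h1 : ∀ x : ↥(P : Subgroup G), conj (χ ((x : G) * h⁻¹)) = χ h := by
    intro x
    have hy : h * (x : G) * h⁻¹ ∈ (P : Subgroup G) :=
      (Subgroup.mem_normalizer_iff.mp hN (x : G)).mp x.2
    obtain ⟨x', -, hx'⟩ := br_f2_coset p P hP hC h⁻¹ hinvN hinvP _ hy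
    have h2 : (x : G) * h⁻¹ = x'⁻¹ * h⁻¹ * x'⁻¹⁻¹ := by
      rw [inv_inv, hx']
      group
    rw [h2, hcf h⁻¹ x'⁻¹, IsCharacter.inv_eq_conj hχ, Complex.conj_conj]
  have h3 : ∑ x : ↥(P : Subgroup G), conj (χ ((x : G) *
      ((⟨h, hN⟩ : ↥(Subgroup.normalizer ((P : Subgroup G) : Set G))) : G)⁻¹)) =
      (p : ℂ) * χ h := by
    rw [Finset.sum_congr rfl (fun x _ => h1 x), Finset.sum_const, Finset.card_univ,
      ← Nat.card_eq_fintype_card, hP, nsmul_eq_mul]
  rw [h3, br_setup_card_N p P hP, ← Nat.card_eq_fintype_card, br_setup_card_A p P hP hC]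
  have hp0 : (p : ℂ) ≠ 0 := by
    exact_mod_cast (Fact.out : p.Prime).ne_zero
  have hf0 : (((P : Subgroup G).relIndex (Subgroup.normalizer ((P : Subgroup G) : Set G)) : ℕ) :
      ℂ) ≠ 0 := by
    have h4 := br_setup_card_N p P hP
    have h5 : 0 < Nat.card (Subgroup.normalizer ((P : Subgroup G) : Set G)) := Nat.card_pos
    rw [h4] at h5
    have h6 := Nat.pos_of_mul_pos_left h5
    exact_mod_cast h6.ne'
  push_cast
  field_simp

/-- **(F2)** in the shape of the field `F2` of `br_vl_Hyp`: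
`ι := ↥(br_setup_A p P)`, `Θ l := br_dg_theta N l`, `lam l h := extendByZero N (br_mky_fn N l) h` -/
theorem br_f2_main (p : ℕ) [Fact p.Prime] (P : Sylow p G) (hP : Nat.card P = p)
    (hC : Subgroup.centralizer ((P : Subgroup G) : Set G) ≤ (P : Subgroup G))
    [Fintype ↥(br_setup_A p P)]
    (χ : G → ℂ) (hχ : IsCharacter G χ) (h : G)
    (hN : h ∈ Subgroup.normalizer ((P : Subgroup G) : Set G)) (hnP : h ∉ (P : Subgroup G)) :
    χ h = ∑ l : ↥(br_setup_A p P),
      classInner (br_dg_theta (Subgroup.normalizer ((P : Subgroup G) : Set G))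
        (l : ↥(Subgroup.normalizer ((P : Subgroup G) : Set G)) →* ℂˣ)) χ *
        extendByZero (Subgroup.normalizer ((P : Subgroup G) : Set G))
          (br_mky_fn (Subgroup.normalizer ((P : Subgroup G) : Set G))
            (l : ↥(Subgroup.normalizer ((P : Subgroup G) : Set G)) →* ℂˣ)) h := by
  rw [← br_f2_general p P hP hC χ hχ h hN hnP]
  apply Finset.sum_congr rfl
  intro l _
  rw [extendByZero_mem _ _ hN, br_mky_fn_apply]

omit [Fintype G] in
/-- the field `lam_l₀` of `br_vl_Hyp` for `l₀ = 1` -/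
theorem br_f2_lam_one (N : Subgroup G) (h : G) (hN : h ∈ N) :
    extendByZero N (br_mky_fn N (1 : ↥N →* ℂˣ)) h = 1 := by
  rw [extendByZero_mem _ _ hN, br_mky_fn_apply, MonoidHom.one_apply, Units.val_one]

end Cfsg.Agent.BR
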