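import Cfsg.Agent.Helper6.Involutions
import Cfsg.Agent.Helper6.BlockPart
import Cfsg.Agent.Helper6.PrincipalDefect

/-!
# Brauer–Reynolds track, L7: all involutions are conjugate (Frobenius–Schur count)

From the degrees of the character table of L7 (`1`, `p - 1`, `(p - 1)/2` times `p - 2`, and
`p · zz ζ` with `∑ zz² = n`, `p = 2 n + 3`), `|G| = p (p - 1) (p - 2)` and `|C_G(z)| = p - 1`:
`#{s | s² = 1} ≤ ∑ χ(1) ≤ (p - 1)² = 1 + |cl z|`, so every involution is conjugate to `z`.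
-/

set_option autoImplicit false
set_option linter.unusedSectionVars false
set_option linter.unusedVariables false

namespace Cfsg.Agent.BR

open Cfsg Cfsg.Agent.Helper6 Finset
open scoped Classical

universe u

variable {G : Type u} [Group G] [Fintype G]

/-- the sum of all irreducible degrees is at most `(p - 1)²` -/
theorem br_f2fs_sum_deg [Fintype (IrrCharacter G)] (p n : ℕ) (Y : Finset (IrrCharacter G))
    (χm : IrrCharacter G) (zz : IrrCharacter G → ℕ)
    (h1 : χm ≠ trivIrr G) (h2 : χm ∉ Y) (h3 : trivIrr G ∉ Y) (h4 : p = 2 * n + 3)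
    (h5 : 2 * Y.card = p - 1) (h6 : charDegree (χm : G → ℂ) = p - 1)
    (h8 : ∀ ψ ∈ Y, charDegree (ψ : G → ℂ) = p - 2)
    (h9 : ∀ ζ : IrrCharacter G, ζ ≠ trivIrr G → ζ ≠ χm → ζ ∉ Y →
      charDegree (ζ : G → ℂ) = p * zz ζ)
    (h10 : ∑ ζ ∈ Finset.univ.filter
      (fun ζ : IrrCharacter G => ζ ≠ trivIrr G ∧ ζ ≠ χm ∧ ζ ∉ Y), (zz ζ) ^ 2 = n) :
    ∑ χ : IrrCharacter G, charDegree (χ : G → ℂ) ≤ (p - 1) ^ 2 := by
  have htriv : charDegree ((trivIrr G : IrrCharacter G) : G → ℂ) = 1 := by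
    have h := charDegree_cast_of_isCharacter
      (IsIrrCharacter.isCharacter (trivIrr G : IrrCharacter G).2)
    have h' : ((trivIrr G : IrrCharacter G) : G → ℂ) 1 = 1 := rfl
    rw [h'] at h
    exact_mod_cast h
  rw [← Finset.sum_filter_add_sum_filter_not Finset.univ
    (fun ζ : IrrCharacter G => ζ ≠ trivIrr G ∧ ζ ≠ χm ∧ ζ ∉ Y)]
  have hnot : Finset.univ.filter
      (fun ζ : IrrCharacter G => ¬ (ζ ≠ trivIrr G ∧ ζ ≠ χm ∧ ζ ∉ Y)) =
      insert (trivIrr G) (insert χm Y) := by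
    ext ζ
    simp only [Finset.mem_filter, Finset.mem_univ, true_and, Finset.mem_insert]
    tauto
  rw [hnot, Finset.sum_insert (by
      simp only [Finset.mem_insert, not_or]
      exact ⟨fun h => h1 h.symm, h3⟩),
    Finset.sum_insert h2, htriv, h6, Finset.sum_congr rfl h8, Finset.sum_const, smul_eq_mul]
  have hZ : ∑ ζ ∈ Finset.univ.filter
      (fun ζ : IrrCharacter G => ζ ≠ trivIrr G ∧ ζ ≠ χm ∧ ζ ∉ Y), charDegree (ζ : G → ℂ) ≤
      p * n := by
    rw [← h10, Finset.mul_sum]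
    apply Finset.sum_le_sum
    intro ζ hζ
    rw [Finset.mem_filter] at hζ
    rw [h9 ζ hζ.2.1 hζ.2.2.1 hζ.2.2.2]
    apply Nat.mul_le_mul_left
    exact Nat.le_self_pow (by norm_num) _
  have hY : Y.card = n + 1 := by omega
  rw [hY]
  have hp1 : p - 1 = 2 * n + 2 := by omega
  have hp2 : p - 2 = 2 * n + 1 := by omega
  rw [hp1, hp2]
  rw [h4] at hZ
  nlinarith [hZ]

/-- **all involutions are conjugate to `z`** -/
theorem br_f2fs_conj [Fintype (IrrCharacter G)] (p n : ℕ) (hp5 : 5 ≤ p)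
    (Y : Finset (IrrCharacter G)) (z : G)
    (χm : IrrCharacter G) (zz : IrrCharacter G → ℕ)
    (hz : z * z = 1) (hz1 : z ≠ 1) (hG : Nat.card G = p * (p - 1) * (p - 2))
    (hCz : Nat.card (Subgroup.centralizer ({z} : Set G)) = p - 1)
    (h1 : χm ≠ trivIrr G) (h2 : χm ∉ Y) (h3 : trivIrr G ∉ Y) (h4 : p = 2 * n + 3)
    (h5 : 2 * Y.card = p - 1) (h6 : charDegree (χm : G → ℂ) = p - 1)
    (h8 : ∀ ψ ∈ Y, charDegree (ψ : G → ℂ) = p - 2)
    (h9 : ∀ ζ : IrrCharacter G, ζ ≠ trivIrr G → ζ ≠ χm → ζ ∉ Y →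
      charDegree (ζ : G → ℂ) = p * zz ζ)
    (h10 : ∑ ζ ∈ Finset.univ.filter
      (fun ζ : IrrCharacter G => ζ ≠ trivIrr G ∧ ζ ≠ χm ∧ ζ ∉ Y), (zz ζ) ^ 2 = n) :
    ∀ t : G, t * t = 1 → t ≠ 1 → IsConj z t := by
  -- the class of `z` has `p (p - 2)` elements
  have hcl : (classFinset z).card * (p - 1) = p * (p - 1) * (p - 2) := by
    have hidx := Subgroup.card_mul_index (Subgroup.centralizer ({z} : Set G))
    rw [hCz, hG] at hidx
    rw [card_classFinset, mul_comm]
    exact hidx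
  have hp1pos : 0 < p - 1 := by omega
  have hcl' : (classFinset z).card = p * (p - 2) := by
    have : (classFinset z).card * (p - 1) = (p * (p - 2)) * (p - 1) := by rw [hcl]; ring
    exact Nat.eq_of_mul_eq_mul_right hp1pos this
  -- Frobenius–Schur
  have hFS := card_sq_eq_one_le (G := G)
  have hle1 : ∑ χ ∈ Finset.univ.filter
      (fun χ : IrrCharacter G => ∀ g, ((χ : G → ℂ) g).im = 0), ((χ : G → ℂ) 1).re ≤
      ((∑ χ : IrrCharacter G, charDegree (χ : G → ℂ) : ℕ) : ℝ) := by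
    rw [Nat.cast_sum]
    have hre : ∀ χ : IrrCharacter G, ((χ : G → ℂ) 1).re = (charDegree (χ : G → ℂ) : ℝ) := by
      intro χ
      rw [← charDegree_cast_of_isCharacter (IsIrrCharacter.isCharacter χ.2), Complex.natCast_re]
    simp_rw [hre]
    apply Finset.sum_le_sum_of_subset_of_nonneg (Finset.filter_subset _ _)
    intro χ _ _
    exact Nat.cast_nonneg _
  have hsum := br_f2fs_sum_deg p n Y χm zz h1 h2 h3 h4 h5 h6 h8 h9 h10
  have hcardle : (Finset.univ.filter (fun s : G => s * s = 1)).card ≤ (p - 1) ^ 2 := by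
    have : ((Finset.univ.filter (fun s : G => s * s = 1)).card : ℝ) ≤ (((p - 1) ^ 2 : ℕ) : ℝ) :=
      hFS.trans (hle1.trans (by exact_mod_cast hsum))
    exact_mod_cast this
  -- `{1} ∪ cl z ⊆ {s | s² = 1}`
  have hsub : insert (1 : G) (classFinset z) ⊆ Finset.univ.filter (fun s : G => s * s = 1) := by
    intro s hs
    rw [Finset.mem_insert] at hs
    rw [Finset.mem_filter]
    refine ⟨Finset.mem_univ _, ?_⟩
    rcases hs with rfl | hs
    · exact one_mul 1
    · rw [mem_classFinset] at hs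
      obtain ⟨c, hc⟩ := isConj_iff.mp hs
      rw [← hc]
      calc c * z * c⁻¹ * (c * z * c⁻¹) = c * (z * z) * c⁻¹ := by group
        _ = 1 := by rw [hz]; group
  have h1notin : (1 : G) ∉ classFinset z := by
    rw [mem_classFinset]
    intro h
    obtain ⟨c, hc⟩ := isConj_iff.mp h
    apply hz1
    have : z = c⁻¹ * (c * z * c⁻¹) * c := by group
    rw [this, hc]; group
  have hcardins : (insert (1 : G) (classFinset z)).card = (p - 1) ^ 2 := by
    rw [Finset.card_insert_of_notMem h1notin, hcl']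
    have hp1 : p - 1 = 2 * n + 2 := by omega
    have hp2 : p - 2 = 2 * n + 1 := by omega
    rw [hp1, hp2, h4]
    ring
  have heq : insert (1 : G) (classFinset z) = Finset.univ.filter (fun s : G => s * s = 1) :=
    Finset.eq_of_subset_of_card_le hsub (by rw [hcardins]; exact hcardle)
  intro t ht ht1
  have : t ∈ insert (1 : G) (classFinset z) := by
    rw [heq, Finset.mem_filter]
    exact ⟨Finset.mem_univ _, ht⟩
  rw [Finset.mem_insert] at this
  rcases this with h | h
  · exact absurd h ht1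
  · exact (mem_classFinset z t).mp h

end Cfsg.Agent.BR
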