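import Cfsg.Agent.BR.FTwoM
import Cfsg.Agent.BR.SetupA
import Cfsg.Agent.BR.Dbl
import Cfsg.Agent.BR.DblGram

/-!
# Brauer–Reynolds track, L7 adapter in the concrete convention

`ι := ↥(br_setup_A p P)`, `l₀ := 1`, `Θ l := br_dg_theta N l`,
`lam l h := extendByZero N (br_mky_fn N l) h`, `N := N_G(P)`, `f := |N : P| = 2`.
From the bundle `br_vl_Hyp` in this convention and the output `br_dbl_S Θ Y = {k₀}` of 5a
(`br_dbl_even`): an involution `z` of `N` and the character table at `z` (`br_f2i_table`), i.e. the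
input of the L7 core.
-/

set_option autoImplicit false
set_option linter.unusedSectionVars false
set_option linter.unusedVariables false
set_option linter.style.haveILetI false

namespace Cfsg.Agent.BR

open Cfsg Cfsg.Agent.Helper6 Finset
open scoped ComplexConjugate

universe u

variable {G : Type u} [Group G] [Fintype G]

/-- for `f = 2`: an involution `z ∈ N ∖ P` on which every nontrivial `l ∈ A` takes the value `-1` -/
theorem br_f2i_invol (p : ℕ) [Fact p.Prime] (P : Sylow p G) (hP : Nat.card P = p)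
    (hf2 : (P : Subgroup G).relIndex (Subgroup.normalizer ((P : Subgroup G) : Set G)) = 2) :
    ∃ (z : G) (hzN : z ∈ Subgroup.normalizer ((P : Subgroup G) : Set G)),
      z ∉ (P : Subgroup G) ∧ z * z = 1 ∧ z ≠ 1 ∧
      ∀ l ∈ br_setup_A p P, l ≠ 1 → l ⟨z, hzN⟩ = -1 := by
  classical
  obtain ⟨Hc, hHc⟩ := br_setup_exists_compl p P hP
  have hcard : Nat.card Hc = 2 := by rw [hHc.2.1, hf2]
  haveI : Fact (Nat.Prime 2) := ⟨Nat.prime_two⟩
  obtain ⟨zH, hzH⟩ := exists_prime_orderOf_dvd_card' (G := Hc) 2 (by rw [hcard])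
  have hzz : (zH : G) * (zH : G) = 1 := by
    have : zH ^ 2 = 1 := by rw [← hzH]; exact pow_orderOf_eq_one zH
    rw [pow_two] at this
    exact congrArg Subtype.val this
  have hz1 : (zH : G) ≠ 1 := by
    intro h
    have : zH = 1 := Subtype.ext h
    rw [this, orderOf_one] at hzH
    omega
  have hzN : (zH : G) ∈ Subgroup.normalizer ((P : Subgroup G) : Set G) := hHc.1 zH.2
  have hzP : (zH : G) ∉ (P : Subgroup G) := by
    intro h
    have : (zH : G) ∈ Hc ⊓ (P : Subgroup G) := ⟨zH.2, h⟩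
    rw [hHc.2.2] at this
    exact hz1 (Subgroup.mem_bot.mp this)
  -- the elements of `Hc`
  have hall : ∀ m ∈ Hc, m = 1 ∨ m = (zH : G) := by
    intro m hm
    obtain ⟨y, hy, huniq⟩ := (Nat.card_eq_two_iff' (1 : Hc)).mp hcard
    have hzy : zH = y := huniq zH (fun h => hz1 (congrArg Subtype.val h))
    by_cases hm1 : m = 1
    · exact Or.inl hm1
    · right
      have hmy : (⟨m, hm⟩ : Hc) = y := huniq ⟨m, hm⟩ (fun h => hm1 (congrArg Subtype.val h))
      rw [hzy, ← hmy]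
  refine ⟨(zH : G), hzN, hzP, hzz, hz1, ?_⟩
  intro l hl hl1
  -- `l z ≠ 1`
  have hne : l ⟨(zH : G), hzN⟩ ≠ 1 := by
    intro h
    apply hl1
    apply br_setup_A_ext_compl p P Hc hHc l 1 hl (Subgroup.one_mem _)
    intro m hm
    rcases hall m hm with rfl | rfl
    · have : (⟨1, hHc.1 hm⟩ : ↥(Subgroup.normalizer ((P : Subgroup G) : Set G))) = 1 := rfl
      rw [this, map_one, map_one]
    · rw [MonoidHom.one_apply]; exact h
  have hsq : l ⟨(zH : G), hzN⟩ * l ⟨(zH : G), hzN⟩ = 1 := by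
    rw [← map_mul]
    have : (⟨(zH : G), hzN⟩ : ↥(Subgroup.normalizer ((P : Subgroup G) : Set G))) *
        ⟨(zH : G), hzN⟩ = 1 := Subtype.ext hzz
    rw [this, map_one]
  have h2 : (l ⟨(zH : G), hzN⟩ - 1) * (l ⟨(zH : G), hzN⟩ + 1) = (0 : ℂ) := by
    have : ((l ⟨(zH : G), hzN⟩ : ℂˣ) : ℂ) * (l ⟨(zH : G), hzN⟩ : ℂˣ) = 1 := by
      rw [← Units.val_mul, hsq, Units.val_one]
    linear_combination this
  rcases mul_eq_zero.mp h2 with h | h
  · exfalso
    apply hne
    apply Units.ext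
    rw [Units.val_one]
    linear_combination h
  · apply Units.ext
    rw [Units.val_neg, Units.val_one]
    linear_combination h

open Classical in
/-- **L7 adapter, concrete form**: the involution `z` and the character table at `z`. -/
theorem br_f2i_table [Fintype (IrrCharacter G)] (p : ℕ) [Fact p.Prime] (P : Sylow p G)
    [Fintype ↥(P : Subgroup G)] [Fintype ↥(br_setup_A p P)]
    (hP : Nat.card P = p)
    {n : ℕ} {X Y : Finset (IrrCharacter G)} {dl : IrrCharacter G → ℤ} {ε : ℤ}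
    (hf2 : (P : Subgroup G).relIndex (Subgroup.normalizer ((P : Subgroup G) : Set G)) = 2)
    (H : br_vl_Hyp p (P : Subgroup G) (Subgroup.normalizer ((P : Subgroup G) : Set G))
      ((P : Subgroup G).relIndex (Subgroup.normalizer ((P : Subgroup G) : Set G))) n X Y dl ε
      (fun l : ↥(br_setup_A p P) =>
        br_dg_theta (Subgroup.normalizer ((P : Subgroup G) : Set G)) (l : _ →* ℂˣ)) 1
      (fun (l : ↥(br_setup_A p P)) (h : G) =>
        Cfsg.extendByZero (Subgroup.normalizer ((P : Subgroup G) : Set G))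
          (br_mky_fn (Subgroup.normalizer ((P : Subgroup G) : Set G)) (l : _ →* ℂˣ)) h))
    (hn : Nat.card (Sylow p G) = 1 + n * p)
    (k₀ : ↥(br_setup_A p P))
    (hS : br_dbl_S (fun l : ↥(br_setup_A p P) =>
        br_dg_theta (Subgroup.normalizer ((P : Subgroup G) : Set G)) (l : _ →* ℂˣ)) Y = {k₀})
    (hX : X.card = 2) :
    ∃ (z : G) (χm : IrrCharacter G) (zz : IrrCharacter G → ℕ),
      z * z = 1 ∧ z ≠ 1 ∧ Nat.card G = p * (p - 1) * (p - 2) ∧
      χm ≠ trivIrr G ∧ χm ∉ Y ∧ trivIrr G ∉ Y ∧ p = 2 * n + 3 ∧ 2 * Y.card = p - 1 ∧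
      charDegree (χm : G → ℂ) = p - 1 ∧ (χm : G → ℂ) z = 0 ∧
      (∀ ψ ∈ Y, charDegree (ψ : G → ℂ) = p - 2 ∧ (ψ : G → ℂ) z = -1) ∧
      (∀ ζ : IrrCharacter G, ζ ≠ trivIrr G → ζ ≠ χm → ζ ∉ Y →
        charDegree (ζ : G → ℂ) = p * zz ζ ∧ (ζ : G → ℂ) z = (zz ζ : ℂ)) ∧
      ∑ ζ ∈ Finset.univ.filter
        (fun ζ : IrrCharacter G => ζ ≠ trivIrr G ∧ ζ ≠ χm ∧ ζ ∉ Y), (zz ζ) ^ 2 = n := by
  obtain ⟨z, hzN, hzP, hzz, hz1, hval⟩ := br_f2i_invol p P hP hf2
  have hk₀mem := (br_dbl_mem_S _ Y k₀).mp (by rw [hS]; exact Finset.mem_singleton_self k₀)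
  have hk₀ne : (k₀ : ↥(Subgroup.normalizer ((P : Subgroup G) : Set G)) →* ℂˣ) ≠ 1 := by
    intro h
    exact hk₀mem.1 (Subtype.ext h)
  have hlam : Cfsg.extendByZero (Subgroup.normalizer ((P : Subgroup G) : Set G))
      (br_mky_fn (Subgroup.normalizer ((P : Subgroup G) : Set G)) (k₀ : _ →* ℂˣ)) z = -1 := by
    rw [extendByZero_mem _ _ hzN, br_mky_fn_apply, hval _ k₀.2 hk₀ne, Units.val_neg,
      Units.val_one]
  have hG : Nat.card G = p * 2 * (1 + n * p) := by
    rw [br_setup_card_G p P hP, hn, hf2]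
  rw [hf2] at H
  obtain ⟨χm, zz, h1, h2, h3, h4, h5, h6, h7, h8, h9, h10⟩ :=
    br_f2m_table H hS hX z hzN hzP hlam
  exact ⟨z, χm, zz, hzz, hz1, br_f2m_card_G H.nd hS hG, h1, h2, h3, h4, h5, h6, h7, h8, h9, h10⟩

end Cfsg.Agent.BR
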