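import Cfsg.Agent.BR.Vals
import Cfsg.Agent.BR.Dbl

/-!
# Brauer–Reynolds track, L7 adapter: the character table at the involution when `f = 2`

Over the bundle `br_vl_Hyp` of `BR/Vals` with `f = 2`, the output `br_dbl_S Θ Y = {k₀}` of
`br_dbl_even` (`BR/Dbl`), `X.card = 2` (`BR/Block`), and an element `z ∈ N ∖ P` with
`lam k₀ z = -1`, we derive the abstract character table at `z` consumed by the L7 core:

* `br_f2m_eps`, `br_f2m_w`, `br_f2m_card_Y`, `br_f2m_p` : `ε = -1`, `w = 1`, `|Y| = n + 1`,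
  `p = 2 n + 3`;
* `br_f2m_deg_Y`, `br_f2m_val_Y` : `ψ ∈ Y` has degree `p - 2` and `ψ z = -1`;
* `br_f2m_X` : `X = {1, χm}` with `dl χm = -1`, `χm 1 = p - 1`, `χm z = 0`;
* `br_f2m_card_G` : `|G| = p (p - 1) (p - 2)`;
* `br_f2m_table` : everything in one statement (with the multiplicities `zz` of `br_vl_Z`).
-/

set_option autoImplicit false
set_option linter.unusedSectionVars false
set_option linter.style.haveILetI false

namespace Cfsg.Agent.BR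

open Cfsg Cfsg.Agent.Helper6 Cfsg.Agent.D1 Finset
open scoped ComplexConjugate

universe u v

variable {G : Type u} [Group G] [Fintype G]

variable {p : ℕ} {P N : Subgroup G} [Fintype P] {n : ℕ} {X Y : Finset (IrrCharacter G)}
  {dl : IrrCharacter G → ℤ} {ε : ℤ} {A : Type v} [CommGroup A] [Fintype A] {Θ : A → G → ℂ}
  {lam : A → G → ℂ} {k₀ : A}

/-- `ε = -1` as soon as `S` is nonempty -/
theorem br_f2m_eps {f : ℕ} (H : br_nd_Hyp p P f n X Y dl ε Θ (1 : A))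
    (hS : br_dbl_S Θ Y = {k₀}) : ε = -1 :=
  br_dbl_eps_of_mem H (k := k₀) (by rw [hS]; exact Finset.mem_singleton_self k₀)

/-- `w = 1` -/
theorem br_f2m_w (hS : br_dbl_S Θ Y = {k₀}) : br_nd_w Θ 1 Y = 1 := by
  rw [br_dbl_w_eq, hS, Finset.card_singleton]

/-- `|Y| = n + 1` -/
theorem br_f2m_card_Y {f : ℕ} (H : br_nd_Hyp p P f n X Y dl ε Θ (1 : A))
    (hS : br_dbl_S Θ Y = {k₀}) : Y.card = n + 1 := by
  have h := H.card_Y_mul_w (br_f2m_eps H hS)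
  rw [br_f2m_w hS, mul_one] at h
  exact h

/-- `p = 2 n + 3` when `f = 2` -/
theorem br_f2m_p (H : br_nd_Hyp p P 2 n X Y dl ε Θ (1 : A))
    (hS : br_dbl_S Θ Y = {k₀}) : p = 2 * n + 3 := by
  have h1 := H.card_Y
  rw [br_f2m_card_Y H hS] at h1
  have h2 := H.prime.two_le
  omega

/-- the exceptional characters have degree `p - 2` -/
theorem br_f2m_deg_Y (H : br_nd_Hyp p P 2 n X Y dl ε Θ (1 : A))
    (hS : br_dbl_S Θ Y = {k₀}) (ψ : IrrCharacter G) (hψ : ψ ∈ Y) :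
    charDegree (ψ : G → ℂ) = p - 2 := by
  have h := H.deg_eps_minus (br_f2m_eps H hS) ψ hψ
  rw [br_f2m_w hS, one_mul] at h
  omega

/-- the exceptional characters take the value `lam k₀ z` at `z ∈ N ∖ P` -/
theorem br_f2m_val_Y {f : ℕ} (H : br_vl_Hyp p P N f n X Y dl ε Θ (1 : A) lam)
    (hS : br_dbl_S Θ Y = {k₀}) (ψ : IrrCharacter G) (hψ : ψ ∈ Y) (z : G) (hzN : z ∈ N)
    (hzP : z ∉ P) : (ψ : G → ℂ) z = lam k₀ z := by
  classical
  rw [br_vl_val_Y H ψ hψ z hzN hzP]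
  have hfil : Finset.univ.filter (fun l : A => l ≠ 1 ∧ Θ l = ∑ ψ' ∈ Y, (ψ' : G → ℂ)) = {k₀} := by
    ext l
    rw [Finset.mem_filter, ← hS, br_dbl_mem_S]
    simp
  rw [hfil, Finset.sum_singleton]

open Classical in
/-- `f = 2`: `X = {1, χm}` with `χm` of sign `-`. -/
theorem br_f2m_X (H : br_nd_Hyp p P 2 n X Y dl ε Θ (1 : A))
    (hS : br_dbl_S Θ Y = {k₀}) (hX : X.card = 2) :
    ∃ χm : IrrCharacter G, χm ≠ trivIrr G ∧ χm ∉ Y ∧ X = {trivIrr G, χm} ∧ dl χm = -1 ∧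
      charDegree (χm : G → ℂ) = p - 1 := by
  obtain ⟨a, b, hab, hXab⟩ := Finset.card_eq_two.1 hX
  have htriv := H.triv_mem
  -- no nontrivial `δ = +` character in `X`
  have hcount := H.count (X.filter (fun χ => χ ≠ trivIrr G ∧ dl χ = 1)) (fun χ => by
    rw [Finset.mem_filter])
  rw [br_f2m_w hS] at hcount
  have hA0 : (X.filter (fun χ => χ ≠ trivIrr G ∧ dl χ = 1)).card = 0 := by
    by_contra h0
    have h1 : 1 ≤ (X.filter (fun χ => χ ≠ trivIrr G ∧ dl χ = 1)).card := Nat.one_le_iff_ne_zero.2 h0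
    have h2 : 1 * (n + 1) ≤ (X.filter (fun χ => χ ≠ trivIrr G ∧ dl χ = 1)).card * (n + 1) :=
      Nat.mul_le_mul_right _ h1
    omega
  have hminus : ∀ χ ∈ X, χ ≠ trivIrr G → dl χ = -1 := by
    intro χ hχ hχt
    rcases H.dl_sign χ hχ with h | h
    · exfalso
      have : χ ∈ X.filter (fun χ => χ ≠ trivIrr G ∧ dl χ = 1) :=
        Finset.mem_filter.2 ⟨hχ, hχt, h⟩
      rw [Finset.card_eq_zero] at hA0
      rw [hA0] at this
      exact absurd this (Finset.notMem_empty _)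
    · exact h
  have key : ∀ χm : IrrCharacter G, χm ≠ trivIrr G → X = {trivIrr G, χm} →
      ∃ χm : IrrCharacter G, χm ≠ trivIrr G ∧ χm ∉ Y ∧ X = {trivIrr G, χm} ∧ dl χm = -1 ∧
        charDegree (χm : G → ℂ) = p - 1 := by
    intro χm hne hXe
    have hmem : χm ∈ X := by rw [hXe]; simp
    refine ⟨χm, hne, fun hY => ?_, hXe, hminus χm hmem hne,
      H.deg_minus χm hmem (hminus χm hmem hne)⟩
    exact (Finset.disjoint_left.1 H.disj) hmem hY
  rw [hXab] at htriv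
  rcases Finset.mem_insert.1 htriv with h | h
  · exact key b (fun hb => hab (h.symm.trans hb.symm)) (by rw [hXab, h])
  · rw [Finset.mem_singleton] at h
    exact key a (fun ha => hab (ha.trans h)) (by rw [hXab, h, Finset.pair_comm])

/-- the order of `G` -/
theorem br_f2m_card_G (H : br_nd_Hyp p P 2 n X Y dl ε Θ (1 : A))
    (hS : br_dbl_S Θ Y = {k₀}) (hG : Nat.card G = p * 2 * (1 + n * p)) :
    Nat.card G = p * (p - 1) * (p - 2) := by
  have hp := br_f2m_p H hS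
  rw [hG]
  have h1 : p - 1 = 2 * n + 2 := by omega
  have h2 : p - 2 = 2 * n + 1 := by omega
  rw [h1, h2, hp]
  ring

open Classical in
/-- **The character table at `z`** (input of the L7 core). -/
theorem br_f2m_table [Fintype (IrrCharacter G)]
    (H : br_vl_Hyp p P N 2 n X Y dl ε Θ (1 : A) lam)
    (hS : br_dbl_S Θ Y = {k₀}) (hX : X.card = 2) (z : G) (hzN : z ∈ N) (hzP : z ∉ P)
    (hlam : lam k₀ z = -1) :
    ∃ (χm : IrrCharacter G) (zz : IrrCharacter G → ℕ),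
      χm ≠ trivIrr G ∧ χm ∉ Y ∧ trivIrr G ∉ Y ∧ p = 2 * n + 3 ∧ 2 * Y.card = p - 1 ∧
      charDegree (χm : G → ℂ) = p - 1 ∧ (χm : G → ℂ) z = 0 ∧
      (∀ ψ ∈ Y, charDegree (ψ : G → ℂ) = p - 2 ∧ (ψ : G → ℂ) z = -1) ∧
      (∀ ζ : IrrCharacter G, ζ ≠ trivIrr G → ζ ≠ χm → ζ ∉ Y →
        charDegree (ζ : G → ℂ) = p * zz ζ ∧ (ζ : G → ℂ) z = (zz ζ : ℂ)) ∧
      ∑ ζ ∈ Finset.univ.filter
        (fun ζ : IrrCharacter G => ζ ≠ trivIrr G ∧ ζ ≠ χm ∧ ζ ∉ Y), (zz ζ) ^ 2 = n := by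
  obtain ⟨χm, hne, hmY, hXe, hdl, hdeg⟩ := br_f2m_X H.nd hS hX
  obtain ⟨zz, hzz, hsum⟩ := br_vl_Z H
  have hmem : χm ∈ X := by rw [hXe]; simp
  have hnotX : ∀ ζ : IrrCharacter G, ζ ∉ X ↔ (ζ ≠ trivIrr G ∧ ζ ≠ χm) := by
    intro ζ
    rw [hXe]
    simp
  refine ⟨χm, zz, hne, hmY, H.nd.triv_not_mem_Y, br_f2m_p H.nd hS, ?_, hdeg,
    br_vl_val_minus H χm hmem hdl z hzN hzP, ?_, ?_, ?_⟩
  · have h1 := H.nd.card_Y
    omega
  · intro ψ hψ
    refine ⟨br_f2m_deg_Y H.nd hS ψ hψ, ?_⟩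
    rw [br_f2m_val_Y H hS ψ hψ z hzN hzP, hlam]
  · intro ζ h1 h2 hY
    obtain ⟨-, hd, hv⟩ := hzz ζ ((hnotX ζ).2 ⟨h1, h2⟩) hY
    exact ⟨hd, hv z hzN hzP⟩
  · rw [← hsum]
    apply Finset.sum_congr _ (fun _ _ => rfl)
    ext ζ
    rw [Finset.mem_filter, Finset.mem_filter, hnotX ζ, and_assoc]

end Cfsg.Agent.BR
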