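import Mathlib

/-!
# Brauer–Reynolds track: the front end of S0996

From an element `z` of prime order `p` with `C_G(z) = ⟨z⟩`: the subgroup `⟨z⟩` is a Sylow
`p`-subgroup `P` of order `p` with `C_G(P) = P`; and `2 |Syl_p| < (p + 1) (p + 2)` says
`|Syl_p| = 1 + n p` with `2 n < p + 3`.
-/

set_option autoImplicit false

namespace Cfsg.Agent.BR

variable {G : Type*} [Group G]

/-- `⟨z⟩` is a Sylow `p`-subgroup when `z` has order `p` and `C_G(z) = ⟨z⟩` -/
theorem br_front_sylow [Finite G] (p : ℕ) [Fact p.Prime] (z : G) (hz : orderOf z = p)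
    (hC : Subgroup.centralizer ({z} : Set G) = Subgroup.zpowers z) :
    ∃ P : Sylow p G, (P : Subgroup G) = Subgroup.zpowers z := by
  have hp : p.Prime := Fact.out
  have hcard : Nat.card (Subgroup.zpowers z) = p := by rw [Nat.card_zpowers, hz]
  have hpg : IsPGroup p (Subgroup.zpowers z) := IsPGroup.of_card (n := 1) (by rw [hcard, pow_one])
  obtain ⟨Q, hQ⟩ := hpg.exists_le_sylow
  refine ⟨Q, le_antisymm ?_ hQ⟩
  have hzQ : z ∈ (Q : Subgroup G) := hQ (Subgroup.mem_zpowers z)
  have hz1 : z ≠ 1 := by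
    intro h
    rw [h, orderOf_one] at hz
    exact hp.one_lt.ne hz
  have : Nontrivial (Q : Subgroup G) := by
    refine ⟨⟨⟨z, hzQ⟩, 1, ?_⟩⟩
    intro h
    exact hz1 (congrArg Subtype.val h)
  have : Nontrivial (Subgroup.center (Q : Subgroup G)) := Q.2.center_nontrivial
  obtain ⟨c, hc1⟩ := exists_ne (1 : Subgroup.center (Q : Subgroup G))
  -- `c` commutes with `z`, so lies in `⟨z⟩`
  have hcz : ((c : (Q : Subgroup G)) : G) ∈ Subgroup.zpowers z := by
    rw [← hC, Subgroup.mem_centralizer_iff]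
    intro x hx
    rw [Set.mem_singleton_iff] at hx
    rw [hx]
    have := Subgroup.mem_center_iff.mp c.2 ⟨z, hzQ⟩
    exact congrArg Subtype.val this
  have hcne : ((c : (Q : Subgroup G)) : G) ≠ 1 := by
    intro h
    apply hc1
    apply Subtype.ext
    apply Subtype.ext
    exact h
  -- `⟨c⟩ = ⟨z⟩`
  have hzc : z ∈ Subgroup.zpowers ((c : (Q : Subgroup G)) : G) := by
    have hle : Subgroup.zpowers ((c : (Q : Subgroup G)) : G) ≤ Subgroup.zpowers z :=
      Subgroup.zpowers_le.mpr hcz
    have hdvd := Subgroup.card_dvd_of_le hle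
    rw [hcard] at hdvd
    rcases (Nat.dvd_prime hp).mp hdvd with h1 | h1
    · exfalso
      rw [Nat.card_zpowers, orderOf_eq_one_iff] at h1
      exact hcne h1
    · have : Subgroup.zpowers ((c : (Q : Subgroup G)) : G) = Subgroup.zpowers z := by
        apply Subgroup.eq_of_le_of_card_ge hle
        rw [h1, hcard]
      rw [this]
      exact Subgroup.mem_zpowers z
  intro q hq
  rw [← hC, Subgroup.mem_centralizer_iff]
  intro x hx
  rw [Set.mem_singleton_iff] at hx
  rw [hx]
  obtain ⟨k, hk⟩ := Subgroup.mem_zpowers_iff.mp hzc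
  have hcq : ((c : (Q : Subgroup G)) : G) * q = q * ((c : (Q : Subgroup G)) : G) := by
    have := Subgroup.mem_center_iff.mp c.2 ⟨q, hq⟩
    exact (congrArg Subtype.val this).symm
  have hcomm : Commute ((c : (Q : Subgroup G)) : G) q := hcq
  rw [← hk]
  exact (hcomm.zpow_left k).eq

/-- the Sylow subgroup `P = ⟨z⟩` has order `p` and is self-centralizing -/
theorem br_front_data [Finite G] (p : ℕ) [Fact p.Prime] (z : G) (hz : orderOf z = p)
    (hC : Subgroup.centralizer ({z} : Set G) = Subgroup.zpowers z) :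
    ∃ P : Sylow p G, Nat.card P = p ∧
      Subgroup.centralizer ((P : Subgroup G) : Set G) = (P : Subgroup G) := by
  obtain ⟨P, hP⟩ := br_front_sylow p z hz hC
  refine ⟨P, ?_, ?_⟩
  · show Nat.card (P : Subgroup G) = p
    rw [hP, Nat.card_zpowers, hz]
  · apply le_antisymm
    · rw [hP]
      nth_rewrite 2 [← hC]
      apply Subgroup.centralizer_le
      rw [Set.singleton_subset_iff]
      exact Subgroup.mem_zpowers z
    · rw [hP]
      intro x hx
      rw [Subgroup.mem_centralizer_iff]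
      intro y hy
      obtain ⟨k, hk⟩ := Subgroup.mem_zpowers_iff.mp hx
      obtain ⟨l, hl⟩ := Subgroup.mem_zpowers_iff.mp hy
      rw [← hk, ← hl]
      exact ((Commute.refl z).zpow_zpow l k).eq

/-- the number of Sylow `p`-subgroups is `1 + n p` with `2 n < p + 3` -/
theorem br_front_n [Finite G] (p : ℕ) [Fact p.Prime]
    (hn : 2 * Nat.card (Sylow p G) < (p + 1) * (p + 2)) :
    ∃ n : ℕ, Nat.card (Sylow p G) = 1 + n * p ∧ 2 * n < p + 3 := by
  have hp : p.Prime := Fact.out
  have hmod := card_sylow_modEq_one p G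
  have hpos : 0 < Nat.card (Sylow p G) := Nat.card_pos
  have h1 : 1 ≤ Nat.card (Sylow p G) := hpos
  have hdvd : p ∣ Nat.card (Sylow p G) - 1 := (Nat.modEq_iff_dvd' h1).mp hmod.symm
  obtain ⟨n, hn'⟩ := hdvd
  have hcard : Nat.card (Sylow p G) = 1 + n * p := by
    rw [mul_comm] at hn'
    omega
  refine ⟨n, hcard, ?_⟩
  rw [hcard] at hn
  by_contra hlt
  push Not at hlt
  have : (p + 3) * p ≤ 2 * n * p := Nat.mul_le_mul_right p hlt
  nlinarith

end Cfsg.Agent.BR
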