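import Cfsg.Agent.BR.Arith
import Cfsg.Agent.BR.Block
import Cfsg.Agent.Helper6.Linear
import Cfsg.Agent.Helper6.BlockPart
import Cfsg.Agent.D1C.BrbCore
import Cfsg.Agent.D1C.Fin4442

/-!
# Brauer–Reynolds track: the condition (**) from `2 n < p + 3` (helper8)

L1 of `notes/BrauerReynolds_blueprint_helper1.md` applied: under `2 n < p + 3` every `δ = +` node
other than `1` has total degree `1 + n p`.  These are the fields `star_X`, `star_Y` of `br_nd_Hyp`.

* `br_star_linear` : in a perfect group the only irreducible character of degree `1` is trivial.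
* `br_star_X_arith`, `br_star_Y_arith` : the arithmetic (from `BR/Arith`).
* `br_star_deg_X`, `br_star_deg_Y` : the degree equations (B4) from `br_blk_IsData`.
* `br_star_X`, `br_star_Y` : the two fields, with the divisibility of the degrees as a hypothesis.
-/

set_option autoImplicit false
set_option linter.style.haveILetI false

namespace Cfsg.Agent.BR

open Cfsg Cfsg.Agent.Helper6 Cfsg.Agent.D1
open scoped ComplexConjugate

universe u

/-! ### arithmetic -/

/-- L1 for a node in `X`: a divisor `u p + 1` (`u ≥ 1`) of `f (1 + n p)` is `1 + n p` -/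
theorem br_star_X_arith {p f u n : ℕ} (hp : p.Prime) (hf : f ∣ p - 1) (hu : 1 ≤ u)
    (hn : 2 * n < p + 3) (hdiv : (u * p + 1) ∣ f * (1 + n * p)) : u = n := by
  obtain ⟨h, heq, hiff⟩ := br_arith_X hp hf hdiv
  rcases Nat.eq_zero_or_pos h with h0 | h0
  · exact hiff.mp h0
  · have := br_arith_bound hu h0 heq
    omega

/-- L1 for the exceptional node (`ε = -1`): `t (w p - f) = 1 + n p` -/
theorem br_star_Y_arith {p f t w n : ℕ} (hp : p.Prime) (htf : t * f = p - 1) (hw : f < w * p)
    (hn : 2 * n < p + 3) (hdiv : (w * p - f) ∣ f * (1 + n * p)) (htw : 2 ≤ t * w) :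
    t * (w * p - f) = 1 + n * p := by
  obtain ⟨h, heq, hiff⟩ := br_arith_E hp htf hw hdiv
  rcases Nat.eq_zero_or_pos h with h0 | h0
  · exact hiff.mp h0
  · have hu : 1 ≤ t * w - 1 := by omega
    have heq' : n * ((t * w - 1) + 1) =
        h * (t * w - 1) * p + (t * w - 1) ^ 2 + (t * w - 1) + h := by
      rw [Nat.sub_add_cancel (by omega : 1 ≤ t * w)]
      exact heq
    have := br_arith_bound hu h0 heq'
    omega

variable {G : Type u} [Group G]

/-! ### perfect groups -/

/-- in a perfect group the only irreducible character of degree `1` is the trivial one -/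
theorem br_star_linear (hperf : commutator G = ⊤) (χ : IrrCharacter G)
    (h1 : charDegree (χ : G → ℂ) = 1) : χ = trivIrr G := by
  have h2 : (χ : G → ℂ) 1 = 1 := by
    rw [← charDegree_cast_of_isCharacter (IsIrrCharacter.isCharacter χ.2), h1, Nat.cast_one]
  obtain ⟨lam, hlam⟩ := exists_hom_of_irr_degree_one χ.2 h2
  have hker : lam.ker = ⊤ := by
    rw [eq_top_iff, ← hperf]
    exact Abelianization.commutator_subset_ker lam
  apply Subtype.ext
  rw [hlam]
  funext g
  have hg : g ∈ lam.ker := by rw [hker]; exact Subgroup.mem_top g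
  rw [MonoidHom.mem_ker] at hg
  rw [hg]
  rfl

/-- in a perfect group a nontrivial irreducible character has degree at least `2` -/
theorem br_star_two_le (hperf : commutator G = ⊤) (χ : IrrCharacter G) (hχ : χ ≠ trivIrr G) :
    2 ≤ charDegree (χ : G → ℂ) := by
  have h0 := d1_fin_charDegree_pos χ
  have h1 : charDegree (χ : G → ℂ) ≠ 1 := fun h => hχ (br_star_linear hperf χ h)
  omega

/-! ### the degree equations (B4) -/

section data

variable {p : ℕ} [hp : Fact p.Prime] {P : Sylow p G} {X Y : Set (IrrCharacter G)}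
  {dl : IrrCharacter G → ℤ} {ep : ℤ}
  {O : IrrCharacter G → Finset (↥(P : Subgroup G) →* ℂˣ)}

/-- (B4) for `χ ∈ X` with `δ = +`: `χ 1 = u p + 1` -/
theorem br_star_deg_X [Finite G] (h : br_blk_IsData P X Y dl ep O) (χ : IrrCharacter G)
    (hχ : χ ∈ X) (hd : dl χ = 1) : ∃ u : ℕ, charDegree (χ : G → ℂ) = u * p + 1 := by
  classical
  haveI : Fintype G := Fintype.ofFinite G
  haveI : Fintype ↥(P : Subgroup G) := Fintype.ofFinite _
  have hχc : IsCharacter G (χ : G → ℂ) := IsIrrCharacter.isCharacter χ.2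
  obtain ⟨k, hk⟩ := d1_brb_sum_sub_nat (P : Subgroup G) hχc
  have h1 := br_blk_sum_P_X h χ hχ
  rw [hk, h.card_P, hd, ← charDegree_cast_of_isCharacter hχc] at h1
  have hp1 : 1 ≤ p := hp.out.pos
  have h2 : ((k * p : ℕ) : ℂ) = ((charDegree (χ : G → ℂ) + (p - 1) : ℕ) : ℂ) := by
    rw [Nat.cast_add, Nat.cast_sub hp1]
    push_cast
    linear_combination h1
  have h3 : k * p = charDegree (χ : G → ℂ) + (p - 1) := by exact_mod_cast h2
  have hk1 : 1 ≤ k := by
    rcases Nat.eq_zero_or_pos k with h0 | h0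
    · rw [h0, zero_mul] at h3
      have := d1_fin_charDegree_pos χ
      omega
    · exact h0
  refine ⟨k - 1, ?_⟩
  have h4 : k * p = (k - 1) * p + p := by
    conv_lhs => rw [← Nat.sub_add_cancel hk1]
    ring
  omega

/-- (B4) for `ψ ∈ Y` with `ε = -1`: `ψ 1 + f = w p` -/
theorem br_star_deg_Y [Finite G] (h : br_blk_IsData P X Y dl ep O) (he : ep = -1)
    (ψ : IrrCharacter G) (hψ : ψ ∈ Y) :
    ∃ w : ℕ, charDegree (ψ : G → ℂ) +
      (P : Subgroup G).relIndex (Subgroup.normalizer ((P : Subgroup G) : Set G)) = w * p := by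
  classical
  haveI : Fintype G := Fintype.ofFinite G
  haveI : Fintype ↥(P : Subgroup G) := Fintype.ofFinite _
  have hψc : IsCharacter G (ψ : G → ℂ) := IsIrrCharacter.isCharacter ψ.2
  obtain ⟨k, hk⟩ := d1_brb_sum_sub_nat (P : Subgroup G) hψc
  have h1 := br_blk_sum_P_Y h ψ hψ
  rw [hk, h.card_P, he, ← charDegree_cast_of_isCharacter hψc] at h1
  refine ⟨k, ?_⟩
  have h2 : ((charDegree (ψ : G → ℂ) +
      (P : Subgroup G).relIndex (Subgroup.normalizer ((P : Subgroup G) : Set G)) : ℕ) : ℂ) =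
      ((k * p : ℕ) : ℂ) := by
    push_cast
    linear_combination -h1
  exact_mod_cast h2

/-! ### the fields `star_X`, `star_Y` -/

/-- **(**) for `X`**: under `2 n < p + 3` a `δ = +` character `χ ≠ 1` of `X` has degree `1 + n p` -/
theorem br_star_X [Finite G] (h : br_blk_IsData P X Y dl ep O) (hperf : commutator G = ⊤)
    (n : ℕ) (hn : 2 * n < p + 3) (χ : IrrCharacter G) (hχ : χ ∈ X) (hχt : χ ≠ trivIrr G)
    (hd : dl χ = 1)
    (hdvd : charDegree (χ : G → ℂ) ∣
      (P : Subgroup G).relIndex (Subgroup.normalizer ((P : Subgroup G) : Set G)) *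
        (1 + n * p)) :
    charDegree (χ : G → ℂ) = 1 + n * p := by
  obtain ⟨u, hu⟩ := br_star_deg_X h χ hχ hd
  have h2 := br_star_two_le hperf χ hχt
  have hu1 : 1 ≤ u := by
    rcases Nat.eq_zero_or_pos u with h0 | h0
    · rw [h0, zero_mul] at hu
      omega
    · exact h0
  rw [hu] at hdvd
  have := br_star_X_arith hp.out (br_blk_f_dvd h) hu1 hn hdvd
  rw [hu, this]
  ring

/-- **(**) for `Y`** (`ε = -1`): under `2 n < p + 3` the exceptional node has total degree
`1 + n p`: `t y = 1 + n p` for the common degree `y` of the exceptional characters -/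
theorem br_star_Y [Finite G] (h : br_blk_IsData P X Y dl ep O) (hperf : commutator G = ⊤)
    (he : ep = -1) (n : ℕ) (hn : 2 * n < p + 3) (ψ : IrrCharacter G) (hψ : ψ ∈ Y)
    (hdvd : charDegree (ψ : G → ℂ) ∣
      (P : Subgroup G).relIndex (Subgroup.normalizer ((P : Subgroup G) : Set G)) *
        (1 + n * p)) :
    Nat.card Y * charDegree (ψ : G → ℂ) = 1 + n * p := by
  obtain ⟨w, hw⟩ := br_star_deg_Y h he ψ hψ
  set f := (P : Subgroup G).relIndex (Subgroup.normalizer ((P : Subgroup G) : Set G)) with hf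
  have hψt : ψ ≠ trivIrr G := by
    intro h0
    rw [h0] at hψ
    exact Set.disjoint_left.mp h.disj h.triv_mem hψ
  have h2 := br_star_two_le hperf ψ hψt
  have hy : charDegree (ψ : G → ℂ) = w * p - f := by omega
  have hfw : f < w * p := by omega
  have hfpos := br_blk_f_pos h
  have hcY := h.card_Y
  have htw : 2 ≤ Nat.card Y * w := by
    by_contra hlt
    push Not at hlt
    have hp2 := hp.out.two_le
    have ht0 : Nat.card Y ≠ 0 := by
      intro h0
      rw [h0, zero_mul] at hcY
      omega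
    have hw0 : w ≠ 0 := by
      intro h0
      rw [h0, zero_mul] at hfw
      omega
    have h3 : Nat.card Y * w = 1 := by
      have : 0 < Nat.card Y * w := Nat.mul_pos (Nat.pos_of_ne_zero ht0) (Nat.pos_of_ne_zero hw0)
      omega
    have ht1 : Nat.card Y = 1 := Nat.eq_one_of_mul_eq_one_right h3
    have hw1 : w = 1 := Nat.eq_one_of_mul_eq_one_left h3
    rw [ht1, one_mul] at hcY
    rw [hw1, one_mul] at hy
    omega
  rw [hy] at hdvd ⊢
  exact br_star_Y_arith hp.out hcY hfw hn hdvd htw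

/-- the members of `Y` have the same degree -/
theorem br_star_deg_eq (h : br_blk_IsData P X Y dl ep O) (ψ ψ' : IrrCharacter G) (hψ : ψ ∈ Y)
    (hψ' : ψ' ∈ Y) : charDegree (ψ : G → ℂ) = charDegree (ψ' : G → ℂ) := by
  have h1 : (ψ : G → ℂ) 1 = (ψ' : G → ℂ) 1 := by
    apply h.reg_Y ψ hψ ψ' hψ' 1
    rw [orderOf_one, Nat.dvd_one]
    exact hp.out.one_lt.ne'
  unfold charDegree
  rw [h1]

/-- **(**) for `Y`**, finset form (the field `star_Y` of `br_nd_Hyp`) -/
theorem br_star_Y_sum [Finite G] (h : br_blk_IsData P X Y dl ep O) (hperf : commutator G = ⊤)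
    (he : ep = -1) (n : ℕ) (hn : 2 * n < p + 3) (Yf : Finset (IrrCharacter G))
    (hYf : ∀ ψ, ψ ∈ Yf ↔ ψ ∈ Y)
    (hdvd : ∀ ψ ∈ Y, charDegree (ψ : G → ℂ) ∣
      (P : Subgroup G).relIndex (Subgroup.normalizer ((P : Subgroup G) : Set G)) *
        (1 + n * p)) :
    ∑ ψ ∈ Yf, charDegree (ψ : G → ℂ) = 1 + n * p := by
  classical
  have hcard : Nat.card Y = Yf.card := by
    rw [← Nat.card_congr (Equiv.subtypeEquivRight hYf), Nat.card_eq_fintype_card,
      Fintype.card_coe]
  have hne : Yf.Nonempty := by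
    rw [← Finset.card_pos, ← hcard]
    rcases Nat.eq_zero_or_pos (Nat.card Y) with h0 | h0
    · have h1 := h.card_Y
      rw [h0, zero_mul] at h1
      have := hp.out.two_le
      omega
    · exact h0
  obtain ⟨ψ₀, hψ₀⟩ := hne
  have hψ₀Y := (hYf ψ₀).1 hψ₀
  rw [Finset.sum_congr rfl (fun ψ hψ => br_star_deg_eq h ψ ψ₀ ((hYf ψ).1 hψ) hψ₀Y),
    Finset.sum_const, smul_eq_mul, ← hcard]
  exact br_star_Y h hperf he n hn ψ₀ hψ₀Y (hdvd ψ₀ hψ₀Y)

end data

end Cfsg.Agent.BR
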