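import Cfsg.Agent.BR.Setup

/-!
# Brauer–Reynolds track: `|N_G(H)| = f (n + 1)` (the count for 5b)

`H` a complement of `P` in `N = N_G(P)`; if `|N ∩ x N x⁻¹| = f ≥ 2` for every `x ∉ N` then
`N_G(H)` has order `f (n + 1)`, where `1 + n p` is the number of Sylow `p`-subgroups.
-/

set_option autoImplicit false
set_option linter.unusedSectionVars false
set_option linter.unusedVariables false

namespace Cfsg.Agent.BR

open Subgroup

variable {G : Type*} [Group G]

theorem br_setupl_mem_map_conj (H : Subgroup G) (m y : G) :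
    y ∈ H.map (MulAut.conj m).toMonoidHom ↔ m⁻¹ * y * m ∈ H := by
  rw [Subgroup.mem_map]
  constructor
  · rintro ⟨z, hz, rfl⟩
    have : m⁻¹ * ((MulAut.conj m).toMonoidHom z) * m = z := by
      simp [MulAut.conj_apply, mul_assoc]
    rw [this]; exact hz
  · intro h
    exact ⟨m⁻¹ * y * m, h, by simp [MulAut.conj_apply, mul_assoc]⟩

/-- `a ∈ N_G(H)` iff `a H a⁻¹ = H` -/
theorem br_setupl_mem_normalizer_iff (H : Subgroup G) (a : G) :
    a ∈ Subgroup.normalizer (H : Set G) ↔ H.map (MulAut.conj a).toMonoidHom = H :=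
  Subgroup.mem_normalizer_iff_map_conj_eq

theorem br_setupl_map_conj_mul (H : Subgroup G) (a b : G) :
    (H.map (MulAut.conj b).toMonoidHom).map (MulAut.conj a).toMonoidHom =
      H.map (MulAut.conj (a * b)).toMonoidHom := by
  ext y
  simp only [br_setupl_mem_map_conj]
  have : b⁻¹ * (a⁻¹ * y * a) * b = (a * b)⁻¹ * y * (a * b) := by group
  rw [this]

/-- `D_{m x} = m D_x m⁻¹` for `m ∈ N` -/
theorem br_setupl_D_mul (N : Subgroup G) (m x : G) (hm : m ∈ N) :
    br_setup_D N (m * x) = (br_setup_D N x).map (MulAut.conj m).toMonoidHom := by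
  ext y
  rw [br_setupl_mem_map_conj, br_setup_mem_D, br_setup_mem_D]
  have e : (m * x)⁻¹ * y * (m * x) = x⁻¹ * (m⁻¹ * y * m) * x := by group
  rw [e]
  constructor
  · rintro ⟨h1, h2⟩
    exact ⟨N.mul_mem (N.mul_mem (N.inv_mem hm) h1) hm, h2⟩
  · rintro ⟨h1, h2⟩
    refine ⟨?_, h2⟩
    have : y = m * (m⁻¹ * y * m) * m⁻¹ := by group
    rw [this]
    exact N.mul_mem (N.mul_mem hm h1) (N.inv_mem hm)

variable [Finite G] (p : ℕ) [Fact p.Prime] (P : Sylow p G)

/-- `N_G(H) ∩ P = 1` when `f ≥ 2` -/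
theorem br_setupl_normalizer_inf_P (hP : Nat.card P = p)
    (hC : Subgroup.centralizer ((P : Subgroup G) : Set G) ≤ (P : Subgroup G))
    (hf : 2 ≤ (P : Subgroup G).relIndex (Subgroup.normalizer ((P : Subgroup G) : Set G)))
    (H : Subgroup G) (hH : br_setup_IsCompl p P H) (m : G) (hm : m ∈ (P : Subgroup G))
    (hmL : m ∈ Subgroup.normalizer (H : Set G)) : m = 1 := by
  have hnt : Nontrivial H := by
    rw [← Finite.one_lt_card_iff_nontrivial, hH.2.1]; omega
  obtain ⟨h, hh1⟩ := exists_ne (1 : H)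
  have hhH : (h : G) ∈ H := h.2
  have hh1' : (h : G) ≠ 1 := fun e => hh1 (Subtype.ext e)
  have hhN : (h : G) ∈ Subgroup.normalizer ((P : Subgroup G) : Set G) := hH.1 hhH
  have h1 : m * h * m⁻¹ ∈ H := (Subgroup.mem_normalizer_iff.mp hmL h).mp hhH
  have h2 : m * h * m⁻¹ * (h : G)⁻¹ ∈ H := H.mul_mem h1 (H.inv_mem hhH)
  have h3 : m * h * m⁻¹ * (h : G)⁻¹ ∈ (P : Subgroup G) := by
    have e : m * h * m⁻¹ * (h : G)⁻¹ = m * ((h : G) * m⁻¹ * (h : G)⁻¹) := by group
    rw [e]
    exact Subgroup.mul_mem _ hm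
      ((Subgroup.mem_normalizer_iff.mp hhN m⁻¹).mp (Subgroup.inv_mem _ hm))
  have h4 : m * h * m⁻¹ * (h : G)⁻¹ ∈ H ⊓ (P : Subgroup G) := ⟨h2, h3⟩
  rw [hH.2.2, Subgroup.mem_bot] at h4
  have hcomm : (h : G) * m = m * h := by
    have : m * h = (m * h * m⁻¹ * (h : G)⁻¹) * (h * m) := by group
    rw [this, h4, one_mul]
  exact br_setup_compl_fpf p P hP hC H hH h hhH hh1' m hm hcomm

/-- conjugates of complements inside `N` are complements -/
theorem br_setupl_conj_isCompl (hP : Nat.card P = p) (H : Subgroup G)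
    (hH : br_setup_IsCompl p P H) (x : G)
    (hx : ∀ h ∈ H, x⁻¹ * h * x ∈ Subgroup.normalizer ((P : Subgroup G) : Set G)) :
    br_setup_IsCompl p P (H.map (MulAut.conj x⁻¹).toMonoidHom) := by
  refine ⟨?_, ?_, ?_⟩
  · intro y hy
    rw [br_setupl_mem_map_conj] at hy
    have := hx _ hy
    have e : x⁻¹ * (x⁻¹⁻¹ * y * x⁻¹) * x = y := by group
    rwa [e] at this
  · rw [Subgroup.card_map_of_injective (MulAut.conj x⁻¹).injective]
    exact hH.2.1
  · apply (Subgroup.disjoint_of_coprime_natCard _).eq_bot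
    rw [Subgroup.card_map_of_injective (MulAut.conj x⁻¹).injective, hH.2.1, hP]
    exact (br_setup_coprime_f p P).symm

/-- the set `T = {x | x⁻¹ H x ≤ N}` -/
def br_setupl_T (H : Subgroup G) : Set G :=
  {x | ∀ h ∈ H, x⁻¹ * h * x ∈ Subgroup.normalizer ((P : Subgroup G) : Set G)}

/-- the set `S = {x ∉ N | N ∩ x N x⁻¹ = H}` -/
def br_setupl_S (H : Subgroup G) : Set G :=
  {x | x ∉ Subgroup.normalizer ((P : Subgroup G) : Set G) ∧
    br_setup_D (Subgroup.normalizer ((P : Subgroup G) : Set G)) x = H}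

/-- `T = N_G(H) · P`, with unique factorization: `|T| = |N_G(H)| p` -/
theorem br_setupl_card_T (hP : Nat.card P = p)
    (hC : Subgroup.centralizer ((P : Subgroup G) : Set G) ≤ (P : Subgroup G))
    (hf : 2 ≤ (P : Subgroup G).relIndex (Subgroup.normalizer ((P : Subgroup G) : Set G)))
    (H : Subgroup G) (hH : br_setup_IsCompl p P H) :
    Nat.card (br_setupl_T p P H) = Nat.card (Subgroup.normalizer (H : Set G)) * p := by
  have hPN : (P : Subgroup G) ≤ Subgroup.normalizer ((P : Subgroup G) : Set G) :=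
    Subgroup.le_normalizer
  let φ : ↥(Subgroup.normalizer (H : Set G)) × ↥(P : Subgroup G) → ↥(br_setupl_T p P H) := fun lm =>
    ⟨lm.1 * lm.2, by
      intro h hh
      have e : ((lm.1 : G) * (lm.2 : G))⁻¹ * h * ((lm.1 : G) * lm.2) =
          (lm.2 : G)⁻¹ * ((lm.1 : G)⁻¹ * h * lm.1) * lm.2 := by group
      rw [e]
      have h1 : (lm.1 : G)⁻¹ * h * lm.1 ∈ H := by
        have := (Subgroup.mem_normalizer_iff.mp (Subgroup.inv_mem _ lm.1.2) h).mp hh
        simpa using this
      exact Subgroup.mul_mem _ (Subgroup.mul_mem _ (Subgroup.inv_mem _ (hPN lm.2.2)) (hH.1 h1))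
        (hPN lm.2.2)⟩
  have hinj : Function.Injective φ := by
    rintro ⟨l, m⟩ ⟨l', m'⟩ hlm
    have e : (l : G) * m = l' * m' := congrArg Subtype.val hlm
    have e2 : (l' : G)⁻¹ * l = m' * (m : G)⁻¹ := by
      have : (l : G) = l' * m' * (m : G)⁻¹ := by rw [← e]; group
      rw [this]; group
    have h1 : (m' : G) * (m : G)⁻¹ = 1 := by
      apply br_setupl_normalizer_inf_P p P hP hC hf H hH _
        (Subgroup.mul_mem _ m'.2 (Subgroup.inv_mem _ m.2))
      rw [← e2]
      exact Subgroup.mul_mem _ (Subgroup.inv_mem _ l'.2) l.2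
    have hm : (m' : G) = m := by
      have : (m' : G) = (m' * (m : G)⁻¹) * m := by group
      rw [this, h1, one_mul]
    have hl : (l : G) = l' := by
      rw [hm] at e
      exact mul_right_cancel e
    exact Prod.ext (Subtype.ext hl) (Subtype.ext hm.symm)
  have hsurj : Function.Surjective φ := by
    rintro ⟨x, hx⟩
    have hcomp := br_setupl_conj_isCompl p P hP H hH x hx
    obtain ⟨m, hm, hmeq⟩ := br_setup_compl_conj p P hP hC H _ hH hcomp
    -- `x m ∈ N_G(H)`
    have hL : x * m ∈ Subgroup.normalizer (H : Set G) := by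
      rw [br_setupl_mem_normalizer_iff, ← br_setupl_map_conj_mul, ← hmeq, br_setupl_map_conj_mul,
        mul_inv_cancel]
      ext y
      rw [br_setupl_mem_map_conj]
      simp
    refine ⟨(⟨x * m, hL⟩, ⟨m⁻¹, Subgroup.inv_mem _ hm⟩), ?_⟩
    apply Subtype.ext
    show x * m * m⁻¹ = x
    group
  have := Nat.card_eq_of_bijective φ ⟨hinj, hsurj⟩
  rw [← this, Nat.card_prod, hP]

/-- `G ∖ N = P · S` with unique factorization: `p |S| = |G ∖ N|` -/
theorem br_setupl_card_S (hP : Nat.card P = p)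
    (hC : Subgroup.centralizer ((P : Subgroup G) : Set G) ≤ (P : Subgroup G))
    (hf : 2 ≤ (P : Subgroup G).relIndex (Subgroup.normalizer ((P : Subgroup G) : Set G)))
    (hD : ∀ x : G, x ∉ Subgroup.normalizer ((P : Subgroup G) : Set G) →
      Nat.card (br_setup_D (Subgroup.normalizer ((P : Subgroup G) : Set G)) x) =
        (P : Subgroup G).relIndex (Subgroup.normalizer ((P : Subgroup G) : Set G)))
    (H : Subgroup G) (hH : br_setup_IsCompl p P H) :
    p * Nat.card (br_setupl_S p P H) =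
      Nat.card ((Subgroup.normalizer ((P : Subgroup G) : Set G) : Set G)ᶜ : Set G) := by
  have hPN : (P : Subgroup G) ≤ Subgroup.normalizer ((P : Subgroup G) : Set G) :=
    Subgroup.le_normalizer
  let φ : ↥(P : Subgroup G) × ↥(br_setupl_S p P H) →
      ((Subgroup.normalizer ((P : Subgroup G) : Set G) : Set G)ᶜ : Set G) := fun mx =>
    ⟨mx.1 * mx.2, by
      intro hmem
      apply mx.2.2.1
      have : (mx.2 : G) = (mx.1 : G)⁻¹ * ((mx.1 : G) * mx.2) := by group
      rw [this]
      exact Subgroup.mul_mem _ (Subgroup.inv_mem _ (hPN mx.1.2)) hmem⟩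
  have hinj : Function.Injective φ := by
    rintro ⟨m, x⟩ ⟨m', x'⟩ hmx
    have e : (m : G) * x = m' * x' := congrArg Subtype.val hmx
    have d1 := br_setupl_D_mul (Subgroup.normalizer ((P : Subgroup G) : Set G)) m x (hPN m.2)
    have d2 := br_setupl_D_mul (Subgroup.normalizer ((P : Subgroup G) : Set G)) m' x' (hPN m'.2)
    rw [x.2.2] at d1
    rw [x'.2.2, ← e, d1] at d2
    -- `m'⁻¹ m ∈ N_G(H) ∩ P`
    have hL : (m' : G)⁻¹ * m ∈ Subgroup.normalizer (H : Set G) := by
      rw [br_setupl_mem_normalizer_iff, ← br_setupl_map_conj_mul, d2, br_setupl_map_conj_mul,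
        inv_mul_cancel]
      ext y
      rw [br_setupl_mem_map_conj]
      simp
    have h1 := br_setupl_normalizer_inf_P p P hP hC hf H hH _
      (Subgroup.mul_mem _ (Subgroup.inv_mem _ m'.2) m.2) hL
    have hm : (m : G) = m' := by
      have : (m : G) = m' * ((m' : G)⁻¹ * m) := by group
      rw [this, h1, mul_one]
    have hx : (x : G) = x' := by
      rw [hm] at e
      exact mul_left_cancel e
    exact Prod.ext (Subtype.ext hm) (Subtype.ext hx)
  have hsurj : Function.Surjective φ := by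
    rintro ⟨y, hy⟩
    have hyN : y ∉ Subgroup.normalizer ((P : Subgroup G) : Set G) := hy
    have hcomp := br_setup_D_isCompl p P hP y hyN (hD y hyN)
    obtain ⟨m, hm, hmeq⟩ := br_setup_compl_conj p P hP hC H _ hH hcomp
    have hxN : m⁻¹ * y ∉ Subgroup.normalizer ((P : Subgroup G) : Set G) := by
      intro hmem
      apply hyN
      have : y = m * (m⁻¹ * y) := by group
      rw [this]
      exact Subgroup.mul_mem _ (hPN hm) hmem
    have hxD : br_setup_D (Subgroup.normalizer ((P : Subgroup G) : Set G)) (m⁻¹ * y) = H := by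
      rw [br_setupl_D_mul _ m⁻¹ y (Subgroup.inv_mem _ (hPN hm)), hmeq, br_setupl_map_conj_mul,
        inv_mul_cancel]
      ext z
      rw [br_setupl_mem_map_conj]
      simp
    refine ⟨(⟨m, hm⟩, ⟨m⁻¹ * y, hxN, hxD⟩), ?_⟩
    apply Subtype.ext
    show m * (m⁻¹ * y) = y
    group
  have := Nat.card_eq_of_bijective φ ⟨hinj, hsurj⟩
  rw [← this, Nat.card_prod, hP]

theorem br_setupl_T_eq (hP : Nat.card P = p)
    (hD : ∀ x : G, x ∉ Subgroup.normalizer ((P : Subgroup G) : Set G) →
      Nat.card (br_setup_D (Subgroup.normalizer ((P : Subgroup G) : Set G)) x) =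
        (P : Subgroup G).relIndex (Subgroup.normalizer ((P : Subgroup G) : Set G)))
    (H : Subgroup G) (hH : br_setup_IsCompl p P H) :
    br_setupl_T p P H =
      (Subgroup.normalizer ((P : Subgroup G) : Set G) : Set G) ∪ br_setupl_S p P H := by
  ext x
  constructor
  · intro hx
    by_cases hxN : x ∈ Subgroup.normalizer ((P : Subgroup G) : Set G)
    · exact Or.inl hxN
    · refine Or.inr ⟨hxN, ?_⟩
      symm
      apply Subgroup.eq_of_le_of_card_ge
      · intro h hh
        rw [br_setup_mem_D]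
        exact ⟨hH.1 hh, hx h hh⟩
      · rw [hD x hxN, hH.2.1]
  · rintro (hx | hx)
    · intro h hh
      have hx' : x ∈ Subgroup.normalizer ((P : Subgroup G) : Set G) := hx
      exact Subgroup.mul_mem _ (Subgroup.mul_mem _ (Subgroup.inv_mem _ hx') (hH.1 hh)) hx'
    · intro h hh
      have : h ∈ br_setup_D (Subgroup.normalizer ((P : Subgroup G) : Set G)) x := by
        rw [hx.2]; exact hh
      rw [br_setup_mem_D] at this
      exact this.2

/-- **the count for 5b**: if all `N ∩ xNx⁻¹` (`x ∉ N`) have order `f ≥ 2` then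
`|N_G(H)| = f (n + 1)`. -/
theorem br_setup_card_normalizer_compl (hP : Nat.card P = p)
    (hC : Subgroup.centralizer ((P : Subgroup G) : Set G) ≤ (P : Subgroup G))
    (hf : 2 ≤ (P : Subgroup G).relIndex (Subgroup.normalizer ((P : Subgroup G) : Set G)))
    (hD : ∀ x : G, x ∉ Subgroup.normalizer ((P : Subgroup G) : Set G) →
      Nat.card (br_setup_D (Subgroup.normalizer ((P : Subgroup G) : Set G)) x) =
        (P : Subgroup G).relIndex (Subgroup.normalizer ((P : Subgroup G) : Set G)))
    (n : ℕ) (hn : Nat.card (Sylow p G) = 1 + n * p)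
    (H : Subgroup G) (hH : br_setup_IsCompl p P H) :
    Nat.card (Subgroup.normalizer (H : Set G)) =
      (P : Subgroup G).relIndex (Subgroup.normalizer ((P : Subgroup G) : Set G)) * (n + 1) := by
  have hT := br_setupl_card_T p P hP hC hf H hH
  have hS := br_setupl_card_S p P hP hC hf hD H hH
  have hTeq := br_setupl_T_eq p P hP hD H hH
  have hdisj : Disjoint (Subgroup.normalizer ((P : Subgroup G) : Set G) : Set G)
      (br_setupl_S p P H) := by
    rw [Set.disjoint_left]
    intro x hx hxS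
    exact hxS.1 hx
  have hTcard : (br_setupl_T p P H).ncard =
      (Subgroup.normalizer ((P : Subgroup G) : Set G) : Set G).ncard +
        (br_setupl_S p P H).ncard := by
    rw [hTeq]
    exact Set.ncard_union_eq hdisj (Set.toFinite _) (Set.toFinite _)
  have hcompl := Set.ncard_add_ncard_compl
    (Subgroup.normalizer ((P : Subgroup G) : Set G) : Set G)
  simp only [← Nat.card_coe_set_eq] at hTcard hcompl
  have hN := br_setup_card_N p P hP
  have hG := br_setup_card_G p P hP
  have hN' : Nat.card ((Subgroup.normalizer ((P : Subgroup G) : Set G) : Set G)) =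
      p * (P : Subgroup G).relIndex (Subgroup.normalizer ((P : Subgroup G) : Set G)) := hN
  set f := (P : Subgroup G).relIndex (Subgroup.normalizer ((P : Subgroup G) : Set G)) with hfdef
  set L := Nat.card (Subgroup.normalizer (H : Set G)) with hLdef
  set s := Nat.card (br_setupl_S p P H) with hsdef
  rw [hN'] at hTcard hcompl
  rw [hT] at hTcard
  rw [← hS, hG, hn] at hcompl
  have hp : 0 < p := (Fact.out : p.Prime).pos
  -- `p s = p f n p`, hence `s = f n p`
  have h1 : p * s = p * (f * n * p) := by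
    have : p * f + p * s = p * f + p * (f * n * p) := by rw [hcompl]; ring
    exact Nat.add_left_cancel this
  have h2 : s = f * n * p := Nat.eq_of_mul_eq_mul_left hp h1
  have h3 : L * p = (f * (n + 1)) * p := by rw [hTcard, h2]; ring
  exact Nat.eq_of_mul_eq_mul_right hp h3

end Cfsg.Agent.BR
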