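import Cfsg.Agent.BR.SetupDg
import Cfsg.Agent.BR.SetupL
import Cfsg.Agent.Helper6.PrincipalDefect

/-!
# Brauer–Reynolds track: basic values of `Θ_l = Ind_N^G l`

`N = N_G(P)`, `|P| = p`, `l : ↥N →* ℂˣ` trivial on `P`, `Θ_l = br_dg_theta N l`.
* `br_th_one`: `Θ_l(1) = 1 + n p`;
* `br_th_val`: `Θ_l(x) = 1` for `x ∈ P ∖ 1` (`P` is T.I.);
* `br_th_triv`: `⟨Θ_l, 1_G⟩ = [l = 1]`;
* `br_th_hdiv`: `f (n + 1) ∣ p f (1 + n p)` (the order of `N_G(H)` divides `|G|`).
-/

set_option autoImplicit false
set_option linter.unusedSectionVars false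
set_option linter.unusedVariables false

namespace Cfsg.Agent.BR

open Subgroup Cfsg Cfsg.Agent.Helper6
open scoped Classical ComplexConjugate

universe u

variable {G : Type u} [Group G] [Fintype G] (p : ℕ) [Fact p.Prime] (P : Sylow p G)

/-- `Θ_l(1) = |G : N| = 1 + n p` -/
theorem br_th_one (n : ℕ) (hn : Nat.card (Sylow p G) = 1 + n * p)
    (l : ↥(Subgroup.normalizer ((P : Subgroup G) : Set G)) →* ℂˣ) :
    br_dg_theta (Subgroup.normalizer ((P : Subgroup G) : Set G)) l 1 = ((1 + n * p : ℕ) : ℂ) := by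
  unfold br_dg_theta
  rw [indFun_apply]
  have h1 : ∀ x : G, Cfsg.extendByZero (Subgroup.normalizer ((P : Subgroup G) : Set G))
      (br_mky_fn (Subgroup.normalizer ((P : Subgroup G) : Set G)) l) (x⁻¹ * 1 * x) = 1 := by
    intro x
    have e : x⁻¹ * 1 * x = 1 := by group
    rw [e, extendByZero_mem _ _ (Subgroup.one_mem _), br_mky_fn_apply]
    have : (⟨1, Subgroup.one_mem _⟩ : ↥(Subgroup.normalizer ((P : Subgroup G) : Set G))) = 1 := rfl
    rw [this, map_one, Units.val_one]
  simp_rw [h1]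
  rw [Finset.sum_const, Finset.card_univ, nsmul_eq_mul, mul_one, ← hn,
    P.card_eq_index_normalizer, ← Nat.card_eq_fintype_card]
  have hmul := Subgroup.card_mul_index (Subgroup.normalizer ((P : Subgroup G) : Set G))
  have hne : (Nat.card (Subgroup.normalizer ((P : Subgroup G) : Set G)) : ℂ) ≠ 0 := by
    have : 0 < Nat.card (Subgroup.normalizer ((P : Subgroup G) : Set G)) := Nat.card_pos
    exact_mod_cast this.ne'
  rw [← hmul, Nat.cast_mul, ← mul_assoc, inv_mul_cancel₀ hne, one_mul]
  rfl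

/-- `Θ_l = 1` on `P ∖ 1` -/
theorem br_th_val (hP : Nat.card P = p)
    (l : ↥(Subgroup.normalizer ((P : Subgroup G) : Set G)) →* ℂˣ) (hl : l ∈ br_setup_A p P)
    (x : G) (hx : x ∈ (P : Subgroup G)) (hx1 : x ≠ 1) :
    br_dg_theta (Subgroup.normalizer ((P : Subgroup G) : Set G)) l x = 1 := by
  unfold br_dg_theta
  rw [indFun_apply]
  have h1 : ∀ g : G, Cfsg.extendByZero (Subgroup.normalizer ((P : Subgroup G) : Set G))
      (br_mky_fn (Subgroup.normalizer ((P : Subgroup G) : Set G)) l) (g⁻¹ * x * g) =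
      if g ∈ Subgroup.normalizer ((P : Subgroup G) : Set G) then 1 else 0 := by
    intro g
    by_cases hg : g ∈ Subgroup.normalizer ((P : Subgroup G) : Set G)
    · rw [if_pos hg]
      have hmem : g⁻¹ * x * g ∈ (P : Subgroup G) := by
        have := (Subgroup.mem_normalizer_iff.mp (Subgroup.inv_mem _ hg) x).mp hx
        simpa using this
      rw [extendByZero_mem _ _ (Subgroup.le_normalizer hmem), br_mky_fn_apply,
        br_setup_A_apply_P p P l hl _ hmem, Units.val_one]
    · rw [if_neg hg]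
      apply extendByZero_not_mem
      intro hmem
      exact hx1 (br_setup_ti p P hP g hg x hx hmem)
  simp_rw [h1]
  rw [Finset.sum_ite, Finset.sum_const_zero, add_zero, Finset.sum_const, nsmul_eq_mul, mul_one]
  have hcard : (Finset.univ.filter (fun g : G => g ∈ Subgroup.normalizer ((P : Subgroup G) : Set G))).card =
      Nat.card (Subgroup.normalizer ((P : Subgroup G) : Set G)) := by
    rw [Nat.card_eq_fintype_card, Fintype.card_subtype]
  rw [hcard]
  have hne : (Nat.card (Subgroup.normalizer ((P : Subgroup G) : Set G)) : ℂ) ≠ 0 := by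
    have : 0 < Nat.card (Subgroup.normalizer ((P : Subgroup G) : Set G)) := Nat.card_pos
    exact_mod_cast this.ne'
  exact inv_mul_cancel₀ hne

/-- `⟨Θ_l, 1_G⟩ = [l = 1]` (Frobenius reciprocity) -/
theorem br_th_triv (l : ↥(Subgroup.normalizer ((P : Subgroup G) : Set G)) →* ℂˣ) :
    Cfsg.classInner (br_dg_theta (Subgroup.normalizer ((P : Subgroup G) : Set G)) l)
      ((trivIrr G : IrrCharacter G) : G → ℂ) = if l = 1 then 1 else 0 := by
  unfold br_dg_theta
  have hcf : Cfsg.IsClassFunction G ((trivIrr G : IrrCharacter G) : G → ℂ) := fun _ _ => rfl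
  rw [frobenius_reciprocity _ _ _ hcf]
  have h1 : (fun h : ↥(Subgroup.normalizer ((P : Subgroup G) : Set G)) =>
      ((trivIrr G : IrrCharacter G) : G → ℂ) h) =
      br_mky_fn (Subgroup.normalizer ((P : Subgroup G) : Set G)) 1 := by
    funext h
    rw [br_mky_fn_apply, MonoidHom.one_apply, Units.val_one]
    rfl
  rw [h1]
  exact br_mky_inner_lin _ l 1

theorem br_th_triv_one :
    Cfsg.classInner (br_dg_theta (Subgroup.normalizer ((P : Subgroup G) : Set G)) 1)
      ((trivIrr G : IrrCharacter G) : G → ℂ) = 1 := by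
  rw [br_th_triv, if_pos rfl]

theorem br_th_triv_ne (l : ↥(Subgroup.normalizer ((P : Subgroup G) : Set G)) →* ℂˣ) (hl : l ≠ 1) :
    Cfsg.classInner (br_dg_theta (Subgroup.normalizer ((P : Subgroup G) : Set G)) l)
      ((trivIrr G : IrrCharacter G) : G → ℂ) = 0 := by
  rw [br_th_triv, if_neg hl]

/-- the index set has `f` elements -/
theorem br_th_card_iota (hP : Nat.card P = p)
    (hC : Subgroup.centralizer ((P : Subgroup G) : Set G) ≤ (P : Subgroup G))
    [Fintype ↥(br_setup_A p P)] :
    Fintype.card ↥(br_setup_A p P) =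
      (P : Subgroup G).relIndex (Subgroup.normalizer ((P : Subgroup G) : Set G)) := by
  rw [← Nat.card_eq_fintype_card, br_setup_card_A p P hP hC]

/-- `|N_G(H)| = f (n + 1)` divides `|G| = p f (1 + n p)` -/
theorem br_th_hdiv (hP : Nat.card P = p)
    (hC : Subgroup.centralizer ((P : Subgroup G) : Set G) ≤ (P : Subgroup G))
    (hf : 2 ≤ (P : Subgroup G).relIndex (Subgroup.normalizer ((P : Subgroup G) : Set G)))
    (hD : ∀ x : G, x ∉ Subgroup.normalizer ((P : Subgroup G) : Set G) →
      Nat.card (br_setup_D (Subgroup.normalizer ((P : Subgroup G) : Set G)) x) =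
        (P : Subgroup G).relIndex (Subgroup.normalizer ((P : Subgroup G) : Set G)))
    (n : ℕ) (hn : Nat.card (Sylow p G) = 1 + n * p) :
    (P : Subgroup G).relIndex (Subgroup.normalizer ((P : Subgroup G) : Set G)) * (n + 1) ∣
      p * (P : Subgroup G).relIndex (Subgroup.normalizer ((P : Subgroup G) : Set G)) *
        (1 + n * p) := by
  obtain ⟨H, hH⟩ := br_setup_exists_compl p P hP
  have h1 := br_setup_card_normalizer_compl p P hP hC hf hD n hn H hH
  have h2 := Subgroup.card_subgroup_dvd_card (Subgroup.normalizer (H : Set G))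
  rw [h1, br_setup_card_G p P hP, hn] at h2
  exact h2

end Cfsg.Agent.BR
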