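import Cfsg.Agent.BR.Vals
import Cfsg.Agent.BR.BlockB
import Cfsg.Agent.BR.BlockC
import Cfsg.Agent.BR.BlockEx
import Cfsg.Agent.BR.Theta
import Cfsg.Agent.BR.FTwoF
import Cfsg.Agent.BR.Star

/-!
# Brauer–Reynolds track: the glue (helper9)

From the block data `br_blk_IsData` (`BR/Block*`), the basic values of `Θ_l` (`BR/Theta`),
(F1) (`BR/FOne`) and (F2) (`BR/FTwoF`) to the bundles `br_nd_Hyp` (`BR/Nodes`) and `br_vl_Hyp`
(`BR/Vals`), in the convention
`ι := ↥(br_setup_A p P)`, `l₀ := 1`, `Θ l := br_dg_theta N l`,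
`lam l h := extendByZero N (br_mky_fn N l) h`, `N := N_G(P)`, `f := |N : P|`.

* `br_gl_nd` / `br_gl_vl` : the bundles, with (**) (`star_X`, `star_Y`) as hypotheses;
* `br_gl_main` : the bundle `br_vl_Hyp` for a perfect group with `2 n < p + 3`
  (no hypothesis left), together with `X.card = f`.
-/

set_option autoImplicit false
set_option linter.style.haveILetI false
set_option linter.unusedSectionVars false

namespace Cfsg.Agent.BR

open Cfsg Cfsg.Agent.Helper6 Cfsg.Agent.D1 Finset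
open scoped ComplexConjugate

universe u

variable {G : Type u} [Group G] [Fintype G] {p : ℕ} [hp : Fact p.Prime] {P : Sylow p G}
  {X Y : Set (IrrCharacter G)} {dl : IrrCharacter G → ℤ} {ep : ℤ}
  {O : IrrCharacter G → Finset (↥(P : Subgroup G) →* ℂˣ)}

/-- the cardinality of a set and of a finset with the same members -/
theorem br_gl_card_eq (S : Set (IrrCharacter G)) (Sf : Finset (IrrCharacter G))
    (hS : ∀ χ, χ ∈ Sf ↔ χ ∈ S) : Nat.card S = Sf.card := by
  classical
  rw [← Nat.card_congr (Equiv.subtypeEquivRight hS), Nat.card_eq_fintype_card,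
    Fintype.card_coe]

/-- **the node bundle** from the block data, (**) as hypotheses -/
theorem br_gl_nd (h : br_blk_IsData P X Y dl ep O) [Fintype ↥(P : Subgroup G)]
    [Fintype ↥(br_setup_A p P)] [Fintype (IrrCharacter G)]
    (Xf Yf : Finset (IrrCharacter G)) (hXf : ∀ χ, χ ∈ Xf ↔ χ ∈ X) (hYf : ∀ ψ, ψ ∈ Yf ↔ ψ ∈ Y)
    (n : ℕ) (hn : Nat.card (Sylow p G) = 1 + n * p)
    (hsX : ∀ χ ∈ Xf, χ ≠ trivIrr G → dl χ = 1 → charDegree (χ : G → ℂ) = 1 + n * p)
    (hsY : ep = -1 → ∑ ψ ∈ Yf, charDegree (ψ : G → ℂ) = 1 + n * p) :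
    br_nd_Hyp p (P : Subgroup G)
      ((P : Subgroup G).relIndex (Subgroup.normalizer ((P : Subgroup G) : Set G))) n Xf Yf dl ep
      (fun l : ↥(br_setup_A p P) =>
        br_dg_theta (Subgroup.normalizer ((P : Subgroup G) : Set G))
          (l : ↥(Subgroup.normalizer ((P : Subgroup G) : Set G)) →* ℂˣ)) 1 := by
  classical
  have hP := h.card_P
  have hC : Subgroup.centralizer ((P : Subgroup G) : Set G) ≤ (P : Subgroup G) := h.cent_P.le
  have hcY : Nat.card Y = Yf.card := br_gl_card_eq Y Yf hYf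
  have hcardY : Yf.card * (P : Subgroup G).relIndex
      (Subgroup.normalizer ((P : Subgroup G) : Set G)) = p - 1 := by
    rw [← hcY]; exact h.card_Y
  refine
    { prime := hp.out
      card_P := hP
      disj := ?_
      triv_mem := (hXf _).mpr h.triv_mem
      Y_nonempty := ?_
      dl_sign := fun χ _ => h.dl_sign χ
      eps_sign := h.ep_sign
      X_val := fun χ hχ x hx hx1 => h.val_X χ ((hXf χ).mp hχ) x hx hx1
      Y_sum := fun ψ hψ => br_blk_sum_P_Y h ψ ((hYf ψ).mp hψ)
      lin := ?_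
      Θ_char := fun l => br_dg_theta_isCharacter _ _
      Θ_one := fun l => br_th_one p P n hn _
      Θ_val := fun l x hx hx1 => br_th_val p P hP _ l.2 x hx hx1
      Θ_triv₀ := br_th_triv_one p P
      Θ_triv := fun l hl => br_th_triv_ne p P _ (fun h0 => hl (Subtype.ext h0))
      F1 := fun χ => br_f1_main p P hP hC _ (IsIrrCharacter.isCharacter χ.2)
      card_ι := br_th_card_iota p P hP hC
      card_Y := hcardY
      star_X := hsX
      star_Y := hsY }
  · rw [Finset.disjoint_left]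
    intro χ hx hy
    exact Set.disjoint_left.mp h.disj ((hXf χ).mp hx) ((hYf χ).mp hy)
  · rw [← Finset.card_pos]
    rcases Nat.eq_zero_or_pos Yf.card with h0 | h0
    · rw [h0, zero_mul] at hcardY
      have := hp.out.two_le
      omega
    · exact h0
  · intro Ψ hΨ c hc
    obtain ⟨m, hm1, hm2, -⟩ := br_nd_mult Ψ hΨ
    have hexp : ∀ x : G, x ∈ (P : Subgroup G) → x ≠ 1 →
        ∑ χ : IrrCharacter G, classInner Ψ (χ : G → ℂ) * (χ : G → ℂ) x = c := by
      intro x hx hx1
      rw [← hc x hx hx1]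
      have h1 := congrFun hm2 x
      rw [Finset.sum_apply] at h1
      rw [h1]
      apply Finset.sum_congr rfl
      intro χ _
      rw [hm1 χ, Pi.smul_apply, smul_eq_mul]
    obtain ⟨m', h1, h2⟩ := br_blk_indep h (fun χ => classInner Ψ (χ : G → ℂ)) c hexp
    refine ⟨m', fun ψ hψ => h1 ψ ((hYf ψ).mp hψ), ?_⟩
    have hX : X = (Xf : Set (IrrCharacter G)) := by
      ext χ
      rw [Finset.mem_coe]
      exact (hXf χ).symm
    rw [hX, finsum_mem_coe_finset] at h2
    exact h2

/-- **the value bundle** from the block data, (**) as hypotheses -/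
theorem br_gl_vl (h : br_blk_IsData P X Y dl ep O) [Fintype ↥(P : Subgroup G)]
    [Fintype ↥(br_setup_A p P)] [Fintype (IrrCharacter G)]
    (Xf Yf : Finset (IrrCharacter G)) (hXf : ∀ χ, χ ∈ Xf ↔ χ ∈ X) (hYf : ∀ ψ, ψ ∈ Yf ↔ ψ ∈ Y)
    (n : ℕ) (hn : Nat.card (Sylow p G) = 1 + n * p)
    (hsX : ∀ χ ∈ Xf, χ ≠ trivIrr G → dl χ = 1 → charDegree (χ : G → ℂ) = 1 + n * p)
    (hsY : ep = -1 → ∑ ψ ∈ Yf, charDegree (ψ : G → ℂ) = 1 + n * p) :
    br_vl_Hyp p (P : Subgroup G) (Subgroup.normalizer ((P : Subgroup G) : Set G))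
      ((P : Subgroup G).relIndex (Subgroup.normalizer ((P : Subgroup G) : Set G))) n Xf Yf dl ep
      (fun l : ↥(br_setup_A p P) =>
        br_dg_theta (Subgroup.normalizer ((P : Subgroup G) : Set G))
          (l : ↥(Subgroup.normalizer ((P : Subgroup G) : Set G)) →* ℂˣ)) 1
      (fun (l : ↥(br_setup_A p P)) (g : G) =>
        extendByZero (Subgroup.normalizer ((P : Subgroup G) : Set G))
          (br_mky_fn (Subgroup.normalizer ((P : Subgroup G) : Set G))
            (l : ↥(Subgroup.normalizer ((P : Subgroup G) : Set G)) →* ℂˣ)) g) := by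
  have hP := h.card_P
  have hC : Subgroup.centralizer ((P : Subgroup G) : Set G) ≤ (P : Subgroup G) := h.cent_P.le
  exact
    { nd := br_gl_nd h Xf Yf hXf hYf n hn hsX hsY
      Z_val := fun ζ hX hY x hx hx1 =>
        h.val_Z ζ (fun h0 => hX ((hXf ζ).mpr h0)) (fun h0 => hY ((hYf ζ).mpr h0)) x hx hx1
      F2 := fun χ g hN hnP =>
        br_f2_main p P hP hC _ (IsIrrCharacter.isCharacter χ.2) g hN hnP
      lam_l₀ := fun g hN => br_f2_lam_one _ g hN }

/-- **the complete bundle** for a perfect group with `2 n < p + 3` -/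
theorem br_gl_main (hperf : commutator G = ⊤) (p : ℕ) [Fact p.Prime] (P : Sylow p G)
    (hP : Nat.card (P : Subgroup G) = p)
    (hC : Subgroup.centralizer ((P : Subgroup G) : Set G) ≤ (P : Subgroup G))
    (n : ℕ) (hn : Nat.card (Sylow p G) = 1 + n * p) (hn2 : 2 * n < p + 3)
    [Fintype ↥(P : Subgroup G)] [Fintype ↥(br_setup_A p P)] :
    ∃ (Xf Yf : Finset (IrrCharacter G)) (dl : IrrCharacter G → ℤ) (ep : ℤ),
      br_vl_Hyp p (P : Subgroup G) (Subgroup.normalizer ((P : Subgroup G) : Set G))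
        ((P : Subgroup G).relIndex (Subgroup.normalizer ((P : Subgroup G) : Set G))) n Xf Yf dl ep
        (fun l : ↥(br_setup_A p P) =>
          br_dg_theta (Subgroup.normalizer ((P : Subgroup G) : Set G))
            (l : ↥(Subgroup.normalizer ((P : Subgroup G) : Set G)) →* ℂˣ)) 1
        (fun (l : ↥(br_setup_A p P)) (g : G) =>
          extendByZero (Subgroup.normalizer ((P : Subgroup G) : Set G))
            (br_mky_fn (Subgroup.normalizer ((P : Subgroup G) : Set G))
              (l : ↥(Subgroup.normalizer ((P : Subgroup G) : Set G)) →* ℂˣ)) g) ∧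
      Xf.card = (P : Subgroup G).relIndex (Subgroup.normalizer ((P : Subgroup G) : Set G)) := by
  classical
  haveI : Finite (IrrCharacter G) := irr_finite
  haveI : Fintype (IrrCharacter G) := Fintype.ofFinite _
  obtain ⟨X, Y, dl, ep, O, h⟩ := br_blk_exists p P hP hC
  have hXf : ∀ χ, χ ∈ (Set.toFinite X).toFinset ↔ χ ∈ X := fun χ => Set.Finite.mem_toFinset _
  have hYf : ∀ ψ, ψ ∈ (Set.toFinite Y).toFinset ↔ ψ ∈ Y := fun ψ => Set.Finite.mem_toFinset _
  refine ⟨(Set.toFinite X).toFinset, (Set.toFinite Y).toFinset, dl, ep,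
    br_gl_vl h _ _ hXf hYf n hn ?_ ?_, ?_⟩
  · intro χ hχ hχt hd
    have hχX := (hXf χ).mp hχ
    have hdvd := br_blk_dvd_X h χ hχX
    rw [hn] at hdvd
    exact br_star_X h hperf n hn2 χ hχX hχt hd hdvd
  · intro he
    apply br_star_Y_sum h hperf he n hn2 _ hYf
    intro ψ hψ
    have hdvd := br_blk_dvd_Y h ψ hψ
    rw [hn] at hdvd
    exact hdvd
  · rw [← br_gl_card_eq X _ hXf]
    exact h.card_X

end Cfsg.Agent.BR
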