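import Mathlib
import Cfsg.Prelude.Def_Characters
import Cfsg.Agent.BR.Invol

/-!
# Brauer–Reynolds track: step L6 (`ε = -`, `f` even, `f > 2` ⟹ `t ≤ 2`)

Abstract character-table form.  `p = t f + 1`, `|G| = p f t (p - f)`, `z` an involution with
`|C_G(z)| = t f`, `y` an element with `|C_G(y)| ≤ f`; the irreducible characters fall into five
kinds (`0`: the trivial one; `1`: the nontrivial `δ = +` characters, of degree `t (p - f)`, value
`± t` at `z`; `2`: `δ = -`, vanishing at `z`; `3`: the `t` exceptional characters of degree `p - f`,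
value `± 1` at `z` and `λ` at `y`; `4`: defect zero, degree `p z_ζ`, value `z_ζ` at `z` and `y`).
Then the number of pairs of conjugates of `z` with product `y` is `f (t - 1)`; it is at most
`|C_G(y)| ≤ f`, so `t ≤ 2`.

* `br_l6_pairs`, `br_l6_core` : the count and the conclusion `t ≤ 2`;
* `br_l6_card_centralizer` : `|C_G(z)| = t f` from the values at `z`;
* `br_l6_card_centralizer_H` : `|C_G(y)| = f` for `y ∈ H ∖ {1, z}`, `H` an abelian subgroup of order
  `f` on whose nonidentity elements the kind-`1` characters are sums of `t` distinct linear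
  characters of `H` (no double cosets needed).
-/

set_option autoImplicit false
set_option linter.unusedSectionVars false
set_option linter.style.haveILetI false

namespace Cfsg.Agent.BR

open Cfsg.Agent.Helper6
open scoped ComplexConjugate

universe u

variable {G : Type u} [Group G]

/-- splitting a sum over the irreducible characters by kind -/
theorem br_l6_sum_kind [Fintype (Cfsg.IrrCharacter G)] (kind : Cfsg.IrrCharacter G → Fin 5)
    (F : Cfsg.IrrCharacter G → ℂ) :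
    ∑ χ : Cfsg.IrrCharacter G, F χ =
      ∑ χ ∈ Finset.univ.filter (fun χ => kind χ = 0), F χ +
      ∑ χ ∈ Finset.univ.filter (fun χ => kind χ = 1), F χ +
      ∑ χ ∈ Finset.univ.filter (fun χ => kind χ = 2), F χ +
      ∑ χ ∈ Finset.univ.filter (fun χ => kind χ = 3), F χ +
      ∑ χ ∈ Finset.univ.filter (fun χ => kind χ = 4), F χ := by
  rw [← Finset.sum_fiberwise Finset.univ kind F, Fin.sum_univ_five]

open Classical in
/-- **L6, character-table core**: the number of pairs of conjugates of `z` with product `y`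
is `f (t - 1)` -/
theorem br_l6_pairs [Fintype G] [Fintype (Cfsg.IrrCharacter G)]
    (p t f : ℕ) (ht : 0 < t) (hf : 0 < f) (hp : p = t * f + 1)
    (hG : Nat.card G = p * f * (t * (p - f)))
    (z y : G)
    (hCz : Nat.card (Subgroup.centralizer ({z} : Set G)) = t * f)
    (kind : Cfsg.IrrCharacter G → Fin 5) (lam : ℂ) (zz : Cfsg.IrrCharacter G → ℕ)
    (h0card : (Finset.univ.filter (fun χ => kind χ = 0)).card = 1)
    (h0 : ∀ χ : Cfsg.IrrCharacter G, kind χ = 0 →
      (χ : G → ℂ) 1 = 1 ∧ (χ : G → ℂ) z = 1 ∧ (χ : G → ℂ) y = 1)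
    (h1 : ∀ χ : Cfsg.IrrCharacter G, kind χ = 1 →
      (χ : G → ℂ) 1 = (t : ℂ) * ((p : ℂ) - f) ∧ (χ : G → ℂ) z * (χ : G → ℂ) z = (t : ℂ) * t)
    (h1sum : ∑ χ ∈ Finset.univ.filter (fun χ => kind χ = 1), (χ : G → ℂ) y = -1 - lam)
    (h2 : ∀ χ : Cfsg.IrrCharacter G, kind χ = 2 → (χ : G → ℂ) z = 0)
    (h3card : (Finset.univ.filter (fun χ => kind χ = 3)).card = t)
    (h3 : ∀ χ : Cfsg.IrrCharacter G, kind χ = 3 →
      (χ : G → ℂ) 1 = (p : ℂ) - f ∧ (χ : G → ℂ) z * (χ : G → ℂ) z = 1 ∧ (χ : G → ℂ) y = lam)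
    (h4 : ∀ χ : Cfsg.IrrCharacter G, kind χ = 4 →
      (χ : G → ℂ) 1 = (p : ℂ) * zz χ ∧ (χ : G → ℂ) z = zz χ ∧ (χ : G → ℂ) y = zz χ)
    (h4sum : ∑ χ ∈ Finset.univ.filter (fun χ => kind χ = 4), (zz χ) ^ 2 + 1 = t) :
    br_inv_pairs z y = f * (t - 1) := by
  have hfp : f < p := by
    have : f ≤ t * f := Nat.le_mul_of_pos_left f ht
    omega
  have hpf0 : ((p : ℂ) - f) ≠ 0 := by
    have : (f : ℂ) ≠ p := by
      intro h
      have := Nat.cast_injective h
      omega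
    exact sub_ne_zero.mpr (Ne.symm this)
  have hp0 : (p : ℂ) ≠ 0 := by
    have : p ≠ 0 := by omega
    exact_mod_cast this
  have ht0 : (t : ℂ) ≠ 0 := by
    have : t ≠ 0 := by omega
    exact_mod_cast this
  have hf0 : (f : ℂ) ≠ 0 := by
    have : f ≠ 0 := by omega
    exact_mod_cast this
  -- the class of `z`
  have hcl : (classFinset z).card = p * (p - f) := by
    rw [card_classFinset]
    have h := (Subgroup.centralizer ({z} : Set G)).index_mul_card
    rw [hCz, hG] at h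
    have htf : 0 < t * f := Nat.mul_pos ht hf
    apply Nat.eq_of_mul_eq_mul_right htf
    rw [h]; ring
  -- the five partial sums
  have s0 : ∑ χ ∈ Finset.univ.filter (fun χ => kind χ = 0),
      (χ : G → ℂ) z * (χ : G → ℂ) z * conj ((χ : G → ℂ) y) / (χ : G → ℂ) 1 = 1 := by
    rw [Finset.sum_congr rfl (g := fun _ => (1 : ℂ))]
    · rw [Finset.sum_const, h0card, one_smul]
    · intro χ hχ
      rw [Finset.mem_filter] at hχ
      obtain ⟨e1, ez, ey⟩ := h0 χ hχ.2
      rw [e1, ez, ey, map_one]; norm_num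
  have s1 : ∑ χ ∈ Finset.univ.filter (fun χ => kind χ = 1),
      (χ : G → ℂ) z * (χ : G → ℂ) z * conj ((χ : G → ℂ) y) / (χ : G → ℂ) 1 =
      (t : ℂ) / ((p : ℂ) - f) * (-1 - conj lam) := by
    rw [Finset.sum_congr rfl
      (g := fun χ : Cfsg.IrrCharacter G => (t : ℂ) / ((p : ℂ) - f) * conj ((χ : G → ℂ) y))]
    · rw [← Finset.mul_sum, ← map_sum, h1sum, map_sub, map_neg, map_one]
    · intro χ hχ
      rw [Finset.mem_filter] at hχ
      obtain ⟨e1, ez⟩ := h1 χ hχ.2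
      rw [e1, ez]
      field_simp
  have s2 : ∑ χ ∈ Finset.univ.filter (fun χ => kind χ = 2),
      (χ : G → ℂ) z * (χ : G → ℂ) z * conj ((χ : G → ℂ) y) / (χ : G → ℂ) 1 = 0 := by
    apply Finset.sum_eq_zero
    intro χ hχ
    rw [Finset.mem_filter] at hχ
    rw [h2 χ hχ.2]; simp
  have s3 : ∑ χ ∈ Finset.univ.filter (fun χ => kind χ = 3),
      (χ : G → ℂ) z * (χ : G → ℂ) z * conj ((χ : G → ℂ) y) / (χ : G → ℂ) 1 =
      (t : ℂ) * (conj lam / ((p : ℂ) - f)) := by
    rw [Finset.sum_congr rfl (g := fun _ => conj lam / ((p : ℂ) - f))]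
    · rw [Finset.sum_const, h3card, nsmul_eq_mul]
    · intro χ hχ
      rw [Finset.mem_filter] at hχ
      obtain ⟨e1, ez, ey⟩ := h3 χ hχ.2
      rw [e1, ez, ey, one_mul]
  have s4 : ∑ χ ∈ Finset.univ.filter (fun χ => kind χ = 4),
      (χ : G → ℂ) z * (χ : G → ℂ) z * conj ((χ : G → ℂ) y) / (χ : G → ℂ) 1 =
      ((t : ℂ) - 1) / p := by
    rw [Finset.sum_congr rfl
      (g := fun χ : Cfsg.IrrCharacter G => (((zz χ) ^ 2 : ℕ) : ℂ) / p)]
    · rw [← Finset.sum_div, ← Nat.cast_sum]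
      congr 1
      rw [← h4sum]; push_cast; ring
    · intro χ hχ
      rw [Finset.mem_filter] at hχ
      obtain ⟨e1, ez, ey⟩ := h4 χ hχ.2
      rw [e1, ez, ey, Complex.conj_natCast]
      by_cases hzz : (zz χ : ℂ) = 0
      · push_cast
        rw [hzz]; simp
      · push_cast
        field_simp
  have key := br_inv_pairs_eq_sum z y
  rw [br_l6_sum_kind kind, s0, s1, s2, s3, s4, hcl, hG] at key
  have hcast : ((p * (p - f) : ℕ) : ℂ) = (p : ℂ) * ((p : ℂ) - f) := by
    rw [Nat.cast_mul, Nat.cast_sub hfp.le]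
  have hcast2 : ((p * f * (t * (p - f)) : ℕ) : ℂ) = (p : ℂ) * f * (t * ((p : ℂ) - f)) := by
    rw [Nat.cast_mul, Nat.cast_mul, Nat.cast_mul, Nat.cast_sub hfp.le]
  rw [hcast, hcast2] at key
  have hpc : (p : ℂ) = (t : ℂ) * f + 1 := by
    rw [hp]; push_cast; ring
  have hres : (br_inv_pairs z y : ℂ) = (f : ℂ) * ((t : ℂ) - 1) := by
    rw [key]
    field_simp
    rw [hpc]
    ring
  have : ((f * (t - 1) : ℕ) : ℂ) = (f : ℂ) * ((t : ℂ) - 1) := by
    rw [Nat.cast_mul, Nat.cast_sub ht, Nat.cast_one]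
  rw [← this] at hres
  exact_mod_cast hres

open Classical in
/-- the order of `C_G(z)` from the values at `z` (column orthogonality) -/
theorem br_l6_card_centralizer [Fintype G] [Fintype (Cfsg.IrrCharacter G)]
    (t f : ℕ) (z : G)
    (kind : Cfsg.IrrCharacter G → Fin 5) (zz : Cfsg.IrrCharacter G → ℕ)
    (h0card : (Finset.univ.filter (fun χ => kind χ = 0)).card = 1)
    (h0 : ∀ χ : Cfsg.IrrCharacter G, kind χ = 0 → (χ : G → ℂ) z = 1)
    (h1card : (Finset.univ.filter (fun χ => kind χ = 1)).card * t + 2 = f)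
    (h1 : ∀ χ : Cfsg.IrrCharacter G, kind χ = 1 →
      (χ : G → ℂ) z * (χ : G → ℂ) z = (t : ℂ) * t)
    (h2 : ∀ χ : Cfsg.IrrCharacter G, kind χ = 2 → (χ : G → ℂ) z = 0)
    (h3card : (Finset.univ.filter (fun χ => kind χ = 3)).card = t)
    (h3 : ∀ χ : Cfsg.IrrCharacter G, kind χ = 3 → (χ : G → ℂ) z * (χ : G → ℂ) z = 1)
    (h4 : ∀ χ : Cfsg.IrrCharacter G, kind χ = 4 → (χ : G → ℂ) z = zz χ)
    (h4sum : ∑ χ ∈ Finset.univ.filter (fun χ => kind χ = 4), (zz χ) ^ 2 + 1 = t) :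
    Nat.card (Subgroup.centralizer ({z} : Set G)) = t * f := by
  have key := column_orthogonality_aux z z
  rw [if_pos (IsConj.refl z), br_l6_sum_kind kind] at key
  have s0 : ∑ χ ∈ Finset.univ.filter (fun χ => kind χ = 0),
      (χ : G → ℂ) z * conj ((χ : G → ℂ) z) = 1 := by
    rw [Finset.sum_congr rfl (g := fun _ => (1 : ℂ))]
    · rw [Finset.sum_const, h0card, one_smul]
    · intro χ hχ
      rw [Finset.mem_filter] at hχ
      rw [h0 χ hχ.2, map_one, one_mul]
  have s1 : ∑ χ ∈ Finset.univ.filter (fun χ => kind χ = 1),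
      (χ : G → ℂ) z * conj ((χ : G → ℂ) z) =
      ((Finset.univ.filter (fun χ => kind χ = 1)).card : ℂ) * ((t : ℂ) * t) := by
    rw [Finset.sum_congr rfl (g := fun _ => (t : ℂ) * t)]
    · rw [Finset.sum_const, nsmul_eq_mul]
    · intro χ hχ
      rw [Finset.mem_filter] at hχ
      rcases mul_self_eq_mul_self_iff.mp (h1 χ hχ.2) with e | e
      · rw [e, Complex.conj_natCast]
      · rw [e, map_neg, Complex.conj_natCast]; ring
  have s2 : ∑ χ ∈ Finset.univ.filter (fun χ => kind χ = 2),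
      (χ : G → ℂ) z * conj ((χ : G → ℂ) z) = 0 := by
    apply Finset.sum_eq_zero
    intro χ hχ
    rw [Finset.mem_filter] at hχ
    rw [h2 χ hχ.2]; simp
  have s3 : ∑ χ ∈ Finset.univ.filter (fun χ => kind χ = 3),
      (χ : G → ℂ) z * conj ((χ : G → ℂ) z) = (t : ℂ) := by
    rw [Finset.sum_congr rfl (g := fun _ => (1 : ℂ))]
    · rw [Finset.sum_const, h3card, nsmul_eq_mul, mul_one]
    · intro χ hχ
      rw [Finset.mem_filter] at hχ
      have h := h3 χ hχ.2
      rw [← one_mul (1 : ℂ)] at h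
      rcases mul_self_eq_mul_self_iff.mp h with e | e
      · rw [e, map_one, one_mul]
      · rw [e, map_neg, map_one]; ring
  have s4 : ∑ χ ∈ Finset.univ.filter (fun χ => kind χ = 4),
      (χ : G → ℂ) z * conj ((χ : G → ℂ) z) = (t : ℂ) - 1 := by
    rw [Finset.sum_congr rfl
      (g := fun χ : Cfsg.IrrCharacter G => (((zz χ) ^ 2 : ℕ) : ℂ))]
    · rw [← Nat.cast_sum, ← h4sum]; push_cast; ring
    · intro χ hχ
      rw [Finset.mem_filter] at hχ
      rw [h4 χ hχ.2, Complex.conj_natCast]; push_cast; ring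
  rw [s0, s1, s2, s3, s4] at key
  have hc : ((Finset.univ.filter (fun χ => kind χ = 1)).card : ℂ) * (t : ℂ) = (f : ℂ) - 2 := by
    rw [← h1card]; push_cast; ring
  have hres : (Nat.card (Subgroup.centralizer ({z} : Set G)) : ℂ) = ((t * f : ℕ) : ℂ) := by
    rw [← key]
    push_cast
    linear_combination (t : ℂ) * hc
  exact_mod_cast hres

/-- **L6**: `t ≤ 2` -/
theorem br_l6_core [Fintype G] [Fintype (Cfsg.IrrCharacter G)]
    (p t f : ℕ) (ht : 0 < t) (hf : 0 < f) (hp : p = t * f + 1)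
    (hG : Nat.card G = p * f * (t * (p - f)))
    (z y : G) (hz : z * z = 1)
    (hCz : Nat.card (Subgroup.centralizer ({z} : Set G)) = t * f)
    (hCy : Nat.card (Subgroup.centralizer ({y} : Set G)) ≤ f)
    (kind : Cfsg.IrrCharacter G → Fin 5) (lam : ℂ) (zz : Cfsg.IrrCharacter G → ℕ)
    (h0card : (Finset.univ.filter (fun χ => kind χ = 0)).card = 1)
    (h0 : ∀ χ : Cfsg.IrrCharacter G, kind χ = 0 →
      (χ : G → ℂ) 1 = 1 ∧ (χ : G → ℂ) z = 1 ∧ (χ : G → ℂ) y = 1)
    (h1 : ∀ χ : Cfsg.IrrCharacter G, kind χ = 1 →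
      (χ : G → ℂ) 1 = (t : ℂ) * ((p : ℂ) - f) ∧ (χ : G → ℂ) z * (χ : G → ℂ) z = (t : ℂ) * t)
    (h1sum : ∑ χ ∈ Finset.univ.filter (fun χ => kind χ = 1), (χ : G → ℂ) y = -1 - lam)
    (h2 : ∀ χ : Cfsg.IrrCharacter G, kind χ = 2 → (χ : G → ℂ) z = 0)
    (h3card : (Finset.univ.filter (fun χ => kind χ = 3)).card = t)
    (h3 : ∀ χ : Cfsg.IrrCharacter G, kind χ = 3 →
      (χ : G → ℂ) 1 = (p : ℂ) - f ∧ (χ : G → ℂ) z * (χ : G → ℂ) z = 1 ∧ (χ : G → ℂ) y = lam)
    (h4 : ∀ χ : Cfsg.IrrCharacter G, kind χ = 4 →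
      (χ : G → ℂ) 1 = (p : ℂ) * zz χ ∧ (χ : G → ℂ) z = zz χ ∧ (χ : G → ℂ) y = zz χ)
    (h4sum : ∑ χ ∈ Finset.univ.filter (fun χ => kind χ = 4), (zz χ) ^ 2 + 1 = t) :
    t ≤ 2 := by
  have h := br_l6_pairs p t f ht hf hp hG z y hCz kind lam zz h0card h0 h1 h1sum h2 h3card h3 h4
    h4sum
  have hle := br_inv_pairs_le z y hz
  rw [h] at hle
  have h2' : f * (t - 1) ≤ f * 1 := by
    rw [mul_one]; exact le_trans hle hCy
  have := Nat.le_of_mul_le_mul_left h2' hf
  omega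

/-- the complex conjugate of a value of a linear character of a finite group is its inverse -/
theorem br_l6_conj_hom {H : Type*} [Group H] [Finite H] (l : H →* ℂˣ) (y : H) :
    conj ((l y : ℂˣ) : ℂ) = (((l y)⁻¹ : ℂˣ) : ℂ) := by
  have hpow : ((l y : ℂˣ) : ℂ) ^ Nat.card H = 1 := by
    rw [← Units.val_pow_eq_pow_val, ← map_pow, pow_card_eq_one', map_one, Units.val_one]
  have hnorm : ‖((l y : ℂˣ) : ℂ)‖ = 1 :=
    Complex.norm_eq_one_of_pow_eq_one hpow Nat.card_pos.ne'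
  rw [Units.val_inv_eq_inv_val, Complex.inv_eq_conj hnorm]

open Classical in
/-- orthogonality of the linear characters of a finite group -/
theorem br_l6_orth {H : Type*} [Group H] [Fintype H] (l l' : H →* ℂˣ) :
    ∑ y : H, ((l y : ℂˣ) : ℂ) * conj ((l' y : ℂˣ) : ℂ) =
      if l = l' then (Fintype.card H : ℂ) else 0 := by
  have h := sum_hom_units ((Units.coeHom ℂ).comp (l * l'⁻¹))
  have e : ∀ y : H, ((l y : ℂˣ) : ℂ) * conj ((l' y : ℂˣ) : ℂ) =
      ((Units.coeHom ℂ).comp (l * l'⁻¹)) y := by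
    intro y
    rw [br_l6_conj_hom]
    simp
  rw [Finset.sum_congr rfl (fun y _ => e y), h]
  have : ((Units.coeHom ℂ).comp (l * l'⁻¹) = 1) ↔ l = l' := by
    constructor
    · intro h1
      ext y
      have := DFunLike.congr_fun h1 y
      simp only [MonoidHom.coe_comp, Units.coeHom_apply, Function.comp_apply, MonoidHom.mul_apply,
        MonoidHom.inv_apply, MonoidHom.one_apply] at this
      have h2 : l y * (l' y)⁻¹ = 1 := Units.ext this
      rw [mul_inv_eq_one] at h2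
      rw [h2]
    · intro h1
      rw [h1]
      ext y
      simp
  by_cases hl : l = l'
  · rw [if_pos hl, if_pos (this.mpr hl)]
  · rw [if_neg hl, if_neg (fun h => hl (this.mp h)), Nat.cast_zero]

open Classical in
/-- the squared norm of a sum of distinct linear characters -/
theorem br_l6_sum_normSq {H : Type*} [Group H] [Fintype H] (K : Finset (H →* ℂˣ)) :
    ∑ y : H, (∑ l ∈ K, ((l y : ℂˣ) : ℂ)) * conj (∑ l ∈ K, ((l y : ℂˣ) : ℂ)) =
      (Fintype.card H : ℂ) * K.card := by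
  have e : ∀ y : H, (∑ l ∈ K, ((l y : ℂˣ) : ℂ)) * conj (∑ l ∈ K, ((l y : ℂˣ) : ℂ)) =
      ∑ l ∈ K, ∑ l' ∈ K, ((l y : ℂˣ) : ℂ) * conj ((l' y : ℂˣ) : ℂ) := by
    intro y
    rw [map_sum, Finset.sum_mul_sum]
  rw [Finset.sum_congr rfl (fun y _ => e y), Finset.sum_comm]
  have e2 : ∀ l ∈ K, ∑ y : H, ∑ l' ∈ K, ((l y : ℂˣ) : ℂ) * conj ((l' y : ℂˣ) : ℂ) =
      (Fintype.card H : ℂ) := by
    intro l hl
    rw [Finset.sum_comm]
    rw [Finset.sum_congr rfl (fun l' _ => br_l6_orth l l')]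
    rw [Finset.sum_ite_eq K l]
    rw [if_pos hl]
  rw [Finset.sum_congr rfl e2, Finset.sum_const, nsmul_eq_mul, mul_comm]

open Classical in
/-- **the centralizers of the elements of `H` other than `1` and `z` have order `f`**: summing
`|C_G(y)| = ∑ |χ(y)|²` over `y ∈ H ∖ {1}` gives `f (f + t - 2)`, while `|C_G(z)| = t f` and every
`|C_G(y)| ≥ f`. -/
theorem br_l6_card_centralizer_H [Fintype G] [Fintype (Cfsg.IrrCharacter G)]
    (t f : ℕ) (H : Subgroup G) (hHcomm : ∀ a ∈ H, ∀ b ∈ H, a * b = b * a)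
    (hHcard : Nat.card H = f) (z : G) (hzH : z ∈ H) (hz1 : z ≠ 1)
    (hCz : Nat.card (Subgroup.centralizer ({z} : Set G)) = t * f)
    (kind : Cfsg.IrrCharacter G → Fin 5) (zz : Cfsg.IrrCharacter G → ℕ)
    (K : Cfsg.IrrCharacter G → Finset (↥H →* ℂˣ))
    (h0card : (Finset.univ.filter (fun χ => kind χ = 0)).card = 1)
    (h0 : ∀ χ : Cfsg.IrrCharacter G, kind χ = 0 → ∀ y : ↥H, y ≠ 1 → (χ : G → ℂ) (y : G) = 1)
    (h1card : (Finset.univ.filter (fun χ => kind χ = 1)).card * t + 2 = f)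
    (h1K : ∀ χ : Cfsg.IrrCharacter G, kind χ = 1 → (K χ).card = t)
    (h1 : ∀ χ : Cfsg.IrrCharacter G, kind χ = 1 → ∀ y : ↥H, y ≠ 1 →
      (χ : G → ℂ) (y : G) = ∑ l ∈ K χ, ((l y : ℂˣ) : ℂ))
    (h2 : ∀ χ : Cfsg.IrrCharacter G, kind χ = 2 → ∀ y : ↥H, y ≠ 1 → (χ : G → ℂ) (y : G) = 0)
    (h3card : (Finset.univ.filter (fun χ => kind χ = 3)).card = t)
    (h3 : ∀ χ : Cfsg.IrrCharacter G, kind χ = 3 → ∀ y : ↥H, y ≠ 1 →
      (χ : G → ℂ) (y : G) * conj ((χ : G → ℂ) (y : G)) = 1)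
    (h4 : ∀ χ : Cfsg.IrrCharacter G, kind χ = 4 → ∀ y : ↥H, y ≠ 1 →
      (χ : G → ℂ) (y : G) = zz χ)
    (h4sum : ∑ χ ∈ Finset.univ.filter (fun χ => kind χ = 4), (zz χ) ^ 2 + 1 = t)
    (y : G) (hyH : y ∈ H) (hy1 : y ≠ 1) (hyz : y ≠ z) :
    Nat.card (Subgroup.centralizer ({y} : Set G)) = f := by
  have hfc : Fintype.card ↥H = f := by rw [← Nat.card_eq_fintype_card, hHcard]
  -- `g χ y := ∑_{l ∈ K χ} l y`
  set a := (Finset.univ.filter (fun χ : Cfsg.IrrCharacter G => kind χ = 1)).card with ha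
  -- (1) the order of `C_G(y)` for `y ∈ H ∖ {1}`
  have hC : ∀ y : ↥H, y ≠ 1 →
      (Nat.card (Subgroup.centralizer ({(y : G)} : Set G)) : ℂ) =
        2 * (t : ℂ) + ∑ χ ∈ Finset.univ.filter (fun χ => kind χ = 1),
          (∑ l ∈ K χ, ((l y : ℂˣ) : ℂ)) * conj (∑ l ∈ K χ, ((l y : ℂˣ) : ℂ)) := by
    intro y hy
    have key := column_orthogonality_aux (y : G) (y : G)
    rw [if_pos (IsConj.refl _), br_l6_sum_kind kind] at key
    have s0 : ∑ χ ∈ Finset.univ.filter (fun χ => kind χ = 0),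
        (χ : G → ℂ) (y : G) * conj ((χ : G → ℂ) (y : G)) = 1 := by
      rw [Finset.sum_congr rfl (g := fun _ => (1 : ℂ))]
      · rw [Finset.sum_const, h0card, one_smul]
      · intro χ hχ
        rw [Finset.mem_filter] at hχ
        rw [h0 χ hχ.2 y hy, map_one, one_mul]
    have s1 : ∑ χ ∈ Finset.univ.filter (fun χ => kind χ = 1),
        (χ : G → ℂ) (y : G) * conj ((χ : G → ℂ) (y : G)) =
        ∑ χ ∈ Finset.univ.filter (fun χ => kind χ = 1),
          (∑ l ∈ K χ, ((l y : ℂˣ) : ℂ)) * conj (∑ l ∈ K χ, ((l y : ℂˣ) : ℂ)) := by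
      apply Finset.sum_congr rfl
      intro χ hχ
      rw [Finset.mem_filter] at hχ
      rw [h1 χ hχ.2 y hy]
    have s2 : ∑ χ ∈ Finset.univ.filter (fun χ => kind χ = 2),
        (χ : G → ℂ) (y : G) * conj ((χ : G → ℂ) (y : G)) = 0 := by
      apply Finset.sum_eq_zero
      intro χ hχ
      rw [Finset.mem_filter] at hχ
      rw [h2 χ hχ.2 y hy]; simp
    have s3 : ∑ χ ∈ Finset.univ.filter (fun χ => kind χ = 3),
        (χ : G → ℂ) (y : G) * conj ((χ : G → ℂ) (y : G)) = (t : ℂ) := by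
      rw [Finset.sum_congr rfl (g := fun _ => (1 : ℂ))]
      · rw [Finset.sum_const, h3card, nsmul_eq_mul, mul_one]
      · intro χ hχ
        rw [Finset.mem_filter] at hχ
        exact h3 χ hχ.2 y hy
    have s4 : ∑ χ ∈ Finset.univ.filter (fun χ => kind χ = 4),
        (χ : G → ℂ) (y : G) * conj ((χ : G → ℂ) (y : G)) = (t : ℂ) - 1 := by
      rw [Finset.sum_congr rfl
        (g := fun χ : Cfsg.IrrCharacter G => (((zz χ) ^ 2 : ℕ) : ℂ))]
      · rw [← Nat.cast_sum, ← h4sum]; push_cast; ring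
      · intro χ hχ
        rw [Finset.mem_filter] at hχ
        rw [h4 χ hχ.2 y hy, Complex.conj_natCast]; push_cast; ring
    rw [s0, s1, s2, s3, s4] at key
    rw [← key]; ring
  -- (2) the sum over `H` of the kind-`1` part
  have hsumK : ∑ y : ↥H, ∑ χ ∈ Finset.univ.filter (fun χ => kind χ = 1),
      (∑ l ∈ K χ, ((l y : ℂˣ) : ℂ)) * conj (∑ l ∈ K χ, ((l y : ℂˣ) : ℂ)) =
      (a : ℂ) * ((f : ℂ) * t) := by
    rw [Finset.sum_comm]
    rw [Finset.sum_congr rfl (g := fun _ => (f : ℂ) * t)]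
    · rw [Finset.sum_const, nsmul_eq_mul]
    · intro χ hχ
      rw [Finset.mem_filter] at hχ
      rw [br_l6_sum_normSq, hfc, h1K χ hχ.2]
  -- the value at `1`
  have hone : ∑ χ ∈ Finset.univ.filter (fun χ => kind χ = 1),
      (∑ l ∈ K χ, ((l (1 : ↥H) : ℂˣ) : ℂ)) * conj (∑ l ∈ K χ, ((l (1 : ↥H) : ℂˣ) : ℂ)) =
      (a : ℂ) * ((t : ℂ) * t) := by
    rw [Finset.sum_congr rfl (g := fun _ => (t : ℂ) * t)]
    · rw [Finset.sum_const, nsmul_eq_mul]
    · intro χ hχ
      rw [Finset.mem_filter] at hχ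
      have : ∑ l ∈ K χ, ((l (1 : ↥H) : ℂˣ) : ℂ) = (t : ℂ) := by
        rw [Finset.sum_congr rfl (g := fun _ => (1 : ℂ))]
        · rw [Finset.sum_const, h1K χ hχ.2, nsmul_eq_mul, mul_one]
        · intro l _
          rw [map_one, Units.val_one]
      rw [this, Complex.conj_natCast]
  -- (3) the sum of the centralizer orders over `H ∖ {1}`
  have hat : (a : ℂ) * t = (f : ℂ) - 2 := by
    rw [← h1card]; push_cast; ring
  have hsum1 : ((∑ y ∈ (Finset.univ : Finset ↥H).erase 1,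
      Nat.card (Subgroup.centralizer ({(y : G)} : Set G)) : ℕ) : ℂ) + 2 * f =
      (f : ℂ) * ((f : ℂ) + t) := by
    rw [Nat.cast_sum]
    rw [Finset.sum_congr rfl (fun y hy => hC y (Finset.ne_of_mem_erase hy))]
    rw [Finset.sum_add_distrib, Finset.sum_const, Finset.card_erase_of_mem (Finset.mem_univ _),
      Finset.card_univ, hfc]
    have hsplit := Finset.add_sum_erase (Finset.univ : Finset ↥H)
      (fun y => ∑ χ ∈ Finset.univ.filter (fun χ => kind χ = 1),
        (∑ l ∈ K χ, ((l y : ℂˣ) : ℂ)) * conj (∑ l ∈ K χ, ((l y : ℂˣ) : ℂ)))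
      (Finset.mem_univ (1 : ↥H))
    rw [hsumK] at hsplit
    have hf1 : 1 ≤ f := by
      rw [← hfc]; exact Fintype.card_pos
    have hrest : ∑ y ∈ (Finset.univ : Finset ↥H).erase 1,
        ∑ χ ∈ Finset.univ.filter (fun χ => kind χ = 1),
        (∑ l ∈ K χ, ((l y : ℂˣ) : ℂ)) * conj (∑ l ∈ K χ, ((l y : ℂˣ) : ℂ)) =
        (a : ℂ) * ((f : ℂ) * t) - (a : ℂ) * ((t : ℂ) * t) := by
      rw [← hsplit, hone]; ring
    rw [hrest, nsmul_eq_mul, Nat.cast_sub hf1]
    push_cast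
    linear_combination ((f : ℂ) - t) * hat
  have hsum1' : ∑ y ∈ (Finset.univ : Finset ↥H).erase 1,
      Nat.card (Subgroup.centralizer ({(y : G)} : Set G)) + 2 * f = f * (f + t) := by
    exact_mod_cast hsum1
  -- (4) split off `z`
  set zH : ↥H := ⟨z, hzH⟩ with hzHdef
  have hzH1 : zH ≠ 1 := by
    intro h
    apply hz1
    have := congrArg Subtype.val h
    exact this
  have hzmem : zH ∈ (Finset.univ : Finset ↥H).erase 1 :=
    Finset.mem_erase.mpr ⟨hzH1, Finset.mem_univ _⟩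
  have hsplit2 := Finset.add_sum_erase ((Finset.univ : Finset ↥H).erase 1)
    (fun y : ↥H => Nat.card (Subgroup.centralizer ({(y : G)} : Set G))) hzmem
  have hzval : Nat.card (Subgroup.centralizer ({(zH : G)} : Set G)) = t * f := hCz
  rw [hzval] at hsplit2
  set S := ((Finset.univ : Finset ↥H).erase 1).erase zH with hS
  have hScard : S.card + 2 = f := by
    rw [hS, Finset.card_erase_of_mem hzmem, Finset.card_erase_of_mem (Finset.mem_univ _),
      Finset.card_univ, hfc]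
    have : 2 ≤ f := by
      rw [← hfc]
      have := Finset.card_le_card (Finset.subset_univ ({1, zH} : Finset ↥H))
      rw [Finset.card_pair hzH1.symm, Finset.card_univ] at this
      exact this
    omega
  -- every centralizer contains `H`
  have hge : ∀ y : ↥H, f ≤ Nat.card (Subgroup.centralizer ({(y : G)} : Set G)) := by
    intro y
    rw [← hHcard]
    apply Subgroup.card_le_of_le
    intro h hh
    rw [Subgroup.mem_centralizer_iff]
    intro x hx
    rw [Set.mem_singleton_iff] at hx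
    rw [hx]
    exact hHcomm _ y.2 _ hh
  have hsumS : ∑ y ∈ S, Nat.card (Subgroup.centralizer ({(y : G)} : Set G)) = ∑ _y ∈ S, f := by
    rw [Finset.sum_const, smul_eq_mul]
    have : S.card * f + 2 * f = f * f := by rw [← add_mul, hScard]
    nlinarith [hsplit2, hsum1']
  have hall := (Finset.sum_eq_sum_iff_of_le (s := S) (f := fun _ => f)
    (g := fun y : ↥H => Nat.card (Subgroup.centralizer ({(y : G)} : Set G)))
    (fun y _ => hge y)).mp hsumS.symm
  have hymem : (⟨y, hyH⟩ : ↥H) ∈ S := by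
    rw [hS, Finset.mem_erase, Finset.mem_erase]
    refine ⟨?_, ?_, Finset.mem_univ _⟩
    · intro h
      exact hyz (congrArg Subtype.val h)
    · intro h
      exact hy1 (congrArg Subtype.val h)
  exact (hall _ hymem).symm

end Cfsg.Agent.BR
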