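import Mathlib
import Cfsg.Prelude.Def_Characters
import Cfsg.Agent.Helper6.IndFun
import Cfsg.Agent.BR.MackeyLin

/-!
# Brauer–Reynolds track, L6: the parity lemma

`N` a subgroup, `P ≤ N` normal in `N` of odd order with `N / P` cyclic, `l` a linear character of
`N` trivial on `P`, `z ∈ N` an involution.  All involutions of `N` have the same image in `N / P`,
so `Ind_N^G l (z) = l(z) · Ind_N^G 1 (z)` and `Ind_N^G 1 (z) ≠ 0`: two such `l` with the same induced
character agree at `z` (`br_l6_parity`).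
-/

set_option autoImplicit false
set_option linter.unusedSectionVars false
set_option linter.style.haveILetI false

namespace Cfsg.Agent.BR

open Cfsg.Agent.Helper6
open scoped ComplexConjugate

universe u

variable {G : Type u} [Group G]

/-- a finite cyclic group has at most one element of order two -/
theorem br_l6_invol_unique {C : Type*} [Group C] [Finite C] [IsCyclic C] (a b : C)
    (ha : a * a = 1) (ha1 : a ≠ 1) (hb : b * b = 1) (hb1 : b ≠ 1) : a = b := by
  classical
  haveI := Fintype.ofFinite C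
  by_contra hab
  have hle := IsCyclic.card_pow_eq_one_le (α := C) (n := 2) (by norm_num)
  have hsub : ({1, a, b} : Finset C) ⊆ Finset.univ.filter (fun x : C => x ^ 2 = 1) := by
    intro x hx
    rw [Finset.mem_insert, Finset.mem_insert, Finset.mem_singleton] at hx
    rw [Finset.mem_filter]
    refine ⟨Finset.mem_univ _, ?_⟩
    rcases hx with rfl | rfl | rfl
    · exact one_pow 2
    · rw [pow_two]; exact ha
    · rw [pow_two]; exact hb
  have hcard : ({1, a, b} : Finset C).card = 3 := by
    rw [Finset.card_insert_of_notMem, Finset.card_insert_of_notMem, Finset.card_singleton]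
    · rw [Finset.mem_singleton]; exact hab
    · rw [Finset.mem_insert, Finset.mem_singleton]
      rintro (h | h)
      · exact ha1 h.symm
      · exact hb1 h.symm
  have := Finset.card_le_card hsub
  omega

/-- an involution of `N` outside the odd-order normal subgroup `P` with cyclic quotient: all
linear characters trivial on `P` take the same value on all such involutions -/
theorem br_l6_lin_invol [Finite G] (N P : Subgroup G) [hn : (P.subgroupOf N).Normal]
    [hcyc : IsCyclic (N ⧸ P.subgroupOf N)] (hodd : Odd (Nat.card P))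
    (l : N →* ℂˣ) (hl : P.subgroupOf N ≤ l.ker) (z u : N) (hz : z * z = 1) (hz1 : z ≠ 1)
    (hu : u * u = 1) (hu1 : u ≠ 1) : l u = l z := by
  have hnotP : ∀ v : N, v * v = 1 → v ≠ 1 → v ∉ P.subgroupOf N := by
    intro v hv hv1 hvP
    rw [Subgroup.mem_subgroupOf] at hvP
    have h1 : orderOf (v : G) ∣ Nat.card P := by
      have := orderOf_dvd_natCard (⟨(v : G), hvP⟩ : P)
      rwa [Subgroup.orderOf_mk] at this
    have h2 : orderOf (v : G) ∣ 2 := by
      apply orderOf_dvd_of_pow_eq_one
      rw [pow_two]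
      exact congrArg Subtype.val hv
    have h3 : orderOf (v : G) ∣ Nat.gcd (Nat.card P) 2 := Nat.dvd_gcd h1 h2
    have h4 : Nat.gcd (Nat.card P) 2 = 1 := by
      rw [Nat.coprime_comm.mp (Nat.coprime_two_left.mpr hodd)]
    rw [h4, Nat.dvd_one, orderOf_eq_one_iff] at h3
    exact hv1 (Subtype.ext h3)
  have hq : ∀ v : N, v * v = 1 → v ≠ 1 →
      (QuotientGroup.mk v : N ⧸ P.subgroupOf N) * QuotientGroup.mk v = 1 ∧
      (QuotientGroup.mk v : N ⧸ P.subgroupOf N) ≠ 1 := by
    intro v hv hv1
    refine ⟨?_, ?_⟩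
    · rw [← QuotientGroup.mk_mul, hv, QuotientGroup.mk_one]
    · intro h
      rw [QuotientGroup.eq_one_iff] at h
      exact hnotP v hv hv1 h
  haveI : Finite (N ⧸ P.subgroupOf N) := inferInstance
  have heq := br_l6_invol_unique _ _ (hq u hu hu1).1 (hq u hu hu1).2 (hq z hz hz1).1 (hq z hz hz1).2
  rw [QuotientGroup.eq] at heq
  have hk := hl heq
  rw [MonoidHom.mem_ker, map_mul, map_inv] at hk
  rw [inv_mul_eq_one] at hk
  exact hk

/-- the value of an induced linear character at an involution of `N` -/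
theorem br_l6_ind_invol [Fintype G] (N P : Subgroup G) [hn : (P.subgroupOf N).Normal]
    [hcyc : IsCyclic (N ⧸ P.subgroupOf N)] (hodd : Odd (Nat.card P))
    (l : N →* ℂˣ) (hl : P.subgroupOf N ≤ l.ker) (z : G) (hzN : z ∈ N) (hz : z * z = 1)
    (hz1 : z ≠ 1) :
    Cfsg.indFun N (br_mky_fn N l) z =
      ((l ⟨z, hzN⟩ : ℂˣ) : ℂ) * Cfsg.indFun N (br_mky_fn N 1) z := by
  rw [indFun_apply, indFun_apply, mul_left_comm]
  congr 1
  rw [Finset.mul_sum]
  apply Finset.sum_congr rfl
  intro x _
  by_cases hx : x⁻¹ * z * x ∈ N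
  · rw [extendByZero_mem N _ hx, extendByZero_mem N _ hx, br_mky_fn_apply, br_mky_fn_apply,
      MonoidHom.one_apply, Units.val_one, mul_one]
    have hu : (⟨x⁻¹ * z * x, hx⟩ : N) * ⟨x⁻¹ * z * x, hx⟩ = 1 := by
      apply Subtype.ext
      show x⁻¹ * z * x * (x⁻¹ * z * x) = 1
      calc x⁻¹ * z * x * (x⁻¹ * z * x) = x⁻¹ * (z * z) * x := by group
        _ = 1 := by rw [hz]; group
    have hu1 : (⟨x⁻¹ * z * x, hx⟩ : N) ≠ 1 := by
      intro h
      have h' : x⁻¹ * z * x = 1 := congrArg Subtype.val h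
      apply hz1
      calc z = x * (x⁻¹ * z * x) * x⁻¹ := by group
        _ = 1 := by rw [h']; group
    have hzz : (⟨z, hzN⟩ : N) * ⟨z, hzN⟩ = 1 := Subtype.ext hz
    have hzz1 : (⟨z, hzN⟩ : N) ≠ 1 := fun h => hz1 (congrArg Subtype.val h)
    rw [br_l6_lin_invol N P hodd l hl ⟨z, hzN⟩ ⟨x⁻¹ * z * x, hx⟩ hzz hzz1 hu hu1]
  · rw [extendByZero_not_mem N _ hx, extendByZero_not_mem N _ hx, mul_zero]

/-- the permutation character does not vanish on `N` -/
theorem br_l6_ind_one_ne_zero [Fintype G] (N : Subgroup G) (z : G) (hzN : z ∈ N) :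
    Cfsg.indFun N (br_mky_fn N 1) z ≠ 0 := by
  classical
  rw [indFun_apply]
  have hN0 : (Nat.card N : ℂ) ≠ 0 := by
    have : 0 < Nat.card N := Nat.card_pos
    exact_mod_cast this.ne'
  apply mul_ne_zero (inv_ne_zero hN0)
  have e : ∀ x : G, Cfsg.extendByZero N (br_mky_fn N 1) (x⁻¹ * z * x) =
      if x⁻¹ * z * x ∈ N then (1 : ℂ) else 0 := by
    intro x
    by_cases hx : x⁻¹ * z * x ∈ N
    · rw [if_pos hx, extendByZero_mem N _ hx, br_mky_fn_apply, MonoidHom.one_apply, Units.val_one]
    · rw [if_neg hx, extendByZero_not_mem N _ hx]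
  rw [Finset.sum_congr rfl (fun x _ => e x), Finset.sum_boole]
  have hpos : 0 < (Finset.univ.filter (fun x : G => x⁻¹ * z * x ∈ N)).card := by
    apply Finset.card_pos.mpr
    refine ⟨1, ?_⟩
    rw [Finset.mem_filter]
    refine ⟨Finset.mem_univ _, ?_⟩
    rw [inv_one, one_mul, mul_one]
    exact hzN
  exact_mod_cast hpos.ne'

/-- **parity**: two linear characters of `N` trivial on `P` with the same induced character agree
on the involutions of `N` -/
theorem br_l6_parity [Fintype G] (N P : Subgroup G) [hn : (P.subgroupOf N).Normal]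
    [hcyc : IsCyclic (N ⧸ P.subgroupOf N)] (hodd : Odd (Nat.card P))
    (l l' : N →* ℂˣ) (hl : P.subgroupOf N ≤ l.ker) (hl' : P.subgroupOf N ≤ l'.ker)
    (hind : Cfsg.indFun N (br_mky_fn N l) = Cfsg.indFun N (br_mky_fn N l'))
    (z : G) (hzN : z ∈ N) (hz : z * z = 1) (hz1 : z ≠ 1) :
    l ⟨z, hzN⟩ = l' ⟨z, hzN⟩ := by
  have h1 := br_l6_ind_invol N P hodd l hl z hzN hz hz1
  have h2 := br_l6_ind_invol N P hodd l' hl' z hzN hz hz1
  rw [hind, h2] at h1
  have h3 := mul_right_cancel₀ (br_l6_ind_one_ne_zero N z hzN) h1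
  exact Units.ext h3.symm

end Cfsg.Agent.BR
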