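import Cfsg.Agent.BR.LSixM
import Cfsg.Agent.BR.LSixP
import Cfsg.Agent.BR.SetupA
import Cfsg.Agent.BR.Dbl
import Cfsg.Agent.BR.DblGram

/-!
# Brauer–Reynolds track, L6 in the concrete convention

`ι := ↥(br_setup_A p P)`, `l₀ := 1`, `Θ l := br_dg_theta N l`,
`lam l h := extendByZero N (br_mky_fn N l) h`, `N := N_G(P)`, `f := |N : P|`.
From the bundle `br_vl_Hyp` in this convention, the output `br_dbl_S Θ Y = {k₀}`, `ε = -1` of 5a
(`br_dbl_even`) and `f` even, `f ≥ 4`: `|Y| ≤ 2` (`br_l6_concrete`).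
-/

set_option autoImplicit false
set_option linter.unusedSectionVars false
set_option linter.style.haveILetI false

namespace Cfsg.Agent.BR

open Cfsg Cfsg.Agent.Helper6 Finset
open scoped ComplexConjugate

universe u

variable {G : Type u} [Group G] [Fintype G]

/-- **L6, concrete form.** -/
theorem br_l6_concrete [Fintype (IrrCharacter G)] (p : ℕ) [Fact p.Prime] (P : Sylow p G)
    [Fintype ↥(P : Subgroup G)] [Fintype ↥(br_setup_A p P)]
    (hP : Nat.card P = p)
    (hC : Subgroup.centralizer ((P : Subgroup G) : Set G) ≤ (P : Subgroup G))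
    {n : ℕ} {X Y : Finset (IrrCharacter G)} {dl : IrrCharacter G → ℤ} {ε : ℤ}
    (H : br_vl_Hyp p (P : Subgroup G) (Subgroup.normalizer ((P : Subgroup G) : Set G))
      ((P : Subgroup G).relIndex (Subgroup.normalizer ((P : Subgroup G) : Set G))) n X Y dl ε
      (fun l : ↥(br_setup_A p P) =>
        br_dg_theta (Subgroup.normalizer ((P : Subgroup G) : Set G)) (l : _ →* ℂˣ)) 1
      (fun (l : ↥(br_setup_A p P)) (h : G) =>
        Cfsg.extendByZero (Subgroup.normalizer ((P : Subgroup G) : Set G))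
          (br_mky_fn (Subgroup.normalizer ((P : Subgroup G) : Set G)) (l : _ →* ℂˣ)) h))
    (hn : Nat.card (Sylow p G) = 1 + n * p)
    (he : ε = -1) (k₀ : ↥(br_setup_A p P))
    (hS : br_dbl_S (fun l : ↥(br_setup_A p P) =>
        br_dg_theta (Subgroup.normalizer ((P : Subgroup G) : Set G)) (l : _ →* ℂˣ)) Y = {k₀})
    (heven : Even ((P : Subgroup G).relIndex (Subgroup.normalizer ((P : Subgroup G) : Set G))))
    (hf4 : 4 ≤ (P : Subgroup G).relIndex (Subgroup.normalizer ((P : Subgroup G) : Set G))) :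
    Y.card ≤ 2 := by
  classical
  have hprime : p.Prime := Fact.out
  -- the group order
  have hG : Nat.card G = p * (P : Subgroup G).relIndex
      (Subgroup.normalizer ((P : Subgroup G) : Set G)) * (1 + n * p) := by
    rw [br_setup_card_G p P hP, hn]
  -- `k₀`
  have hk₀mem := (br_dbl_mem_S _ Y k₀).mp (by rw [hS]; exact Finset.mem_singleton_self k₀)
  have hS' : ∀ l : ↥(br_setup_A p P), l ≠ 1 →
      (br_dg_theta (Subgroup.normalizer ((P : Subgroup G) : Set G)) (l : _ →* ℂˣ) =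
        ∑ ψ ∈ Y, (ψ : G → ℂ) ↔ l = k₀) := by
    intro l hl
    constructor
    · intro h
      have : l ∈ br_dbl_S (fun l : ↥(br_setup_A p P) =>
          br_dg_theta (Subgroup.normalizer ((P : Subgroup G) : Set G)) (l : _ →* ℂˣ)) Y :=
        (br_dbl_mem_S _ Y l).mpr ⟨hl, h⟩
      rw [hS] at this
      exact Finset.mem_singleton.mp this
    · rintro rfl
      exact hk₀mem.2
  -- a complement
  obtain ⟨Hc, hHc⟩ := br_setup_exists_compl p P hP
  have hcyc : IsCyclic Hc := br_setup_compl_isCyclic p P hP hC Hc hHc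
  have hHcP : ∀ h ∈ Hc, h ∈ (P : Subgroup G) → h = 1 := by
    intro h hh hhP
    have : h ∈ Hc ⊓ (P : Subgroup G) := ⟨hh, hhP⟩
    rw [hHc.2.2] at this
    exact Subgroup.mem_bot.mp this
  have hHccomm : ∀ a ∈ Hc, ∀ b ∈ Hc, a * b = b * a := by
    intro a ha b hb
    obtain ⟨g, hg⟩ := hcyc.exists_generator
    obtain ⟨i, hi⟩ := Subgroup.mem_zpowers_iff.mp (hg ⟨a, ha⟩)
    obtain ⟨j, hj⟩ := Subgroup.mem_zpowers_iff.mp (hg ⟨b, hb⟩)
    have h1 : (⟨a, ha⟩ : Hc) * ⟨b, hb⟩ = ⟨b, hb⟩ * ⟨a, ha⟩ := by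
      rw [← hi, ← hj]
      exact ((Commute.refl g).zpow_zpow i j).eq
    exact congrArg Subtype.val h1
  -- the involution
  have h2dvd : 2 ∣ Nat.card Hc := by
    rw [hHc.2.1]
    exact even_iff_two_dvd.mp heven
  haveI : Fact (Nat.Prime 2) := ⟨Nat.prime_two⟩
  obtain ⟨zH, hzH⟩ := exists_prime_orderOf_dvd_card' 2 h2dvd
  have hzz : (zH : G) * (zH : G) = 1 := by
    have : zH ^ 2 = 1 := by rw [← hzH]; exact pow_orderOf_eq_one zH
    rw [pow_two] at this
    exact congrArg Subtype.val this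
  have hz1 : (zH : G) ≠ 1 := by
    intro h
    have : zH = 1 := Subtype.ext h
    rw [this, orderOf_one] at hzH
    omega
  -- `p` is odd
  have hfdvd := br_setup_f_dvd p P hP hC
  have hodd : Odd (Nat.card (P : Subgroup G)) := by
    have hP' : Nat.card (P : Subgroup G) = p := hP
    rw [hP']
    rcases hprime.eq_two_or_odd' with h | h
    · exfalso
      have hle : (P : Subgroup G).relIndex (Subgroup.normalizer ((P : Subgroup G) : Set G)) ≤
          p - 1 := Nat.le_of_dvd (by omega) hfdvd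
      omega
    · exact h
  haveI hcq : IsCyclic (↥(Subgroup.normalizer ((P : Subgroup G) : Set G)) ⧸
      (P : Subgroup G).subgroupOf (Subgroup.normalizer ((P : Subgroup G) : Set G))) :=
    br_setup_isCyclic_quot p P hP hC
  -- the restrictions to `Hc`
  have hlam : ∀ (l : ↥(br_setup_A p P)) (h : G)
      (hh : h ∈ Subgroup.normalizer ((P : Subgroup G) : Set G)),
      Cfsg.extendByZero (Subgroup.normalizer ((P : Subgroup G) : Set G))
        (br_mky_fn (Subgroup.normalizer ((P : Subgroup G) : Set G)) (l : _ →* ℂˣ)) h =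
      (((l : ↥(Subgroup.normalizer ((P : Subgroup G) : Set G)) →* ℂˣ) ⟨h, hh⟩ : ℂˣ) : ℂ) := by
    intro l h hh
    rw [extendByZero_mem _ _ hh, br_mky_fn_apply]
  refine br_l6_main H he hG k₀ hk₀mem.1 hS' Hc hHc.1 hHcP hHc.2.1 hHccomm
    (fun l => (l : _ →* ℂˣ).comp (Subgroup.inclusion hHc.1)) ?_ ?_ (zH : G) zH.2 hzz hz1 ?_
    (by omega)
  · intro l h
    exact hlam l (h : G) (hHc.1 h.2)
  · intro l l' hll
    apply Subtype.ext
    apply br_setup_A_ext_compl p P Hc hHc _ _ l.2 l'.2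
    intro m hm
    exact DFunLike.congr_fun hll ⟨m, hm⟩
  · intro l l' hΘ
    have hzN : (zH : G) ∈ Subgroup.normalizer ((P : Subgroup G) : Set G) := hHc.1 zH.2
    show Cfsg.extendByZero _ _ _ = Cfsg.extendByZero _ _ _
    rw [hlam l _ hzN, hlam l' _ hzN]
    have hl : (P : Subgroup G).subgroupOf (Subgroup.normalizer ((P : Subgroup G) : Set G)) ≤
        (l : ↥(Subgroup.normalizer ((P : Subgroup G) : Set G)) →* ℂˣ).ker :=
      (br_setup_mem_A p P _).mp l.2
    have hl' : (P : Subgroup G).subgroupOf (Subgroup.normalizer ((P : Subgroup G) : Set G)) ≤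
        (l' : ↥(Subgroup.normalizer ((P : Subgroup G) : Set G)) →* ℂˣ).ker :=
      (br_setup_mem_A p P _).mp l'.2
    have := br_l6_parity (Subgroup.normalizer ((P : Subgroup G) : Set G)) (P : Subgroup G) hodd
      (l : ↥(Subgroup.normalizer ((P : Subgroup G) : Set G)) →* ℂˣ)
      (l' : ↥(Subgroup.normalizer ((P : Subgroup G) : Set G)) →* ℂˣ) hl hl' hΘ (zH : G) hzN hzz hz1
    rw [this]

end Cfsg.Agent.BR
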