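import Cfsg.Agent.BR.Vals
import Cfsg.Agent.BR.LSix

/-!
# Brauer–Reynolds track, L6 over the bundle `br_vl_Hyp` of `BR/Vals`

* `br_l6_sum_lam` : `∑ l, lam l h = 0` for `h ∈ N ∖ P` (from (F2) and column orthogonality);
* `br_l6_kind` : the classification of the irreducible characters (trivial, `δ = +`, `δ = -`,
  exceptional, defect zero) used by the core `br_l6_core` of `BR/LSix`;
* `br_l6_main` : `ε = -1`, exactly one `k₀ ≠ l₀` with `Θ k₀ = ∑_Y ψ` (5a), `Hc` an abelian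
  complement of order `f ≥ 3` on which the `lam l` are distinct linear characters, `z ∈ Hc` an
  involution at which `lam l` only depends on `Θ l` (parity, `BR/LSixP`): then `|Y| ≤ 2`.
-/

set_option autoImplicit false
set_option linter.unusedSectionVars false
set_option linter.style.haveILetI false

namespace Cfsg.Agent.BR

open Cfsg Cfsg.Agent.Helper6 Finset
open scoped ComplexConjugate

universe u v

variable {G : Type u} [Group G] [Fintype G]

variable {p : ℕ} {P N : Subgroup G} [Fintype P] {f n : ℕ} {X Y : Finset (IrrCharacter G)}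
  {dl : IrrCharacter G → ℤ} {ε : ℤ} {ι : Type v} [Fintype ι] {Θ : ι → G → ℂ} {l₀ : ι}
  {lam : ι → G → ℂ}

/-- the linear characters of `N / P` sum to zero at every element of `N ∖ P` (from (F2) and the
orthogonality of the column of `h` with the column of `1`) -/
theorem br_l6_sum_lam [Fintype (IrrCharacter G)] (H : br_vl_Hyp p P N f n X Y dl ε Θ l₀ lam)
    (h : G) (hN : h ∈ N) (hP : h ∉ P) : ∑ l, lam l h = 0 := by
  classical
  have hh1 : h ≠ 1 := fun e => hP (e ▸ P.one_mem)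
  have hcol := column_orthogonality_aux h 1
  rw [if_neg (by
    intro hc
    rw [isConj_comm, isConj_one_right] at hc
    exact hh1 hc)] at hcol
  have hdeg : ∀ χ : IrrCharacter G, conj ((χ : G → ℂ) 1) = (χ : G → ℂ) 1 := by
    intro χ
    rw [← charDegree_cast_of_isCharacter (IsIrrCharacter.isCharacter χ.2), Complex.conj_natCast]
  have hΘ1 : ∀ l, ∑ χ : IrrCharacter G, classInner (Θ l) (χ : G → ℂ) * (χ : G → ℂ) 1 =
      ((1 + n * p : ℕ) : ℂ) := by
    intro l
    have hexp := classFunction_expansion (Θ l) (IsCharacter.isClassFunction (H.nd.Θ_char l))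
    have h1 := congrFun hexp 1
    rw [H.nd.Θ_one l] at h1
    simp only [Finset.sum_apply, Pi.smul_apply, smul_eq_mul] at h1
    exact h1.symm
  have key : ∑ χ : IrrCharacter G, (χ : G → ℂ) h * conj ((χ : G → ℂ) 1) =
      ((1 + n * p : ℕ) : ℂ) * ∑ l, lam l h := by
    have e1 : ∀ χ : IrrCharacter G, (χ : G → ℂ) h * conj ((χ : G → ℂ) 1) =
        ∑ l, lam l h * (classInner (Θ l) (χ : G → ℂ) * (χ : G → ℂ) 1) := by
      intro χ
      rw [hdeg χ, H.F2 χ h hN hP, Finset.sum_mul]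
      apply Finset.sum_congr rfl
      intro l _
      ring
    rw [Finset.sum_congr rfl (fun χ _ => e1 χ), Finset.sum_comm, Finset.mul_sum]
    apply Finset.sum_congr rfl
    intro l _
    rw [← Finset.mul_sum, hΘ1 l, mul_comm]
  rw [key] at hcol
  have hne : ((1 + n * p : ℕ) : ℂ) ≠ 0 := by
    have : 1 + n * p ≠ 0 := by omega
    exact_mod_cast this
  exact (mul_eq_zero.mp hcol).resolve_left hne

/-- the indices `l` with `Θ l = χ` -/
noncomputable def br_l6_cls (Θ : ι → G → ℂ) (χ : IrrCharacter G) : Finset ι := by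
  classical exact Finset.univ.filter (fun l => Θ l = (χ : G → ℂ))

theorem br_l6_mem_cls (Θ : ι → G → ℂ) (χ : IrrCharacter G) (l : ι) :
    l ∈ br_l6_cls Θ χ ↔ Θ l = (χ : G → ℂ) := by
  classical
  unfold br_l6_cls
  rw [Finset.mem_filter]
  exact ⟨fun h => h.2, fun h => ⟨Finset.mem_univ _, h⟩⟩

/-- the classification of the irreducible characters used by the L6 core -/
noncomputable def br_l6_kind (X Y : Finset (IrrCharacter G)) (dl : IrrCharacter G → ℤ)
    (χ : IrrCharacter G) : Fin 5 := by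
  classical exact
    if χ = trivIrr G then 0 else if χ ∈ X then (if dl χ = 1 then 1 else 2)
    else if χ ∈ Y then 3 else 4

theorem br_l6_kind_zero (X Y : Finset (IrrCharacter G)) (dl : IrrCharacter G → ℤ)
    (χ : IrrCharacter G) : br_l6_kind X Y dl χ = 0 ↔ χ = trivIrr G := by
  classical
  by_cases h1 : χ = trivIrr G <;> by_cases h2 : χ ∈ X <;> by_cases h3 : dl χ = 1 <;>
    by_cases h4 : χ ∈ Y <;> simp [br_l6_kind, h1, h2, h3, h4]

theorem br_l6_kind_one (X Y : Finset (IrrCharacter G)) (dl : IrrCharacter G → ℤ)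
    (χ : IrrCharacter G) :
    br_l6_kind X Y dl χ = 1 ↔ χ ∈ X ∧ χ ≠ trivIrr G ∧ dl χ = 1 := by
  classical
  by_cases h1 : χ = trivIrr G <;> by_cases h2 : χ ∈ X <;> by_cases h3 : dl χ = 1 <;>
    by_cases h4 : χ ∈ Y <;> simp [br_l6_kind, h1, h2, h3, h4]

theorem br_l6_kind_two (X Y : Finset (IrrCharacter G)) (dl : IrrCharacter G → ℤ)
    (χ : IrrCharacter G) :
    br_l6_kind X Y dl χ = 2 ↔ χ ∈ X ∧ χ ≠ trivIrr G ∧ dl χ ≠ 1 := by
  classical
  by_cases h1 : χ = trivIrr G <;> by_cases h2 : χ ∈ X <;> by_cases h3 : dl χ = 1 <;>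
    by_cases h4 : χ ∈ Y <;> simp [br_l6_kind, h1, h2, h3, h4]

theorem br_l6_kind_three (X Y : Finset (IrrCharacter G)) (dl : IrrCharacter G → ℤ)
    (χ : IrrCharacter G) :
    br_l6_kind X Y dl χ = 3 ↔ χ ≠ trivIrr G ∧ χ ∉ X ∧ χ ∈ Y := by
  classical
  by_cases h1 : χ = trivIrr G <;> by_cases h2 : χ ∈ X <;> by_cases h3 : dl χ = 1 <;>
    by_cases h4 : χ ∈ Y <;> simp [br_l6_kind, h1, h2, h3, h4]

theorem br_l6_kind_four (X Y : Finset (IrrCharacter G)) (dl : IrrCharacter G → ℤ)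
    (χ : IrrCharacter G) :
    br_l6_kind X Y dl χ = 4 ↔ χ ≠ trivIrr G ∧ χ ∉ X ∧ χ ∉ Y := by
  classical
  by_cases h1 : χ = trivIrr G <;> by_cases h2 : χ ∈ X <;> by_cases h3 : dl χ = 1 <;>
    by_cases h4 : χ ∈ Y <;> simp [br_l6_kind, h1, h2, h3, h4]

open Classical in
/-- summing over the classes `{l | Θ l = χ}`, `χ` of kind `1`, is summing over `l ≠ l₀, k₀` -/
theorem br_l6_sum_cls [Fintype (IrrCharacter G)] (H : br_vl_Hyp p P N f n X Y dl ε Θ l₀ lam)
    (k₀ : ι) (hk₀ : k₀ ≠ l₀)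
    (hS : ∀ l, l ≠ l₀ → (Θ l = ∑ ψ ∈ Y, (ψ : G → ℂ) ↔ l = k₀)) (g : ι → ℂ) :
    ∑ χ ∈ Finset.univ.filter (fun χ => br_l6_kind X Y dl χ = 1), ∑ l ∈ br_l6_cls Θ χ, g l =
      (∑ l, g l) - g l₀ - g k₀ := by
  have e1 : ∀ χ : IrrCharacter G, ∑ l ∈ br_l6_cls Θ χ, g l =
      ∑ l, if Θ l = (χ : G → ℂ) then g l else 0 := by
    intro χ
    unfold br_l6_cls
    rw [Finset.sum_filter]
  rw [Finset.sum_congr rfl (fun χ _ => e1 χ), Finset.sum_comm]
  have e2 : ∀ l : ι, ∑ χ ∈ Finset.univ.filter (fun χ => br_l6_kind X Y dl χ = 1),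
      (if Θ l = (χ : G → ℂ) then g l else 0) = if (l ≠ l₀ ∧ l ≠ k₀) then g l else 0 := by
    intro l
    by_cases hl0 : l = l₀
    · rw [if_neg (fun h => h.1 hl0)]
      apply Finset.sum_eq_zero
      intro χ hχ
      rw [Finset.mem_filter, br_l6_kind_one] at hχ
      rw [if_neg]
      rw [hl0]
      exact H.nd.perm_ne χ hχ.2.2.1
    · by_cases hlk : l = k₀
      · rw [if_neg (fun h => h.2 hlk)]
        apply Finset.sum_eq_zero
        intro χ hχ
        rw [Finset.mem_filter, br_l6_kind_one] at hχ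
        rw [if_neg]
        intro hΘ
        exact H.nd.node_excl (Θ l) χ hχ.2.1 hΘ ((hS l hl0).mpr hlk)
      · rw [if_pos ⟨hl0, hlk⟩]
        rcases H.nd.node l hl0 with ⟨χ, hχX, hχt, hχd, hΘ⟩ | ⟨-, hΘ⟩
        · rw [Finset.sum_eq_single_of_mem χ
            (Finset.mem_filter.mpr ⟨Finset.mem_univ _, (br_l6_kind_one X Y dl χ).mpr
              ⟨hχX, hχt, hχd⟩⟩), if_pos hΘ]
          intro χ' _ hne
          rw [if_neg]
          intro hΘ'
          exact hne (Subtype.ext (hΘ'.symm.trans hΘ))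
        · exact absurd ((hS l hl0).mp hΘ) hlk
  rw [Finset.sum_congr rfl (fun l _ => e2 l)]
  have e3 : ∀ l : ι, (if (l ≠ l₀ ∧ l ≠ k₀) then g l else 0) =
      g l - (if l = l₀ then g l₀ else 0) - (if l = k₀ then g k₀ else 0) := by
    intro l
    by_cases hl0 : l = l₀
    · have : l ≠ k₀ := fun h => hk₀ (h.symm.trans hl0)
      rw [if_neg (fun h => h.1 hl0), if_pos hl0, if_neg this, hl0]; ring
    · by_cases hlk : l = k₀
      · rw [if_neg (fun h => h.2 hlk), if_neg hl0, if_pos hlk, hlk]; ring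
      · rw [if_pos ⟨hl0, hlk⟩, if_neg hl0, if_neg hlk]; ring
  rw [Finset.sum_congr rfl (fun l _ => e3 l), Finset.sum_sub_distrib, Finset.sum_sub_distrib,
    Finset.sum_ite_eq' Finset.univ l₀, Finset.sum_ite_eq' Finset.univ k₀,
    if_pos (Finset.mem_univ _), if_pos (Finset.mem_univ _)]

open Classical in
/-- **L6** over the bundle of `BR/Vals`: `ε = -1`, the exceptional node is `Θ k₀` for exactly one
`k₀`, `Hc` an abelian complement of order `f ≥ 3` on which the `lam l` are distinct linear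
characters, `z ∈ Hc` an involution on which `lam l` only depends on `Θ l`: then `|Y| ≤ 2`. -/
theorem br_l6_main [Fintype (IrrCharacter G)] (H : br_vl_Hyp p P N f n X Y dl ε Θ l₀ lam)
    (he : ε = -1) (hG : Nat.card G = p * f * (1 + n * p))
    (k₀ : ι) (hk₀ : k₀ ≠ l₀)
    (hS : ∀ l, l ≠ l₀ → (Θ l = ∑ ψ ∈ Y, (ψ : G → ℂ) ↔ l = k₀))
    (Hc : Subgroup G) (hHcN : Hc ≤ N) (hHcP : ∀ h ∈ Hc, h ∈ P → h = 1)
    (hHccard : Nat.card Hc = f) (hHccomm : ∀ a ∈ Hc, ∀ b ∈ Hc, a * b = b * a)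
    (ev : ι → (↥Hc →* ℂˣ)) (hev : ∀ l (h : Hc), lam l (h : G) = ((ev l h : ℂˣ) : ℂ))
    (hevinj : Function.Injective ev)
    (z : G) (hzH : z ∈ Hc) (hz : z * z = 1) (hz1 : z ≠ 1)
    (hpar : ∀ l l', Θ l = Θ l' → lam l z = lam l' z)
    (hf3 : 3 ≤ f) : Y.card ≤ 2 := by
  have hnd := H.nd
  have hprime := hnd.prime
  have htpos : 0 < Y.card := Finset.card_pos.mpr hnd.Y_nonempty
  have hfpos : 0 < f := by omega
  have hp : p = Y.card * f + 1 := by
    have h1 := hnd.card_Y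
    have h2 := hprime.two_le
    omega
  -- `w = 1`
  have hw : br_nd_w Θ l₀ Y = 1 := by
    rw [br_nd_w_eq_card Θ l₀ Y {k₀} (by
      intro l
      rw [Finset.mem_singleton]
      constructor
      · rintro rfl
        exact ⟨hk₀, (hS l hk₀).mpr rfl⟩
      · rintro ⟨h1, h2⟩
        exact (hS l h1).mp h2)]
    exact Finset.card_singleton _
  have hn : Y.card = n + 1 := by
    have := hnd.card_Y_mul_w he
    rw [hw, mul_one] at this
    exact this
  have hfp : f < p := by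
    have : f ≤ Y.card * f := Nat.le_mul_of_pos_left f htpos
    omega
  -- the group order
  have hnp : 1 + n * p = Y.card * (p - f) := by
    have h1 : p - f = n * f + 1 := by
      rw [hp, hn]
      have : (n + 1) * f + 1 = n * f + 1 + f := by ring
      rw [this, Nat.add_sub_cancel]
    rw [h1, hn, hp, hn]
    ring
  have hG' : Nat.card G = p * f * (Y.card * (p - f)) := by rw [hG, hnp]
  -- membership
  have hmemN : ∀ h : Hc, (h : G) ∈ N := fun h => hHcN h.2
  have hnotP : ∀ h : Hc, h ≠ 1 → (h : G) ∉ P :=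
    fun h h1 hp' => h1 (Subtype.ext (hHcP _ h.2 hp'))
  obtain ⟨zz, hzz, hzzsum⟩ := br_vl_Z H
  -- the kinds
  have hk0 := br_l6_kind_zero X Y dl
  have hk1 := br_l6_kind_one X Y dl
  have hk2 := br_l6_kind_two X Y dl
  have hk3 := br_l6_kind_three X Y dl
  have hk4 := br_l6_kind_four X Y dl
  have hYmem : ∀ ψ : IrrCharacter G, ψ ∈ Y → ψ ≠ trivIrr G ∧ ψ ∉ X := by
    intro ψ hψ
    have hX : ψ ∉ X := fun h => Finset.disjoint_left.mp hnd.disj h hψ
    exact ⟨fun h => hX (h ▸ hnd.triv_mem), hX⟩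
  -- cardinalities
  have h0card : (Finset.univ.filter (fun χ => br_l6_kind X Y dl χ = 0)).card = 1 := by
    have : Finset.univ.filter (fun χ => br_l6_kind X Y dl χ = 0) = {trivIrr G} := by
      ext χ
      rw [Finset.mem_filter, Finset.mem_singleton, hk0]
      exact ⟨fun h => h.2, fun h => ⟨Finset.mem_univ _, h⟩⟩
    rw [this, Finset.card_singleton]
  have h1card : (Finset.univ.filter (fun χ => br_l6_kind X Y dl χ = 1)).card * Y.card + 2 = f := by
    have := hnd.count (Finset.univ.filter (fun χ => br_l6_kind X Y dl χ = 1)) (by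
      intro χ
      rw [Finset.mem_filter, hk1]
      exact ⟨fun h => h.2, fun h => ⟨Finset.mem_univ _, h⟩⟩)
    rw [hw, ← hn] at this
    omega
  have h3card : (Finset.univ.filter (fun χ => br_l6_kind X Y dl χ = 3)).card = Y.card := by
    congr 1
    ext χ
    rw [Finset.mem_filter, hk3]
    constructor
    · exact fun h => h.2.2.2
    · exact fun h => ⟨Finset.mem_univ _, (hYmem χ h).1, (hYmem χ h).2, h⟩
  have h4sum : ∑ χ ∈ Finset.univ.filter (fun χ => br_l6_kind X Y dl χ = 4), (zz χ) ^ 2 + 1 =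
      Y.card := by
    have : Finset.univ.filter (fun χ => br_l6_kind X Y dl χ = 4) =
        Finset.univ.filter (fun ζ : IrrCharacter G => ζ ∉ X ∧ ζ ∉ Y) := by
      ext χ
      rw [Finset.mem_filter, Finset.mem_filter, hk4]
      constructor
      · exact fun h => ⟨Finset.mem_univ _, h.2.2⟩
      · exact fun h => ⟨Finset.mem_univ _, fun e => h.2.1 (e ▸ hnd.triv_mem), h.2⟩
    rw [this, hzzsum, hn]
  -- the classes
  have hclscard : ∀ χ : IrrCharacter G, br_l6_kind X Y dl χ = 1 →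
      (br_l6_cls Θ χ).card = Y.card := by
    intro χ hχ
    obtain ⟨h1, h2, h3⟩ := (hk1 χ).mp hχ
    have := hnd.card_eq χ h1 h2 h3
    rw [hn, ← this]
    unfold br_l6_cls
    congr 1
  -- the values on `Hc ∖ 1`
  have v0 : ∀ χ : IrrCharacter G, br_l6_kind X Y dl χ = 0 → ∀ g : G, (χ : G → ℂ) g = 1 := by
    intro χ hχ g
    rw [(hk0 χ).mp hχ]
    rfl
  have v1 : ∀ χ : IrrCharacter G, br_l6_kind X Y dl χ = 1 → ∀ y : ↥Hc, y ≠ 1 →
      (χ : G → ℂ) (y : G) = ∑ l ∈ br_l6_cls Θ χ, lam l (y : G) := by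
    intro χ hχ y hy
    obtain ⟨h1, h2, h3⟩ := (hk1 χ).mp hχ
    rw [br_vl_val_plus H χ h1 h2 (y : G) (hmemN y) (hnotP y hy)]
    unfold br_l6_cls
    apply Finset.sum_congr _ (fun _ _ => rfl)
    ext l
    simp only [Finset.mem_filter]
  have v2 : ∀ χ : IrrCharacter G, br_l6_kind X Y dl χ = 2 → ∀ y : ↥Hc, y ≠ 1 →
      (χ : G → ℂ) (y : G) = 0 := by
    intro χ hχ y hy
    obtain ⟨h1, h2, h3⟩ := (hk2 χ).mp hχ
    have hd : dl χ = -1 := by
      rcases hnd.dl_sign χ h1 with h | h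
      · exact absurd h h3
      · exact h
    exact br_vl_val_minus H χ h1 hd (y : G) (hmemN y) (hnotP y hy)
  have v3 : ∀ χ : IrrCharacter G, br_l6_kind X Y dl χ = 3 → ∀ y : ↥Hc, y ≠ 1 →
      (χ : G → ℂ) (y : G) = lam k₀ (y : G) := by
    intro χ hχ y hy
    obtain ⟨h1, h2, h3⟩ := (hk3 χ).mp hχ
    rw [br_vl_val_Y H χ h3 (y : G) (hmemN y) (hnotP y hy)]
    have : Finset.univ.filter (fun l => l ≠ l₀ ∧ Θ l = ∑ ψ' ∈ Y, (ψ' : G → ℂ)) = {k₀} := by
      ext l
      rw [Finset.mem_filter, Finset.mem_singleton]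
      constructor
      · rintro ⟨-, h1, h2⟩
        exact (hS l h1).mp h2
      · rintro rfl
        exact ⟨Finset.mem_univ _, hk₀, (hS l hk₀).mpr rfl⟩
    rw [Finset.sum_congr (s₂ := {k₀}) (g := fun l => lam l (y : G)) (by
      convert this) (fun _ _ => rfl), Finset.sum_singleton]
  have v4 : ∀ χ : IrrCharacter G, br_l6_kind X Y dl χ = 4 → ∀ y : ↥Hc, y ≠ 1 →
      (χ : G → ℂ) (y : G) = (zz χ : ℂ) := by
    intro χ hχ y hy
    obtain ⟨h1, h2, h3⟩ := (hk4 χ).mp hχ
    exact (hzz χ h2 h3).2.2 (y : G) (hmemN y) (hnotP y hy)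
  -- values of `ev` at involutions
  set zH : ↥Hc := ⟨z, hzH⟩ with hzHdef
  have hzH1 : zH ≠ 1 := fun h => hz1 (congrArg Subtype.val h)
  have hevz : ∀ l, lam l z * lam l z = 1 := by
    intro l
    have h1 : lam l z = ((ev l zH : ℂˣ) : ℂ) := hev l zH
    rw [h1, ← Units.val_mul, ← map_mul]
    have : zH * zH = 1 := Subtype.ext hz
    rw [this, map_one, Units.val_one]
  -- the values at `z`
  have z1 : ∀ χ : IrrCharacter G, br_l6_kind X Y dl χ = 1 →
      (χ : G → ℂ) z * (χ : G → ℂ) z = (Y.card : ℂ) * Y.card := by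
    intro χ hχ
    have h1 := v1 χ hχ zH hzH1
    have hne : (br_l6_cls Θ χ).Nonempty := by
      rw [← Finset.card_pos, hclscard χ hχ]
      exact htpos
    obtain ⟨l₁, hl₁⟩ := hne
    have hconst : ∀ l ∈ br_l6_cls Θ χ, lam l z = lam l₁ z := by
      intro l hl
      apply hpar
      rw [(br_l6_mem_cls Θ χ l).mp hl, (br_l6_mem_cls Θ χ l₁).mp hl₁]
    have h2 : (χ : G → ℂ) z = (Y.card : ℂ) * lam l₁ z := by
      have : (χ : G → ℂ) z = ∑ l ∈ br_l6_cls Θ χ, lam l z := h1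
      rw [this, Finset.sum_congr rfl hconst, Finset.sum_const, hclscard χ hχ, nsmul_eq_mul]
    rw [h2]
    have := hevz l₁
    linear_combination ((Y.card : ℂ) * Y.card) * this
  -- `|C_G(z)| = t f`
  have hCz : Nat.card (Subgroup.centralizer ({z} : Set G)) = Y.card * f := by
    apply br_l6_card_centralizer Y.card f z (br_l6_kind X Y dl) zz h0card
      (fun χ hχ => v0 χ hχ z) h1card z1 (fun χ hχ => v2 χ hχ zH hzH1) h3card
      (fun χ hχ => by
        have : (χ : G → ℂ) z = lam k₀ z := v3 χ hχ zH hzH1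
        rw [this]
        exact hevz k₀)
      (fun χ hχ => v4 χ hχ zH hzH1) h4sum
  -- an element `y ∈ Hc`, `y ≠ 1, z`
  have hfc : Fintype.card ↥Hc = f := by rw [← Nat.card_eq_fintype_card, hHccard]
  obtain ⟨yH, hyH⟩ : ∃ y : ↥Hc, y ∉ ({1, zH} : Finset ↥Hc) := by
    by_contra hcon
    push Not at hcon
    have hsub : (Finset.univ : Finset ↥Hc) ⊆ {1, zH} := fun y _ => hcon y
    have := Finset.card_le_card hsub
    rw [Finset.card_univ, hfc] at this
    have h2 : ({1, zH} : Finset ↥Hc).card ≤ 2 := Finset.card_le_two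
    omega
  rw [Finset.mem_insert, Finset.mem_singleton, not_or] at hyH
  obtain ⟨hy1, hyz⟩ := hyH
  -- `|C_G(y)| = f`
  have hCy : Nat.card (Subgroup.centralizer ({(yH : G)} : Set G)) = f := by
    apply br_l6_card_centralizer_H Y.card f Hc hHccomm hHccard z hzH hz1 hCz (br_l6_kind X Y dl)
      zz (fun χ => (br_l6_cls Θ χ).image ev) h0card (fun χ hχ y _ => v0 χ hχ y) h1card
      (fun χ hχ => by
        rw [Finset.card_image_of_injective _ hevinj, hclscard χ hχ])
      (fun χ hχ y hy => by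
        rw [v1 χ hχ y hy, Finset.sum_image (fun a _ b _ hab => hevinj hab)]
        exact Finset.sum_congr rfl (fun l _ => hev l y))
      v2 h3card
      (fun χ hχ y hy => by
        rw [v3 χ hχ y hy, hev k₀ y, br_l6_conj_hom, ← Units.val_mul, mul_inv_cancel,
          Units.val_one])
      v4 h4sum (yH : G) yH.2
      (fun h => hy1 (Subtype.ext h)) (fun h => hyz (Subtype.ext h))
  -- the core
  have hy1' : yH ≠ 1 := hy1
  refine br_l6_core p Y.card f htpos hfpos hp hG' z (yH : G) hz hCz hCy.le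
    (br_l6_kind X Y dl) (lam k₀ (yH : G)) zz h0card
    (fun χ hχ => ⟨v0 χ hχ 1, v0 χ hχ z, v0 χ hχ _⟩) ?_ ?_
    (fun χ hχ => v2 χ hχ zH hzH1) h3card ?_ ?_ h4sum
  · -- kind 1 : degree and value at `z`
    intro χ hχ
    refine ⟨?_, z1 χ hχ⟩
    obtain ⟨h1, h2, h3⟩ := (hk1 χ).mp hχ
    rw [← charDegree_cast_of_isCharacter (IsIrrCharacter.isCharacter χ.2),
      hnd.star_X χ h1 h2 h3, hnp, Nat.cast_mul, Nat.cast_sub hfp.le]
  · -- the sum of the kind 1 values at `y`
    rw [Finset.sum_congr rfl (fun χ hχ => v1 χ (Finset.mem_filter.mp hχ).2 yH hy1'),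
      br_l6_sum_cls H k₀ hk₀ hS (fun l => lam l (yH : G)),
      br_l6_sum_lam H (yH : G) (hmemN yH) (hnotP yH hy1'), H.lam_l₀ _ (hmemN yH)]
    ring
  · -- kind 3
    intro χ hχ
    obtain ⟨h1, h2, h3⟩ := (hk3 χ).mp hχ
    refine ⟨?_, ?_, v3 χ hχ yH hy1'⟩
    · have hd := hnd.deg_eps_minus he χ h3
      rw [hw, one_mul] at hd
      rw [← charDegree_cast_of_isCharacter (IsIrrCharacter.isCharacter χ.2)]
      have : charDegree (χ : G → ℂ) = p - f := by omega
      rw [this, Nat.cast_sub hfp.le]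
    · have : (χ : G → ℂ) z = lam k₀ z := v3 χ hχ zH hzH1
      rw [this]
      exact hevz k₀
  · -- kind 4
    intro χ hχ
    obtain ⟨h1, h2, h3⟩ := (hk4 χ).mp hχ
    refine ⟨?_, v4 χ hχ zH hzH1, v4 χ hχ yH hy1'⟩
    rw [← charDegree_cast_of_isCharacter (IsIrrCharacter.isCharacter χ.2), (hzz χ h2 h3).2.1,
      Nat.cast_mul]

end Cfsg.Agent.BR
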