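import Mathlib
import Cfsg.Agent.S0732

/-!
# BR / NOne : a perfect group with a self-centralizing Sylow subgroup of prime order `p ≥ 5` and
exactly `p + 1` Sylow `p`-subgroups is `PSL(2, p)`

(L8 of `notes/BrauerReynolds_blueprint_helper1.md`; also the endgame of `notes/S4504_helper9.md`.)
The group acts faithfully and transitively on its `p + 1` Sylow `p`-subgroups, has order
`(p+1) p d` with `d ∣ p - 1`, so the landed `S0732` applies; `PGL(2,p)` is not perfect
(determinant modulo squares) and the semi-affine groups are solvable.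
-/

set_option autoImplicit false
set_option linter.style.haveILetI false

namespace Cfsg.Agent.BR

open Cfsg

open Cfsg

/-- ring automorphisms of a finite field commute. -/
theorem br_ringAut_comm {F : Type*} [Field F] [Finite F] (φ ψ : F ≃+* F) (x : F) :
    φ (ψ x) = ψ (φ x) := by
  classical
  obtain ⟨p, hp⟩ := CharP.exists F
  haveI := hp
  haveI : Fact p.Prime := ⟨CharP.char_is_prime F p⟩
  letI : Algebra (ZMod p) F := ZMod.algebra F p
  have hcomm : ∀ (θ : F ≃+* F) (r : ZMod p), θ (algebraMap (ZMod p) F r) = algebraMap (ZMod p) F r := by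
    intro θ r
    have : (θ : F →+* F).comp (algebraMap (ZMod p) F) = algebraMap (ZMod p) F :=
      Subsingleton.elim _ _
    exact RingHom.congr_fun this r
  let φ' : F ≃ₐ[ZMod p] F := AlgEquiv.ofRingEquiv (f := φ) (hcomm φ)
  let ψ' : F ≃ₐ[ZMod p] F := AlgEquiv.ofRingEquiv (f := ψ) (hcomm ψ)
  have hc : IsCyclic (F ≃ₐ[ZMod p] F) := inferInstance
  letI := hc.commGroup
  have h := mul_comm φ' ψ'
  have h2 := congrArg (fun e : F ≃ₐ[ZMod p] F => e x) h
  simpa [φ', ψ', AlgEquiv.mul_apply] using h2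

section SA

variable {F : Type*} [Field F]

/-- `σ` is semi-affine with automorphism part `φ`. -/
def br_SA (φ : F ≃+* F) (σ : Equiv.Perm F) : Prop :=
  ∃ a : Fˣ, ∃ b : F, ∀ x, σ x = (a : F) * φ x + b

theorem br_SA_mul {φ ψ : F ≃+* F} {σ τ : Equiv.Perm F} (hσ : br_SA φ σ) (hτ : br_SA ψ τ) :
    br_SA (ψ.trans φ) (σ * τ) := by
  obtain ⟨a, b, hσ⟩ := hσ
  obtain ⟨c, d, hτ⟩ := hτ
  refine ⟨a * Units.map (φ : F →* F) c, (a : F) * φ d + b, fun x => ?_⟩
  simp only [Equiv.Perm.coe_mul, Function.comp_apply, hτ, hσ, Units.val_mul, Units.coe_map,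
    MonoidHom.coe_coe, RingEquiv.coe_trans, map_add, map_mul, mul_add, mul_assoc, add_assoc]

theorem br_SA_inv {φ : F ≃+* F} {σ : Equiv.Perm F} (hσ : br_SA φ σ) :
    br_SA φ.symm σ⁻¹ := by
  obtain ⟨a, b, hσ⟩ := hσ
  refine ⟨Units.map (φ.symm : F →* F) a⁻¹, -(φ.symm (((a⁻¹ : Fˣ) : F) * b)), fun x => ?_⟩
  apply σ.injective
  rw [Equiv.Perm.inv_def, Equiv.apply_symm_apply, hσ]
  simp only [Units.coe_map, MonoidHom.coe_coe, ← map_mul, ← map_neg, ← map_add,
    RingEquiv.apply_symm_apply, mul_add, ← mul_assoc, Units.mul_inv, one_mul, mul_neg,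
    neg_add_cancel_right]

theorem br_SA_of_mem {σ : Equiv.Perm F} (hσ : σ ∈ semiaffineGroup F) :
    ∃ φ : F ≃+* F, br_SA φ σ := by
  obtain ⟨a, b, φ, h⟩ := hσ
  exact ⟨φ, a, b, h⟩

/-- `σ` is affine with linear part `a`. -/
def br_AF (a : Fˣ) (σ : Equiv.Perm F) : Prop :=
  ∃ b : F, ∀ x, σ x = (a : F) * x + b

theorem br_AF_mul {a c : Fˣ} {σ τ : Equiv.Perm F} (hσ : br_AF a σ) (hτ : br_AF c τ) :
    br_AF (a * c) (σ * τ) := by
  obtain ⟨b, hσ⟩ := hσ
  obtain ⟨d, hτ⟩ := hτ
  refine ⟨(a : F) * d + b, fun x => ?_⟩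
  simp only [Equiv.Perm.coe_mul, Function.comp_apply, hτ, hσ, Units.val_mul, mul_add, mul_assoc,
    add_assoc]

theorem br_AF_inv {a : Fˣ} {σ : Equiv.Perm F} (hσ : br_AF a σ) : br_AF a⁻¹ σ⁻¹ := by
  obtain ⟨b, hσ⟩ := hσ
  refine ⟨-((a⁻¹ : Fˣ) : F) * b, fun x => ?_⟩
  apply σ.injective
  rw [Equiv.Perm.inv_def, Equiv.apply_symm_apply, hσ, mul_add, ← mul_assoc, Units.mul_inv, one_mul,
    neg_mul, mul_neg, ← mul_assoc, Units.mul_inv, one_mul, neg_add_cancel_right]

/-- the group of translations. -/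
def br_transl (F : Type*) [Field F] : Subgroup (Equiv.Perm F) where
  carrier := {σ | ∃ b : F, ∀ x, σ x = x + b}
  one_mem' := ⟨0, fun x => by simp⟩
  mul_mem' := by
    rintro σ τ ⟨b, hσ⟩ ⟨d, hτ⟩
    exact ⟨d + b, fun x => by simp [hσ, hτ, add_assoc]⟩
  inv_mem' := by
    rintro σ ⟨b, hσ⟩
    refine ⟨-b, fun x => ?_⟩
    apply σ.injective
    rw [Equiv.Perm.inv_def, Equiv.apply_symm_apply, hσ]
    simp

theorem br_comm_semiaffine_le [Finite F] :
    ⁅semiaffineGroup F, semiaffineGroup F⁆ ≤ affineGroup F := by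
  rw [Subgroup.commutator_le]
  intro σ hσ τ hτ
  obtain ⟨φ, hφ⟩ := br_SA_of_mem hσ
  obtain ⟨ψ, hψ⟩ := br_SA_of_mem hτ
  have h := br_SA_mul (br_SA_mul (br_SA_mul hφ hψ) (br_SA_inv hφ)) (br_SA_inv hψ)
  obtain ⟨a, b, h⟩ := h
  refine ⟨a, b, fun x => ?_⟩
  rw [commutatorElement_def, h x]
  simp only [RingEquiv.coe_trans, Function.comp_apply]
  rw [br_ringAut_comm φ ψ, RingEquiv.apply_symm_apply, RingEquiv.apply_symm_apply]

theorem br_comm_affine_le : ⁅affineGroup F, affineGroup F⁆ ≤ br_transl F := by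
  rw [Subgroup.commutator_le]
  intro σ hσ τ hτ
  obtain ⟨a, b, hσ⟩ := hσ
  obtain ⟨c, d, hτ⟩ := hτ
  have h := br_AF_mul (br_AF_mul (br_AF_mul ⟨b, hσ⟩ ⟨d, hτ⟩) (br_AF_inv ⟨b, hσ⟩)) (br_AF_inv ⟨d, hτ⟩)
  obtain ⟨e, h⟩ := h
  refine ⟨e, fun x => ?_⟩
  rw [commutatorElement_def, h x, mul_comm a c, mul_inv_cancel_right, mul_inv_cancel, Units.val_one,
    one_mul]

theorem br_comm_transl : ⁅br_transl F, br_transl F⁆ = ⊥ := by
  rw [Subgroup.commutator_eq_bot_iff_le_centralizer]
  rintro σ ⟨b, hσ⟩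
  rw [Subgroup.mem_centralizer_iff]
  rintro τ ⟨d, hτ⟩
  ext x
  simp [hσ, hτ, add_assoc, add_comm b d]

/-- a perfect subgroup of the semi-affine group of a finite field is trivial. -/
theorem br_semiaffine_perfect [Finite F] (Γ : Subgroup (Equiv.Perm F))
    (hΓ : Γ ≤ semiaffineGroup F) (hperf : ⁅Γ, Γ⁆ = Γ) : Γ = ⊥ := by
  have h1 : Γ ≤ affineGroup F := by
    calc Γ = ⁅Γ, Γ⁆ := hperf.symm
      _ ≤ ⁅semiaffineGroup F, semiaffineGroup F⁆ := Subgroup.commutator_mono hΓ hΓ
      _ ≤ affineGroup F := br_comm_semiaffine_le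
  have h2 : Γ ≤ br_transl F := by
    calc Γ = ⁅Γ, Γ⁆ := hperf.symm
      _ ≤ ⁅affineGroup F, affineGroup F⁆ := Subgroup.commutator_mono h1 h1
      _ ≤ br_transl F := br_comm_affine_le
  have h3 : Γ ≤ ⊥ := by
    calc Γ = ⁅Γ, Γ⁆ := hperf.symm
      _ ≤ ⁅br_transl F, br_transl F⁆ := Subgroup.commutator_mono h2 h2
      _ = ⊥ := br_comm_transl
  exact le_bot_iff.1 h3

end SA



/-- `PGL(2, p)` is not perfect for an odd prime `p` (determinant modulo squares). -/
theorem br_pgl_not_perfect (p : ℕ) [Fact p.Prime] (hp : p ≠ 2) :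
    commutator (Matrix.ProjGenLinGroup (Fin 2) (ZMod p)) ≠ ⊤ := by
  classical
  intro hperf
  let χ : (ZMod p)ˣ →* ℤˣ := (quadraticChar (ZMod p)).toUnitHom
  let ρ : GL (Fin 2) (ZMod p) →* ℤˣ := χ.comp Matrix.GeneralLinearGroup.det
  have hker : Subgroup.center (GL (Fin 2) (ZMod p)) ≤ ρ.ker := by
    rw [Matrix.GeneralLinearGroup.center_eq_range_scalar, MonoidHom.range_le_ker_iff]
    refine MonoidHom.ext fun u => ?_
    simp only [MonoidHom.coe_comp, Function.comp_apply, MonoidHom.one_apply, ρ,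
      Matrix.GeneralLinearGroup.det_scalar, Fintype.card_fin, map_pow]
    exact Int.units_sq _
  let ρ' : Matrix.ProjGenLinGroup (Fin 2) (ZMod p) →* ℤˣ :=
    QuotientGroup.lift (Subgroup.center (GL (Fin 2) (ZMod p))) ρ hker
  have hall : ∀ g, ρ' g = 1 := by
    intro g
    have h1 := Abelianization.commutator_subset_ker ρ'
    rw [hperf] at h1
    exact h1 (Subgroup.mem_top g)
  have hchar : ringChar (ZMod p) ≠ 2 := by rwa [ZMod.ringChar_zmod_n]
  obtain ⟨a, ha⟩ := FiniteField.exists_nonsquare hchar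
  have ha0 : a ≠ 0 := by
    rintro rfl
    exact ha ⟨0, by simp⟩
  have hdet : (Matrix.diagonal ![a, 1] : Matrix (Fin 2) (Fin 2) (ZMod p)).det ≠ 0 := by
    simp [Matrix.det_diagonal, Fin.prod_univ_two, ha0]
  let g : GL (Fin 2) (ZMod p) := Matrix.GeneralLinearGroup.mkOfDetNeZero _ hdet
  have h2 := hall (Matrix.ProjGenLinGroup.mk g)
  have h3 : ρ' (Matrix.ProjGenLinGroup.mk g) = ρ g := rfl
  rw [h3] at h2
  have h4 : ((ρ g : ℤˣ) : ℤ) = quadraticChar (ZMod p) a := by
    simp [ρ, χ, g, Matrix.det_diagonal, Fin.prod_univ_two]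
  rw [h2, (quadraticChar_neg_one_iff_not_isSquare).2 ha] at h4
  norm_num at h4


variable {G : Type*} [Group G] [Finite G]

/-- if `C(P) = P` for a Sylow subgroup of prime order which is not normal, then `G` acts faithfully
on its Sylow `p`-subgroups. -/
theorem br_sylow_action_injective (p : ℕ) [Fact p.Prime] (P : Sylow p G) (hP : Nat.card P = p)
    (hCP : Subgroup.centralizer ((P : Subgroup G) : Set G) = (P : Subgroup G))
    (hn : 1 < Nat.card (Sylow p G)) :
    Function.Injective (MulAction.toPermHom G (Sylow p G)) := by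
  classical
  rw [← MonoidHom.ker_eq_bot_iff]
  set K := (MulAction.toPermHom G (Sylow p G)).ker with hK
  have hKmem : ∀ k ∈ K, ∀ Q : Sylow p G, k • Q = Q := by
    intro k hk Q
    have h1 : MulAction.toPermHom G (Sylow p G) k = 1 := MonoidHom.mem_ker.1 hk
    have h2 := congrArg (fun e : Equiv.Perm (Sylow p G) => e Q) h1
    simpa using h2
  have hKN : ∀ k ∈ K, k ∈ Subgroup.normalizer ((P : Subgroup G) : Set G) := fun k hk =>
    Sylow.smul_eq_iff_mem_normalizer.1 (hKmem k hk P)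
  have hPK : ¬ (P : Subgroup G) ≤ K := by
    intro hle
    have hall : ∀ Q : Sylow p G, Q = P := by
      intro Q
      obtain ⟨g, rfl⟩ := MulAction.exists_smul_eq G P Q
      have hQK : ((g • P : Sylow p G) : Subgroup G) ≤ K := by
        intro y hy
        rw [Sylow.coe_subgroup_smul, Subgroup.mem_pointwise_smul_iff_inv_smul_mem] at hy
        have hy' : g⁻¹ * y * g ∈ K := hle (by simpa [MulAut.smul_def] using hy)
        have : y = g * (g⁻¹ * y * g) * g⁻¹ := by group
        rw [this]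
        exact (inferInstance : K.Normal).conj_mem _ hy' g
      have hQN : ((g • P : Sylow p G) : Subgroup G) ≤
          Subgroup.normalizer ((P : Subgroup G) : Set G) := fun y hy => hKN y (hQK hy)
      have hpg : IsPGroup p (((g • P : Sylow p G) : Subgroup G) ⊔ (P : Subgroup G) : Subgroup G) :=
        IsPGroup.to_sup_of_normal_right' (g • P : Sylow p G).isPGroup' P.isPGroup' hQN
      have h1 := P.is_maximal' hpg le_sup_right
      have hQP : ((g • P : Sylow p G) : Subgroup G) ≤ (P : Subgroup G) := by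
        rw [← h1]; exact le_sup_left
      have h2 := (g • P : Sylow p G).is_maximal' P.isPGroup' hQP
      exact Sylow.ext h2.symm
    have : Nat.card (Sylow p G) = 1 := by
      rw [Nat.card_eq_one_iff_unique]
      exact ⟨⟨fun a b => (hall a).trans (hall b).symm⟩, ⟨P⟩⟩
    omega
  have hKP : K ⊓ (P : Subgroup G) = ⊥ := by
    have hdvd : Nat.card ↥(K ⊓ (P : Subgroup G)) ∣ p := by
      have h0 : Nat.card ↥(K ⊓ (P : Subgroup G)) ∣ Nat.card ↥(P : Subgroup G) :=
        Subgroup.card_dvd_of_le inf_le_right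
      rwa [hP] at h0
    rcases (Nat.dvd_prime (Fact.out : p.Prime)).1 hdvd with h1 | h1
    · exact Subgroup.card_eq_one.1 h1
    · exfalso
      apply hPK
      have : K ⊓ (P : Subgroup G) = (P : Subgroup G) :=
        Subgroup.eq_of_le_of_card_ge inf_le_right (by rw [h1, hP])
      rw [← this]; exact inf_le_left
  rw [Subgroup.eq_bot_iff_forall]
  intro k hk
  have hkN := hKN k hk
  have hkC : k ∈ Subgroup.centralizer ((P : Subgroup G) : Set G) := by
    rw [Subgroup.mem_centralizer_iff]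
    intro x hx
    have hc : k * x * k⁻¹ * x⁻¹ ∈ K ⊓ (P : Subgroup G) := by
      refine Subgroup.mem_inf.2 ⟨?_, ?_⟩
      · have h1 : x * k⁻¹ * x⁻¹ ∈ K := (inferInstance : K.Normal).conj_mem _ (K.inv_mem hk) x
        have : k * x * k⁻¹ * x⁻¹ = k * (x * k⁻¹ * x⁻¹) := by group
        rw [this]; exact K.mul_mem hk h1
      · have h1 : k * x * k⁻¹ ∈ (P : Subgroup G) := (Subgroup.mem_normalizer_iff.1 hkN x).1 hx
        exact (P : Subgroup G).mul_mem h1 ((P : Subgroup G).inv_mem hx)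
    rw [hKP, Subgroup.mem_bot] at hc
    have : k * x = x * k := by
      have h2 := congrArg (fun z => z * x * k) hc
      simpa [mul_assoc] using h2
    exact this.symm
  rw [hCP] at hkC
  have : k ∈ K ⊓ (P : Subgroup G) := Subgroup.mem_inf.2 ⟨hk, hkC⟩
  rwa [hKP, Subgroup.mem_bot] at this


section Main

/-- perfectness is transported along a group isomorphism. -/
theorem br_commutator_eq_top_of_mulEquiv {G H : Type*} [Group G] [Group H] (f : G ≃* H)
    (h : commutator G = ⊤) : commutator H = ⊤ := by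
  rw [commutator_def] at h ⊢
  have h1 := Subgroup.map_commutator (⊤ : Subgroup G) ⊤ f.toMonoidHom
  rw [h] at h1
  have h2 : Subgroup.map f.toMonoidHom (⊤ : Subgroup G) = ⊤ :=
    Subgroup.map_top_of_surjective _ f.surjective
  rw [h2] at h1
  exact h1.symm

variable {G : Type*} [Group G] [Finite G]

/-- **L8.** A perfect finite group with a self-centralizing Sylow `p`-subgroup of prime order
`p ≥ 5` and exactly `p + 1` Sylow `p`-subgroups is isomorphic to `PSL(2, p)`. -/
theorem br_nOne (p : ℕ) [Fact p.Prime] (hp5 : 5 ≤ p) (P : Sylow p G) (hP : Nat.card P = p)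
    (hCP : Subgroup.centralizer ((P : Subgroup G) : Set G) = (P : Subgroup G))
    (hperf : commutator G = ⊤) (hn : Nat.card (Sylow p G) = p + 1) :
    Nonempty (G ≃* Matrix.ProjectiveSpecialLinearGroup (Fin 2) (ZMod p)) := by
  classical
  have hpp : p.Prime := Fact.out
  letI : Fintype (Sylow p G) := Fintype.ofFinite _
  have hinj := br_sylow_action_injective p P hP hCP (by omega)
  set φ := MulAction.toPermHom G (Sylow p G) with hφ
  let Γ : Subgroup (Equiv.Perm (Sylow p G)) := φ.range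
  let e : G ≃* Γ := MonoidHom.ofInjective hinj
  haveI : MulAction.IsPretransitive Γ (Sylow p G) := ⟨fun a b => by
    obtain ⟨g, hg⟩ := MulAction.exists_smul_eq G a b
    exact ⟨⟨φ g, g, rfl⟩, hg⟩⟩
  have hα : Fintype.card (Sylow p G) = p + 1 := by rw [← Nat.card_eq_fintype_card]; exact hn
  -- orders
  set N := Subgroup.normalizer ((P : Subgroup G) : Set G) with hN
  have hidx : N.index = p + 1 := by rw [← hn]; exact (Sylow.card_eq_index_normalizer P).symm
  have hPN : (P : Subgroup G) ≤ N := Subgroup.le_normalizer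
  set d := (P : Subgroup G).relIndex N with hd
  have hcardG : Nat.card G = (p + 1) * p * d := by
    have h1 := Subgroup.card_mul_index (P : Subgroup G)
    have h2 := Subgroup.relIndex_mul_index hPN
    rw [← h1, ← h2, hP, hidx]; ring
  have hdlt : d < p := by
    haveI : IsCyclic ↥(P : Subgroup G) := isCyclic_of_prime_card hP
    have key := Subgroup.card_dvd_of_injective _
      (QuotientGroup.kerLift_injective (P : Subgroup G).normalizerMonoidHom)
    rw [Subgroup.normalizerMonoidHom_ker, ← Subgroup.index, ← Subgroup.relIndex, hCP,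
      IsCyclic.card_mulAut, hP, Nat.totient_prime hpp] at key
    have hpos : 0 < p - 1 := by omega
    have key2 : d ∣ p - 1 := key
    have := Nat.le_of_dvd hpos key2
    omega
  have hcardΓ : Nat.card Γ = (p + 1) * p * d := by
    rw [← hcardG]; exact (Nat.card_congr e.toEquiv).symm
  rcases Cfsg.Agent.S0732.result hpp hα Γ hcardΓ hdlt with ⟨-, ⟨f⟩⟩ | ⟨-, ⟨f⟩⟩ |
    ⟨q, hq, hpq, -, e', he'⟩
  · exfalso
    have hp2 : p ≠ 2 := by omega
    exact br_pgl_not_perfect p hp2 (br_commutator_eq_top_of_mulEquiv (e.trans f) hperf)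
  · exact ⟨e.trans f⟩
  · exfalso
    -- transport to the semi-affine group
    let c : Equiv.Perm (Sylow p G) ≃* Equiv.Perm (GaloisField 2 q) := e'.permCongrHom
    let Γ' : Subgroup (Equiv.Perm (GaloisField 2 q)) := Γ.map c.toMonoidHom
    have hΓ' : Γ' ≤ semiaffineGroup (GaloisField 2 q) := by
      rintro _ ⟨σ, hσ, rfl⟩
      exact he' ⟨σ, hσ⟩
    have hperfΓ : commutator Γ = ⊤ := br_commutator_eq_top_of_mulEquiv e hperf
    have hperfΓ2 : ⁅Γ, Γ⁆ = Γ := by
      have h1 := Subgroup.map_commutator (⊤ : Subgroup Γ) ⊤ Γ.subtype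
      rw [← commutator_def, hperfΓ] at h1
      have h2 : Subgroup.map Γ.subtype ⊤ = Γ := by
        rw [← MonoidHom.range_eq_map, Subgroup.range_subtype]
      rw [h2] at h1
      exact h1.symm
    have hperfΓ' : ⁅Γ', Γ'⁆ = Γ' := by
      have h1 := Subgroup.map_commutator Γ Γ c.toMonoidHom
      rw [hperfΓ2] at h1
      exact h1.symm
    have hbot := br_semiaffine_perfect Γ' hΓ' hperfΓ'
    have hΓbot : Γ = ⊥ := by
      have : Γ.map c.toMonoidHom = ⊥ := hbot
      exact (Subgroup.map_eq_bot_iff_of_injective Γ c.injective).1 this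
    have h1 : Nat.card Γ = 1 := by rw [hΓbot]; exact Subgroup.card_bot
    rw [hcardΓ] at h1
    have : p ∣ 1 := by rw [← h1]; exact Dvd.intro_left _ rfl |>.mul_right d
    exact hpp.one_lt.ne' (Nat.dvd_one.1 this)

omit [Finite G] in
/-- for a Sylow subgroup of prime order, `C(P) ≤ P` already gives `C(P) = P`. -/
theorem br_centralizer_eq_of_le (p : ℕ) [Fact p.Prime] (P : Sylow p G) (hP : Nat.card P = p)
    (hC : Subgroup.centralizer ((P : Subgroup G) : Set G) ≤ (P : Subgroup G)) :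
    Subgroup.centralizer ((P : Subgroup G) : Set G) = (P : Subgroup G) := by
  haveI : IsCyclic ↥(P : Subgroup G) := isCyclic_of_prime_card hP
  exact le_antisymm hC (P : Subgroup G).le_centralizer

/-- `br_nOne` with the hypothesis `C(P) ≤ P`. -/
theorem br_nOne' (p : ℕ) [Fact p.Prime] (hp5 : 5 ≤ p) (P : Sylow p G) (hP : Nat.card P = p)
    (hC : Subgroup.centralizer ((P : Subgroup G) : Set G) ≤ (P : Subgroup G))
    (hperf : commutator G = ⊤) (hn : Nat.card (Sylow p G) = p + 1) :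
    Nonempty (G ≃* Matrix.ProjectiveSpecialLinearGroup (Fin 2) (ZMod p)) :=
  br_nOne p hp5 P hP (br_centralizer_eq_of_le p P hP hC) hperf hn

end Main

end Cfsg.Agent.BR
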