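import Cfsg.Agent.BR.Nodes
import Cfsg.Agent.BR.MackeyLin
import Cfsg.Agent.BR.Setup

/-!
# Brauer–Reynolds track: first step of L5 (helper8)

Over helper5's bundle `H : br_nd_Hyp p P f n X Y dl ε Θ l₀`:

* `br_pid_F1_char` : (F1) extended from irreducible characters to all characters.
* `br_pid_norm_perm` : `⟨π, π⟩ = 1 + n` for `π = Θ l₀`.

With `π = Ind_N^G 1` (`N = N_G(P)`, lead's `br_mky_lin`) and helper4's `br_setup_card_D_le`:

* `br_pid_sum_card_D` : `∑_{x ∉ N} |N ∩ x N x⁻¹| = n |N|²`.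
* `br_pid_card_D` : **`|N ∩ x N x⁻¹| = f` for all `x ∉ N`** (`hD` of `BR/SetupL`, `BR/DblGram`).
-/

set_option autoImplicit false
set_option linter.style.haveILetI false

namespace Cfsg.Agent.BR

open Cfsg Cfsg.Agent.Helper6 Cfsg.Agent.D1 Finset
open scoped ComplexConjugate

universe u v

variable {G : Type u} [Group G] [Fintype G]

section abstract

variable {p : ℕ} {P : Subgroup G} [Fintype P] {f n : ℕ} {X Y : Finset (IrrCharacter G)}
  {dl : IrrCharacter G → ℤ} {ε : ℤ} {ι : Type v} [Fintype ι] {Θ : ι → G → ℂ} {l₀ : ι}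

/-- (F1) for an arbitrary character -/
theorem br_pid_F1_char (H : br_nd_Hyp p P f n X Y dl ε Θ l₀) (Ψ : G → ℂ)
    (hΨ : IsCharacter G Ψ) :
    (p : ℂ) * ∑ l, classInner (Θ l) Ψ = ∑ x : P, Ψ (x : G) := by
  classical
  haveI : Finite (IrrCharacter G) := irr_finite
  haveI : Fintype (IrrCharacter G) := Fintype.ofFinite _
  obtain ⟨m, -, hexp, -⟩ := br_nd_mult Ψ hΨ
  have h1 : ∀ l, classInner (Θ l) Ψ =
      ∑ ξ : IrrCharacter G, (m ξ : ℂ) * classInner (Θ l) (ξ : G → ℂ) := by
    intro l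
    conv_lhs => rw [hexp]
    rw [classInner_sum_right]
    apply Finset.sum_congr rfl
    intro ξ _
    rw [classInner_smul_right, Complex.conj_natCast]
  have h2 : ∀ x : P, Ψ (x : G) = ∑ ξ : IrrCharacter G, (m ξ : ℂ) * (ξ : G → ℂ) (x : G) := by
    intro x
    conv_lhs => rw [hexp]
    simp only [Finset.sum_apply, Pi.smul_apply, smul_eq_mul]
  rw [Finset.sum_congr rfl (fun l _ => h1 l), Finset.sum_comm, Finset.mul_sum,
    Finset.sum_congr rfl (fun x _ => h2 x), Finset.sum_comm]
  apply Finset.sum_congr rfl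
  intro ξ _
  rw [← Finset.mul_sum, ← Finset.mul_sum, mul_left_comm, H.F1 ξ]

/-- `⟨π, π⟩ = 1 + n` -/
theorem br_pid_norm_perm (H : br_nd_Hyp p P f n X Y dl ε Θ l₀) :
    classInner (Θ l₀) (Θ l₀) = ((1 + n : ℕ) : ℂ) := by
  classical
  have h1 := br_pid_F1_char H (Θ l₀) (H.Θ_char l₀)
  rw [br_nd_sum_P P (Θ l₀) 1 (H.Θ_val l₀), H.Θ_one l₀, H.card_P] at h1
  have h2 : ∑ l, classInner (Θ l) (Θ l₀) = classInner (Θ l₀) (Θ l₀) := by
    rw [Finset.sum_eq_single l₀]
    · intro l _ hl
      rw [classInner_conj_symm, H.inner_perm_node l hl, map_zero]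
    · intro h
      exact absurd (Finset.mem_univ l₀) h
  rw [h2] at h1
  have hp0 : (p : ℂ) ≠ 0 := by exact_mod_cast H.prime.ne_zero
  apply mul_left_cancel₀ hp0
  rw [h1]
  push_cast
  ring

end abstract

section sylow

variable {p : ℕ} [Fact p.Prime] {Q : Sylow p G} [Fintype ↥(Q : Subgroup G)] {f n : ℕ}
  {X Y : Finset (IrrCharacter G)}
  {dl : IrrCharacter G → ℤ} {ε : ℤ} {ι : Type v} [Fintype ι] {Θ : ι → G → ℂ} {l₀ : ι}

open Classical in
/-- `∑_{x ∉ N} |N ∩ x N x⁻¹| = n |N|²` -/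
theorem br_pid_sum_card_D (H : br_nd_Hyp p (Q : Subgroup G) f n X Y dl ε Θ l₀)
    [Fintype ↥(Subgroup.normalizer ((Q : Subgroup G) : Set G))]
    (hπ : Θ l₀ = indFun (Subgroup.normalizer ((Q : Subgroup G) : Set G))
      (br_mky_fn (Subgroup.normalizer ((Q : Subgroup G) : Set G)) 1)) :
    ∑ x ∈ Finset.univ.filter
        (fun x : G => x ∉ Subgroup.normalizer ((Q : Subgroup G) : Set G)),
      Nat.card ↥(br_setup_D (Subgroup.normalizer ((Q : Subgroup G) : Set G)) x) =
      n * Nat.card ↥(Subgroup.normalizer ((Q : Subgroup G) : Set G)) ^ 2 := by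
  set N := Subgroup.normalizer ((Q : Subgroup G) : Set G) with hN
  have h1 := br_pid_norm_perm H
  rw [hπ, br_mky_lin N 1 1, if_pos rfl] at h1
  have hchi : ∀ x : G, br_mky_chi N 1 1 x = 1 := by
    intro x
    rw [br_mky_chi_eq_one_iff]
    intro m hm hm'
    rfl
  have h2 : ∀ x ∈ Finset.univ.filter (fun x : G => x ∉ N),
      (if br_mky_chi N 1 1 x = 1 then
        (Nat.card ↥(N ⊓ N.map (MulAut.conj x).toMonoidHom) : ℂ) else 0) =
      ((Nat.card ↥(br_setup_D N x) : ℕ) : ℂ) := by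
    intro x _
    rw [if_pos (hchi x)]
    rfl
  rw [Finset.sum_congr rfl h2, ← Nat.cast_sum] at h1
  have hne : (Nat.card N : ℂ) ≠ 0 := by
    have : 0 < Nat.card N := Nat.card_pos
    exact_mod_cast this.ne'
  have h3 : ((∑ x ∈ Finset.univ.filter (fun x : G => x ∉ N), Nat.card ↥(br_setup_D N x) : ℕ) : ℂ) =
      ((n * Nat.card N ^ 2 : ℕ) : ℂ) := by
    push_cast at h1 ⊢
    field_simp at h1
    linear_combination h1
  exact_mod_cast h3

open Classical in
/-- **`hD`**: every two distinct Sylow normalizers meet in a subgroup of order `f` -/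
theorem br_pid_card_D (H : br_nd_Hyp p (Q : Subgroup G) f n X Y dl ε Θ l₀)
    [Fintype ↥(Subgroup.normalizer ((Q : Subgroup G) : Set G))]
    (hf : f = (Q : Subgroup G).relIndex (Subgroup.normalizer ((Q : Subgroup G) : Set G)))
    (hπ : Θ l₀ = indFun (Subgroup.normalizer ((Q : Subgroup G) : Set G))
      (br_mky_fn (Subgroup.normalizer ((Q : Subgroup G) : Set G)) 1))
    (hn : Nat.card (Sylow p G) = 1 + n * p) (x : G)
    (hx : x ∉ Subgroup.normalizer ((Q : Subgroup G) : Set G)) :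
    Nat.card ↥(br_setup_D (Subgroup.normalizer ((Q : Subgroup G) : Set G)) x) = f := by
  set N := Subgroup.normalizer ((Q : Subgroup G) : Set G) with hN
  have hsum := br_pid_sum_card_D H hπ
  have hle : ∀ y ∈ Finset.univ.filter (fun y : G => y ∉ N),
      Nat.card ↥(br_setup_D N y) ≤ f := by
    intro y hy
    rw [hf]
    exact br_setup_card_D_le p Q H.card_P y (Finset.mem_filter.mp hy).2
  have hcardN : Nat.card N = p * f := by rw [hf]; exact br_setup_card_N p Q H.card_P
  have hcardG : Nat.card G = p * f * (1 + n * p) := by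
    rw [hf, ← hn]; exact br_setup_card_G p Q H.card_P
  have hcount : (Finset.univ.filter (fun y : G => y ∉ N)).card = Nat.card G - Nat.card N := by
    have h1 : (Finset.univ.filter (fun y : G => y ∈ N)).card = Nat.card N := by
      rw [Nat.card_eq_fintype_card, Fintype.card_subtype]
    have h2 := Finset.card_filter_add_card_filter_not (s := (Finset.univ : Finset G))
      (fun y : G => y ∈ N)
    rw [Finset.card_univ, ← Nat.card_eq_fintype_card] at h2
    omega
  have hconst : ∑ _y ∈ Finset.univ.filter (fun y : G => y ∉ N), f =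
      n * Nat.card N ^ 2 := by
    rw [Finset.sum_const, hcount, hcardG, hcardN, smul_eq_mul]
    have : p * f * (1 + n * p) - p * f = p * f * (n * p) := by
      rw [Nat.mul_add, mul_one, Nat.add_sub_cancel_left]
    rw [this]
    ring
  have heq := (Finset.sum_eq_sum_iff_of_le hle).mp (hsum.trans hconst.symm)
  exact heq x (Finset.mem_filter.mpr ⟨Finset.mem_univ x, hx⟩)

end sylow

end Cfsg.Agent.BR
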