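import Mathlib
import Cfsg.Prelude.Def_Solvable
import Cfsg.Prelude.Def_CaseTheorems
import Cfsg.Agent.Helper5.PPrimeCore
import Cfsg.Agent.Helper4.HallHigman
import Cfsg.Agent.Helper4.AffSLC
import Cfsg.Agent.Helper8.DkIdx
import Cfsg.Agent.Helper7.LinearCard

/-!
# Brauer-Reynolds track: the outer reduction of S4701 (lead)

`G` perfect, `p ∣ |G| < p ^ 3`, a Sylow `p`-subgroup not normal, no normal subgroup of order two.
We pass to `G ⧸ O_{p'}(G)`, which satisfies the same hypotheses and has trivial `p'`-core, and we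
come back: the order formulas of `PSL₂(p)` and `SL₂(2^m)` leave room for a kernel of order at most
two only.
-/

set_option autoImplicit false

namespace Cfsg.Agent.BR

universe u

/-- Burnside's transfer theorem for a perfect group: a Sylow subgroup central in its normalizer is
trivial. -/
theorem br_redK_transfer {G : Type*} [Group G] [Finite G] (hperf : commutator G = ⊤) (p : ℕ)
    [Fact p.Prime] (P : Sylow p G)
    (hNC : Subgroup.normalizer ((P : Subgroup G) : Set G) ≤ Subgroup.centralizer (P : Set G)) :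
    (P : Subgroup G) = ⊥ := by
  have hc := MonoidHom.ker_transferSylow_isComplement' P hNC
  have hcomm : ∀ a b : (P : Subgroup G), a * b = b * a := fun a b =>
    Subtype.ext (hNC (Subgroup.le_normalizer b.2) a a.2)
  have hker : (MonoidHom.transferSylow P hNC).ker = ⊤ := by
    rw [eq_top_iff, ← hperf, commutator_def, Subgroup.commutator_le]
    intro a _ b _
    rw [MonoidHom.mem_ker, commutatorElement_def, map_mul, map_mul, map_mul, map_inv, map_inv]
    rw [hcomm ((MonoidHom.transferSylow P hNC) a) ((MonoidHom.transferSylow P hNC) b)]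
    group
  rw [hker] at hc
  have h1 := hc.card_mul_card
  rw [Subgroup.card_top] at h1
  have hpos : 0 < Nat.card G := Nat.card_pos
  have h2 : Nat.card (P : Subgroup G) = 1 := by
    have : Nat.card G * Nat.card (P : Subgroup G) = Nat.card G * 1 := by rw [h1, mul_one]
    exact Nat.eq_of_mul_eq_mul_left hpos this
  exact Subgroup.card_eq_one.mp h2

/-- A perfect finite group has no normal Sylow `p`-subgroup of order `p`. -/
theorem br_redK_not_normal {H : Type*} [Group H] [Finite H] (hperf : commutator H = ⊤) (p : ℕ)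
    [hp : Fact p.Prime] (Q : Sylow p H) (hQ : Nat.card (Q : Subgroup H) = p) :
    ¬ (Q : Subgroup H).Normal := by
  intro hn
  have := hn
  have : IsCyclic (Q : Subgroup H) := isCyclic_of_prime_card hQ
  -- the conjugation action on `Q` has commutative image, hence is trivial
  have hcomm : ∀ f g : MulAut (Q : Subgroup H), f * g = g * f := by
    intro f g
    obtain ⟨x, hx⟩ := IsCyclic.exists_generator (α := (Q : Subgroup H))
    have hf : ∀ φ : MulAut (Q : Subgroup H), ∃ k : ℤ, ∀ y, φ y = y ^ k := by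
      intro φ
      obtain ⟨k, hk⟩ := Subgroup.mem_zpowers_iff.mp (hx (φ x))
      refine ⟨k, fun y => ?_⟩
      obtain ⟨m, rfl⟩ := Subgroup.mem_zpowers_iff.mp (hx y)
      rw [map_zpow, ← hk, ← zpow_mul, ← zpow_mul, mul_comm]
    obtain ⟨k, hk⟩ := hf f
    obtain ⟨l, hl⟩ := hf g
    ext y
    simp only [MulAut.mul_apply]
    rw [hk, hl, hl, hk, ← zpow_mul, ← zpow_mul, mul_comm]
  have hker : (MulAut.conjNormal (H := (Q : Subgroup H))).ker = ⊤ := by
    rw [eq_top_iff, ← hperf, commutator_def, Subgroup.commutator_le]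
    intro a _ b _
    rw [MonoidHom.mem_ker, commutatorElement_def, map_mul, map_mul, map_mul, map_inv, map_inv]
    rw [hcomm (MulAut.conjNormal a) (MulAut.conjNormal b)]
    group
  have hcent : Subgroup.normalizer ((Q : Subgroup H) : Set H) ≤
      Subgroup.centralizer ((Q : Subgroup H) : Set H) := by
    intro g _
    rw [Subgroup.mem_centralizer_iff]
    intro y hy
    have hg : g ∈ (MulAut.conjNormal (H := (Q : Subgroup H))).ker := by rw [hker]; trivial
    rw [MonoidHom.mem_ker] at hg
    have h1 := congrArg (fun φ : MulAut (Q : Subgroup H) => ((φ ⟨y, hy⟩ : (Q : Subgroup H)) : H)) hg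
    simp only [MulAut.conjNormal_apply, MulAut.one_apply] at h1
    -- `g * y * g⁻¹ = y`
    calc y * g = (g * y * g⁻¹) * g := by rw [h1]
      _ = g * y := by group
  have hbot := br_redK_transfer hperf p Q hcent
  rw [hbot, Subgroup.card_bot] at hQ
  exact hp.out.one_lt.ne hQ

/-- `|G| < p ^ 3` and a non-normal Sylow `p`-subgroup force the Sylow subgroup to have order `p`. -/
theorem br_redK_card_sylow {G : Type*} [Group G] [Finite G] (p : ℕ) [hp : Fact p.Prime]
    (hdvd : p ∣ Nat.card G) (hbig : Nat.card G < p ^ 3) (P : Sylow p G)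
    (hP : ¬ (P : Subgroup G).Normal) : Nat.card (P : Subgroup G) = p := by
  have hp1 := hp.out.one_lt
  have hpos : 0 < Nat.card G := Nat.card_pos
  have hcard := P.card_eq_multiplicity
  set k := (Nat.card G).factorization p with hk
  have hk1 : 1 ≤ k := by
    rw [hk]
    exact (hp.out.dvd_iff_one_le_factorization hpos.ne').mp hdvd
  rcases Nat.lt_or_ge k 2 with h | h
  · have : k = 1 := by omega
    rw [hcard, this, pow_one]
  · exfalso
    apply hP
    -- the number of Sylow subgroups divides the index of `P`, which is `< p`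
    have hidx : (P : Subgroup G).index < p := by
      have h1 := (P : Subgroup G).card_mul_index
      rw [hcard] at h1
      have h2 : p ^ 2 ∣ p ^ k := pow_dvd_pow p h
      have h3 : p ^ 2 * (P : Subgroup G).index ≤ Nat.card G := by
        rw [← h1]
        exact Nat.mul_le_mul_right _ (Nat.le_of_dvd (pow_pos hp.out.pos k) h2)
      by_contra hge
      push Not at hge
      have : p ^ 3 ≤ p ^ 2 * (P : Subgroup G).index := by
        rw [pow_succ p 2]; exact Nat.mul_le_mul_left _ hge
      omega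
    have hdiv : Nat.card (Sylow p G) ∣ (P : Subgroup G).index := P.card_dvd_index
    have hmod : Nat.card (Sylow p G) ≡ 1 [MOD p] := card_sylow_modEq_one p G
    have hipos : 0 < (P : Subgroup G).index := Nat.pos_of_ne_zero (Subgroup.index_ne_zero_of_finite)
    have hle : Nat.card (Sylow p G) < p := lt_of_le_of_lt (Nat.le_of_dvd hipos hdiv) hidx
    have hone : Nat.card (Sylow p G) = 1 := by
      have h1 : Nat.card (Sylow p G) % p = 1 % p := hmod
      rw [Nat.mod_eq_of_lt hle, Nat.mod_eq_of_lt hp1] at h1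
      exact h1
    have hsub : Subsingleton (Sylow p G) := (Nat.card_eq_one_iff_unique.mp hone).1
    exact Sylow.normal_of_subsingleton P

/-- A quotient of a perfect group is perfect. -/
theorem br_redK_quot_perfect {G : Type*} [Group G] (K : Subgroup G) [K.Normal]
    (hperf : commutator G = ⊤) : commutator (G ⧸ K) = ⊤ := by
  have hs : Function.Surjective (QuotientGroup.mk' K) := QuotientGroup.mk'_surjective K
  rw [commutator_def] at hperf ⊢
  have h1 := Subgroup.map_commutator (⊤ : Subgroup G) ⊤ (QuotientGroup.mk' K)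
  rw [hperf, Subgroup.map_top_of_surjective _ hs] at h1
  exact h1.symm

/-- `|G| = |G ⧸ O_{p'}(G)| * |O_{p'}(G)|`. -/
theorem br_redK_card_mul {G : Type*} [Group G] (p : ℕ) :
    Nat.card G = Nat.card (G ⧸ Cfsg.pPrimeCore p G) * Nat.card (Cfsg.pPrimeCore p G) :=
  Subgroup.card_eq_card_quotient_mul_card_subgroup _

/-- `p` still divides the order of `G ⧸ O_{p'}(G)`. -/
theorem br_redK_quot_dvd {G : Type*} [Group G] [Finite G] (p : ℕ) [hp : Fact p.Prime]
    (hdvd : p ∣ Nat.card G) : p ∣ Nat.card (G ⧸ Cfsg.pPrimeCore p G) := by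
  rw [br_redK_card_mul p] at hdvd
  rcases (Nat.Prime.dvd_mul hp.out).mp hdvd with h | h
  · exact h
  · exact absurd h (Cfsg.Agent.Helper5.not_dvd_card_pPrimeCore p)

/-- The order of `PSL₂(F)`, `|F| = p` odd. -/
theorem br_redK_card_psl_odd {F : Type*} [Field F] [Fintype F] {p : ℕ} (hF : Fintype.card F = p)
    (hodd : Odd p) :
    2 * Nat.card (Matrix.ProjectiveSpecialLinearGroup (Fin 2) F) = p * (p ^ 2 - 1) := by
  have h1 := Cfsg.Agent.Helper8.Dk.card_center_mul_card_PSL2 (F := F)
  rw [Cfsg.Agent.Helper8.Dk.card_center_SL2, hF] at h1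
  have h2 : Nat.gcd 2 (p - 1) = 2 := by
    obtain ⟨k, hk⟩ := hodd
    have : p - 1 = 2 * k := by omega
    rw [this]
    exact Nat.gcd_mul_right_right k 2
  rw [h2] at h1
  exact h1

/-- The order of `PSL₂(F)`, `|F| = 2 ^ m`, `m ≥ 1`. -/
theorem br_redK_card_psl_even {F : Type*} [Field F] [Fintype F] {m : ℕ} (hm : 1 ≤ m)
    (hF : Fintype.card F = 2 ^ m) :
    Nat.card (Matrix.ProjectiveSpecialLinearGroup (Fin 2) F) = 2 ^ m * ((2 ^ m) ^ 2 - 1) := by
  have h1 := Cfsg.Agent.Helper8.Dk.card_center_mul_card_PSL2 (F := F)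
  rw [Cfsg.Agent.Helper8.Dk.card_center_SL2, hF] at h1
  have h2 : Nat.gcd 2 (2 ^ m - 1) = 1 := by
    obtain ⟨k, rfl⟩ : ∃ k, m = k + 1 := ⟨m - 1, by omega⟩
    have hpos : 0 < 2 ^ k := pow_pos (by norm_num) k
    have : 2 ^ (k + 1) - 1 = 2 * (2 ^ k - 1) + 1 := by rw [pow_succ]; omega
    rw [this]
    simp
  rw [h2, one_mul] at h1
  exact h1

/-- **The outer reduction of S4701.**  If the theorem holds (in its `PSL` form) for the perfect groups
`H` of order `< p ^ 3` with `O_{p'}(H) = 1` all of whose Sylow `p`-subgroups have order `p` and are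
not normal, then it holds for every perfect `G` of order `< p ^ 3`, divisible by `p`, with a
non-normal Sylow `p`-subgroup and without normal subgroup of order two. -/
theorem br_redK_main {G : Type u} [Group G] [Finite G] (hperf : commutator G = ⊤) (p : ℕ)
    [hp : Fact p.Prime] (hdvd : p ∣ Nat.card G) (hbig : Nat.card G < p ^ 3) (P : Sylow p G)
    (hP : ¬ (P : Subgroup G).Normal) (h2 : ∀ N : Subgroup G, N.Normal → Nat.card N ≠ 2)
    (core : ∀ (H : Type u) [Group H] [Finite H], commutator H = ⊤ → p ∣ Nat.card H →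
      Nat.card H < p ^ 3 →
      (∀ Q : Sylow p H, Nat.card (Q : Subgroup H) = p ∧ ¬ (Q : Subgroup H).Normal) →
      Cfsg.pPrimeCore p H = ⊥ →
      (∃ (F : Type) (_ : Field F) (_ : Fintype F), Fintype.card F = p ∧ 3 < p ∧
        Nonempty (H ≃* Matrix.ProjectiveSpecialLinearGroup (Fin 2) F)) ∨
      (∃ (m : ℕ) (F : Type) (_ : Field F) (_ : Fintype F), Fintype.card F = 2 ^ m ∧
        p = 2 ^ m + 1 ∧ 3 < p ∧ Nonempty (H ≃* Matrix.ProjectiveSpecialLinearGroup (Fin 2) F))) :
    (∃ (F : Type) (_ : Field F) (_ : Fintype F), Fintype.card F = p ∧ 3 < p ∧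
      Nonempty (G ≃* Matrix.ProjectiveSpecialLinearGroup (Fin 2) F)) ∨
    (∃ (m : ℕ) (F : Type) (_ : Field F) (_ : Fintype F), Fintype.card F = 2 ^ m ∧
      p = 2 ^ m + 1 ∧ 3 < p ∧ Nonempty (G ≃* Matrix.SpecialLinearGroup (Fin 2) F)) := by
  classical
  set K := Cfsg.pPrimeCore p G with hK
  have hcard := br_redK_card_mul (G := G) p
  rw [← hK] at hcard
  have hKpos : 0 < Nat.card K := Nat.card_pos
  have hperfQ : commutator (G ⧸ K) = ⊤ := br_redK_quot_perfect K hperf
  have hdvdQ : p ∣ Nat.card (G ⧸ K) := br_redK_quot_dvd p hdvd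
  have hbigQ : Nat.card (G ⧸ K) < p ^ 3 := by
    refine lt_of_le_of_lt ?_ hbig
    rw [hcard]
    exact Nat.le_mul_of_pos_right _ hKpos
  have hcoreQ : Cfsg.pPrimeCore p (G ⧸ K) = ⊥ := Cfsg.Agent.Helper4.pPrimeCore_quotient_eq_bot p
  have hsylQ : ∀ Q : Sylow p (G ⧸ K), Nat.card (Q : Subgroup (G ⧸ K)) = p ∧
      ¬ (Q : Subgroup (G ⧸ K)).Normal := by
    intro Q
    have hc : Nat.card (Q : Subgroup (G ⧸ K)) = p := by
      rw [Q.card_eq_multiplicity]
      have h1 : (Nat.card (G ⧸ K)).factorization p = (Nat.card G).factorization p := by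
        rw [hcard, Nat.factorization_mul Nat.card_pos.ne' hKpos.ne']
        have : (Nat.card K).factorization p = 0 :=
          Nat.factorization_eq_zero_of_not_dvd (Cfsg.Agent.Helper5.not_dvd_card_pPrimeCore p)
        simp [this]
      rw [h1, ← P.card_eq_multiplicity]
      exact br_redK_card_sylow p hdvd hbig P hP
    exact ⟨hc, br_redK_not_normal hperfQ p Q hc⟩
  have hp2 : 2 ≤ p := hp.out.two_le
  -- the kernel is trivial as soon as its order is at most two
  have hfin : Nat.card K ≤ 2 → Nonempty (G ≃* G ⧸ K) := by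
    intro hle
    have hne : Nat.card K ≠ 2 := h2 K inferInstance
    have h1 : Nat.card K = 1 := by omega
    have hbot : K = ⊥ := Subgroup.card_eq_one.mp h1
    exact ⟨((QuotientGroup.quotientMulEquivOfEq hbot).trans QuotientGroup.quotientBot).symm⟩
  rcases core (G ⧸ K) hperfQ hdvdQ hbigQ hsylQ hcoreQ with
    ⟨F, iF, iFt, hF, h3, ⟨e⟩⟩ | ⟨m, F, iF, iFt, hF, hpm, h3, ⟨e⟩⟩
  · left
    have hodd : Odd p := hp.out.odd_of_ne_two (by omega)
    have hc := br_redK_card_psl_odd hF hodd
    rw [← Nat.card_congr e.toEquiv] at hc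
    have hle : Nat.card K ≤ 2 := by
      by_contra hgt
      push Not at hgt
      have h4 : 3 * Nat.card (G ⧸ K) ≤ Nat.card G := by
        rw [hcard, mul_comm 3]; exact Nat.mul_le_mul_left _ hgt
      obtain ⟨s, hs⟩ : ∃ s, p ^ 2 = s + 1 := ⟨p ^ 2 - 1, by
        have : 0 < p ^ 2 := pow_pos hp.out.pos 2
        omega⟩
      have h5 : p ^ 2 - 1 = s := by omega
      rw [h5] at hc
      have h6 : p ^ 3 = p * (s + 1) := by rw [← hs]; ring
      have h7 : 3 * (p * s) < 2 * (p * (s + 1)) := by
        rw [← h6, ← hc]; omega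
      have h8 : p * (3 * s) < p * (2 * (s + 1)) := by
        calc p * (3 * s) = 3 * (p * s) := by ring
          _ < 2 * (p * (s + 1)) := h7
          _ = p * (2 * (s + 1)) := by ring
      have h9 := Nat.lt_of_mul_lt_mul_left h8
      have h10 : 4 ≤ p ^ 2 := by nlinarith
      omega
    obtain ⟨e'⟩ := hfin hle
    exact ⟨F, iF, iFt, hF, h3, ⟨e'.trans e⟩⟩
  · right
    have hm1 : 1 ≤ m := by
      rcases Nat.eq_zero_or_pos m with h | h
      · rw [h] at hpm; omega
      · exact h
    have hc := br_redK_card_psl_even hm1 hF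
    rw [← Nat.card_congr e.toEquiv] at hc
    have hq : 2 ^ m = p - 1 := by omega
    have hle : Nat.card K ≤ 2 := by
      by_contra hgt
      push Not at hgt
      have h4 : 3 * Nat.card (G ⧸ K) ≤ Nat.card G := by
        rw [hcard, mul_comm 3]; exact Nat.mul_le_mul_left _ hgt
      obtain ⟨r, hr⟩ : ∃ r, p = r + 4 := ⟨p - 4, by omega⟩
      have h5 : 2 ^ m = r + 3 := by omega
      rw [h5] at hc
      have h6 : (r + 3) ^ 2 - 1 = (r + 2) * (r + 4) := by
        have : (r + 3) ^ 2 = (r + 2) * (r + 4) + 1 := by ring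
        omega
      rw [h6] at hc
      have h7 : 3 * ((r + 3) * ((r + 2) * (r + 4))) < (r + 4) ^ 3 := by
        rw [← hc, ← hr]; omega
      nlinarith
    obtain ⟨e'⟩ := hfin hle
    have : Fact (Nat.Prime 2) := ⟨Nat.prime_two⟩
    have : CharP F 2 := charP_of_card_eq_prime_pow hF
    obtain ⟨e2⟩ := Cfsg.Agent.Helper4.psl2_equiv_sl2 (F := F)
    exact ⟨m, F, iF, iFt, hF, hpm, h3, ⟨(e'.trans e).trans e2⟩⟩

end Cfsg.Agent.BR
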