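import Cfsg.Agent.BR.SetupA
import Cfsg.Agent.BR.DblGram

/-!
# Brauer–Reynolds track: `br_dg_Hyp` from `BR/Setup`, `BR/SetupA`

For `P` a Sylow `p`-subgroup of order `p` with `C_G(P) ≤ P`, `N = N_G(P)`, `f = |N : P|`,
`|Syl_p| = 1 + n p` and all `|N ∩ x N x⁻¹| = f` (`x ∉ N`), the bundle `br_dg_Hyp` of `BR/DblGram`
holds for `A = br_setup_A p P` and a suitable exponent function.
-/

set_option autoImplicit false
set_option linter.unusedSectionVars false
set_option linter.unusedVariables false

namespace Cfsg.Agent.BR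

open Subgroup
open scoped Classical

universe u

variable {G : Type u} [Group G] [Fintype G] (p : ℕ) [Fact p.Prime] (P : Sylow p G)

/-- the exponent function `x ↦ c(x)` (`0` for `x ∈ N`) -/
noncomputable def br_setup_cx (hP : Nat.card P = p)
    (hC : Subgroup.centralizer ((P : Subgroup G) : Set G) ≤ (P : Subgroup G))
    (hD : ∀ x : G, x ∉ Subgroup.normalizer ((P : Subgroup G) : Set G) →
      Nat.card (br_setup_D (Subgroup.normalizer ((P : Subgroup G) : Set G)) x) =
        (P : Subgroup G).relIndex (Subgroup.normalizer ((P : Subgroup G) : Set G))) (x : G) : ℕ :=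
  if hx : x ∉ Subgroup.normalizer ((P : Subgroup G) : Set G) then
    Classical.choose (br_setup_exists_c p P hP hC x hx (hD x hx))
  else 0

theorem br_setup_cx_spec (hP : Nat.card P = p)
    (hC : Subgroup.centralizer ((P : Subgroup G) : Set G) ≤ (P : Subgroup G))
    (hD : ∀ x : G, x ∉ Subgroup.normalizer ((P : Subgroup G) : Set G) →
      Nat.card (br_setup_D (Subgroup.normalizer ((P : Subgroup G) : Set G)) x) =
        (P : Subgroup G).relIndex (Subgroup.normalizer ((P : Subgroup G) : Set G))) (x : G)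
    (hx : x ∉ Subgroup.normalizer ((P : Subgroup G) : Set G)) :
    (br_setup_cx p P hP hC hD x).Coprime
        ((P : Subgroup G).relIndex (Subgroup.normalizer ((P : Subgroup G) : Set G))) ∧
      ∀ l ∈ br_setup_A p P, ∀ (m : G)
        (hm : m ∈ Subgroup.normalizer ((P : Subgroup G) : Set G))
        (hm' : x⁻¹ * m * x ∈ Subgroup.normalizer ((P : Subgroup G) : Set G)),
        l ⟨x⁻¹ * m * x, hm'⟩ = (l ⟨m, hm⟩) ^ (br_setup_cx p P hP hC hD x) := by
  unfold br_setup_cx
  rw [dif_pos hx]
  exact Classical.choose_spec (br_setup_exists_c p P hP hC x hx (hD x hx))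

/-- the bundle of `BR/DblGram` -/
theorem br_setup_dg_hyp (hP : Nat.card P = p)
    (hC : Subgroup.centralizer ((P : Subgroup G) : Set G) ≤ (P : Subgroup G))
    (hD : ∀ x : G, x ∉ Subgroup.normalizer ((P : Subgroup G) : Set G) →
      Nat.card (br_setup_D (Subgroup.normalizer ((P : Subgroup G) : Set G)) x) =
        (P : Subgroup G).relIndex (Subgroup.normalizer ((P : Subgroup G) : Set G)))
    (n : ℕ) (hn : Nat.card (Sylow p G) = 1 + n * p) :
    br_dg_Hyp (Subgroup.normalizer ((P : Subgroup G) : Set G)) (br_setup_A p P)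
      ((P : Subgroup G).relIndex (Subgroup.normalizer ((P : Subgroup G) : Set G))) n
      (br_setup_cx p P hP hC hD) where
  f_pos := Nat.pos_of_dvd_of_pos (Subgroup.relIndex_dvd_card _ _) Nat.card_pos
  card_A := br_setup_card_A p P hP hC
  cyc := br_setup_isCyclic_A p P hP hC
  card_D := fun x hx => hD x hx
  expo := fun x hx => (br_setup_cx_spec p P hP hC hD x hx).2
  inj := by
    intro x hx l₁ h₁ l₂ h₂ hag
    have hcomp := br_setup_D_isCompl p P hP x hx (hD x hx)
    apply br_setup_A_ext_compl p P _ hcomp l₁ l₂ h₁ h₂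
    intro m hm
    exact hag m _ ((br_setup_mem_D _ x m).mp hm).2
  cop := fun x hx => (br_setup_cx_spec p P hP hC hD x hx).1
  card_G := by
    rw [br_setup_card_G p P hP, br_setup_card_N p P hP, hn]
    ring

end Cfsg.Agent.BR
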