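import Cfsg.Agent.BR.Vals
import Cfsg.Agent.BR.PiD
import Cfsg.Agent.BR.SetupDg
import Cfsg.Agent.BR.Theta
import Cfsg.Agent.BR.Dbl
import Cfsg.Agent.BR.EpsPlusB
import Cfsg.Agent.BR.NOne
import Cfsg.Agent.BR.RedK

/-!
# Brauer-Reynolds track: THEOREM A, the case analysis (lead)

Convention: `N = N_G(P)`, `f = |N : P|`, index set `↥(br_setup_A p P)` (the linear characters of `N`
trivial on `P`), `l₀ = 1`, `Θ l = br_dg_theta N l = Ind_N^G l`, `lam l h = l(h)` extended by zero.

`br_mainA_core`: from the bundle `br_vl_Hyp` in this convention (which contains (**)), perfectness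
and the two recognition steps L6 (`f ≥ 4`) and L7 (`f = 2`) as hypotheses, the conclusion of S0996.
-/

set_option autoImplicit false

namespace Cfsg.Agent.BR

open Cfsg Cfsg.Agent.Helper6 Finset
open scoped ComplexConjugate Classical

universe u

variable {G : Type u} [Group G] [Fintype G] (p : ℕ) [Fact p.Prime] (P : Sylow p G)

/-- the family `Θ` of the convention -/
noncomputable def br_ma_Theta : ↥(br_setup_A p P) → G → ℂ :=
  fun l => br_dg_theta (Subgroup.normalizer ((P : Subgroup G) : Set G))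
    (l : ↥(Subgroup.normalizer ((P : Subgroup G) : Set G)) →* ℂˣ)

/-- the values `lam l h = l(h)` of the convention -/
noncomputable def br_ma_lam : ↥(br_setup_A p P) → G → ℂ :=
  fun l h => Cfsg.extendByZero (Subgroup.normalizer ((P : Subgroup G) : Set G))
    (br_mky_fn (Subgroup.normalizer ((P : Subgroup G) : Set G))
      (l : ↥(Subgroup.normalizer ((P : Subgroup G) : Set G)) →* ℂˣ)) h

/-- the first conclusion of S0996 from `n = 1` -/
theorem br_ma_psl (hp5 : 5 ≤ p) (hP : Nat.card P = p)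
    (hC : Subgroup.centralizer ((P : Subgroup G) : Set G) ≤ (P : Subgroup G))
    (hperf : commutator G = ⊤) (hn : Nat.card (Sylow p G) = 1 + 1 * p) :
    ∃ (F : Type) (_ : Field F) (_ : Fintype F), Fintype.card F = p ∧ 3 < p ∧
      Nonempty (G ≃* Matrix.ProjectiveSpecialLinearGroup (Fin 2) F) := by
  have hn' : Nat.card (Sylow p G) = p + 1 := by rw [hn]; ring
  obtain ⟨e⟩ := br_nOne' p hp5 P hP hC hperf hn'
  exact ⟨ZMod p, inferInstance, inferInstance, ZMod.card p, by omega, ⟨e⟩⟩

/-- a finite field of even order `p - 1` has order `2 ^ m` -/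
theorem br_ma_two_pow {F : Type} [Field F] [Fintype F] {q : ℕ} (hF : Fintype.card F = q)
    (heven : Even q) : ∃ m : ℕ, q = 2 ^ m := by
  obtain ⟨r, -, k, hr, hk⟩ := FiniteField.card' F
  rw [hF] at hk
  have h2 : r = 2 := by
    have h1 : 2 ∣ r ^ (k : ℕ) := by rw [← hk]; exact heven.two_dvd
    have h3 := Nat.Prime.dvd_of_dvd_pow Nat.prime_two h1
    exact ((Nat.prime_dvd_prime_iff_eq Nat.prime_two hr).mp h3).symm
  exact ⟨k, by rw [hk, h2]⟩

/-- `n ≥ 1`: a perfect group has no normal Sylow subgroup of order `p` -/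
theorem br_ma_one_le_n (hP : Nat.card P = p) (hperf : commutator G = ⊤) (n : ℕ)
    (hn : Nat.card (Sylow p G) = 1 + n * p) : 1 ≤ n := by
  by_contra h
  have h0 : n = 0 := by omega
  rw [h0, zero_mul, add_zero] at hn
  have hsub : Subsingleton (Sylow p G) := (Nat.card_eq_one_iff_unique.mp hn).1
  exact br_redK_not_normal hperf p P hP (Sylow.normal_of_subsingleton P)

/-- **THEOREM A**, the case analysis. `hL6` and `hL7` are the two recognition steps. -/
theorem br_mainA_core [Fintype (IrrCharacter G)] (hperf : commutator G = ⊤)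
    (hP : Nat.card P = p)
    (hC : Subgroup.centralizer ((P : Subgroup G) : Set G) ≤ (P : Subgroup G))
    (n : ℕ) (hn : Nat.card (Sylow p G) = 1 + n * p)
    [Fintype ↥(P : Subgroup G)] [Fintype ↥(Subgroup.normalizer ((P : Subgroup G) : Set G))]
    [Fintype ↥(br_setup_A p P)]
    (X Y : Finset (IrrCharacter G)) (dl : IrrCharacter G → ℤ) (ε : ℤ)
    (H : br_vl_Hyp p (P : Subgroup G) (Subgroup.normalizer ((P : Subgroup G) : Set G))
      ((P : Subgroup G).relIndex (Subgroup.normalizer ((P : Subgroup G) : Set G))) n X Y dl ε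
      (br_ma_Theta p P) 1 (br_ma_lam p P))
    (hnorm : ε = 1 → ∀ ψ ∈ Y, ∑ x : ↥(P : Subgroup G),
      (ψ : G → ℂ) (x : G) * conj ((ψ : G → ℂ) (x : G)) =
        (Nat.card ↥(Subgroup.normalizer ((P : Subgroup G) : Set G)) : ℂ))
    (hL6 : ε = -1 →
      Even ((P : Subgroup G).relIndex (Subgroup.normalizer ((P : Subgroup G) : Set G))) →
      4 ≤ (P : Subgroup G).relIndex (Subgroup.normalizer ((P : Subgroup G) : Set G)) →
      ∀ k₀ : ↥(br_setup_A p P), orderOf k₀ = 2 → br_dbl_S (br_ma_Theta p P) Y = {k₀} →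
        br_nd_w (br_ma_Theta p P) 1 Y = 1 → Y.card = n + 1 → Y.card ≤ 2)
    (hL7 : ε = -1 →
      (P : Subgroup G).relIndex (Subgroup.normalizer ((P : Subgroup G) : Set G)) = 2 →
      ∀ k₀ : ↥(br_setup_A p P), orderOf k₀ = 2 → br_dbl_S (br_ma_Theta p P) Y = {k₀} →
        br_nd_w (br_ma_Theta p P) 1 Y = 1 → Y.card = n + 1 →
        ∃ (F : Type) (_ : Field F) (_ : Fintype F), Fintype.card F = p - 1 ∧
          Nonempty (G ≃* Matrix.ProjectiveSpecialLinearGroup (Fin 2) F)) :
    (∃ (F : Type) (_ : Field F) (_ : Fintype F), Fintype.card F = p ∧ 3 < p ∧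
      Nonempty (G ≃* Matrix.ProjectiveSpecialLinearGroup (Fin 2) F)) ∨
    (∃ (m : ℕ) (F : Type) (_ : Field F) (_ : Fintype F), Fintype.card F = 2 ^ m ∧
      p = 2 ^ m + 1 ∧ 3 < p ∧ Nonempty (G ≃* Matrix.ProjectiveSpecialLinearGroup (Fin 2) F)) := by
  set N := Subgroup.normalizer ((P : Subgroup G) : Set G) with hN
  set f := (P : Subgroup G).relIndex N with hf
  have hnd := H.nd
  have hf2 : 2 ≤ f := br_setup_two_le_f p P hP hC hperf
  have hn1 : 1 ≤ n := br_ma_one_le_n p P hP hperf n hn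
  have hprime : p.Prime := Fact.out
  -- `|Y| f = p - 1`, so `p` is odd
  have hcY := hnd.card_Y
  have hYpos : 0 < Y.card := Finset.card_pos.mpr hnd.Y_nonempty
  have hp3 : 3 ≤ p := by
    have : 1 * 2 ≤ Y.card * f := Nat.mul_le_mul hYpos hf2
    omega
  have hpodd : Odd p := hprime.odd_of_ne_two (by omega)
  have hevenp : Even (p - 1) := by
    obtain ⟨j, hj⟩ := hpodd
    exact ⟨j, by omega⟩
  -- `hD`
  have hπ : br_ma_Theta p P 1 = indFun N (br_mky_fn N 1) := rfl
  have hD : ∀ x : G, x ∉ N → Nat.card ↥(br_setup_D N x) = f :=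
    fun x hx => br_pid_card_D hnd rfl hπ hn x hx
  -- the Gram matrix
  obtain ⟨κ, _, c, hκ, hc, hg⟩ := br_dg_main (br_setup_dg_hyp p P hP hC hD n hn)
  have hg' : ∀ k l : ↥(br_setup_A p P),
      classInner (br_ma_Theta p P k) (br_ma_Theta p P l) = (br_dc_gram c k l : ℂ) := hg
  -- `f` odd forces `|Y|` even
  have hYeven : Odd f → 2 ≤ Y.card := by
    intro hodd
    rcases Nat.even_or_odd Y.card with he | ho
    · obtain ⟨j, hj⟩ := he; omega
    · exfalso
      have : Odd (Y.card * f) := ho.mul hodd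
      rw [hcY] at this
      exact (Nat.not_even_iff_odd.mpr this) hevenp
  rcases hnd.eps_sign with he | he
  · -- `ε = 1`
    rcases Nat.even_or_odd f with hev | hodd
    · obtain ⟨k₀, -, -, -, -, he'⟩ := br_dbl_even hnd c hc hκ hg' hev hn1
      rw [he] at he'
      norm_num at he'
    · obtain ⟨ψ, hψ⟩ := hnd.Y_nonempty
      have hlam : ∀ (l : ↥(br_setup_A p P)) (m : ↥N), (m : G) ∈ (P : Subgroup G) →
          br_mky_fn N (l : ↥N →* ℂˣ) m = 1 := by
        intro l m hm
        rw [br_mky_fn_apply]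
        have := br_setup_A_apply_P p P (l : ↥N →* ℂˣ) l.2 (m : G) hm
        have hm' : (⟨(m : G), Subgroup.le_normalizer hm⟩ : ↥N) = m := Subtype.ext rfl
        rw [hm'] at this
        rw [this, Units.val_one]
      obtain ⟨hn', hY2⟩ := br_epl_main_sylow hnd he hC
        (fun (l : ↥(br_setup_A p P)) => br_mky_fn N (l : ↥N →* ℂˣ)) hlam (fun l => rfl) ψ hψ
        (hnorm he ψ hψ) hf2 hn1 (hYeven hodd)
      left
      have hf3 : 3 ≤ f := by
        obtain ⟨j, hj⟩ := hodd; omega
      have hp5 : 5 ≤ p := by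
        rw [hY2] at hcY; omega
      rw [hn'] at hn
      exact br_ma_psl p P hp5 hP hC hperf hn
  · -- `ε = -1`
    rcases Nat.even_or_odd f with hev | hodd
    · obtain ⟨k₀, hk₀, hS, hw, ht, -⟩ := br_dbl_even hnd c hc hκ hg' hev hn1
      by_cases hf2' : f = 2
      · right
        obtain ⟨F, iF, iFt, hF, ⟨e⟩⟩ := hL7 he hf2' k₀ hk₀ hS hw ht
        obtain ⟨m, hm⟩ := br_ma_two_pow hF hevenp
        have hp5 : 5 ≤ p := by
          rw [ht, hf2'] at hcY; omega
        exact ⟨m, F, iF, iFt, by rw [hF, hm], by omega, by omega, ⟨e⟩⟩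
      · left
        have hf4 : 4 ≤ f := by
          obtain ⟨j, hj⟩ := hev; omega
        have hY2 := hL6 he hev hf4 k₀ hk₀ hS hw ht
        have hn' : n = 1 := by omega
        have hp5 : 5 ≤ p := by
          rw [ht, hn'] at hcY; omega
        rw [hn'] at hn
        exact br_ma_psl p P hp5 hP hC hperf hn
    · exact (br_dbl_odd hnd c hc hg' hodd he (hYeven hodd)
        (br_th_hdiv p P hP hC hf2 hD n hn)).elim

end Cfsg.Agent.BR
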