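import Cfsg.Agent.BR.MainA
import Cfsg.Agent.BR.LSixC
import Cfsg.Agent.BR.Block

/-!
# Brauer-Reynolds track: THEOREM A, second layer (lead)

`br_mainB`: `br_mainA_core` with the L6 step discharged by `br_l6_concrete` (helper2) and the norm
hypothesis of L4 discharged from the block data (`br_epl_hnorm`, helper8).  Only L7 (`f = 2`) is
left as a hypothesis.
-/

set_option autoImplicit false

namespace Cfsg.Agent.BR

open Cfsg Cfsg.Agent.Helper6 Finset
open scoped ComplexConjugate Classical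

universe u

variable {G : Type u} [Group G] [Fintype G] (p : ℕ) [Fact p.Prime] (P : Sylow p G)

theorem br_mainB [Fintype (IrrCharacter G)] (hperf : commutator G = ⊤)
    (hP : Nat.card P = p)
    (hC : Subgroup.centralizer ((P : Subgroup G) : Set G) ≤ (P : Subgroup G))
    (n : ℕ) (hn : Nat.card (Sylow p G) = 1 + n * p)
    [Fintype ↥(P : Subgroup G)] [Fintype ↥(Subgroup.normalizer ((P : Subgroup G) : Set G))]
    [Fintype ↥(br_setup_A p P)]
    {Xs Ys : Set (IrrCharacter G)} {dl : IrrCharacter G → ℤ} {ε : ℤ}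
    {O : IrrCharacter G → Finset (↥(P : Subgroup G) →* ℂˣ)}
    (h : br_blk_IsData P Xs Ys dl ε O)
    (X Y : Finset (IrrCharacter G)) (hY : ∀ ψ, ψ ∈ Y → ψ ∈ Ys)
    (H : br_vl_Hyp p (P : Subgroup G) (Subgroup.normalizer ((P : Subgroup G) : Set G))
      ((P : Subgroup G).relIndex (Subgroup.normalizer ((P : Subgroup G) : Set G))) n X Y dl ε
      (br_ma_Theta p P) 1 (br_ma_lam p P))
    (hL7 : ε = -1 →
      (P : Subgroup G).relIndex (Subgroup.normalizer ((P : Subgroup G) : Set G)) = 2 →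
      ∀ k₀ : ↥(br_setup_A p P), orderOf k₀ = 2 → br_dbl_S (br_ma_Theta p P) Y = {k₀} →
        br_nd_w (br_ma_Theta p P) 1 Y = 1 → Y.card = n + 1 →
        ∃ (F : Type) (_ : Field F) (_ : Fintype F), Fintype.card F = p - 1 ∧
          Nonempty (G ≃* Matrix.ProjectiveSpecialLinearGroup (Fin 2) F)) :
    (∃ (F : Type) (_ : Field F) (_ : Fintype F), Fintype.card F = p ∧ 3 < p ∧
      Nonempty (G ≃* Matrix.ProjectiveSpecialLinearGroup (Fin 2) F)) ∨
    (∃ (m : ℕ) (F : Type) (_ : Field F) (_ : Fintype F), Fintype.card F = 2 ^ m ∧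
      p = 2 ^ m + 1 ∧ 3 < p ∧ Nonempty (G ≃* Matrix.ProjectiveSpecialLinearGroup (Fin 2) F)) := by
  refine br_mainA_core p P hperf hP hC n hn X Y dl ε H ?_ ?_ hL7
  · intro he ψ hψ
    exact br_epl_hnorm h ψ (hY ψ hψ) (H.nd.deg_eps_plus he ψ hψ)
  · intro he heven hf4 k₀ _ hS _ _
    exact br_l6_concrete p P hP hC H hn he k₀ hS heven hf4

end Cfsg.Agent.BR
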