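import Cfsg.Agent.BR.MainB
import Cfsg.Agent.BR.Glue
import Cfsg.Agent.BR.FTwoI

/-!
# Brauer-Reynolds track: THEOREM A, top layer (lead)

`br_mainC`: a perfect finite group with a self-centralizing Sylow `p`-subgroup of order `p` and
`1 + n p` Sylow `p`-subgroups, `2 n < p + 3`, is `PSL₂(p)` or `PSL₂(2^m)` with `p = 2^m + 1` -
given the L7 core `br_mc_L7Core` (the character table at an involution forces `PSL₂(2^m)`).
-/

set_option autoImplicit false

namespace Cfsg.Agent.BR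

open Cfsg Cfsg.Agent.Helper6 Finset
open scoped ComplexConjugate Classical

universe u

/-- the statement of the L7 core: the character table at the involution `z` (output of
`br_f2i_table`) forces `G ≃* PSL₂(F)`, `|F| = p - 1`. -/
def br_mc_L7Core (G : Type u) [Group G] [Fintype G] [Fintype (IrrCharacter G)] (p : ℕ) : Prop :=
  ∀ (n : ℕ) (Y : Finset (IrrCharacter G)) (z : G) (χm : IrrCharacter G)
    (zz : IrrCharacter G → ℕ),
    p.Prime → 5 ≤ p → z * z = 1 → z ≠ 1 → Nat.card G = p * (p - 1) * (p - 2) →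
    χm ≠ trivIrr G → χm ∉ Y → trivIrr G ∉ Y → p = 2 * n + 3 → 2 * Y.card = p - 1 →
    charDegree (χm : G → ℂ) = p - 1 → (χm : G → ℂ) z = 0 →
    (∀ ψ ∈ Y, charDegree (ψ : G → ℂ) = p - 2 ∧ (ψ : G → ℂ) z = -1) →
    (∀ ζ : IrrCharacter G, ζ ≠ trivIrr G → ζ ≠ χm → ζ ∉ Y →
      charDegree (ζ : G → ℂ) = p * zz ζ ∧ (ζ : G → ℂ) z = (zz ζ : ℂ)) →
    ∑ ζ ∈ Finset.univ.filter
      (fun ζ : IrrCharacter G => ζ ≠ trivIrr G ∧ ζ ≠ χm ∧ ζ ∉ Y), (zz ζ) ^ 2 = n →
    ∃ (F : Type) (_ : Field F) (_ : Fintype F), Fintype.card F = p - 1 ∧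
      Nonempty (G ≃* Matrix.ProjectiveSpecialLinearGroup (Fin 2) F)

variable {G : Type u} [Group G] [Fintype G] (p : ℕ) [Fact p.Prime] (P : Sylow p G)

/-- **THEOREM A** modulo the L7 core. -/
theorem br_mainC [Fintype (IrrCharacter G)] (hperf : commutator G = ⊤)
    (hP : Nat.card (P : Subgroup G) = p)
    (hC : Subgroup.centralizer ((P : Subgroup G) : Set G) ≤ (P : Subgroup G))
    (n : ℕ) (hn : Nat.card (Sylow p G) = 1 + n * p) (hn2 : 2 * n < p + 3)
    (hcore : br_mc_L7Core G p) :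
    (∃ (F : Type) (_ : Field F) (_ : Fintype F), Fintype.card F = p ∧ 3 < p ∧
      Nonempty (G ≃* Matrix.ProjectiveSpecialLinearGroup (Fin 2) F)) ∨
    (∃ (m : ℕ) (F : Type) (_ : Field F) (_ : Fintype F), Fintype.card F = 2 ^ m ∧
      p = 2 ^ m + 1 ∧ 3 < p ∧ Nonempty (G ≃* Matrix.ProjectiveSpecialLinearGroup (Fin 2) F)) := by
  have : Fintype ↥(P : Subgroup G) := Fintype.ofFinite _
  have : Fintype ↥(Subgroup.normalizer ((P : Subgroup G) : Set G)) := Fintype.ofFinite _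
  have : Fintype ↥(br_setup_A p P) := Fintype.ofFinite _
  obtain ⟨Xs, Ys, dl, ep, O, h⟩ := br_blk_exists p P hP hC
  have hXf : ∀ χ, χ ∈ (Set.toFinite Xs).toFinset ↔ χ ∈ Xs := fun χ => Set.Finite.mem_toFinset _
  have hYf : ∀ ψ, ψ ∈ (Set.toFinite Ys).toFinset ↔ ψ ∈ Ys := fun ψ => Set.Finite.mem_toFinset _
  have H := br_gl_vl h (Set.toFinite Xs).toFinset (Set.toFinite Ys).toFinset hXf hYf n hn
    (by
      intro χ hχ hχt hd
      have hχX := (hXf χ).mp hχ
      have hdvd := br_blk_dvd_X h χ hχX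
      rw [hn] at hdvd
      exact br_star_X h hperf n hn2 χ hχX hχt hd hdvd)
    (by
      intro he
      apply br_star_Y_sum h hperf he n hn2 _ hYf
      intro ψ hψ
      have hdvd := br_blk_dvd_Y h ψ hψ
      rw [hn] at hdvd
      exact hdvd)
  have hXc : (Set.toFinite Xs).toFinset.card =
      (P : Subgroup G).relIndex (Subgroup.normalizer ((P : Subgroup G) : Set G)) := by
    rw [← br_gl_card_eq Xs _ hXf]
    exact h.card_X
  refine br_mainB p P hperf hP hC n hn h _ _ (fun ψ hψ => (hYf ψ).mp hψ) H ?_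
  intro he hf2 k₀ _ hS _ _
  rw [hf2] at hXc
  obtain ⟨z, χm, zz, h1, h2, h3, h4, h5, h6, h7, h8, h9, h10, h11, h12, h13⟩ :=
    br_f2i_table p P hP hf2 H hn k₀ hS hXc
  have hn1 : 1 ≤ n := br_ma_one_le_n p P hP hperf n hn
  exact hcore n _ z χm zz Fact.out (by omega) h1 h2 h3 h4 h5 h6 h7 h8 h9 h10 h11 h12 h13

end Cfsg.Agent.BR
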