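import Cfsg.Agent.Helper6.Expansion
import Cfsg.Agent.Helper6.Induced
import Cfsg.Agent.Helper6.PrincipalDefect
import Cfsg.Agent.D1C.Fin4442

/-!
# Brauer–Reynolds track: the nodes (L2, L3 of `notes/BrauerReynolds_blueprint_helper1.md`)

Abstract setting (everything is a hypothesis, so this file does not wait for `BR/Block`, `BR/Ind`):
`X`, `Y` disjoint finsets of irreducible characters of `G`, signs `dl` on `X` and one sign `ε` for
`Y`, a subgroup `P` of order `p`, and a family `Θ l` (`l : ι`, `|ι| = f`, distinguished `l₀`) of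
characters of degree `1 + n p`, constant `1` on `P ∖ 1`.

* `br_nd_Hyp` : the bundle of hypotheses (B1)–(B3), (F1), (**).
* `br_nd_node` (L2, `l ≠ l₀`) : `Θ l` is an irreducible `χ ∈ X`, `χ ≠ 1`, `dl χ = 1`, or `ε = -1`
  and `Θ l = ∑ ψ ∈ Y, ψ`.
* `br_nd_perm` (L2, `l = l₀`) : `Θ l₀` has no constituent in `X ∖ 1` or `Y`.
* `br_nd_deg_minus`, `br_nd_deg_eps_plus`, `br_nd_deg_eps_minus`, `br_nd_card_eq`, `br_nd_count`
  (L3).
-/

set_option autoImplicit false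
set_option linter.style.haveILetI false

namespace Cfsg.Agent.BR

open Cfsg Cfsg.Agent.Helper6 Cfsg.Agent.D1 Finset
open scoped ComplexConjugate

universe u v

variable {G : Type u} [Group G] [Fintype G]

/-- The hypotheses of L2/L3, in the shape of (B1)–(B3) (`BR/Block`), (F1) (`BR/Ind`) and (**). -/
structure br_nd_Hyp (p : ℕ) (P : Subgroup G) [Fintype P] (f n : ℕ)
    (X Y : Finset (IrrCharacter G)) (dl : IrrCharacter G → ℤ) (ε : ℤ)
    {ι : Type v} [Fintype ι] (Θ : ι → G → ℂ) (l₀ : ι) : Prop where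
  prime : p.Prime
  card_P : Nat.card P = p
  disj : Disjoint X Y
  triv_mem : trivIrr G ∈ X
  Y_nonempty : Y.Nonempty
  dl_sign : ∀ χ ∈ X, dl χ = 1 ∨ dl χ = -1
  eps_sign : ε = 1 ∨ ε = -1
  /-- (B1) values of `X` on `P ∖ 1` -/
  X_val : ∀ χ ∈ X, ∀ x ∈ P, x ≠ 1 → (χ : G → ℂ) x = (dl χ : ℂ)
  /-- (B2) the sum of an exceptional character over `P ∖ 1` -/
  Y_sum : ∀ ψ ∈ Y, ∑ x : P, (ψ : G → ℂ) x = (ψ : G → ℂ) 1 - (ε : ℂ) * (f : ℂ)
  /-- (B3) linear independence, for characters -/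
  lin : ∀ Ψ : G → ℂ, IsCharacter G Ψ → ∀ c : ℂ, (∀ x ∈ P, x ≠ 1 → Ψ x = c) →
    ∃ m' : ℂ, (∀ ψ ∈ Y, classInner Ψ (ψ : G → ℂ) = m') ∧
      ∑ χ ∈ X, classInner Ψ (χ : G → ℂ) * (dl χ : ℂ) - (ε : ℂ) * m' = c
  Θ_char : ∀ l, IsCharacter G (Θ l)
  Θ_one : ∀ l, Θ l 1 = ((1 + n * p : ℕ) : ℂ)
  Θ_val : ∀ l, ∀ x ∈ P, x ≠ 1 → Θ l x = 1
  Θ_triv₀ : classInner (Θ l₀) ((trivIrr G : IrrCharacter G) : G → ℂ) = 1
  Θ_triv : ∀ l, l ≠ l₀ → classInner (Θ l) ((trivIrr G : IrrCharacter G) : G → ℂ) = 0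
  /-- (F1) -/
  F1 : ∀ χ : IrrCharacter G,
    (p : ℂ) * ∑ l, classInner (Θ l) (χ : G → ℂ) = ∑ x : P, (χ : G → ℂ) x
  card_ι : Fintype.card ι = f
  card_Y : Y.card * f = p - 1
  /-- (**) for `X` -/
  star_X : ∀ χ ∈ X, χ ≠ trivIrr G → dl χ = 1 → charDegree (χ : G → ℂ) = 1 + n * p
  /-- (**) for the exceptional node -/
  star_Y : ε = -1 → ∑ ψ ∈ Y, charDegree (ψ : G → ℂ) = 1 + n * p

/-- a sum of natural numbers with a sub-sum already reaching the total: the rest vanishes -/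
theorem br_nd_rest_zero {α : Type*} [DecidableEq α] (s t : Finset α) (a : α → ℕ) (T : ℕ)
    (hts : t ⊆ s) (hsum : ∑ i ∈ s, a i = T) (ht : T ≤ ∑ i ∈ t, a i) :
    (∑ i ∈ t, a i = T) ∧ ∀ i ∈ s, i ∉ t → a i = 0 := by
  have h1 := Finset.sum_sdiff (f := a) hts
  have h2 : ∑ i ∈ s \ t, a i = 0 := by omega
  refine ⟨by omega, fun i hi hit => ?_⟩
  exact Finset.sum_eq_zero_iff.mp h2 i (Finset.mem_sdiff.mpr ⟨hi, hit⟩)

/-- the sum over `P` of a function constant off `1` -/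
theorem br_nd_sum_P (P : Subgroup G) [Fintype P] (F : G → ℂ) (c : ℂ)
    (hF : ∀ x ∈ P, x ≠ 1 → F x = c) :
    ∑ x : P, F x = F 1 + ((Nat.card P : ℂ) - 1) * c := by
  classical
  rw [← Finset.add_sum_erase (Finset.univ : Finset P) (fun x : P => F x) (Finset.mem_univ (1 : P))]
  congr 1
  have h1 : ∀ x ∈ (Finset.univ : Finset P).erase 1, F (x : G) = c := fun x hx =>
    hF x x.2 (fun h => (Finset.mem_erase.mp hx).1 (Subtype.ext h))
  rw [Finset.sum_congr rfl h1, Finset.sum_const, Finset.card_erase_of_mem (Finset.mem_univ _),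
    Finset.card_univ, ← Nat.card_eq_fintype_card, nsmul_eq_mul,
    Nat.cast_sub (Nat.card_pos (α := P)), Nat.cast_one]

/-- multiplicities of a character and its degree equation -/
theorem br_nd_mult [Fintype (IrrCharacter G)] (Ψ : G → ℂ) (hΨ : IsCharacter G Ψ) :
    ∃ m : IrrCharacter G → ℕ, (∀ ξ : IrrCharacter G, classInner Ψ (ξ : G → ℂ) = (m ξ : ℂ)) ∧
      Ψ = ∑ ξ : IrrCharacter G, (m ξ : ℂ) • (ξ : G → ℂ) ∧
      ∀ D : ℕ, Ψ 1 = (D : ℂ) → ∑ ξ : IrrCharacter G, m ξ * charDegree (ξ : G → ℂ) = D := by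
  have hm : ∀ ξ : IrrCharacter G, ∃ k : ℕ, classInner Ψ (ξ : G → ℂ) = k := fun ξ =>
    classInner_char_char_nat hΨ (IsIrrCharacter.isCharacter ξ.2)
  choose m hm using hm
  have hexp : Ψ = ∑ ξ : IrrCharacter G, (m ξ : ℂ) • (ξ : G → ℂ) := by
    have h := classFunction_expansion Ψ (IsCharacter.isClassFunction hΨ)
    rw [Finset.sum_congr rfl (fun ξ _ => by rw [hm ξ])] at h
    exact h
  refine ⟨m, hm, hexp, fun D hD => ?_⟩
  have h1 := congrFun hexp 1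
  rw [hD] at h1
  simp only [Finset.sum_apply, Pi.smul_apply, smul_eq_mul] at h1
  have h2 : ∀ ξ : IrrCharacter G, (m ξ : ℂ) * (ξ : G → ℂ) 1 =
      ((m ξ * charDegree (ξ : G → ℂ) : ℕ) : ℂ) := by
    intro ξ
    rw [Nat.cast_mul, charDegree_cast_of_isCharacter (IsIrrCharacter.isCharacter ξ.2)]
  rw [Finset.sum_congr rfl (fun ξ _ => h2 ξ), ← Nat.cast_sum] at h1
  exact_mod_cast h1.symm

section nodes

variable {p : ℕ} {P : Subgroup G} [Fintype P] {f n : ℕ} {X Y : Finset (IrrCharacter G)}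
  {dl : IrrCharacter G → ℤ} {ε : ℤ} {ι : Type v} [Fintype ι] {Θ : ι → G → ℂ} {l₀ : ι}

/-- there is a nonidentity element in `P` -/
theorem br_nd_Hyp.exists_ne_one (H : br_nd_Hyp p P f n X Y dl ε Θ l₀) : ∃ x ∈ P, x ≠ 1 := by
  by_contra hcon
  push Not at hcon
  have h1 : Nat.card P = 1 := by
    rw [Nat.card_eq_one_iff_unique]
    refine ⟨⟨fun a b => ?_⟩, ⟨1⟩⟩
    exact Subtype.ext ((hcon a a.2).trans (hcon b b.2).symm)
  rw [H.card_P] at h1
  exact H.prime.one_lt.ne' h1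

/-- the trivial character has sign `+` -/
theorem br_nd_Hyp.dl_triv (H : br_nd_Hyp p P f n X Y dl ε Θ l₀) : dl (trivIrr G) = 1 := by
  obtain ⟨x, hx, hx1⟩ := H.exists_ne_one
  have h := H.X_val (trivIrr G) H.triv_mem x hx hx1
  have h2 : ((trivIrr G : IrrCharacter G) : G → ℂ) x = 1 := rfl
  rw [h2] at h
  exact_mod_cast h.symm

/-- the trivial character is not exceptional -/
theorem br_nd_Hyp.triv_not_mem_Y (H : br_nd_Hyp p P f n X Y dl ε Θ l₀) : trivIrr G ∉ Y :=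
  fun h => Finset.disjoint_left.mp H.disj H.triv_mem h

/-- the integral form of (B3) for a character with multiplicities `m` constant `1` on `P ∖ 1` -/
theorem br_nd_Hyp.lin_int (H : br_nd_Hyp p P f n X Y dl ε Θ l₀) (Ψ : G → ℂ)
    (hΨ : IsCharacter G Ψ) (hval : ∀ x ∈ P, x ≠ 1 → Ψ x = 1) (m : IrrCharacter G → ℕ)
    (hm : ∀ ξ : IrrCharacter G, classInner Ψ (ξ : G → ℂ) = (m ξ : ℂ)) :
    ∃ m' : ℕ, (∀ ψ ∈ Y, m ψ = m') ∧ ∑ χ ∈ X, (m χ : ℤ) * dl χ - ε * (m' : ℤ) = 1 := by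
  obtain ⟨c', hc', hrel⟩ := H.lin Ψ hΨ 1 hval
  obtain ⟨ψ₀, hψ₀⟩ := H.Y_nonempty
  have hc0 : c' = (m ψ₀ : ℂ) := by rw [← hc' ψ₀ hψ₀, hm]
  refine ⟨m ψ₀, fun ψ hψ => ?_, ?_⟩
  · have := hc' ψ hψ
    rw [hm, hc0] at this
    exact_mod_cast this
  · rw [hc0, Finset.sum_congr rfl (fun χ _ => by rw [hm χ])] at hrel
    have h2 : ((∑ χ ∈ X, (m χ : ℤ) * dl χ - ε * (m ψ₀ : ℤ) : ℤ) : ℂ) = ((1 : ℤ) : ℂ) := by
      push_cast
      exact hrel
    exact_mod_cast h2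

/-- **L2 (abstract, `⟨Ψ, 1⟩ = 0`)**: a character of degree `1 + n p`, constant `1` on `P ∖ 1`, not
containing the trivial character, IS a `δ = +` node. -/
theorem br_nd_Hyp.node_aux (H : br_nd_Hyp p P f n X Y dl ε Θ l₀) (Ψ : G → ℂ)
    (hΨ : IsCharacter G Ψ) (h1 : Ψ 1 = ((1 + n * p : ℕ) : ℂ))
    (hval : ∀ x ∈ P, x ≠ 1 → Ψ x = 1)
    (htriv : classInner Ψ ((trivIrr G : IrrCharacter G) : G → ℂ) = 0) :
    (∃ χ ∈ X, χ ≠ trivIrr G ∧ dl χ = 1 ∧ Ψ = (χ : G → ℂ)) ∨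
      (ε = -1 ∧ Ψ = ∑ ψ ∈ Y, (ψ : G → ℂ)) := by
  classical
  haveI : Finite (IrrCharacter G) := irr_finite
  haveI : Fintype (IrrCharacter G) := Fintype.ofFinite _
  obtain ⟨m, hm, hexp, hdeg⟩ := br_nd_mult Ψ hΨ
  have hdeg' := hdeg _ h1
  obtain ⟨m', hm', hrel⟩ := H.lin_int Ψ hΨ hval m hm
  have hm0 : m (trivIrr G) = 0 := by
    have := hm (trivIrr G)
    rw [htriv] at this
    exact_mod_cast this.symm
  have hT : 0 < 1 + n * p := by omega
  -- a positive node occurs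
  have hocc : (∃ χ ∈ X, χ ≠ trivIrr G ∧ dl χ = 1 ∧ 1 ≤ m χ) ∨ (ε = -1 ∧ 1 ≤ m') := by
    by_contra hcon
    rw [not_or] at hcon
    obtain ⟨hc1, hc2⟩ := hcon
    have hle : ∑ χ ∈ X, (m χ : ℤ) * dl χ ≤ 0 := by
      apply Finset.sum_nonpos
      intro χ hχ
      by_cases hχt : χ = trivIrr G
      · rw [hχt, hm0]; simp
      rcases H.dl_sign χ hχ with hd | hd
      · have : m χ = 0 := by
          by_contra h0
          exact hc1 ⟨χ, hχ, hχt, hd, Nat.one_le_iff_ne_zero.mpr h0⟩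
        rw [this]; simp
      · rw [hd]
        have : (0 : ℤ) ≤ (m χ : ℤ) := Int.natCast_nonneg _
        linarith
    have hle2 : -(ε * (m' : ℤ)) ≤ 0 := by
      rcases H.eps_sign with he | he
      · rw [he]
        have : (0 : ℤ) ≤ (m' : ℤ) := Int.natCast_nonneg _
        linarith
      · have : m' = 0 := by
          by_contra h0
          exact hc2 ⟨he, Nat.one_le_iff_ne_zero.mpr h0⟩
        rw [this]; simp
    linarith
  rcases hocc with ⟨χ₀, hχ₀X, hχ₀t, hχ₀d, hχ₀m⟩ | ⟨he, hm'1⟩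
  · left
    refine ⟨χ₀, hχ₀X, hχ₀t, hχ₀d, ?_⟩
    have hd0 := H.star_X χ₀ hχ₀X hχ₀t hχ₀d
    have hge : 1 + n * p ≤ ∑ ξ ∈ ({χ₀} : Finset (IrrCharacter G)),
        m ξ * charDegree (ξ : G → ℂ) := by
      rw [Finset.sum_singleton, hd0]
      exact Nat.le_mul_of_pos_left _ hχ₀m
    obtain ⟨heq, hrest⟩ := br_nd_rest_zero Finset.univ {χ₀}
      (fun ξ => m ξ * charDegree (ξ : G → ℂ)) _ (Finset.subset_univ _) hdeg' hge
    rw [Finset.sum_singleton, hd0] at heq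
    have hm1 : m χ₀ = 1 := by
      have : m χ₀ * (1 + n * p) = 1 * (1 + n * p) := by rw [heq, one_mul]
      exact Nat.eq_of_mul_eq_mul_right hT this
    have hz : ∀ ξ : IrrCharacter G, ξ ≠ χ₀ → m ξ = 0 := by
      intro ξ hξ
      have := hrest ξ (Finset.mem_univ _) (by rw [Finset.mem_singleton]; exact hξ)
      rcases Nat.mul_eq_zero.mp this with h | h
      · exact h
      · exact absurd h (d1_fin_charDegree_pos ξ).ne'
    rw [hexp, Finset.sum_eq_single χ₀]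
    · rw [hm1, Nat.cast_one, one_smul]
    · intro ξ _ hξ
      rw [hz ξ hξ, Nat.cast_zero, zero_smul]
    · intro h
      exact absurd (Finset.mem_univ _) h
  · right
    refine ⟨he, ?_⟩
    have hd0 := H.star_Y he
    have hYsum : ∑ ξ ∈ Y, m ξ * charDegree (ξ : G → ℂ) = m' * (1 + n * p) := by
      rw [Finset.sum_congr rfl (fun ξ hξ => by rw [hm' ξ hξ]), ← Finset.mul_sum, hd0]
    have hge : 1 + n * p ≤ ∑ ξ ∈ Y, m ξ * charDegree (ξ : G → ℂ) := by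
      rw [hYsum]
      exact Nat.le_mul_of_pos_left _ hm'1
    obtain ⟨heq, hrest⟩ := br_nd_rest_zero Finset.univ Y
      (fun ξ => m ξ * charDegree (ξ : G → ℂ)) _ (Finset.subset_univ _) hdeg' hge
    rw [hYsum] at heq
    have hm1 : m' = 1 := by
      have : m' * (1 + n * p) = 1 * (1 + n * p) := by rw [heq, one_mul]
      exact Nat.eq_of_mul_eq_mul_right hT this
    have hz : ∀ ξ : IrrCharacter G, ξ ∉ Y → m ξ = 0 := by
      intro ξ hξ
      have := hrest ξ (Finset.mem_univ _) hξ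
      rcases Nat.mul_eq_zero.mp this with h | h
      · exact h
      · exact absurd h (d1_fin_charDegree_pos ξ).ne'
    rw [hexp, ← Finset.sum_subset (Finset.subset_univ Y)]
    · apply Finset.sum_congr rfl
      intro ξ hξ
      rw [hm' ξ hξ, hm1, Nat.cast_one, one_smul]
    · intro ξ _ hξ
      rw [hz ξ hξ, Nat.cast_zero, zero_smul]

/-- **L2 (abstract, `⟨Ψ, 1⟩ = 1`)**: a character of degree `1 + n p`, constant `1` on `P ∖ 1`,
containing the trivial character once, has no other constituent in `X ∪ Y`. -/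
theorem br_nd_Hyp.perm_aux (H : br_nd_Hyp p P f n X Y dl ε Θ l₀) (Ψ : G → ℂ)
    (hΨ : IsCharacter G Ψ) (h1 : Ψ 1 = ((1 + n * p : ℕ) : ℂ))
    (hval : ∀ x ∈ P, x ≠ 1 → Ψ x = 1)
    (htriv : classInner Ψ ((trivIrr G : IrrCharacter G) : G → ℂ) = 1) :
    (∀ χ ∈ X, χ ≠ trivIrr G → classInner Ψ (χ : G → ℂ) = 0) ∧
      ∀ ψ ∈ Y, classInner Ψ (ψ : G → ℂ) = 0 := by
  classical
  haveI : Finite (IrrCharacter G) := irr_finite
  haveI : Fintype (IrrCharacter G) := Fintype.ofFinite _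
  obtain ⟨m, hm, hexp, hdeg⟩ := br_nd_mult Ψ hΨ
  have hdeg' := hdeg _ h1
  obtain ⟨m', hm', hrel⟩ := H.lin_int Ψ hΨ hval m hm
  have hm0 : m (trivIrr G) = 1 := by
    have := hm (trivIrr G)
    rw [htriv] at this
    exact_mod_cast this.symm
  have hdt : charDegree ((trivIrr G : IrrCharacter G) : G → ℂ) = 1 := by
    have h := charDegree_cast_of_isCharacter (IsIrrCharacter.isCharacter (trivIrr G).2)
    have h2 : ((trivIrr G : IrrCharacter G) : G → ℂ) 1 = 1 := rfl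
    rw [h2] at h
    exact_mod_cast h
  -- split off the trivial character
  have hsplit : ∑ ξ ∈ (Finset.univ : Finset (IrrCharacter G)).erase (trivIrr G),
      m ξ * charDegree (ξ : G → ℂ) = n * p := by
    have := Finset.add_sum_erase (Finset.univ : Finset (IrrCharacter G))
      (fun ξ => m ξ * charDegree (ξ : G → ℂ)) (Finset.mem_univ (trivIrr G))
    rw [hdeg', hm0, hdt] at this
    omega
  -- positive nodes do not occur
  have hpos : ∀ χ ∈ X, χ ≠ trivIrr G → dl χ = 1 → m χ = 0 := by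
    intro χ hχ hχt hd
    by_contra h0
    have hd0 := H.star_X χ hχ hχt hd
    have hle := Finset.single_le_sum (f := fun ξ => m ξ * charDegree (ξ : G → ℂ))
      (fun _ _ => Nat.zero_le _) (Finset.mem_erase.mpr ⟨hχt, Finset.mem_univ χ⟩)
    rw [hsplit] at hle
    have h2 : 1 + n * p ≤ m χ * charDegree (χ : G → ℂ) := by
      rw [hd0]
      exact Nat.le_mul_of_pos_left _ (Nat.pos_of_ne_zero h0)
    omega
  have hposY : ε = -1 → m' = 0 := by
    intro he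
    by_contra h0
    have hd0 := H.star_Y he
    have hsub : Y ⊆ (Finset.univ : Finset (IrrCharacter G)).erase (trivIrr G) := by
      intro ψ hψ
      exact Finset.mem_erase.mpr ⟨fun h => H.triv_not_mem_Y (h ▸ hψ), Finset.mem_univ ψ⟩
    have hle := Finset.sum_le_sum_of_subset (f := fun ξ => m ξ * charDegree (ξ : G → ℂ)) hsub
    rw [hsplit, Finset.sum_congr rfl (fun ξ hξ => by rw [hm' ξ hξ]), ← Finset.mul_sum, hd0] at hle
    have h2 : 1 + n * p ≤ m' * (1 + n * p) := Nat.le_mul_of_pos_left _ (Nat.pos_of_ne_zero h0)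
    omega
  -- the linear relation
  have hsum : ∑ χ ∈ X, (m χ : ℤ) * dl χ =
      1 - ∑ χ ∈ X.filter (fun χ => dl χ = -1), (m χ : ℤ) := by
    rw [← Finset.add_sum_erase X (fun χ => (m χ : ℤ) * dl χ) H.triv_mem, hm0, H.dl_triv,
      Finset.sum_filter]
    have h3 : ∑ χ ∈ X.erase (trivIrr G), (m χ : ℤ) * dl χ =
        -∑ χ ∈ X.erase (trivIrr G), (if dl χ = -1 then (m χ : ℤ) else 0) := by
      rw [← Finset.sum_neg_distrib]
      apply Finset.sum_congr rfl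
      intro χ hχ
      obtain ⟨hχt, hχX⟩ := Finset.mem_erase.mp hχ
      rcases H.dl_sign χ hχX with hd | hd
      · rw [hpos χ hχX hχt hd, hd, if_neg (by norm_num)]; simp
      · rw [hd, if_pos rfl]; ring
    have h4 : ∑ χ ∈ X, (if dl χ = -1 then (m χ : ℤ) else 0) =
        ∑ χ ∈ X.erase (trivIrr G), (if dl χ = -1 then (m χ : ℤ) else 0) := by
      rw [← Finset.add_sum_erase X _ H.triv_mem, H.dl_triv, if_neg (by norm_num), zero_add]
    rw [h3, h4]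
    push_cast
    ring
  have hnonneg : 0 ≤ ∑ χ ∈ X.filter (fun χ => dl χ = -1), (m χ : ℤ) :=
    Finset.sum_nonneg (fun χ _ => Int.natCast_nonneg _)
  have hkey : ∑ χ ∈ X.filter (fun χ => dl χ = -1), (m χ : ℤ) = 0 ∧ ε * (m' : ℤ) = 0 := by
    rw [hsum] at hrel
    rcases H.eps_sign with he | he
    · rw [he] at hrel ⊢
      have : (0 : ℤ) ≤ (m' : ℤ) := Int.natCast_nonneg _
      constructor <;> linarith
    · rw [hposY he] at hrel ⊢
      constructor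
      · simpa using hrel
      · simp
  obtain ⟨hk1, hk2⟩ := hkey
  have hneg : ∀ χ ∈ X, dl χ = -1 → m χ = 0 := by
    intro χ hχ hd
    have := (Finset.sum_eq_zero_iff_of_nonneg (fun χ _ => Int.natCast_nonneg _)).mp hk1 χ
      (Finset.mem_filter.mpr ⟨hχ, hd⟩)
    exact_mod_cast this
  have hm'0 : m' = 0 := by
    rcases H.eps_sign with he | he
    · rw [he, one_mul] at hk2
      exact_mod_cast hk2
    · exact hposY he
  refine ⟨fun χ hχ hχt => ?_, fun ψ hψ => ?_⟩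
  · rw [hm χ]
    rcases H.dl_sign χ hχ with hd | hd
    · rw [hpos χ hχ hχt hd, Nat.cast_zero]
    · rw [hneg χ hχ hd, Nat.cast_zero]
  · rw [hm ψ, hm' ψ hψ, hm'0, Nat.cast_zero]

/-- the sum of the exceptional characters against an irreducible character -/
theorem br_nd_inner_sumY_left (Y : Finset (IrrCharacter G)) (ξ : IrrCharacter G) :
    (ξ ∈ Y → classInner (∑ ψ ∈ Y, (ψ : G → ℂ)) (ξ : G → ℂ) = 1) ∧
      (ξ ∉ Y → classInner (∑ ψ ∈ Y, (ψ : G → ℂ)) (ξ : G → ℂ) = 0) := by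
  classical
  rw [classInner_sum_left]
  constructor
  · intro hξ
    rw [Finset.sum_eq_single ξ]
    · exact classInner_irr_self ξ.2
    · intro ψ _ hne
      exact classInner_irr_ne ψ.2 ξ.2 (fun h => hne (Subtype.ext h))
    · intro h
      exact absurd hξ h
  · intro hξ
    apply Finset.sum_eq_zero
    intro ψ hψ
    exact classInner_irr_ne ψ.2 ξ.2 (fun h => hξ (Subtype.ext h ▸ hψ))

/-- an irreducible character against the sum of the exceptional characters -/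
theorem br_nd_inner_sumY_right (Y : Finset (IrrCharacter G)) (ξ : IrrCharacter G) :
    (ξ ∈ Y → classInner (ξ : G → ℂ) (∑ ψ ∈ Y, (ψ : G → ℂ)) = 1) ∧
      (ξ ∉ Y → classInner (ξ : G → ℂ) (∑ ψ ∈ Y, (ψ : G → ℂ)) = 0) := by
  classical
  rw [classInner_sum_right]
  constructor
  · intro hξ
    rw [Finset.sum_eq_single ξ]
    · exact classInner_irr_self ξ.2
    · intro ψ _ hne
      exact classInner_irr_ne ξ.2 ψ.2 (fun h => hne (Subtype.ext h.symm))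
    · intro h
      exact absurd hξ h
  · intro hξ
    apply Finset.sum_eq_zero
    intro ψ hψ
    exact classInner_irr_ne ξ.2 ψ.2 (fun h => hξ (Subtype.ext h.symm ▸ hψ))

/-- **L2** for `l ≠ l₀`: `Θ l` IS a `δ = +` node -/
theorem br_nd_Hyp.node (H : br_nd_Hyp p P f n X Y dl ε Θ l₀) (l : ι) (hl : l ≠ l₀) :
    (∃ χ ∈ X, χ ≠ trivIrr G ∧ dl χ = 1 ∧ Θ l = (χ : G → ℂ)) ∨
      (ε = -1 ∧ Θ l = ∑ ψ ∈ Y, (ψ : G → ℂ)) :=
  H.node_aux (Θ l) (H.Θ_char l) (H.Θ_one l) (H.Θ_val l) (H.Θ_triv l hl)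

/-- **L2** for `l₀`: `π = Θ l₀` has no constituent in `X ∖ 1` or `Y` -/
theorem br_nd_Hyp.perm (H : br_nd_Hyp p P f n X Y dl ε Θ l₀) :
    (∀ χ ∈ X, χ ≠ trivIrr G → classInner (Θ l₀) (χ : G → ℂ) = 0) ∧
      ∀ ψ ∈ Y, classInner (Θ l₀) (ψ : G → ℂ) = 0 :=
  H.perm_aux (Θ l₀) (H.Θ_char l₀) (H.Θ_one l₀) (H.Θ_val l₀) H.Θ_triv₀

/-- an irreducible node in `X` is not the exceptional node -/
theorem br_nd_Hyp.node_excl (H : br_nd_Hyp p P f n X Y dl ε Θ l₀) (Ψ : G → ℂ)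
    (χ : IrrCharacter G) (hχ : χ ∈ X) (h1 : Ψ = (χ : G → ℂ))
    (h2 : Ψ = ∑ ψ ∈ Y, (ψ : G → ℂ)) : False := by
  have hχY : χ ∉ Y := fun h => Finset.disjoint_left.mp H.disj hχ h
  have h3 := (br_nd_inner_sumY_left Y χ).2 hχY
  rw [← h2, h1, classInner_irr_self χ.2] at h3
  exact one_ne_zero h3

/-- `⟨Θ l, χ⟩ = 0` for all `l` when `χ ∈ X` has sign `-` -/
theorem br_nd_Hyp.inner_minus (H : br_nd_Hyp p P f n X Y dl ε Θ l₀) (χ : IrrCharacter G)
    (hχ : χ ∈ X) (hd : dl χ = -1) (l : ι) : classInner (Θ l) (χ : G → ℂ) = 0 := by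
  have hχt : χ ≠ trivIrr G := by
    intro h
    rw [h, H.dl_triv] at hd
    norm_num at hd
  by_cases hl : l = l₀
  · rw [hl]
    exact H.perm.1 χ hχ hχt
  rcases H.node l hl with ⟨χ', hχ'X, -, hd', hΘ⟩ | ⟨-, hΘ⟩
  · rw [hΘ]
    apply classInner_irr_ne χ'.2 χ.2
    intro h
    have : χ' = χ := Subtype.ext h
    rw [this, hd] at hd'
    norm_num at hd'
  · rw [hΘ]
    exact (br_nd_inner_sumY_left Y χ).2 (fun h => Finset.disjoint_left.mp H.disj hχ h)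

/-- `⟨Θ l, ψ⟩` for `ψ ∈ Y` -/
theorem br_nd_Hyp.inner_Y (H : br_nd_Hyp p P f n X Y dl ε Θ l₀) (ψ : IrrCharacter G)
    (hψ : ψ ∈ Y) (l : ι) :
    ((l ≠ l₀ ∧ Θ l = ∑ ψ' ∈ Y, (ψ' : G → ℂ)) → classInner (Θ l) (ψ : G → ℂ) = 1) ∧
      (¬ (l ≠ l₀ ∧ Θ l = ∑ ψ' ∈ Y, (ψ' : G → ℂ)) → classInner (Θ l) (ψ : G → ℂ) = 0) := by
  constructor
  · rintro ⟨-, hΘ⟩
    rw [hΘ]
    exact (br_nd_inner_sumY_left Y ψ).1 hψ
  · intro hnot
    by_cases hl : l = l₀
    · rw [hl]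
      exact H.perm.2 ψ hψ
    rcases H.node l hl with ⟨χ', hχ'X, -, -, hΘ⟩ | ⟨-, hΘ⟩
    · rw [hΘ]
      apply classInner_irr_ne χ'.2 ψ.2
      intro h
      have : χ' = ψ := Subtype.ext h
      exact Finset.disjoint_left.mp H.disj hχ'X (this ▸ hψ)
    · exact absurd ⟨hl, hΘ⟩ hnot

/-- `⟨Θ l, χ⟩` for a `δ = +` character `χ ∈ X`, `χ ≠ 1` -/
theorem br_nd_Hyp.inner_plus (H : br_nd_Hyp p P f n X Y dl ε Θ l₀) (χ : IrrCharacter G)
    (hχ : χ ∈ X) (hχt : χ ≠ trivIrr G) (l : ι) :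
    (Θ l = (χ : G → ℂ) → classInner (Θ l) (χ : G → ℂ) = 1) ∧
      (Θ l ≠ (χ : G → ℂ) → classInner (Θ l) (χ : G → ℂ) = 0) := by
  constructor
  · intro hΘ
    rw [hΘ]
    exact classInner_irr_self χ.2
  · intro hne
    by_cases hl : l = l₀
    · rw [hl]
      exact H.perm.1 χ hχ hχt
    rcases H.node l hl with ⟨χ', -, -, -, hΘ⟩ | ⟨-, hΘ⟩
    · rw [hΘ]
      apply classInner_irr_ne χ'.2 χ.2
      intro h
      exact hne (hΘ.trans h)
    · rw [hΘ]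
      exact (br_nd_inner_sumY_left Y χ).2 (fun h => Finset.disjoint_left.mp H.disj hχ h)

/-- `Θ l₀` is not an irreducible character other than `1` -/
theorem br_nd_Hyp.perm_ne (H : br_nd_Hyp p P f n X Y dl ε Θ l₀) (χ : IrrCharacter G)
    (hχt : χ ≠ trivIrr G) : Θ l₀ ≠ (χ : G → ℂ) := by
  intro h
  have h1 := H.Θ_triv₀
  rw [h, classInner_irr_ne χ.2 (trivIrr G).2 (fun h' => hχt (Subtype.ext h'))] at h1
  exact zero_ne_one h1

/-- the number `w` of indices `l ≠ l₀` with `Θ l = ∑ ψ ∈ Y, ψ` -/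
noncomputable def br_nd_w (Θ : ι → G → ℂ) (l₀ : ι) (Y : Finset (IrrCharacter G)) : ℕ :=
  Nat.card {l : ι // l ≠ l₀ ∧ Θ l = ∑ ψ ∈ Y, (ψ : G → ℂ)}

/-- `w` is the cardinality of any finset cutting out the same indices -/
theorem br_nd_w_eq_card (Θ : ι → G → ℂ) (l₀ : ι) (Y : Finset (IrrCharacter G)) (S : Finset ι)
    (hS : ∀ l, l ∈ S ↔ (l ≠ l₀ ∧ Θ l = ∑ ψ ∈ Y, (ψ : G → ℂ))) : br_nd_w Θ l₀ Y = S.card := by
  classical
  unfold br_nd_w
  rw [Nat.card_eq_fintype_card, Fintype.card_of_subtype S hS]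

/-- `w = 0` when `ε = 1` -/
theorem br_nd_Hyp.w_eq_zero (H : br_nd_Hyp p P f n X Y dl ε Θ l₀) (he : ε = 1) :
    br_nd_w Θ l₀ Y = 0 := by
  unfold br_nd_w
  haveI : IsEmpty {l : ι // l ≠ l₀ ∧ Θ l = ∑ ψ ∈ Y, (ψ : G → ℂ)} := by
    refine ⟨fun ⟨l, hl, hΘ⟩ => ?_⟩
    rcases H.node l hl with ⟨χ', hχ'X, -, -, hΘ'⟩ | ⟨he', -⟩
    · exact H.node_excl (Θ l) χ' hχ'X hΘ' hΘ
    · rw [he] at he'
      norm_num at he'
  exact Nat.card_of_isEmpty

/-- **L3**: a `δ = -` character in `X` has degree `p - 1` -/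
theorem br_nd_Hyp.deg_minus (H : br_nd_Hyp p P f n X Y dl ε Θ l₀) (χ : IrrCharacter G)
    (hχ : χ ∈ X) (hd : dl χ = -1) : charDegree (χ : G → ℂ) = p - 1 := by
  have h1 := H.F1 χ
  rw [Finset.sum_eq_zero (fun l _ => H.inner_minus χ hχ hd l), mul_zero] at h1
  have h2 := br_nd_sum_P P (χ : G → ℂ) (dl χ : ℂ) (H.X_val χ hχ)
  rw [← h1, H.card_P, hd, ← charDegree_cast_of_isCharacter (IsIrrCharacter.isCharacter χ.2)] at h2
  have hp1 : 1 ≤ p := H.prime.one_lt.le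
  have h3 : (charDegree (χ : G → ℂ) : ℂ) = ((p - 1 : ℕ) : ℂ) := by
    rw [Nat.cast_sub hp1]
    push_cast at h2 ⊢
    linear_combination -h2
  exact_mod_cast h3

open Classical in
/-- the sum over `l` of `⟨Θ l, ψ⟩` for `ψ ∈ Y` is `w` -/
theorem br_nd_Hyp.sum_inner_Y (H : br_nd_Hyp p P f n X Y dl ε Θ l₀) (ψ : IrrCharacter G)
    (hψ : ψ ∈ Y) : ∑ l, classInner (Θ l) (ψ : G → ℂ) = (br_nd_w Θ l₀ Y : ℂ) := by
  have h1 : ∀ l ∈ (Finset.univ : Finset ι), classInner (Θ l) (ψ : G → ℂ) =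
      if (l ≠ l₀ ∧ Θ l = ∑ ψ' ∈ Y, (ψ' : G → ℂ)) then (1 : ℂ) else 0 := by
    intro l _
    by_cases h : (l ≠ l₀ ∧ Θ l = ∑ ψ' ∈ Y, (ψ' : G → ℂ))
    · rw [if_pos h, (H.inner_Y ψ hψ l).1 h]
    · rw [if_neg h, (H.inner_Y ψ hψ l).2 h]
  rw [Finset.sum_congr rfl h1, Finset.sum_boole,
    br_nd_w_eq_card Θ l₀ Y (Finset.univ.filter
      (fun l => l ≠ l₀ ∧ Θ l = ∑ ψ' ∈ Y, (ψ' : G → ℂ))) (fun l => by simp)]

/-- **L3**: the degree of an exceptional character is `w p + ε f` -/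
theorem br_nd_Hyp.deg_Y (H : br_nd_Hyp p P f n X Y dl ε Θ l₀) (ψ : IrrCharacter G)
    (hψ : ψ ∈ Y) :
    (charDegree (ψ : G → ℂ) : ℤ) = (br_nd_w Θ l₀ Y : ℤ) * (p : ℤ) + ε * (f : ℤ) := by
  have h1 := H.F1 ψ
  rw [H.sum_inner_Y ψ hψ, H.Y_sum ψ hψ,
    ← charDegree_cast_of_isCharacter (IsIrrCharacter.isCharacter ψ.2)] at h1
  have h2 : ((charDegree (ψ : G → ℂ) : ℤ) : ℂ) =
      (((br_nd_w Θ l₀ Y : ℤ) * (p : ℤ) + ε * (f : ℤ) : ℤ) : ℂ) := by
    push_cast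
    linear_combination -h1
  exact_mod_cast h2

/-- **L3**, `ε = 1`: the exceptional characters have degree `f` -/
theorem br_nd_Hyp.deg_eps_plus (H : br_nd_Hyp p P f n X Y dl ε Θ l₀) (he : ε = 1)
    (ψ : IrrCharacter G) (hψ : ψ ∈ Y) : charDegree (ψ : G → ℂ) = f := by
  have h := H.deg_Y ψ hψ
  rw [H.w_eq_zero he, he] at h
  have h2 : (charDegree (ψ : G → ℂ) : ℤ) = (f : ℤ) := by simpa using h
  exact_mod_cast h2

/-- **L3**, `ε = -1`: the exceptional characters have degree `w p - f` -/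
theorem br_nd_Hyp.deg_eps_minus (H : br_nd_Hyp p P f n X Y dl ε Θ l₀) (he : ε = -1)
    (ψ : IrrCharacter G) (hψ : ψ ∈ Y) :
    charDegree (ψ : G → ℂ) + f = br_nd_w Θ l₀ Y * p := by
  have h := H.deg_Y ψ hψ
  rw [he] at h
  have h2 : ((charDegree (ψ : G → ℂ) + f : ℕ) : ℤ) = ((br_nd_w Θ l₀ Y * p : ℕ) : ℤ) := by
    push_cast
    linarith
  exact_mod_cast h2

/-- **L3**, `ε = -1`: `t w = n + 1` -/
theorem br_nd_Hyp.card_Y_mul_w (H : br_nd_Hyp p P f n X Y dl ε Θ l₀) (he : ε = -1) :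
    Y.card * br_nd_w Θ l₀ Y = n + 1 := by
  have h1 := H.star_Y he
  have h2 : ∑ ψ ∈ Y, (charDegree (ψ : G → ℂ) + f) = ∑ _ψ ∈ Y, br_nd_w Θ l₀ Y * p :=
    Finset.sum_congr rfl (fun ψ hψ => H.deg_eps_minus he ψ hψ)
  rw [Finset.sum_add_distrib, h1, Finset.sum_const, Finset.sum_const, smul_eq_mul, smul_eq_mul,
    H.card_Y] at h2
  have hp1 : 1 ≤ p := H.prime.one_lt.le
  have h3 : p * (Y.card * br_nd_w Θ l₀ Y) = p * (n + 1) := by
    have : 1 + n * p + (p - 1) = p * (n + 1) := by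
      have : 1 + (p - 1) = p := by omega
      calc 1 + n * p + (p - 1) = n * p + (1 + (p - 1)) := by ring
        _ = n * p + p := by rw [this]
        _ = p * (n + 1) := by ring
    rw [← this, h2]
    ring
  exact Nat.eq_of_mul_eq_mul_left H.prime.pos h3

open Classical in
/-- **L3**: a `δ = +` character `χ ≠ 1` of `X` equals `Θ l` for exactly `n + 1` indices `l` -/
theorem br_nd_Hyp.card_eq (H : br_nd_Hyp p P f n X Y dl ε Θ l₀) (χ : IrrCharacter G)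
    (hχ : χ ∈ X) (hχt : χ ≠ trivIrr G) (hd : dl χ = 1) :
    (Finset.univ.filter (fun l => Θ l = (χ : G → ℂ))).card = n + 1 := by
  have h1 : ∀ l ∈ (Finset.univ : Finset ι), classInner (Θ l) (χ : G → ℂ) =
      if Θ l = (χ : G → ℂ) then (1 : ℂ) else 0 := by
    intro l _
    by_cases h : Θ l = (χ : G → ℂ)
    · rw [if_pos h, (H.inner_plus χ hχ hχt l).1 h]
    · rw [if_neg h, (H.inner_plus χ hχ hχt l).2 h]
  have h2 := H.F1 χ
  rw [Finset.sum_congr rfl h1, Finset.sum_boole] at h2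
  have h3 := br_nd_sum_P P (χ : G → ℂ) (dl χ : ℂ) (H.X_val χ hχ)
  rw [← h2, H.card_P, hd, ← charDegree_cast_of_isCharacter (IsIrrCharacter.isCharacter χ.2),
    H.star_X χ hχ hχt hd] at h3
  have hp0 : (p : ℂ) ≠ 0 := by exact_mod_cast H.prime.ne_zero
  have h4 : (p : ℂ) * ((Finset.univ.filter (fun l => Θ l = (χ : G → ℂ))).card : ℂ) =
      (p : ℂ) * ((n + 1 : ℕ) : ℂ) := by
    rw [h3]
    push_cast
    ring
  exact_mod_cast mul_left_cancel₀ hp0 h4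

open Classical in
/-- **L3**: `f - 1 = a (n + 1) + w`, where `a` is the number of `δ = +` characters `≠ 1` in `X` -/
theorem br_nd_Hyp.count (H : br_nd_Hyp p P f n X Y dl ε Θ l₀) (A : Finset (IrrCharacter G))
    (hA : ∀ χ, χ ∈ A ↔ (χ ∈ X ∧ χ ≠ trivIrr G ∧ dl χ = 1)) :
    f = 1 + A.card * (n + 1) + br_nd_w Θ l₀ Y := by
  have hpt : ∀ l ∈ (Finset.univ : Finset ι), (1 : ℕ) = (if l = l₀ then 1 else 0) +
      ∑ χ ∈ A, (if Θ l = (χ : G → ℂ) then 1 else 0) +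
      (if (l ≠ l₀ ∧ Θ l = ∑ ψ' ∈ Y, (ψ' : G → ℂ)) then 1 else 0) := by
    intro l _
    by_cases hl : l = l₀
    · have hz : ∑ χ ∈ A, (if Θ l = (χ : G → ℂ) then (1 : ℕ) else 0) = 0 := by
        apply Finset.sum_eq_zero
        intro χ hχ
        rw [if_neg]
        rw [hl]
        exact H.perm_ne χ ((hA χ).1 hχ).2.1
      rw [if_pos hl, if_neg (fun h => h.1 hl), hz]
    · rw [if_neg hl]
      rcases H.node l hl with ⟨χ', hχ'X, hχ't, hd', hΘ⟩ | ⟨he, hΘ⟩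
      · rw [if_neg (fun h => H.node_excl (Θ l) χ' hχ'X hΘ h.2),
          Finset.sum_eq_single χ']
        · rw [if_pos hΘ]
        · intro χ _ hne
          rw [if_neg]
          intro h
          exact hne (Subtype.ext (h.symm.trans hΘ))
        · intro h
          exact absurd ((hA χ').2 ⟨hχ'X, hχ't, hd'⟩) h
      · have hz : ∑ χ ∈ A, (if Θ l = (χ : G → ℂ) then (1 : ℕ) else 0) = 0 := by
          apply Finset.sum_eq_zero
          intro χ hχ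
          rw [if_neg]
          intro h
          exact H.node_excl (Θ l) χ ((hA χ).1 hχ).1 h hΘ
        rw [if_pos ⟨hl, hΘ⟩, hz]
  have h1 : ∑ _l : ι, (1 : ℕ) = f := by
    rw [Finset.sum_const, Finset.card_univ, H.card_ι, smul_eq_mul, mul_one]
  rw [Finset.sum_congr rfl hpt, Finset.sum_add_distrib, Finset.sum_add_distrib,
    Finset.sum_ite_eq' Finset.univ l₀ (fun _ => 1), if_pos (Finset.mem_univ _), Finset.sum_comm,
    Finset.sum_boole] at h1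
  have h2 : ∑ χ ∈ A, ∑ l : ι, (if Θ l = (χ : G → ℂ) then (1 : ℕ) else 0) =
      ∑ _χ ∈ A, (n + 1) := by
    apply Finset.sum_congr rfl
    intro χ hχ
    obtain ⟨hχX, hχt, hd⟩ := (hA χ).1 hχ
    rw [Finset.sum_boole, H.card_eq χ hχX hχt hd]
    simp
  rw [h2, Finset.sum_const, smul_eq_mul] at h1
  rw [br_nd_w_eq_card Θ l₀ Y (Finset.univ.filter
      (fun l => l ≠ l₀ ∧ Θ l = ∑ ψ' ∈ Y, (ψ' : G → ℂ))) (fun l => by simp)]
  simp only [Nat.cast_id] at h1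
  omega

/-- `⟨π, Θ l⟩ = 0` for `l ≠ l₀` -/
theorem br_nd_Hyp.inner_perm_node (H : br_nd_Hyp p P f n X Y dl ε Θ l₀) (l : ι) (hl : l ≠ l₀) :
    classInner (Θ l₀) (Θ l) = 0 := by
  rcases H.node l hl with ⟨χ', hχ'X, hχ't, -, hΘ⟩ | ⟨-, hΘ⟩
  · rw [hΘ]
    exact H.perm.1 χ' hχ'X hχ't
  · rw [hΘ, classInner_sum_right]
    exact Finset.sum_eq_zero (fun ψ hψ => H.perm.2 ψ hψ)

/-- the norm of a node: `1`, or `|Y|` for the exceptional node -/
theorem br_nd_Hyp.norm_node (H : br_nd_Hyp p P f n X Y dl ε Θ l₀) (l : ι) (hl : l ≠ l₀) :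
    classInner (Θ l) (Θ l) = 1 ∨
      (ε = -1 ∧ Θ l = ∑ ψ ∈ Y, (ψ : G → ℂ) ∧ classInner (Θ l) (Θ l) = (Y.card : ℂ)) := by
  rcases H.node l hl with ⟨χ', -, -, -, hΘ⟩ | ⟨he, hΘ⟩
  · left
    rw [hΘ]
    exact classInner_irr_self χ'.2
  · right
    refine ⟨he, hΘ, ?_⟩
    rw [hΘ, classInner_sum_right,
      Finset.sum_congr rfl (fun ψ hψ => (br_nd_inner_sumY_left Y ψ).1 hψ), Finset.sum_const,
      nsmul_eq_mul, mul_one]

/-- distinct nodes are orthogonal -/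
theorem br_nd_Hyp.inner_node_node (H : br_nd_Hyp p P f n X Y dl ε Θ l₀) (l l' : ι)
    (hl : l ≠ l₀) (hl' : l' ≠ l₀) (hne : Θ l ≠ Θ l') : classInner (Θ l) (Θ l') = 0 := by
  rcases H.node l hl with ⟨χ, hχX, -, -, hΘ⟩ | ⟨-, hΘ⟩
  · rcases H.node l' hl' with ⟨χ', -, -, -, hΘ'⟩ | ⟨-, hΘ'⟩
    · rw [hΘ, hΘ']
      apply classInner_irr_ne χ.2 χ'.2
      intro h
      exact hne (hΘ.trans (h.trans hΘ'.symm))
    · rw [hΘ, hΘ']
      exact (br_nd_inner_sumY_right Y χ).2 (fun h => Finset.disjoint_left.mp H.disj hχX h)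
  · rcases H.node l' hl' with ⟨χ', hχ'X, -, -, hΘ'⟩ | ⟨-, hΘ'⟩
    · rw [hΘ, hΘ']
      exact (br_nd_inner_sumY_left Y χ').2 (fun h => Finset.disjoint_left.mp H.disj hχ'X h)
    · exact absurd (hΘ.trans hΘ'.symm) hne

end nodes

end Cfsg.Agent.BR
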