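import Cfsg.Agent.BR.Block
import Cfsg.Agent.BR.BlockB
import Cfsg.Agent.BR.BlockC
import Cfsg.Agent.BR.Nodes
import Cfsg.Agent.BR.Star
import Cfsg.Agent.Helper6.Regular

/-!
# S4707, Part II (helper1): the principal block of a primitive group of degree `2p` of rank `≥ 3`

On the data `br_blk_IsData P X Y dl ep O` with `f = 2`, `G` perfect, and a character `π` of degree
`2p` vanishing on `P ∖ 1`, containing the trivial character once and of norm `≥ 3`:
`ep = -1`, the members of `Y` have degree `p - 2`, and `π = 1 + χ₁ + θ` with `χ₁(1) = p - 1`,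
`θ(1) = p`, norm `3`.

* `br_p2b_norm` : Parseval with natural multiplicities.
* `br_p2b_main` : the theorem (header frozen in `notes/S4707_headers_helper5.md`).
-/

set_option autoImplicit false
set_option linter.style.haveILetI false

namespace Cfsg.Agent.BR

open Cfsg Cfsg.Agent.Helper6 Cfsg.Agent.D1
open scoped ComplexConjugate

universe u

variable {G : Type u} [Group G] [Fintype G]

/-- Parseval with natural multiplicities -/
theorem br_p2b_norm [Fintype (IrrCharacter G)] (Ψ : G → ℂ) (hΨ : IsCharacter G Ψ)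
    (m : IrrCharacter G → ℕ)
    (hm : ∀ ξ : IrrCharacter G, classInner Ψ (ξ : G → ℂ) = (m ξ : ℂ)) :
    classInner Ψ Ψ = ((∑ ξ : IrrCharacter G, m ξ ^ 2 : ℕ) : ℂ) := by
  have h1 : classInner Ψ Ψ = classInner
      (∑ ξ : IrrCharacter G, classInner Ψ (ξ : G → ℂ) • (ξ : G → ℂ)) Ψ := by
    rw [← classFunction_expansion Ψ (IsCharacter.isClassFunction hΨ)]
  rw [h1, classInner_sum_left]
  push_cast
  apply Finset.sum_congr rfl
  intro ξ _
  rw [classInner_smul_left, classInner_conj_symm Ψ (ξ : G → ℂ), hm ξ, Complex.conj_natCast, sq]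

/-- the degree of the trivial character -/
theorem br_p2b_deg_triv : charDegree ((trivIrr G : IrrCharacter G) : G → ℂ) = 1 := by
  have h1 := br_blk_deg_cast (trivIrr G)
  have h2 : ((trivIrr G : IrrCharacter G) : G → ℂ) 1 = 1 := rfl
  rw [h2] at h1
  exact_mod_cast h1

set_option maxHeartbeats 1600000 in
/-- **S4707, Part II.** -/
theorem br_p2b_main {p : ℕ} [Fact p.Prime] (hp : 3 < p)
    {P : Sylow p G} {X Y : Set (IrrCharacter G)} {dl : IrrCharacter G → ℤ} {ep : ℤ}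
    {O : IrrCharacter G → Finset (↥(P : Subgroup G) →* ℂˣ)}
    (h : br_blk_IsData P X Y dl ep O)
    (hf2 : (P : Subgroup G).relIndex (Subgroup.normalizer ((P : Subgroup G) : Set G)) = 2)
    (hperf : commutator G = ⊤)
    (π : G → ℂ) (hπ : IsCharacter G π) (hπ1 : π 1 = 2 * (p : ℂ))
    (hπP : ∀ x : G, x ∈ (P : Subgroup G) → x ≠ 1 → π x = 0)
    (hπt : classInner π (fun _ => (1 : ℂ)) = 1)
    (hπr : ∃ r : ℕ, 3 ≤ r ∧ classInner π π = (r : ℂ)) :
    ep = -1 ∧ (∀ ψ ∈ Y, charDegree (ψ : G → ℂ) = p - 2) ∧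
    ∃ χ₁ θ : IrrCharacter G, χ₁ ∉ Y ∧ θ ∉ Y ∧
      (χ₁ : G → ℂ) 1 = (p : ℂ) - 1 ∧ (θ : G → ℂ) 1 = (p : ℂ) ∧
      (π = fun g => 1 + (χ₁ : G → ℂ) g + (θ : G → ℂ) g) ∧ classInner π π = 3 := by
  classical
  haveI : Finite (IrrCharacter G) := irr_finite
  haveI : Fintype (IrrCharacter G) := Fintype.ofFinite _
  haveI := br_blk_finite_P h
  haveI : Fintype ↥(P : Subgroup G) := Fintype.ofFinite _
  have hp5 : 5 ≤ p := by
    have h4 : p ≠ 4 := by
      intro h4
      have := (Fact.out : p.Prime)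
      rw [h4] at this
      norm_num at this
    omega
  -- `X = {1, χ₁}`
  have hcX : Nat.card X = 2 := by rw [h.card_X, hf2]
  have hcY : Nat.card Y * 2 = p - 1 := by
    have := h.card_Y
    rwa [hf2] at this
  obtain ⟨⟨χ₁, hχ₁X⟩, hne0, huniq⟩ :=
    (Nat.card_eq_two_iff' (⟨trivIrr G, h.triv_mem⟩ : X)).mp hcX
  have hne : trivIrr G ≠ χ₁ := by
    intro he
    apply hne0
    exact Subtype.ext he.symm
  have hXeq : X = {trivIrr G, χ₁} := by
    ext χ
    constructor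
    · intro hχ
      by_cases hc : χ = trivIrr G
      · left; exact hc
      · right
        have := huniq ⟨χ, hχ⟩ (fun he => hc (congrArg Subtype.val he))
        exact congrArg Subtype.val this
    · rintro (rfl | rfl)
      · exact h.triv_mem
      · exact hχ₁X
  have hχ₁Y : χ₁ ∉ Y := fun hY => Set.disjoint_left.mp h.disj hχ₁X hY
  have htY : trivIrr G ∉ Y := fun hY => Set.disjoint_left.mp h.disj h.triv_mem hY
  -- `Y` is non-empty, `t ≥ 2`
  have ht2 : 2 ≤ Nat.card Y := by omega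
  haveI : Nonempty Y := by
    rcases isEmpty_or_nonempty Y with he | hne'
    · rw [Nat.card_of_isEmpty] at ht2
      omega
    · exact hne'
  obtain ⟨⟨ψ₀, hψ₀⟩⟩ := (inferInstance : Nonempty Y)
  -- some `x ≠ 1` in `P`
  obtain ⟨x₀, hx₀⟩ := br_blk_exists_ne_one h
  have hdltriv : dl (trivIrr G) = 1 := by
    have h1 := h.val_X (trivIrr G) h.triv_mem (x₀ : G) x₀.2 (br_blk_ne_one_coe x₀ hx₀)
    have h2 : ((trivIrr G : IrrCharacter G) : G → ℂ) (x₀ : G) = 1 := rfl
    rw [h2] at h1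
    exact_mod_cast h1.symm
  -- the degrees
  obtain ⟨c₁, hc₁⟩ : ∃ c₁ : ℕ, c₁ = charDegree (χ₁ : G → ℂ) := ⟨_, rfl⟩
  obtain ⟨y, hy⟩ : ∃ y : ℕ, y = charDegree (ψ₀ : G → ℂ) := ⟨_, rfl⟩
  have hc₁2 : 2 ≤ c₁ := by
    rw [hc₁]
    exact br_star_two_le hperf χ₁ (fun he => hne he.symm)
  have hyY : ∀ ψ ∈ Y, charDegree (ψ : G → ℂ) = y := fun ψ hψ => by
    rw [hy]
    exact br_star_deg_eq h ψ ψ₀ hψ hψ₀
  -- (B3) for the regular character
  have hreg : (1 : ℤ) + (c₁ : ℤ) * dl χ₁ - ep * (y : ℤ) = 0 := by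
    obtain ⟨m', hm', hrel⟩ := br_blk_indep h (fun χ => (χ : G → ℂ) 1) 0 (by
      intro x hx hx1
      have := sum_degree_mul_irr (G := G) x
      rw [if_neg hx1] at this
      exact this)
    have h1 : m' = (y : ℂ) := by
      rw [← hm' ψ₀ hψ₀, hy, br_blk_deg_cast]
    rw [hXeq, finsum_mem_pair hne, h1, hdltriv, ← br_blk_deg_cast χ₁, ← hc₁] at hrel
    have h2 : ((trivIrr G : IrrCharacter G) : G → ℂ) 1 = 1 := rfl
    rw [h2] at hrel
    exact_mod_cast hrel
  -- the multiplicities of `π`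
  obtain ⟨m, hm, hexp, hdeg⟩ := br_nd_mult π hπ
  have hD : ∑ ξ : IrrCharacter G, m ξ * charDegree (ξ : G → ℂ) = 2 * p := by
    apply hdeg
    rw [hπ1]
    push_cast
    ring
  have hmtriv : m (trivIrr G) = 1 := by
    have h1 := hm (trivIrr G)
    have h2 : ((trivIrr G : IrrCharacter G) : G → ℂ) = fun _ => (1 : ℂ) := rfl
    rw [h2, hπt] at h1
    exact_mod_cast h1.symm
  obtain ⟨a, ha⟩ : ∃ a : ℕ, a = m χ₁ := ⟨_, rfl⟩
  obtain ⟨b, hb⟩ : ∃ b : ℕ, b = m ψ₀ := ⟨_, rfl⟩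
  -- (B3) for `π`
  obtain ⟨hmY, hperm⟩ : (∀ ψ ∈ Y, m ψ = b) ∧ (1 : ℤ) + (a : ℤ) * dl χ₁ - ep * (b : ℤ) = 0 := by
    obtain ⟨m', hm', hrel⟩ := br_blk_indep h (fun χ => (m χ : ℂ)) 0 (by
      intro x hx hx1
      have h1 := congrFun hexp x
      rw [hπP x hx hx1] at h1
      simp only [Finset.sum_apply, Pi.smul_apply, smul_eq_mul] at h1
      exact h1.symm)
    have h1 : m' = (b : ℂ) := by
      rw [← hm' ψ₀ hψ₀, hb]
    refine ⟨fun ψ hψ => ?_, ?_⟩
    · have h2 := hm' ψ hψ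
      rw [h1] at h2
      exact_mod_cast h2
    · rw [hXeq, finsum_mem_pair hne, h1, hdltriv, hmtriv, ← ha] at hrel
      exact_mod_cast hrel
  -- splitting the degree sum
  have hχ₁mem : χ₁ ∈ (Finset.univ : Finset (IrrCharacter G)).erase (trivIrr G) :=
    Finset.mem_erase.mpr ⟨fun he => hne he.symm, Finset.mem_univ _⟩
  obtain ⟨W, hW⟩ : ∃ W : Finset (IrrCharacter G),
      W = ((Finset.univ : Finset (IrrCharacter G)).erase (trivIrr G)).erase χ₁ := ⟨_, rfl⟩
  have hsplit : ∀ F : IrrCharacter G → ℕ,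
      ∑ ξ : IrrCharacter G, F ξ = F (trivIrr G) + F χ₁ + ∑ ξ ∈ W, F ξ := by
    intro F
    rw [hW, ← Finset.add_sum_erase Finset.univ F (Finset.mem_univ (trivIrr G)),
      ← Finset.add_sum_erase _ F hχ₁mem, add_assoc]
  have hmemW : ∀ ξ : IrrCharacter G, ξ ∈ W ↔ ξ ≠ trivIrr G ∧ ξ ≠ χ₁ := by
    intro ξ
    rw [hW, Finset.mem_erase, Finset.mem_erase]
    constructor
    · rintro ⟨h1, h2, -⟩
      exact ⟨h2, h1⟩
    · rintro ⟨h1, h2⟩
      exact ⟨h2, h1, Finset.mem_univ _⟩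
  have hD2 : 1 + a * c₁ + ∑ ξ ∈ W, m ξ * charDegree (ξ : G → ℂ) = 2 * p := by
    rw [← hD, hsplit, hmtriv, br_p2b_deg_triv, ← ha, ← hc₁]
  -- the part of `Y` inside `W`
  obtain ⟨Yf, hYf⟩ : ∃ Yf : Finset (IrrCharacter G), Yf = (Set.toFinite Y).toFinset := ⟨_, rfl⟩
  have hmemYf : ∀ ξ, ξ ∈ Yf ↔ ξ ∈ Y := fun ξ => by rw [hYf, Set.Finite.mem_toFinset]
  have hYfcard : Yf.card = Nat.card Y := by
    rw [← Nat.card_congr (Equiv.subtypeEquivRight hmemYf), Nat.card_eq_fintype_card,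
      Fintype.card_coe]
  have hYfW : Yf ⊆ W := by
    intro ξ hξ
    rw [hmemYf] at hξ
    rw [hmemW]
    exact ⟨fun he => htY (he ▸ hξ), fun he => hχ₁Y (he ▸ hξ)⟩
  have hYsum : ∑ ξ ∈ Yf, m ξ * charDegree (ξ : G → ℂ) = Nat.card Y * (b * y) := by
    rw [Finset.sum_congr rfl (fun ξ hξ => by
      rw [hmY ξ ((hmemYf ξ).1 hξ), hyY ξ ((hmemYf ξ).1 hξ)]), Finset.sum_const, smul_eq_mul,
      hYfcard]
  have hYle : Nat.card Y * (b * y) ≤ ∑ ξ ∈ W, m ξ * charDegree (ξ : G → ℂ) := by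
    rw [← hYsum]
    exact Finset.sum_le_sum_of_subset hYfW
  -- the four sign cases
  rcases h.dl_sign χ₁ with hdl | hdl <;> rcases h.ep_sign with hep | hep
  · -- (+,+)
    exfalso
    rw [hdl, hep] at hreg hperm
    obtain ⟨w, hw, -⟩ := br_blk_deg_Y_pos h ψ₀ hψ₀ hep
    rw [← hy, hf2] at hw
    have hb1 : 1 ≤ b := by omega
    rcases Nat.eq_zero_or_pos w with hw0 | hw0
    · rw [hw0] at hw
      omega
    · have hyp : p + 2 ≤ y := by
        have : p ≤ w * p := Nat.le_mul_of_pos_left p hw0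
        omega
      have h3 : 2 * (1 * (p + 2)) ≤ Nat.card Y * (b * y) :=
        Nat.mul_le_mul ht2 (Nat.mul_le_mul hb1 hyp)
      omega
  · -- (+,-)
    exfalso
    rw [hdl, hep] at hreg
    omega
  · -- (-,+)
    exfalso
    rw [hdl, hep] at hreg
    omega
  · -- (-,-)
    rw [hdl, hep] at hreg hperm
    have hyc : y + 1 = c₁ := by omega
    have hab : a = b + 1 := by omega
    obtain ⟨u, hu, -⟩ := br_blk_deg_X_neg h χ₁ hχ₁X hdl
    rw [← hc₁] at hu
    have hc₁p : p ≤ c₁ + 1 := by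
      rw [hu]
      exact Nat.le_mul_of_pos_left p (Nat.succ_pos u)
    -- `b = 0`
    have hb0 : b = 0 := by
      by_contra hb0
      have hb1 : 1 ≤ b := Nat.one_le_iff_ne_zero.mpr hb0
      have h3 : 2 * (1 * y) ≤ Nat.card Y * (b * y) :=
        Nat.mul_le_mul ht2 (Nat.mul_le_mul hb1 le_rfl)
      have h4 : 2 * c₁ ≤ a * c₁ := Nat.mul_le_mul (by omega) le_rfl
      omega
    have ha1 : a = 1 := by omega
    rw [ha1, one_mul] at hD2
    -- the members of `W`
    have hWY : ∀ ξ ∈ W, ξ ∈ Y → m ξ = 0 := fun ξ _ hξY => by rw [hmY ξ hξY, hb0]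
    have hWZ : ∀ ξ ∈ W, ξ ∉ Y → ∃ z : ℕ, 1 ≤ z ∧ charDegree (ξ : G → ℂ) = z * p := by
      intro ξ hξ hξY
      have hξX : ξ ∉ X := by
        rw [hXeq]
        rintro (he | he)
        · exact ((hmemW ξ).1 hξ).1 he
        · exact ((hmemW ξ).1 hξ).2 he
      obtain ⟨z, hz, -⟩ := br_blk_deg_Z h ξ hξX hξY
      refine ⟨z, ?_, hz⟩
      rcases Nat.eq_zero_or_pos z with hz0 | hz0
      · have := d1_fin_charDegree_pos ξ
        rw [hz, hz0, zero_mul] at this
        omega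
      · exact hz0
    -- the value of `u`
    have hu01 : u = 0 ∨ u = 1 := by
      have h3 : (u + 1) * p ≤ 2 * p := by omega
      have h4 : u + 1 ≤ 2 := Nat.le_of_mul_le_mul_right h3 (by omega)
      omega
    have hnorm := br_p2b_norm π hπ m hm
    obtain ⟨r, hr3, hr⟩ := hπr
    rcases hu01 with hu0 | hu1
    · -- `u = 0`: the character `θ`
      rw [hu0, zero_add, one_mul] at hu
      have hWsum : ∑ ξ ∈ W, m ξ * charDegree (ξ : G → ℂ) = p := by omega
      have hex : ∃ θ ∈ W, m θ ≠ 0 := by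
        by_contra hcon
        push Not at hcon
        rw [Finset.sum_eq_zero (fun ξ hξ => by rw [hcon ξ hξ, zero_mul])] at hWsum
        omega
      obtain ⟨θ, hθW, hθm⟩ := hex
      have hθY : θ ∉ Y := fun hY => hθm (hWY θ hθW hY)
      obtain ⟨z, hz1, hz⟩ := hWZ θ hθW hθY
      have hsplitW : m θ * charDegree (θ : G → ℂ) +
          ∑ ξ ∈ W.erase θ, m ξ * charDegree (ξ : G → ℂ) = p := by
        rw [Finset.add_sum_erase W (fun ξ => m ξ * charDegree (ξ : G → ℂ)) hθW, hWsum]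
      have hmθ1 : 1 ≤ m θ := Nat.one_le_iff_ne_zero.mpr hθm
      have h5 : 1 * (1 * p) ≤ m θ * (z * p) := Nat.mul_le_mul hmθ1 (Nat.mul_le_mul hz1 le_rfl)
      rw [hz] at hsplitW
      have h6 : m θ * (z * p) = p := by omega
      have hrest : ∑ ξ ∈ W.erase θ, m ξ * charDegree (ξ : G → ℂ) = 0 := by omega
      have hmz : m θ * z = 1 := by
        have h7 : (m θ * z) * p = 1 * p := by rw [mul_assoc, h6, one_mul]
        exact Nat.eq_of_mul_eq_mul_right (by omega) h7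
      have hmθ : m θ = 1 := Nat.eq_one_of_mul_eq_one_right hmz
      have hz1' : z = 1 := Nat.eq_one_of_mul_eq_one_left hmz
      have hrest0 : ∀ ξ ∈ W.erase θ, m ξ = 0 := by
        intro ξ hξ
        have h8 := (Finset.sum_eq_zero_iff.mp hrest) ξ hξ
        have h9 := d1_fin_charDegree_pos ξ
        rcases Nat.mul_eq_zero.mp h8 with h10 | h10
        · exact h10
        · omega
      have hθne : θ ≠ trivIrr G ∧ θ ≠ χ₁ := (hmemW θ).1 hθW
      -- the support of `m`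
      have hsupp : ∀ ξ : IrrCharacter G, ξ ≠ trivIrr G → ξ ≠ χ₁ → ξ ≠ θ → m ξ = 0 := by
        intro ξ h1 h2 h3
        apply hrest0
        exact Finset.mem_erase.mpr ⟨h3, (hmemW ξ).2 ⟨h1, h2⟩⟩
      obtain ⟨S, hS⟩ : ∃ S : Finset (IrrCharacter G), S = {trivIrr G, χ₁, θ} := ⟨_, rfl⟩
      have hSsum : ∀ {M : Type} [AddCommMonoid M] (F : IrrCharacter G → M),
          (∀ ξ, m ξ = 0 → F ξ = 0) →
          ∑ ξ : IrrCharacter G, F ξ = F (trivIrr G) + (F χ₁ + F θ) := by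
        intro M _ F hF
        have h1 : ∑ ξ ∈ S, F ξ = ∑ ξ : IrrCharacter G, F ξ := by
          apply Finset.sum_subset (Finset.subset_univ S)
          intro ξ _ hξ
          apply hF
          rw [hS] at hξ
          simp only [Finset.mem_insert, Finset.mem_singleton, not_or] at hξ
          exact hsupp ξ hξ.1 hξ.2.1 hξ.2.2
        rw [← h1, hS, Finset.sum_insert, Finset.sum_insert, Finset.sum_singleton]
        · simp only [Finset.mem_singleton]
          exact fun he => hθne.2 he.symm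
        · simp only [Finset.mem_insert, Finset.mem_singleton, not_or]
          exact ⟨hne, fun he => hθne.1 he.symm⟩
      refine ⟨hep, ?_, χ₁, θ, hχ₁Y, hθY, ?_, ?_, ?_, ?_⟩
      · intro ψ hψ
        rw [hyY ψ hψ]
        omega
      · rw [← br_blk_deg_cast χ₁, ← hc₁]
        have : c₁ = p - 1 := by omega
        rw [this, Nat.cast_sub (by omega), Nat.cast_one]
      · rw [← br_blk_deg_cast θ, hz, hz1', one_mul]
      · rw [hexp]
        funext g
        rw [Finset.sum_apply]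
        rw [hSsum (fun ξ => ((m ξ : ℂ) • (ξ : G → ℂ)) g) (fun ξ h0 => by
          rw [h0]
          simp)]
        rw [hmtriv, ← ha, ha1, hmθ]
        simp only [Pi.smul_apply, smul_eq_mul, Nat.cast_one, one_mul]
        have h2 : ((trivIrr G : IrrCharacter G) : G → ℂ) g = 1 := rfl
        rw [h2]
        ring
      · rw [hnorm, hSsum (fun ξ => m ξ ^ 2) (fun ξ h0 => by rw [h0]; rfl), hmtriv, ← ha, ha1, hmθ]
        norm_num
    · -- `u = 1`: norm `2`
      exfalso
      rw [hu1] at hu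
      have hWsum : ∑ ξ ∈ W, m ξ * charDegree (ξ : G → ℂ) = 0 := by omega
      have hW0 : ∀ ξ ∈ W, m ξ = 0 := by
        intro ξ hξ
        have h8 := (Finset.sum_eq_zero_iff.mp hWsum) ξ hξ
        have h9 := d1_fin_charDegree_pos ξ
        rcases Nat.mul_eq_zero.mp h8 with h10 | h10
        · exact h10
        · omega
      have h2 : ∑ ξ : IrrCharacter G, m ξ ^ 2 = 2 := by
        rw [hsplit (fun ξ => m ξ ^ 2), hmtriv, ← ha, ha1,
          Finset.sum_eq_zero (fun ξ hξ => by rw [hW0 ξ hξ]; rfl)]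
        norm_num
      rw [hnorm, h2] at hr
      have : (2 : ℕ) = r := by exact_mod_cast hr
      omega

end Cfsg.Agent.BR
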