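import Mathlib
import Cfsg.Agent.Helper6.BlockKernel

/-!
# S4707, Part I: the group-theoretic front end (lead)

`G` finite, acting faithfully and primitively on `α`, `|α| = 2p`, `p > 3`, `P` a Sylow `p`-subgroup
with `|N_G(P)| = 2p`.  Then `|P| = p`, no element of order `p` fixes a point, every non-trivial
normal subgroup is transitive and contains `P`, `C_G(P) = P`, `|N_G(P) : P| = 2`, `G` is perfect,
characters not constant on `P` are faithful; and "not 2-transitive" means rank at least 3.
(Section 1 of `notes/BR_next_targets_helper5.md`.)  Mathlib only, except `kerSub` from Helper6.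
-/

set_option autoImplicit false
set_option linter.unusedSectionVars false
set_option linter.style.haveILetI false

namespace Cfsg.Agent.BR

open Subgroup MulAction
open scoped Pointwise

universe u v

variable {G : Type u} [Group G] [Finite G] {α : Type v} [Fintype α] [MulAction G α]
  {p : ℕ} [hp : Fact p.Prime]

/-- `|α| * |G_a| = |G|` for a transitive action. -/
theorem br_p2p_card_stab [IsPretransitive G α] (a : α) :
    Fintype.card α * Nat.card (stabilizer G a) = Nat.card G := by
  rw [← Nat.card_eq_fintype_card, ← index_stabilizer_of_transitive G a]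
  exact Subgroup.index_mul_card _

/-- A transitive subgroup has order divisible by `|α|`. -/
theorem br_p2p_card_dvd_of_trans (K : Subgroup G) [IsPretransitive K α] [Nonempty α] :
    Fintype.card α ∣ Nat.card K := by
  obtain ⟨a⟩ : Nonempty α := inferInstance
  exact ⟨_, (br_p2p_card_stab (G := K) a).symm⟩

/-- The Sylow `p`-subgroup has order `p`. -/
theorem br_p2p_card_P [IsPretransitive G α] (hp3 : 3 < p) (hα : Fintype.card α = 2 * p)
    (P : Sylow p G) (hN : Nat.card (normalizer ((P : Subgroup G) : Set G)) = 2 * p) :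
    Nat.card (P : Subgroup G) = p := by
  have hpp := hp.out
  have hα0 : Nonempty α := by
    rw [← Fintype.card_pos_iff, hα]; positivity
  obtain ⟨a⟩ := hα0
  have h1 : 2 * p ∣ Nat.card G := ⟨_, (hα ▸ br_p2p_card_stab (G := G) a).symm⟩
  have h2 : p ∣ Nat.card G := (dvd_mul_left p 2).trans h1
  have h3 : Nat.card (P : Subgroup G) ∣ 2 * p := hN ▸ Subgroup.card_dvd_of_le le_normalizer
  rw [P.card_eq_multiplicity] at h3 ⊢
  have h4 : 0 < (Nat.card G).factorization p :=
    hpp.factorization_pos_of_dvd Nat.card_pos.ne' h2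
  have h5 : (Nat.card G).factorization p < 2 := by
    by_contra h
    have h6 : p ^ 2 ∣ 2 * p := (pow_dvd_pow p (not_lt.mp h)).trans h3
    rw [pow_two] at h6
    have h7 : p ∣ 2 := Nat.dvd_of_mul_dvd_mul_right hpp.pos h6
    have := Nat.le_of_dvd (by norm_num) h7
    omega
  have h8 : (Nat.card G).factorization p = 1 := by omega
  rw [h8, pow_one]

/-- `p` does not divide the order of a point stabilizer. -/
theorem br_p2p_not_dvd_stab [IsPretransitive G α] (hα : Fintype.card α = 2 * p)
    (P : Sylow p G) (hP : Nat.card (P : Subgroup G) = p) (a : α) :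
    ¬ p ∣ Nat.card (stabilizer G a) := by
  have hpp := hp.out
  intro h
  have h1 := br_p2p_card_stab (G := G) a
  rw [hα] at h1
  have h2 : p ^ 2 ∣ Nat.card G := by
    rw [← h1, pow_two]
    exact Nat.mul_dvd_mul ((dvd_mul_left p 2)) h
  have h3 := (hpp.pow_dvd_iff_le_factorization Nat.card_pos.ne').mp h2
  have h4 := P.card_eq_multiplicity
  rw [hP] at h4
  have h5 : p ^ 1 = p ^ (Nat.card G).factorization p := by rw [pow_one]; exact h4
  have := Nat.pow_right_injective hpp.two_le h5
  omega

/-- No element of order `p` fixes a point. -/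
theorem br_p2p_no_fix [IsPretransitive G α] (hα : Fintype.card α = 2 * p)
    (P : Sylow p G) (hP : Nat.card (P : Subgroup G) = p) (g : G) (hg : orderOf g = p) (a : α) :
    g • a ≠ a := by
  intro h
  have h1 : g ∈ stabilizer G a := h
  have := Subgroup.orderOf_dvd_natCard _ h1
  rw [hg] at this
  exact br_p2p_not_dvd_stab hα P hP a this


/-- In a faithful primitive action every non-trivial normal subgroup is transitive. -/
theorem br_p2p_normal_trans [IsPreprimitive G α]
    (hfaith : ∀ g : G, (∀ a : α, g • a = a) → g = 1) (K : Subgroup G) [K.Normal] (hK : K ≠ ⊥) :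
    IsPretransitive K α := by
  apply IsQuasiPreprimitive.isPretransitive_of_normal
  intro h
  apply hK
  rw [eq_bot_iff]
  intro g hg
  rw [Subgroup.mem_bot]
  apply hfaith
  intro a
  have : a ∈ fixedPoints K α := by rw [h]; trivial
  exact this ⟨g, hg⟩

/-- A normal subgroup of order divisible by `p` contains the Sylow subgroup `P` of order `p`. -/
theorem br_p2p_le_of_dvd (P : Sylow p G) (hP : Nat.card (P : Subgroup G) = p)
    (K : Subgroup G) [hKn : K.Normal] (hK : p ∣ Nat.card K) : (P : Subgroup G) ≤ K := by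
  obtain ⟨x, hx⟩ := exists_prime_orderOf_dvd_card' p hK
  have hx' : orderOf (x : G) = p := by rw [Subgroup.orderOf_coe]; exact hx
  have hz : Nat.card (Subgroup.zpowers (x : G)) = p := by rw [Nat.card_zpowers, hx']
  have hzp : IsPGroup p (Subgroup.zpowers (x : G)) := IsPGroup.of_card (n := 1) (by rw [hz, pow_one])
  obtain ⟨P', hP'⟩ := hzp.exists_le_sylow
  have hP'c : Nat.card (P' : Subgroup G) = p := by
    rw [P'.card_eq_multiplicity, ← P.card_eq_multiplicity, hP]
  have hzP' : Subgroup.zpowers (x : G) = (P' : Subgroup G) :=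
    Subgroup.eq_of_le_of_card_ge hP' (by rw [hP'c, hz])
  have hP'K : (P' : Subgroup G) ≤ K := by
    rw [← hzP', Subgroup.zpowers_le]; exact x.2
  obtain ⟨g, hg⟩ := MulAction.exists_smul_eq G P' P
  intro y hy
  have hy' : y ∈ ((g • P' : Sylow p G) : Subgroup G) := by rw [hg]; exact hy
  have hy2 : y ∈ MulAut.conj g • (P' : Subgroup G) := hy'
  rw [Subgroup.mem_pointwise_smul_iff_inv_smul_mem] at hy2
  have h2 : (MulAut.conj g)⁻¹ • y ∈ K := hP'K hy2
  have h3 : y = g * ((MulAut.conj g)⁻¹ • y) * g⁻¹ := by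
    simp [MulAut.smul_def, mul_assoc]
  rw [h3]
  exact hKn.conj_mem _ h2 g

/-- Every non-trivial normal subgroup contains `P`. -/
theorem br_p2p_le_normal [IsPreprimitive G α] (hα : Fintype.card α = 2 * p)
    (hfaith : ∀ g : G, (∀ a : α, g • a = a) → g = 1) (P : Sylow p G)
    (hP : Nat.card (P : Subgroup G) = p) (K : Subgroup G) [K.Normal] (hK : K ≠ ⊥) :
    (P : Subgroup G) ≤ K := by
  haveI := br_p2p_normal_trans hfaith K hK
  haveI : Nonempty α := by
    rw [← Fintype.card_pos_iff, hα]; have := hp.out.pos; positivity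
  have h1 : 2 * p ∣ Nat.card K := hα ▸ br_p2p_card_dvd_of_trans K
  exact br_p2p_le_of_dvd P hP K ((dvd_mul_left p 2).trans h1)


/-- **Burnside inside a normal subgroup.**  If `K ⊴ G` and a Sylow `p`-subgroup `P'` of `K` is
central in its normalizer in `K`, then `K` has a normal `p`-complement which is normal in `G`. -/
theorem br_p2p_normal_compl (K : Subgroup G) [hKn : K.Normal] (P' : Sylow p K)
    (h : normalizer ((P' : Subgroup K) : Set K) ≤ centralizer ((P' : Subgroup K) : Set K)) :
    ∃ Q : Subgroup G, Q.Normal ∧ Q ≤ K ∧ ¬ p ∣ Nat.card Q ∧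
      Nat.card Q * Nat.card (P' : Subgroup K) = Nat.card K := by
  classical
  set T := (MonoidHom.transferSylow P' h).ker with hT
  have hcompl := MonoidHom.ker_transferSylow_isComplement' P' h
  have hnd : ¬ p ∣ Nat.card T := MonoidHom.not_dvd_card_ker_transferSylow P' h
  -- elements of `K` of order prime to `p` lie in `T`
  have hmem : ∀ y : K, ¬ p ∣ orderOf y → y ∈ T := by
    intro y hy
    rw [hT, MonoidHom.mem_ker]
    set z := MonoidHom.transferSylow P' h y with hz
    have h1 : orderOf z ∣ orderOf y := orderOf_map_dvd _ y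
    obtain ⟨k, hk⟩ := P'.isPGroup' z
    have h2 : orderOf z ∣ p ^ k := orderOf_dvd_of_pow_eq_one hk
    have h3 : Nat.Coprime (orderOf y) (p ^ k) :=
      Nat.Coprime.pow_right _ ((Nat.Prime.coprime_iff_not_dvd hp.out).mpr hy).symm
    have h4 : orderOf z = 1 := Nat.eq_one_of_dvd_coprimes h3 h1 h2
    exact orderOf_eq_one_iff.mp h4
  have hord : ∀ y : K, y ∈ T → ¬ p ∣ orderOf y := by
    intro y hy hdvd
    exact hnd (hdvd.trans (Subgroup.orderOf_dvd_natCard T hy))
  refine ⟨T.map K.subtype, ⟨?_⟩, Subgroup.map_subtype_le T, ?_, ?_⟩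
  · rintro x ⟨y, hy, rfl⟩ g
    have hgy : g * (y : G) * g⁻¹ ∈ K := hKn.conj_mem _ y.2 g
    refine ⟨⟨g * (y : G) * g⁻¹, hgy⟩, ?_, rfl⟩
    apply hmem
    have h1 : orderOf (⟨g * (y : G) * g⁻¹, hgy⟩ : K) = orderOf y := by
      rw [← Subgroup.orderOf_coe, ← Subgroup.orderOf_coe y]
      exact (MulAut.conj g).orderOf_eq (y : G)
    rw [h1]
    exact hord y hy
  · rw [Subgroup.card_map_of_injective K.subtype_injective]
    exact hnd
  · rw [Subgroup.card_map_of_injective K.subtype_injective]
    exact hcompl.card_mul_card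


/-- **The Burnside step.**  No normal subgroup `K ≥ P` has `N_K(P) ≤ C_G(P)`. -/
theorem br_p2p_burnside [IsPreprimitive G α] (hα : Fintype.card α = 2 * p)
    (hfaith : ∀ g : G, (∀ a : α, g • a = a) → g = 1) (P : Sylow p G)
    (hP : Nat.card (P : Subgroup G) = p) (K : Subgroup G) [hKn : K.Normal]
    (hPK : (P : Subgroup G) ≤ K)
    (hNC : K ⊓ normalizer ((P : Subgroup G) : Set G) ≤ centralizer ((P : Subgroup G) : Set G)) :
    False := by
  classical
  have hpp := hp.out
  haveI : Nonempty α := by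
    rw [← Fintype.card_pos_iff, hα]; have := hpp.pos; positivity
  set P' : Sylow p K := P.subtype hPK with hP'
  have hP'coe : (P' : Subgroup K) = (P : Subgroup G).subgroupOf K := Sylow.coe_subtype P hPK
  have hP'c : Nat.card (P' : Subgroup K) = p := by
    have h0 : Nat.card ((P : Subgroup G).subgroupOf K) = Nat.card (P : Subgroup G) :=
      Nat.card_congr (Subgroup.subgroupOfEquivOfLe hPK).toEquiv
    rw [hP'coe, h0, hP]
  have h : normalizer ((P' : Subgroup K) : Set K) ≤ centralizer ((P' : Subgroup K) : Set K) := by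
    intro k hk
    have hkN : (k : G) ∈ normalizer ((P : Subgroup G) : Set G) := by
      rw [Subgroup.mem_normalizer_iff]
      intro x
      rw [Subgroup.mem_normalizer_iff] at hk
      constructor
      · intro hx
        have h1 := (hk ⟨x, hPK hx⟩).mp (by rw [hP'coe, Subgroup.mem_subgroupOf]; exact hx)
        rw [hP'coe, Subgroup.mem_subgroupOf] at h1
        exact h1
      · intro hx
        have hxK : x ∈ K := by
          have h2 : (k : G)⁻¹ * ((k : G) * x * (k : G)⁻¹) * (k : G) ∈ K :=
            K.mul_mem (K.mul_mem (K.inv_mem k.2) (hPK hx)) k.2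
          have h3 : (k : G)⁻¹ * ((k : G) * x * (k : G)⁻¹) * (k : G) = x := by group
          rwa [h3] at h2
        have h1 := (hk ⟨x, hxK⟩).mpr (by rw [hP'coe, Subgroup.mem_subgroupOf]; exact hx)
        rw [hP'coe, Subgroup.mem_subgroupOf] at h1
        exact h1
    have hkC : (k : G) ∈ centralizer ((P : Subgroup G) : Set G) := hNC ⟨k.2, hkN⟩
    rw [Subgroup.mem_centralizer_iff] at hkC ⊢
    intro y hy
    have hy' : (y : G) ∈ (P : Subgroup G) := by
      have : y ∈ (P' : Subgroup K) := hy
      rw [hP'coe, Subgroup.mem_subgroupOf] at this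
      exact this
    exact Subtype.ext (hkC (y : G) hy')
  obtain ⟨Q, hQn, hQK, hQp, hQc⟩ := br_p2p_normal_compl K P' h
  rw [hP'c] at hQc
  haveI := hQn
  by_cases hQ : Q = ⊥
  · -- then `|K| = p`, but `K` is transitive
    have hK1 : Nat.card K = p := by
      rw [← hQc, hQ, Subgroup.card_bot, one_mul]
    have hKne : K ≠ ⊥ := by
      intro h0
      rw [h0, Subgroup.card_bot] at hK1
      exact hpp.one_lt.ne hK1
    haveI := br_p2p_normal_trans hfaith K hKne
    have h1 : 2 * p ∣ Nat.card K := hα ▸ br_p2p_card_dvd_of_trans K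
    rw [hK1] at h1
    have := Nat.le_of_dvd hpp.pos h1
    have := hpp.pos
    omega
  · haveI := br_p2p_normal_trans hfaith Q hQ
    have h1 : 2 * p ∣ Nat.card Q := hα ▸ br_p2p_card_dvd_of_trans Q
    exact hQp ((dvd_mul_left p 2).trans h1)

/-- `P ≤ C_G(P)` for `|P| = p`. -/
theorem br_p2p_le_centralizer (P : Sylow p G) (hP : Nat.card (P : Subgroup G) = p) :
    (P : Subgroup G) ≤ centralizer ((P : Subgroup G) : Set G) := by
  haveI : Fact (Nat.card ↥(P : Subgroup G)).Prime := ⟨by rw [hP]; exact hp.out⟩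
  haveI : IsCyclic ↥(P : Subgroup G) := isCyclic_of_prime_card rfl
  intro x hx
  rw [Subgroup.mem_centralizer_iff]
  intro y hy
  have := (IsCyclic.commGroup (α := ↥(P : Subgroup G))).mul_comm ⟨y, hy⟩ ⟨x, hx⟩
  exact congrArg Subtype.val this

/-- A subgroup between `P` (order `p`) and `N` (order `2p`) is one of them. -/
theorem br_p2p_between (A B C : Subgroup G) (hA : Nat.card A = p) (hC : Nat.card C = 2 * p)
    (hAB : A ≤ B) (hBC : B ≤ C) : B = A ∨ B = C := by
  have hpp := hp.out
  have h1 : p ∣ Nat.card B := hA ▸ Subgroup.card_dvd_of_le hAB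
  have h2 : Nat.card B ∣ 2 * p := hC ▸ Subgroup.card_dvd_of_le hBC
  obtain ⟨j, hj⟩ := h1
  rw [hj, mul_comm 2 p] at h2
  have h3 : j ∣ 2 := Nat.dvd_of_mul_dvd_mul_left hpp.pos h2
  have h4 : j = 1 ∨ j = 2 := (Nat.dvd_prime Nat.prime_two).mp h3
  rcases h4 with h4 | h4
  · left
    exact (Subgroup.eq_of_le_of_card_ge hAB (by rw [hj, h4, hA, mul_one])).symm
  · right
    exact Subgroup.eq_of_le_of_card_ge hBC (by rw [hj, h4, hC, mul_comm])

/-- `C_G(P) = P`. -/
theorem br_p2p_centralizer [IsPreprimitive G α] (hα : Fintype.card α = 2 * p)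
    (hfaith : ∀ g : G, (∀ a : α, g • a = a) → g = 1) (P : Sylow p G)
    (hP : Nat.card (P : Subgroup G) = p)
    (hN : Nat.card (normalizer ((P : Subgroup G) : Set G)) = 2 * p) :
    centralizer ((P : Subgroup G) : Set G) = (P : Subgroup G) := by
  have hCN : centralizer ((P : Subgroup G) : Set G) ≤ normalizer ((P : Subgroup G) : Set G) :=
    Subgroup.centralizer_le_normalizer _
  rcases br_p2p_between (P : Subgroup G) _ _ hP hN (br_p2p_le_centralizer P hP) hCN with h | h
  · exact h
  · exfalso
    haveI : (⊤ : Subgroup G).Normal := inferInstance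
    exact br_p2p_burnside hα hfaith P hP ⊤ le_top (by rw [top_inf_eq, h])

/-- `|N_G(P) : P| = 2`. -/
theorem br_p2p_relIndex (P : Sylow p G) (hP : Nat.card (P : Subgroup G) = p)
    (hN : Nat.card (normalizer ((P : Subgroup G) : Set G)) = 2 * p) :
    (P : Subgroup G).relIndex (normalizer ((P : Subgroup G) : Set G)) = 2 := by
  have hle : (P : Subgroup G) ≤ normalizer ((P : Subgroup G) : Set G) := le_normalizer
  have h0 : Nat.card ((P : Subgroup G).subgroupOf (normalizer ((P : Subgroup G) : Set G))) =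
      Nat.card (P : Subgroup G) := Nat.card_congr (Subgroup.subgroupOfEquivOfLe hle).toEquiv
  have h1 := Subgroup.index_mul_card
    ((P : Subgroup G).subgroupOf (normalizer ((P : Subgroup G) : Set G)))
  rw [h0, hP, hN] at h1
  exact Nat.eq_of_mul_eq_mul_right hp.out.pos h1

/-- `G` is perfect. -/
theorem br_p2p_perfect [IsPreprimitive G α] (hα : Fintype.card α = 2 * p)
    (hfaith : ∀ g : G, (∀ a : α, g • a = a) → g = 1) (P : Sylow p G)
    (hP : Nat.card (P : Subgroup G) = p)
    (hN : Nat.card (normalizer ((P : Subgroup G) : Set G)) = 2 * p) :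
    commutator G = ⊤ := by
  have hpp := hp.out
  have hC := br_p2p_centralizer hα hfaith P hP hN
  have hK0 : commutator G ≠ ⊥ := by
    intro h0
    -- `G` abelian: `N(P) ≤ C(P) = P`
    have h1 : normalizer ((P : Subgroup G) : Set G) ≤ centralizer ((P : Subgroup G) : Set G) := by
      intro g _
      rw [Subgroup.mem_centralizer_iff]
      intro x _
      rw [commutator_def, Subgroup.commutator_eq_bot_iff_le_centralizer] at h0
      have h2 : g ∈ centralizer (((⊤ : Subgroup G) : Subgroup G) : Set G) := h0 (Subgroup.mem_top g)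
      rw [Subgroup.mem_centralizer_iff] at h2
      exact h2 x (Subgroup.mem_top x)
    rw [hC] at h1
    have := Subgroup.card_le_of_le h1
    rw [hN, hP] at this
    have := hpp.pos
    omega
  have hPK : (P : Subgroup G) ≤ commutator G :=
    br_p2p_le_normal hα hfaith P hP (commutator G) hK0
  have hle : commutator G ⊓ normalizer ((P : Subgroup G) : Set G) ≤
      normalizer ((P : Subgroup G) : Set G) := inf_le_right
  rcases br_p2p_between (P : Subgroup G) _ _ hP hN (le_inf hPK le_normalizer) hle with h | h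
  · exfalso
    apply br_p2p_burnside hα hfaith P hP (commutator G) hPK
    rw [h]
    exact br_p2p_le_centralizer P hP
  · have h1 : normalizer ((P : Subgroup G) : Set G) ≤ commutator G := by
      rw [← h]; exact inf_le_left
    have h2 := Sylow.normalizer_sup_eq_top' P hPK
    rw [← h2]
    exact (sup_eq_right.mpr h1).symm


/-- An irreducible character that is not constant on `P` is faithful. -/
theorem br_p2p_faithful [IsPreprimitive G α] (hα : Fintype.card α = 2 * p)
    (hfaith : ∀ g : G, (∀ a : α, g • a = a) → g = 1) (P : Sylow p G)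
    (hP : Nat.card (P : Subgroup G) = p) (ψ : Cfsg.IrrCharacter G)
    (hψ : ∃ x ∈ (P : Subgroup G), (ψ : G → ℂ) x ≠ (ψ : G → ℂ) 1) :
    ∀ g : G, (ψ : G → ℂ) g = (ψ : G → ℂ) 1 → g = 1 := by
  haveI := Cfsg.Agent.Helper6.kerSub_normal ψ
  have hK : Cfsg.Agent.Helper6.kerSub ψ = ⊥ := by
    by_contra hK
    obtain ⟨x, hx, hne⟩ := hψ
    have := br_p2p_le_normal hα hfaith P hP (Cfsg.Agent.Helper6.kerSub ψ) hK hx
    rw [Cfsg.Agent.Helper6.mem_kerSub] at this
    exact hne this
  intro g hg
  have : g ∈ Cfsg.Agent.Helper6.kerSub ψ := (Cfsg.Agent.Helper6.mem_kerSub ψ g).mpr hg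
  rw [hK, Subgroup.mem_bot] at this
  exact this

/-- **Rank at least three.**  A transitive action that is not `2`-transitive has at least three
suborbits. -/
theorem br_p2p_rank [IsPretransitive G α] (hnot2 : ¬ IsMultiplyPretransitive G α 2) (a : α) :
    3 ≤ Nat.card (orbitRel.Quotient (stabilizer G a) α) := by
  classical
  by_contra hlt
  apply hnot2
  rw [is_two_pretransitive_iff]
  -- the stabilizer of `a` is transitive on the other points
  have htr : ∀ x y : α, x ≠ a → y ≠ a → ∃ h ∈ stabilizer G a, h • x = y := by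
    intro x y hx hy
    by_contra hxy
    apply hlt
    haveI : Fintype (orbitRel.Quotient (stabilizer G a) α) := Fintype.ofFinite _
    rw [Nat.card_eq_fintype_card]
    have hax : (Quotient.mk'' a : orbitRel.Quotient (stabilizer G a) α) ≠ Quotient.mk'' x := by
      intro h
      rw [Quotient.eq''] at h
      obtain ⟨⟨g, hg⟩, hgx⟩ := h
      apply hx
      have h1 : g • x = a := hgx
      have h2 : g • a = a := hg
      have : g • x = g • a := by rw [h1, h2]
      exact (MulAction.injective g) this
    have hay : (Quotient.mk'' a : orbitRel.Quotient (stabilizer G a) α) ≠ Quotient.mk'' y := by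
      intro h
      rw [Quotient.eq''] at h
      obtain ⟨⟨g, hg⟩, hgy⟩ := h
      apply hy
      have h1 : g • y = a := hgy
      have h2 : g • a = a := hg
      have : g • y = g • a := by rw [h1, h2]
      exact (MulAction.injective g) this
    have hxy' : (Quotient.mk'' x : orbitRel.Quotient (stabilizer G a) α) ≠ Quotient.mk'' y := by
      intro h
      rw [Quotient.eq''] at h
      obtain ⟨⟨g, hg⟩, hgy⟩ := h
      apply hxy
      refine ⟨g⁻¹, (stabilizer G a).inv_mem hg, ?_⟩
      have h1 : g • y = x := hgy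
      rw [← h1, inv_smul_smul]
    exact Nat.succ_le_of_lt (Fintype.two_lt_card_iff.mpr ⟨_, _, _, hax, hay, hxy'⟩)
  intro b c d e hbc hde
  obtain ⟨g₁, hg₁⟩ := MulAction.exists_smul_eq G b a
  obtain ⟨g₂, hg₂⟩ := MulAction.exists_smul_eq G d a
  have h1 : g₁ • c ≠ a := by
    intro h
    rw [← hg₁] at h
    exact hbc ((MulAction.injective g₁) h).symm
  have h2 : g₂ • e ≠ a := by
    intro h
    rw [← hg₂] at h
    exact hde ((MulAction.injective g₂) h).symm
  obtain ⟨h, hh, hhc⟩ := htr (g₁ • c) (g₂ • e) h1 h2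
  refine ⟨g₂⁻¹ * h * g₁, ?_, ?_⟩
  · rw [mul_smul, mul_smul, hg₁, show h • a = a from hh, ← hg₂, inv_smul_smul]
  · rw [mul_smul, mul_smul, hhc, inv_smul_smul]


/-- A permutation group acts faithfully. -/
theorem br_p2p_perm_faithful {β : Type v} (G : Subgroup (Equiv.Perm β)) :
    ∀ g : G, (∀ a : β, g • a = a) → g = 1 := by
  intro g hg
  apply Subtype.ext
  apply Equiv.Perm.ext
  intro a
  exact hg a

/-- **Part I of S4707, packaged for a permutation group** `G ≤ Sym(α)`, `|α| = 2p`, `p > 3`,
primitive, `|N_G(P)| = 2p`. -/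
theorem br_p2p_front_aux {β : Type v} [Fintype β] (hp3 : 3 < p) (hβ : Fintype.card β = 2 * p)
    (G : Subgroup (Equiv.Perm β)) [IsPreprimitive G β] (P : Sylow p G)
    (hN : Nat.card (normalizer ((P : Subgroup G) : Set G)) = 2 * p) :
    Nat.card (P : Subgroup G) = p ∧
    (∀ g : G, orderOf g = p → ∀ a : β, g • a ≠ a) ∧
    centralizer ((P : Subgroup G) : Set G) = (P : Subgroup G) ∧
    (P : Subgroup G).relIndex (normalizer ((P : Subgroup G) : Set G)) = 2 ∧
    commutator G = ⊤ ∧
    (∀ K : Subgroup G, K.Normal → K ≠ ⊥ → (P : Subgroup G) ≤ K) ∧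
    (∀ ψ : Cfsg.IrrCharacter G, (∃ x ∈ (P : Subgroup G), (ψ : G → ℂ) x ≠ (ψ : G → ℂ) 1) →
      ∀ g : G, (ψ : G → ℂ) g = (ψ : G → ℂ) 1 → g = 1) := by
  have hfaith := br_p2p_perm_faithful G
  have hP := br_p2p_card_P (G := G) (α := β) hp3 hβ P hN
  refine ⟨hP, fun g hg a => br_p2p_no_fix hβ P hP g hg a,
    br_p2p_centralizer hβ hfaith P hP hN, br_p2p_relIndex P hP hN,
    br_p2p_perfect hβ hfaith P hP hN, ?_, fun ψ hψ => br_p2p_faithful hβ hfaith P hP ψ hψ⟩
  intro K hK hK0
  haveI := hK
  exact br_p2p_le_normal hβ hfaith P hP K hK0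


/-- **Part I of S4707 in the frozen shape of `notes/S4707_headers_helper5.md`.** -/
theorem br_p2p_front {α : Type u} [Fintype α] [DecidableEq α] {p : ℕ} [Fact p.Prime] (hp : 3 < p)
    (hα : Fintype.card α = 2 * p) (G : Subgroup (Equiv.Perm α))
    (hprim : MulAction.IsPreprimitive G α) (hnot2 : ¬ MulAction.IsMultiplyPretransitive G α 2)
    (P : Sylow p G) (hN : Nat.card (Subgroup.normalizer ((P : Subgroup G) : Set G)) = 2 * p) :
    Nat.card (P : Subgroup G) = p ∧
    Subgroup.centralizer ((P : Subgroup G) : Set G) ≤ (P : Subgroup G) ∧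
    (P : Subgroup G).relIndex (Subgroup.normalizer ((P : Subgroup G) : Set G)) = 2 ∧
    commutator G = ⊤ ∧
    (∀ K : Subgroup G, K.Normal → K ≠ ⊥ → (P : Subgroup G) ≤ K) ∧
    (∀ x : G, x ∈ (P : Subgroup G) → x ≠ 1 → Nat.card (MulAction.fixedBy α x) = 0) ∧
    (∀ a₀ : α, 3 ≤ Nat.card (MulAction.orbitRel.Quotient (MulAction.stabilizer G a₀) α)) := by
  haveI := hprim
  obtain ⟨h1, h2, h3, h4, h5, h6, -⟩ := br_p2p_front_aux hp hα G P hN
  refine ⟨h1, h3.le, h4, h5, h6, ?_, fun a₀ => br_p2p_rank (G := G) hnot2 a₀⟩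
  intro x hx hx1
  have hord : orderOf x = p := by
    have hd : orderOf x ∣ p := h1 ▸ Subgroup.orderOf_dvd_natCard _ hx
    rcases (Nat.dvd_prime (Fact.out : p.Prime)).mp hd with h | h
    · exact absurd (orderOf_eq_one_iff.mp h) hx1
    · exact h
  have hempty : IsEmpty ↥(MulAction.fixedBy α x) := by
    rw [Set.isEmpty_coe_sort, Set.eq_empty_iff_forall_notMem]
    intro a ha
    exact h2 x hord a ha
  exact Nat.card_of_isEmpty

end Cfsg.Agent.BR
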