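import Mathlib
import Cfsg.Agent.BR.P2pFront
import Cfsg.Agent.S3685
import Cfsg.Agent.S0494
import Cfsg.Agent.Helper6.BurnsidePQ

/-!
# S4707, Part IV: the case `p = 5` (lead)

`G ≤ Sym(α)` primitive of degree `10`, perfect, `|N_G(P)| = 10` for a Sylow `5`-subgroup, and all
non-trivial suborbits of length `3` or `6`.  Then some suborbit has length `3`, so by the landed
S3685 (Wong's theorem on primitive groups with a suborbit of length three) the point stabiliser has
order `3, 6, 12, 24` or `48`; the number of Sylow `5`-subgroups is `|G| / 10 = |G_a|`, which is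
`≡ 1 (mod 5)`, so `|G_a| = 6` and `|G| = 60`.  A perfect primitive group of order `60` is simple
(a proper non-trivial normal subgroup would be transitive, of index dividing `6`), hence `≅ A₅` by
the landed S0494.
-/

set_option autoImplicit false
set_option linter.style.haveILetI false

namespace Cfsg.Agent.BR

universe u

open MulAction Subgroup

/-- A quotient of a perfect group is perfect. -/
theorem br_p2f_quot_perfect {K : Type*} [Group K] (hperf : commutator K = ⊤) (N : Subgroup K)
    [N.Normal] : commutator (K ⧸ N) = ⊤ := by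
  rw [commutator_def, ← Subgroup.map_top_of_surjective (QuotientGroup.mk' N)
    (QuotientGroup.mk'_surjective N), ← Subgroup.map_commutator, ← commutator_def, hperf]

/-- A perfect solvable group is trivial. -/
theorem br_p2f_perfect_solvable {K : Type*} [Group K] (hperf : commutator K = ⊤)
    [hs : Group.IsSolvable K] : Subsingleton K := by
  by_contra hne
  rw [not_subsingleton_iff_nontrivial] at hne
  exact (Group.IsSolvable.commutator_lt_top_of_nontrivial K).ne hperf

/-- If the group fixes `a₀`, `|α| = 10`, and the other orbits have length `3` or `6`, some orbit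
has length `3`. -/
theorem br_p2f_exists_three {α : Type u} [Fintype α] {H : Type*} [Group H]
    [MulAction H α] (a₀ : α) (hfix : ∀ h : H, h • a₀ = a₀) (hα : Fintype.card α = 10)
    (hsub : ∀ b : α, b ≠ a₀ → Nat.card (orbit H b) = 3 ∨ Nat.card (orbit H b) = 6) :
    ∃ b : α, Nat.card (orbit H b) = 3 := by
  classical
  by_contra hne
  push Not at hne
  have h6 : ∀ b, b ≠ a₀ → Nat.card (orbit H b) = 6 :=
    fun b hb => (hsub b hb).resolve_left (hne b)
  have hsum : Fintype.card α = ∑ ω : orbitRel.Quotient H α, Nat.card ω.orbit := by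
    rw [Fintype.card_congr (selfEquivSigmaOrbits' H α), Fintype.card_sigma]
    exact Finset.sum_congr rfl fun ω _ => (Nat.card_eq_fintype_card).symm
  have h0 : Nat.card (orbitRel.Quotient.orbit (Quotient.mk'' a₀ : orbitRel.Quotient H α)) = 1 := by
    rw [orbitRel.Quotient.orbit_mk]
    have : orbit H a₀ = {a₀} := by
      ext x
      constructor
      · rintro ⟨h, rfl⟩
        exact hfix h
      · rintro rfl
        exact mem_orbit_self _
    rw [this]
    simp
  have hrest : ∀ ω ∈ (Finset.univ : Finset (orbitRel.Quotient H α)).erase (Quotient.mk'' a₀),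
      Nat.card ω.orbit = 6 := by
    intro ω hω
    induction ω using Quotient.inductionOn' with
    | h b =>
      rw [orbitRel.Quotient.orbit_mk]
      apply h6
      rintro rfl
      exact (Finset.mem_erase.mp hω).1 rfl
  rw [← Finset.add_sum_erase _ _ (Finset.mem_univ (Quotient.mk'' a₀ : orbitRel.Quotient H α)), h0,
    Finset.sum_congr rfl hrest, Finset.sum_const, smul_eq_mul, hα] at hsum
  omega

/-- The possible orders of the stabiliser in S3685. -/
theorem br_p2f_card_of_struct {H : Type*} [Group H]
    (h : Nonempty (H ≃* Multiplicative (ZMod 3)) ∨ Nonempty (H ≃* Equiv.Perm (Fin 3)) ∨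
      Nonempty (H ≃* DihedralGroup 6) ∨ Nonempty (H ≃* Equiv.Perm (Fin 4)) ∨
      Nonempty (H ≃* Equiv.Perm (Fin 4) × Multiplicative (ZMod 2))) :
    Nat.card H = 3 ∨ Nat.card H = 6 ∨ Nat.card H = 12 ∨ Nat.card H = 24 ∨ Nat.card H = 48 := by
  rcases h with ⟨⟨e⟩⟩ | ⟨⟨e⟩⟩ | ⟨⟨e⟩⟩ | ⟨⟨e⟩⟩ | ⟨⟨e⟩⟩
  · left
    rw [Nat.card_congr e.toEquiv]
    simp
  · right; left
    rw [Nat.card_congr e.toEquiv, Nat.card_eq_fintype_card, Fintype.card_perm, Fintype.card_fin]
    rfl
  · right; right; left
    rw [Nat.card_congr e.toEquiv, DihedralGroup.nat_card]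
  · right; right; right; left
    rw [Nat.card_congr e.toEquiv, Nat.card_eq_fintype_card, Fintype.card_perm, Fintype.card_fin]
    rfl
  · right; right; right; right
    rw [Nat.card_congr e.toEquiv, Nat.card_prod, Nat.card_eq_fintype_card, Fintype.card_perm,
      Fintype.card_fin]
    simp
    rfl

/-- A perfect primitive permutation group of degree `10` and order `60` is simple. -/
theorem br_p2f_simple {α : Type u} [Fintype α] (hα : Fintype.card α = 10)
    (G : Subgroup (Equiv.Perm α)) [IsPreprimitive G α] (hperf : commutator G = ⊤)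
    (hG : Nat.card G = 60) : IsSimpleGroup G := by
  haveI : Finite G := Nat.finite_of_card_ne_zero (by omega)
  haveI : Nontrivial G := by
    rw [← Finite.one_lt_card_iff_nontrivial, hG]
    norm_num
  haveI : Nonempty α := by
    rw [← Fintype.card_pos_iff, hα]
    norm_num
  refine ⟨fun N hN => ?_⟩
  by_cases hbot : N = ⊥
  · exact Or.inl hbot
  right
  haveI := hN
  haveI : IsPretransitive N α := br_p2p_normal_trans (br_p2p_perm_faithful G) N hbot
  have hdvd : 10 ∣ Nat.card N := hα ▸ br_p2p_card_dvd_of_trans N
  have hidx : Nat.card N * N.index = 60 := by rw [Subgroup.card_mul_index, hG]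
  have hq : Nat.card (G ⧸ N) = N.index := rfl
  have h6 : N.index ∣ 6 := by
    obtain ⟨k, hk⟩ := hdvd
    rw [hk] at hidx
    exact ⟨k, by nlinarith⟩
  haveI : Group.IsSolvable (G ⧸ N) := by
    have hcases : N.index = 1 ∨ N.index = 2 ∨ N.index = 3 ∨ N.index = 6 := by
      have hle := Nat.le_of_dvd (by norm_num) h6
      have hpos : N.index ≠ 0 := by
        rintro h0
        rw [h0] at hidx
        omega
      interval_cases N.index <;> simp_all
    rcases hcases with h | h | h | h
    · exact Cfsg.Agent.Helper6.burnside_pq 2 3 0 0 Nat.prime_two Nat.prime_three (by rw [hq, h]; norm_num)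
    · exact Cfsg.Agent.Helper6.burnside_pq 2 3 1 0 Nat.prime_two Nat.prime_three (by rw [hq, h]; norm_num)
    · exact Cfsg.Agent.Helper6.burnside_pq 2 3 0 1 Nat.prime_two Nat.prime_three (by rw [hq, h]; norm_num)
    · exact Cfsg.Agent.Helper6.burnside_pq 2 3 1 1 Nat.prime_two Nat.prime_three (by rw [hq, h]; norm_num)
  haveI := br_p2f_perfect_solvable (br_p2f_quot_perfect hperf N)
  exact QuotientGroup.subgroup_eq_top_of_subsingleton N inferInstance

/-- **Part IV of S4707.** -/
theorem br_p2f_five {α : Type u} [Fintype α] [DecidableEq α] {p : ℕ} [Fact p.Prime] (hp5 : p = 5)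
    (hα : Fintype.card α = 2 * p) (G : Subgroup (Equiv.Perm α))
    (hprim : MulAction.IsPreprimitive G α) (hperf : commutator G = ⊤) (P : Sylow p G)
    (hN : Nat.card (Subgroup.normalizer ((P : Subgroup G) : Set G)) = 2 * p) (a₀ : α)
    (hrank : Nat.card (MulAction.orbitRel.Quotient (MulAction.stabilizer G a₀) α) = 3)
    (hsub : ∀ b : α, b ≠ a₀ →
      Nat.card (MulAction.orbit (MulAction.stabilizer G a₀) b) = 3 ∨
      Nat.card (MulAction.orbit (MulAction.stabilizer G a₀) b) = 6) :
    Nonempty (G ≃* alternatingGroup (Fin 5)) := by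
  subst hp5
  haveI := hprim
  haveI : IsPretransitive G α := hprim.toIsPretransitive
  have hα10 : Fintype.card α = 10 := by omega
  obtain ⟨b, hb⟩ := br_p2f_exists_three (H := stabilizer G a₀) a₀ (fun h => h.2) hα10 hsub
  have hH := br_p2f_card_of_struct (Cfsg.Agent.S3685.result hprim a₀ b hb)
  have hGH : 10 * Nat.card (stabilizer G a₀) = Nat.card G := by
    rw [← hα10]
    exact br_p2p_card_stab a₀
  have hsyl : Nat.card (Sylow 5 G) = Nat.card (stabilizer G a₀) := by
    have h1 : Nat.card (Sylow 5 G) = (normalizer ((P : Subgroup G) : Set G)).index :=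
      Sylow.card_eq_index_normalizer P
    have h2 := Subgroup.index_mul_card (normalizer ((P : Subgroup G) : Set G))
    rw [hN, ← h1, ← hGH] at h2
    omega
  have hmod := card_sylow_modEq_one 5 G
  rw [hsyl] at hmod
  have hH6 : Nat.card (stabilizer G a₀) = 6 := by
    rcases hH with h | h | h | h | h
    · rw [h] at hmod; exact absurd hmod (by decide)
    · exact h
    · rw [h] at hmod; exact absurd hmod (by decide)
    · rw [h] at hmod; exact absurd hmod (by decide)
    · rw [h] at hmod; exact absurd hmod (by decide)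
  have hG60 : Nat.card G = 60 := by omega
  haveI : Finite G := Nat.finite_of_card_ne_zero (by omega)
  haveI : IsSimpleGroup G := br_p2f_simple hα10 G hperf hG60
  exact Cfsg.Agent.S0494.result hG60

end Cfsg.Agent.BR
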