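import Cfsg.Agent.BR.PTwoV
import Cfsg.Agent.D1C.McKayA

/-!
# Brauer–Reynolds track, `f = 2`: the order of `G`

* `br_p2n_sum` (general): if `|P| = p`, `C_G(P) ≤ P` and the class function `F` vanishes on the
  `p`-regular elements `≠ 1`, then `∑_{g ∈ G} F g = F 1 + |Syl_p(G)| (∑_{x ∈ P} F x - F 1)`
  (the `p`-singular elements are the disjoint union of the `Q ∖ 1`, `Q` Sylow).
* `br_p2n_card` : in the setting of `BR/PTwoV.lean` (`7 ≤ p`, `ψ ∈ Y` faithful of degree `p - 2`):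
  `|G| = p (p - 1) (p - 2)`.
-/

set_option autoImplicit false
set_option linter.style.haveILetI false

namespace Cfsg.Agent.BR

open Cfsg Cfsg.Agent.Helper6 Cfsg.Agent.D1
open scoped ComplexConjugate

universe u

/-! ### summation over the `p`-singular elements -/

section sum

variable {G : Type u} [Group G] {p : ℕ} [hp : Fact p.Prime]

omit hp in
/-- membership in a conjugate Sylow subgroup -/
theorem br_p2n_mem_smul [Finite G] (P : Sylow p G) (c g : G) :
    g ∈ ((c • P : Sylow p G) : Subgroup G) ↔ c⁻¹ * g * c ∈ (P : Subgroup G) := by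
  rw [Sylow.smul_def, Sylow.pointwise_smul_def, Subgroup.mem_pointwise_smul_iff_inv_smul_mem,
    MulAut.smul_def, MulAut.conj_inv_apply]

/-- all Sylow subgroups have order `p` -/
theorem br_p2n_card_sylow [Finite G] (P : Sylow p G) (hP : Nat.card (P : Subgroup G) = p)
    (Q : Sylow p G) : Nat.card (Q : Subgroup G) = p := by
  rw [Sylow.card_eq_multiplicity Q, ← Sylow.card_eq_multiplicity P, hP]

/-- a `p`-singular element lies in a Sylow subgroup (`|P| = p`, `C_G(P) ≤ P`) -/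
theorem br_p2n_exists_sylow [Finite G] (P : Sylow p G) (hP : Nat.card (P : Subgroup G) = p)
    (hC : Subgroup.centralizer ((P : Subgroup G) : Set G) ≤ (P : Subgroup G))
    (g : G) (hgp : p ∣ orderOf g) : ∃ Q : Sylow p G, g ∈ (Q : Subgroup G) := by
  have ho := d1_mck_orderOf_pow g hgp
  obtain ⟨u, hu⟩ : ∃ u : G, u = g ^ (orderOf g / p) := ⟨_, rfl⟩
  rw [← hu] at ho
  have hpg : IsPGroup p (Subgroup.zpowers u) :=
    IsPGroup.of_card (n := 1) (by rw [Nat.card_zpowers, ho, pow_one])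
  obtain ⟨Q₁, hQ₁⟩ := hpg.exists_le_sylow
  obtain ⟨c, hc⟩ := MulAction.exists_smul_eq G P Q₁
  have huQ : u ∈ (Q₁ : Subgroup G) := hQ₁ (Subgroup.mem_zpowers u)
  rw [← hc, br_p2n_mem_smul] at huQ
  have hu1 : u ≠ 1 := by
    intro h0
    rw [h0, orderOf_one] at ho
    exact hp.out.one_lt.ne ho
  have hcu1 : c⁻¹ * u * c ≠ 1 := by
    intro h0
    apply hu1
    have h1 : u = c * (c⁻¹ * u * c) * c⁻¹ := by group
    rw [h1, h0]
    group
  have hcent := d1_sec_centralizer_singleton (P : Subgroup G) hP _ huQ hcu1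
  have hgc : c⁻¹ * g * c ∈ Subgroup.centralizer ({c⁻¹ * u * c} : Set G) := by
    rw [Subgroup.mem_centralizer_iff]
    intro z hz
    rw [Set.mem_singleton_iff] at hz
    rw [hz]
    have h1 : u * g = g * u := by rw [hu, ← pow_succ, ← pow_succ']
    calc c⁻¹ * u * c * (c⁻¹ * g * c) = c⁻¹ * (u * g) * c := by group
      _ = c⁻¹ * (g * u) * c := by rw [h1]
      _ = c⁻¹ * g * c * (c⁻¹ * u * c) := by group
  rw [hcent] at hgc
  exact ⟨c • P, (br_p2n_mem_smul P c g).mpr (hC hgc)⟩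

/-- **summation formula** for class functions vanishing on the `p`-regular elements `≠ 1` -/
theorem br_p2n_sum [Fintype G] (P : Sylow p G) [Fintype ↥(P : Subgroup G)]
    (hP : Nat.card (P : Subgroup G) = p)
    (hC : Subgroup.centralizer ((P : Subgroup G) : Set G) ≤ (P : Subgroup G))
    (F : G → ℂ) (hF : Cfsg.IsClassFunction G F)
    (hreg : ∀ g : G, g ≠ 1 → ¬ p ∣ orderOf g → F g = 0) :
    ∑ g : G, F g = F 1 + (Nat.card (Sylow p G) : ℂ) *
      (∑ x : ↥(P : Subgroup G), F (x : G) - F 1) := by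
  classical
  haveI : Fintype (Sylow p G) := Fintype.ofFinite _
  -- the sum over one Sylow subgroup
  have hA : ∀ Q : Sylow p G,
      ∑ g : G, (if g ∈ (Q : Subgroup G) ∧ g ≠ 1 then F g else 0) =
        ∑ x : ↥(P : Subgroup G), F (x : G) - F 1 := by
    intro Q
    obtain ⟨c, hc⟩ := MulAction.exists_smul_eq G P Q
    rw [← hc, ← Equiv.sum_comp (MulAut.conj c).toEquiv]
    have h1 : ∀ g : G, (if (MulAut.conj c).toEquiv g ∈ ((c • P : Sylow p G) : Subgroup G) ∧
        (MulAut.conj c).toEquiv g ≠ 1 then F ((MulAut.conj c).toEquiv g) else 0) =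
        if g ∈ (P : Subgroup G) then (if g ≠ 1 then F g else 0) else 0 := by
      intro g
      have e1 : (MulAut.conj c).toEquiv g = c * g * c⁻¹ := rfl
      have e2 : c⁻¹ * (c * g * c⁻¹) * c = g := by group
      have e3 : c * g * c⁻¹ = 1 ↔ g = 1 := by
        constructor
        · intro h0
          have h2 : g = c⁻¹ * (c * g * c⁻¹) * c := e2.symm
          rw [h2, h0]
          group
        · intro h0
          rw [h0]
          group
      rw [e1, br_p2n_mem_smul, hF g c, e2]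
      by_cases hg : g ∈ (P : Subgroup G) <;> by_cases hg1 : g = 1 <;> simp [hg, hg1, e3]
    rw [Finset.sum_congr rfl (fun g _ => h1 g), ← Finset.sum_filter,
      Finset.sum_subtype (p := fun g : G => g ∈ (P : Subgroup G))
        (Finset.univ.filter (fun g => g ∈ (P : Subgroup G)))
        (fun x => by simp) (fun g => if g ≠ 1 then F g else 0)]
    rw [br_blk_sum_off_one (fun x : ↥(P : Subgroup G) => if (x : G) ≠ 1 then F (x : G) else 0)
      (fun x : ↥(P : Subgroup G) => F (x : G))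
      (fun x hx => by
        show (if (x : G) ≠ 1 then F (x : G) else 0) = F (x : G)
        rw [if_pos (br_blk_ne_one_coe x hx)])]
    simp [sub_eq_add_neg]
  -- the sum over the Sylow subgroups containing `g`
  have hB : ∀ g : G, ∑ Q : Sylow p G, (if g ∈ (Q : Subgroup G) ∧ g ≠ 1 then F g else 0) =
      if g ≠ 1 then F g else 0 := by
    intro g
    by_cases hg1 : g = 1
    · simp [hg1]
    by_cases hgp : p ∣ orderOf g
    · obtain ⟨Q₀, hQ₀⟩ := br_p2n_exists_sylow P hP hC g hgp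
      rw [Finset.sum_eq_single Q₀]
      · rw [if_pos ⟨hQ₀, hg1⟩, if_pos hg1]
      · intro Q _ hne
        rw [if_neg]
        rintro ⟨hgQ, -⟩
        apply hne
        apply Sylow.ext
        rw [← d1_sec_zpowers_eq (Q : Subgroup G) (br_p2n_card_sylow P hP Q) g hgQ hg1,
          d1_sec_zpowers_eq (Q₀ : Subgroup G) (br_p2n_card_sylow P hP Q₀) g hQ₀ hg1]
      · intro h0
        exact absurd (Finset.mem_univ _) h0
    · rw [hreg g hg1 hgp]
      simp
  have h1 := br_blk_sum_off_one F (fun g : G => if g ≠ 1 then F g else 0)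
    (fun g hg => by rw [if_pos hg])
  rw [h1, Finset.sum_congr rfl (fun g _ => (hB g).symm), Finset.sum_comm,
    Finset.sum_congr rfl (fun Q _ => hA Q), Finset.sum_const, Finset.card_univ, nsmul_eq_mul,
    Nat.card_eq_fintype_card]
  simp
  ring

end sum

/-! ### the order of `G` -/

section card

variable {G : Type u} [Group G] {p : ℕ} [hp : Fact p.Prime] {P : Sylow p G}
  {X Y : Set (Cfsg.IrrCharacter G)} {dl : Cfsg.IrrCharacter G → ℤ} {ep : ℤ}
  {O : Cfsg.IrrCharacter G → Finset (↥(P : Subgroup G) →* ℂˣ)}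

/-- **`|G| = p (p - 1) (p - 2)`** -/
theorem br_p2n_card [Finite G] (h : br_blk_IsData P X Y dl ep O)
    (hf2 : (P : Subgroup G).relIndex (Subgroup.normalizer ((P : Subgroup G) : Set G)) = 2)
    (hp7 : 7 ≤ p) (ψ : Cfsg.IrrCharacter G) (hψ : ψ ∈ Y)
    (hdeg : Cfsg.charDegree (ψ : G → ℂ) = p - 2)
    (hfaith : ∀ g : G, (ψ : G → ℂ) g = (ψ : G → ℂ) 1 → g = 1) :
    Nat.card G = p * (p - 1) * (p - 2) := by
  classical
  haveI : Fintype G := Fintype.ofFinite G
  haveI := br_blk_finite_P h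
  haveI : Fintype ↥(P : Subgroup G) := Fintype.ofFinite _
  have hψc : Cfsg.IsCharacter G (ψ : G → ℂ) := IsIrrCharacter.isCharacter ψ.2
  have hcf := IsCharacter.isClassFunction hψc
  have h1 := br_p2v_one ψ (by omega) hdeg
  have hep : ep = -1 := br_p2t_ep h hf2 ψ hψ hdeg
  have hconj : ∀ g : G, conj ((ψ : G → ℂ) g) = (ψ : G → ℂ) g := by
    intro g
    rw [← IsCharacter.inv_eq_conj hψc g]
    exact br_p2u_real h hf2 (by omega) ψ hψ g
  obtain ⟨F, hFdef⟩ : ∃ F : G → ℂ, F = fun g => (ψ : G → ℂ) g * (ψ : G → ℂ) g + (ψ : G → ℂ) g :=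
    ⟨_, rfl⟩
  have hF : Cfsg.IsClassFunction G F := by
    intro g c
    rw [hFdef]
    show (ψ : G → ℂ) (c * g * c⁻¹) * (ψ : G → ℂ) (c * g * c⁻¹) + (ψ : G → ℂ) (c * g * c⁻¹) = _
    rw [hcf g c]
  have hreg : ∀ g : G, g ≠ 1 → ¬ p ∣ orderOf g → F g = 0 := by
    intro g hg1 hgp
    rw [hFdef]
    show (ψ : G → ℂ) g * (ψ : G → ℂ) g + (ψ : G → ℂ) g = 0
    rcases br_p2v_values h hf2 hp7 ψ hψ hdeg hfaith g hg1 hgp with ⟨-, hv⟩ | ⟨-, hv⟩
    · rw [hv]
      norm_num
    · rw [hv]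
      norm_num
  have hsum := br_p2n_sum P h.card_P (le_of_eq h.cent_P) F hF hreg
  -- the left-hand side
  have hcardC : (Nat.card G : ℂ) ≠ 0 := by exact_mod_cast Nat.card_pos.ne'
  have hψψ : ∑ g : G, (ψ : G → ℂ) g * (ψ : G → ℂ) g = (Nat.card G : ℂ) := by
    have h2 := classInner_irr_self ψ.2
    unfold Cfsg.classInner at h2
    rw [Finset.sum_congr rfl (fun g _ => by rw [hconj g])] at h2
    rwa [inv_mul_eq_iff_eq_mul₀ hcardC, mul_one] at h2
  have hψt : ψ ≠ trivIrr G := by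
    intro h0
    rw [h0] at hψ
    exact Set.disjoint_left.mp h.disj h.triv_mem hψ
  have hψ1 : ∑ g : G, (ψ : G → ℂ) g = 0 := by
    have h2 := classInner_irr_ne ψ.2 (trivIrr G).2 (fun h0 => hψt (Subtype.ext h0))
    unfold Cfsg.classInner at h2
    have h3 : ∀ g : G, (ψ : G → ℂ) g * conj (((trivIrr G : Cfsg.IrrCharacter G) : G → ℂ) g) =
        (ψ : G → ℂ) g := by
      intro g
      show (ψ : G → ℂ) g * conj (1 : ℂ) = _
      rw [map_one, mul_one]
    rw [Finset.sum_congr rfl (fun g _ => h3 g)] at h2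
    rcases mul_eq_zero.mp h2 with h4 | h4
    · exact absurd (inv_eq_zero.mp h4) hcardC
    · exact h4
  have hL : ∑ g : G, F g = (Nat.card G : ℂ) := by
    rw [hFdef]
    show ∑ g : G, ((ψ : G → ℂ) g * (ψ : G → ℂ) g + (ψ : G → ℂ) g) = _
    rw [Finset.sum_add_distrib, hψψ, hψ1, add_zero]
  -- the sums over `P`
  have hP1 := br_blk_sum_P_Y h ψ hψ
  have hP2 := br_blk_inner_P_Y h ψ ψ hψ hψ
  rw [if_pos rfl, hf2, Finset.sum_congr rfl (fun x _ => by rw [hconj (x : G)]), hconj 1] at hP2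
  rw [hf2, hep] at hP1
  have hPF : ∑ x : ↥(P : Subgroup G), F (x : G) =
      ((p : ℂ) - 2) * ((p : ℂ) - 2) + (p : ℂ) * 2 - 2 ^ 2 + ((p : ℂ) - 2 + 2) := by
    rw [hFdef]
    show ∑ x : ↥(P : Subgroup G),
      ((ψ : G → ℂ) (x : G) * (ψ : G → ℂ) (x : G) + (ψ : G → ℂ) (x : G)) = _
    rw [Finset.sum_add_distrib, hP2, hP1, h1]
    push_cast
    ring
  have hF1 : F 1 = ((p : ℂ) - 2) * ((p : ℂ) - 2) + ((p : ℂ) - 2) := by
    rw [hFdef]
    show (ψ : G → ℂ) 1 * (ψ : G → ℂ) 1 + (ψ : G → ℂ) 1 = _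
    rw [h1]
  rw [hL, hPF, hF1] at hsum
  -- `|G| = 2 p |Syl|`
  have hidx := br_blk_index_P h
  rw [hf2] at hidx
  have hG : Nat.card G = p * (2 * Nat.card (Sylow p G)) := by
    rw [← Subgroup.card_mul_index (P : Subgroup G), h.card_P, hidx]
  obtain ⟨s, hs⟩ : ∃ s : ℕ, s = Nat.card (Sylow p G) := ⟨_, rfl⟩
  rw [← hs] at hsum hG
  rw [hG] at hsum ⊢
  have hZ : ((p : ℤ) * (2 * (s : ℤ))) = ((p : ℤ) - 2) * ((p : ℤ) - 2) + ((p : ℤ) - 2) +
      (s : ℤ) * (((p : ℤ) - 2) * ((p : ℤ) - 2) + (p : ℤ) * 2 - 2 ^ 2 + ((p : ℤ) - 2 + 2) -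
        (((p : ℤ) - 2) * ((p : ℤ) - 2) + ((p : ℤ) - 2))) := by
    exact_mod_cast hsum
  have h2s : 2 * (s : ℤ) = ((p : ℤ) - 1) * ((p : ℤ) - 2) := by linarith
  have hp7' : (7 : ℤ) ≤ (p : ℤ) := by exact_mod_cast hp7
  zify [show 1 ≤ p by omega, show 2 ≤ p by omega]
  rw [h2s]
  ring

end card

end Cfsg.Agent.BR
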