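import Cfsg.Agent.BR.P2pFront
import Cfsg.Agent.BR.P2pBlock
import Cfsg.Agent.BR.P2pFive
import Cfsg.Agent.BR.PTwoN
import Cfsg.Agent.BR.BlockEx
import Cfsg.Agent.Helper2.CentAlgE
import Cfsg.Agent.Helper6.Codegree
import Cfsg.Agent.S0719

/-!
# S4707: primitive groups of degree `2p`, not doubly transitive, with `|N_G(P)| = 2p`

Assembly (see `notes/S4707_headers_helper5.md`):
`br_p2p_front` (lead) → `br_blk_exists` → `br_p2b_main` (helper1) → landed S0719 (Wielandt) →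
`p = 2a² + 2a + 1`; for `a ≥ 2` the order formula `br_p2n_card` and the divisibility of `|G_α|` by a
suborbit length give a contradiction (`br_p2s_arith`); for `a = 1`, `br_p2f_five` (helper1).
-/

set_option autoImplicit false
set_option linter.style.haveILetI false

namespace Cfsg.Agent.BR

open Cfsg Cfsg.Agent.Helper6 MulAction

universe u

/-- `(2a+1) ∣ K` and `2 K = (2a²+2a)(2a²+2a-1)` force `a ≤ 1` -/
theorem br_p2s_arith (a K : ℕ) (hK : 2 * K = (2 * a ^ 2 + 2 * a) * (2 * a ^ 2 + 2 * a - 1))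
    (hd : (2 * a + 1) ∣ K) : a ≤ 1 := by
  rcases Nat.eq_zero_or_pos a with h0 | h0
  · omega
  have h1 : 1 ≤ 2 * a ^ 2 + 2 * a := by nlinarith
  have hKz : 2 * (K : ℤ) = (2 * (a : ℤ) ^ 2 + 2 * a) * (2 * (a : ℤ) ^ 2 + 2 * a - 1) := by
    have h2 : ((2 * K : ℕ) : ℤ) = (((2 * a ^ 2 + 2 * a) * (2 * a ^ 2 + 2 * a - 1) : ℕ) : ℤ) := by
      rw [hK]
    rw [Nat.cast_mul, Nat.cast_mul, Nat.cast_sub h1] at h2
    push_cast at h2
    exact h2
  obtain ⟨q, hq⟩ := hd
  have hq' : (K : ℤ) = (2 * (a : ℤ) + 1) * (q : ℤ) := by exact_mod_cast hq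
  have h3 : (2 * (a : ℤ) + 1) ∣ 3 := by
    refine ⟨8 * (q : ℤ) - ((2 * (a : ℤ) + 1) ^ 3 - 4 * (2 * (a : ℤ) + 1)), ?_⟩
    have h4 : 8 * (K : ℤ) = (2 * (a : ℤ) + 1) ^ 4 - 4 * (2 * (a : ℤ) + 1) ^ 2 + 3 := by
      linear_combination 4 * hKz
    rw [hq'] at h4
    linear_combination -h4
  have h5 := Int.le_of_dvd (by norm_num) h3
  omega

/-- **S4707** -/
theorem br_p2s_main {α : Type u} [Fintype α] [DecidableEq α] {p : ℕ} [Fact p.Prime] (hp : 3 < p)
    (hα : Fintype.card α = 2 * p) (G : Subgroup (Equiv.Perm α))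
    (hprim : MulAction.IsPreprimitive G α) (hnot2 : ¬ MulAction.IsMultiplyPretransitive G α 2)
    (P : Sylow p G) (hN : Nat.card (Subgroup.normalizer ((P : Subgroup G) : Set G)) = 2 * p) :
    p = 5 ∧ Nonempty (G ≃* alternatingGroup (Fin 5)) := by
  classical
  obtain ⟨hPc, hC, hf2, hperf, hnorm, hfix, hrank3⟩ := br_p2p_front hp hα G hprim hnot2 P hN
  haveI : Fintype ↥G := Fintype.ofFinite _
  haveI : IsPretransitive ↥G α := hprim.toIsPretransitive
  have hpp : p.Prime := Fact.out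
  have hαpos : 0 < Fintype.card α := by
    rw [hα]
    omega
  obtain ⟨a₀⟩ : Nonempty α := Fintype.card_pos_iff.mp hαpos
  haveI : Nonempty α := ⟨a₀⟩
  obtain ⟨X, Y, dl, ep, O, h⟩ := br_blk_exists p P hPc hC
  -- the permutation character
  obtain ⟨π, hπdef⟩ : ∃ π : ↥G → ℂ, π = fun g => (Nat.card (fixedBy α g) : ℂ) := ⟨_, rfl⟩
  have hπ : IsCharacter ↥G π := by
    rw [hπdef]
    exact Cfsg.Agent.Helper2.CentAlg.permChar_isCharacter
  have hπ1 : π 1 = 2 * (p : ℂ) := by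
    rw [hπdef]
    show (Nat.card (fixedBy α (1 : ↥G)) : ℂ) = _
    rw [fixedBy_one_eq_univ, Nat.card_coe_set_eq, Set.ncard_univ, Nat.card_eq_fintype_card, hα]
    push_cast
    ring
  have hπP : ∀ x : ↥G, x ∈ (P : Subgroup ↥G) → x ≠ 1 → π x = 0 := by
    intro x hx hx1
    rw [hπdef]
    show (Nat.card (fixedBy α x) : ℂ) = 0
    rw [hfix x hx hx1, Nat.cast_zero]
  have hπt : classInner π (fun _ => (1 : ℂ)) = 1 := by
    rw [hπdef]
    exact Cfsg.Agent.Helper2.CentAlg.classInner_permChar_one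
  have hπself : classInner π π =
      (Nat.card (orbitRel.Quotient (stabilizer ↥G a₀) α) : ℂ) := by
    rw [hπdef]
    exact Cfsg.Agent.Helper2.CentAlg.classInner_permChar_self a₀
  have hπr : ∃ r : ℕ, 3 ≤ r ∧ classInner π π = (r : ℂ) := ⟨_, hrank3 a₀, hπself⟩
  obtain ⟨hep, hdegY, χ₁, θ, hχ₁Y, hθY, hχ₁1, hθ1, hπeq, hππ⟩ :=
    br_p2b_main hp h hf2 hperf π hπ hπ1 hπP hπt hπr
  have hrank : Nat.card (orbitRel.Quotient (stabilizer ↥G a₀) α) = 3 := by
    rw [hπself] at hππ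
    exact_mod_cast hππ
  rw [hπdef] at hπeq
  obtain ⟨a, ha0, hpa, hsub⟩ := Cfsg.Agent.S0719.result hprim hα a₀ hrank
    (χ₁ : ↥G → ℂ) (θ : ↥G → ℂ) χ₁.2 θ.2 hπeq hχ₁1 hθ1
  rcases Nat.lt_or_ge a 2 with hlt | hge
  · -- `a = 1`, `p = 5`
    have ha1 : a = 1 := by omega
    rw [ha1] at hpa hsub
    have hp5 : p = 5 := by
      rw [hpa]
      norm_num
    refine ⟨hp5, br_p2f_five hp5 hα G hprim hperf P hN a₀ hrank (fun b hb => ?_)⟩
    have h1 := hsub b hb
    rw [show 1 * (2 * 1 + 1) = 3 from rfl, show (1 + 1) * (2 * 1 + 1) = 6 from rfl] at h1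
    exact h1
  · -- `a ≥ 2`: impossible
    exfalso
    have hp7 : 7 ≤ p := by
      rw [hpa]
      nlinarith
    obtain ⟨ψ, hψ⟩ : ∃ ψ, ψ ∈ Y := by
      by_contra hne
      push Not at hne
      have h0 : Y = ∅ := Set.eq_empty_iff_forall_notMem.mpr hne
      have h1 := h.card_Y
      rw [h0] at h1
      simp at h1
      omega
    have hdeg := hdegY ψ hψ
    -- `ψ` is faithful
    have hfaith : ∀ g : ↥G, (ψ : ↥G → ℂ) g = (ψ : ↥G → ℂ) 1 → g = 1 := by
      obtain ⟨K, hKn, hKmem, -⟩ := exists_kernel_data ψ.2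
      intro g hg
      by_contra hg1
      have hK0 : K ≠ ⊥ := by
        intro h0
        have h1 := (hKmem g).mpr hg
        rw [h0] at h1
        exact hg1 (Subgroup.mem_bot.mp h1)
      have hPK := hnorm K hKn hK0
      haveI := br_blk_finite_P h
      haveI : Fintype ↥(P : Subgroup ↥G) := Fintype.ofFinite _
      have hs := br_blk_sum_P_Y h ψ hψ
      rw [hf2, hep] at hs
      have hconst : ∀ x : ↥(P : Subgroup ↥G), (ψ : ↥G → ℂ) (x : ↥G) = (ψ : ↥G → ℂ) 1 :=
        fun x => (hKmem _).mp (hPK x.2)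
      rw [Finset.sum_congr rfl (fun x _ => hconst x), Finset.sum_const, Finset.card_univ,
        nsmul_eq_mul, br_blk_card_fintype h, br_p2v_one ψ (by omega) hdeg] at hs
      have hs' : (p : ℂ) * ((p : ℂ) - 2) = ((p : ℂ) - 2) + 2 := by
        push_cast at hs
        linear_combination hs
      have hsZ : (p : ℤ) * ((p : ℤ) - 2) = ((p : ℤ) - 2) + 2 := by exact_mod_cast hs'
      have hp7' : (7 : ℤ) ≤ (p : ℤ) := by exact_mod_cast hp7
      nlinarith
    have hcard := br_p2n_card h hf2 hp7 ψ hψ hdeg hfaith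
    -- the order of the point stabilizer
    have hidx := index_stabilizer_of_transitive ↥G a₀
    rw [Nat.card_eq_fintype_card, hα] at hidx
    have hKcard := Subgroup.card_mul_index (stabilizer ↥G a₀)
    rw [hidx, hcard] at hKcard
    obtain ⟨K, hK⟩ : ∃ K : ℕ, K = Nat.card (stabilizer ↥G a₀) := ⟨_, rfl⟩
    rw [← hK] at hKcard
    have h2K : 2 * K = (p - 1) * (p - 2) := by
      have h1 : p * (2 * K) = p * ((p - 1) * (p - 2)) := by
        rw [← mul_assoc p (p - 1) (p - 2), ← hKcard]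
        ring
      exact Nat.eq_of_mul_eq_mul_left hpp.pos h1
    -- a suborbit
    haveI : Nontrivial α := by
      rw [← Fintype.one_lt_card_iff_nontrivial, hα]
      omega
    obtain ⟨b, hb⟩ := exists_ne a₀
    have hdvd : Nat.card (orbit (stabilizer ↥G a₀) b) ∣ K := by
      rw [hK, Nat.card_coe_set_eq, ← index_stabilizer]
      exact Subgroup.index_dvd_card _
    have hD : (2 * a + 1) ∣ K := by
      rcases hsub b hb with h1 | h1
      · rw [h1] at hdvd
        exact dvd_trans (Dvd.intro_left a rfl) hdvd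
      · rw [h1] at hdvd
        exact dvd_trans (Dvd.intro_left (a + 1) rfl) hdvd
    have h2K' : 2 * K = (2 * a ^ 2 + 2 * a) * (2 * a ^ 2 + 2 * a - 1) := by
      rw [h2K, hpa]
      have e1 : 2 * a ^ 2 + 2 * a + 1 - 1 = 2 * a ^ 2 + 2 * a := by omega
      have e2 : 2 * a ^ 2 + 2 * a + 1 - 2 = 2 * a ^ 2 + 2 * a - 1 := by omega
      rw [e1, e2]
    have := br_p2s_arith a K h2K' hD
    omega

end Cfsg.Agent.BR
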