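import Cfsg.Agent.BR.BlockC
import Cfsg.Agent.BR.Nodes
import Cfsg.Agent.BR.AltSq
import Cfsg.Agent.Helper6.ClassInner

/-!
# Brauer–Reynolds track, `f = 2`, exceptional degree `p - 2`: the relation (T)

Setting: the section-2 data `br_blk_IsData P X Y dl ep O` of `BR/Block.lean` for a Sylow
`p`-subgroup `P` of order `p` with `C_G(P) = P` and `|N_G(P) : P| = 2`, `p` odd.

* `br_p2t_inverts` : some element of `N_G(P)` inverts `P`.
* `br_p2t_O_inv`, `br_p2t_eta_pair` : `O ψ = {l, l⁻¹}` for `ψ ∈ Y`.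
* `br_p2t_K1` : if `ψ ∈ Y` has degree `p - 2`, `l ∈ O ψ` and `ψ' ∈ Y` has `l * l ∈ O ψ'`, then
  `Λ²ψ + ψ' = ∑_{ξ ∈ Y} ξ` (as functions on `G`).
* `br_p2t_T` : **(T)** `ψ (g * g) = ψ g ^ 2 - (p - 3) * ψ g` for every `p`-regular `g`.

(See `notes/BR_next_targets_helper5.md`, key lemma, steps (K1) and (T).)
-/

set_option autoImplicit false
set_option linter.style.haveILetI false

namespace Cfsg.Agent.BR

open Cfsg Cfsg.Agent.Helper6 Cfsg.Agent.D1
open scoped ComplexConjugate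

universe u

/-! ### group theory: an element of the normaliser inverting `P` -/

section group

variable {G : Type u} [Group G] {p : ℕ} [hp : Fact p.Prime]

/-- for `|P| = p`, `C_G(P) ≤ P`, `|N_G(P) : P| = 2`: an element of `N_G(P)` inverting `P` -/
theorem br_p2t_inverts (P : Sylow p G) (hP : Nat.card (P : Subgroup G) = p)
    (hC : Subgroup.centralizer ((P : Subgroup G) : Set G) ≤ (P : Subgroup G))
    (hf2 : (P : Subgroup G).relIndex (Subgroup.normalizer ((P : Subgroup G) : Set G)) = 2) :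
    ∃ n : G, n ∈ Subgroup.normalizer ((P : Subgroup G) : Set G) ∧ n ∉ (P : Subgroup G) ∧
      ∀ x ∈ (P : Subgroup G), n * x * n⁻¹ = x⁻¹ := by
  obtain ⟨n, hnN, hnP⟩ : ∃ n : G, n ∈ Subgroup.normalizer ((P : Subgroup G) : Set G) ∧
      n ∉ (P : Subgroup G) := by
    by_contra hcon
    push Not at hcon
    have hle : Subgroup.normalizer ((P : Subgroup G) : Set G) ≤ (P : Subgroup G) := hcon
    rw [Subgroup.relIndex_eq_one.mpr hle] at hf2
    omega
  refine ⟨n, hnN, hnP, ?_⟩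
  have hsq : n * n ∈ (P : Subgroup G) := by
    have hidx : ((P : Subgroup G).subgroupOf
        (Subgroup.normalizer ((P : Subgroup G) : Set G))).index = 2 := hf2
    have h1 := Subgroup.sq_mem_of_index_two hidx ⟨n, hnN⟩
    rw [Subgroup.mem_subgroupOf, pow_two] at h1
    exact h1
  have hcomm := d1_sec_comm (P : Subgroup G) hP
  intro x hx
  have hcx : n * x * n⁻¹ ∈ (P : Subgroup G) := (Subgroup.mem_normalizer_iff.mp hnN x).mp hx
  have hy : x * (n * x * n⁻¹) ∈ (P : Subgroup G) := mul_mem hx hcx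
  have hfix : n * (x * (n * x * n⁻¹)) = (x * (n * x * n⁻¹)) * n := by
    have h1 : (n * n) * x = x * (n * n) := hcomm _ hsq _ hx
    have h2 : (n * x * n⁻¹) * x = x * (n * x * n⁻¹) := hcomm _ hcx _ hx
    calc n * (x * (n * x * n⁻¹)) = (n * x * n⁻¹) * ((n * n) * x) * n⁻¹ := by group
      _ = (n * x * n⁻¹) * (x * (n * n)) * n⁻¹ := by rw [h1]
      _ = ((n * x * n⁻¹) * x) * n := by group
      _ = (x * (n * x * n⁻¹)) * n := by rw [h2]
  by_contra hne
  have hy1 : x * (n * x * n⁻¹) ≠ 1 := fun h1 => hne (eq_inv_of_mul_eq_one_right h1)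
  have hcent := d1_sec_centralizer_singleton (P : Subgroup G) hP _ hy hy1
  have hn : n ∈ Subgroup.centralizer ({x * (n * x * n⁻¹)} : Set G) := by
    rw [Subgroup.mem_centralizer_iff]
    intro z hz
    rw [Set.mem_singleton_iff] at hz
    rw [hz]
    exact hfix.symm
  rw [hcent] at hn
  exact hnP (hC hn)

end group

/-! ### linear characters of a group of prime order -/

section homs

variable {Q : Type u} [Group Q]

theorem br_p2t_conj_hom [Finite Q] (l : Q →* ℂˣ) (u : Q) :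
    conj ((l u : ℂˣ) : ℂ) = ((l u : ℂˣ) : ℂ)⁻¹ := by
  have h1 := d1_brbo_norm_hom l u
  have h2 : ((l u : ℂˣ) : ℂ) * conj ((l u : ℂˣ) : ℂ) = 1 := by
    rw [Complex.mul_conj, Complex.normSq_eq_norm_sq, h1]
    simp
  exact eq_inv_of_mul_eq_one_right h2

theorem br_p2t_pow_ne_one {p : ℕ} [hp : Fact p.Prime] (hQ : Nat.card Q = p) (l : Q →* ℂˣ)
    (hl : l ≠ 1) (k : ℕ) (hk : ¬ p ∣ k) : l ^ k ≠ 1 := by
  intro h
  have hp1 : l ^ p = 1 := by
    refine MonoidHom.ext fun x => ?_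
    rw [MonoidHom.pow_apply, ← map_pow, ← hQ, pow_card_eq_one', map_one, MonoidHom.one_apply]
  have h1 : orderOf l ∣ k := orderOf_dvd_of_pow_eq_one h
  have h2 : orderOf l ∣ p := orderOf_dvd_of_pow_eq_one hp1
  rcases (Nat.dvd_prime hp.out).mp h2 with h3 | h3
  · exact hl (orderOf_eq_one_iff.mp h3)
  · rw [h3] at h1
    exact hk h1

end homs

/-! ### the sets `O ψ` are closed under inversion -/

section data

variable {G : Type u} [Group G] {p : ℕ} [hp : Fact p.Prime] {P : Sylow p G}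
  {X Y : Set (Cfsg.IrrCharacter G)} {dl : Cfsg.IrrCharacter G → ℤ} {ep : ℤ}
  {O : Cfsg.IrrCharacter G → Finset (↥(P : Subgroup G) →* ℂˣ)}

/-- class functions take the same value at `x` and `x⁻¹`, `x ∈ P` -/
theorem br_p2t_val_inv (h : br_blk_IsData P X Y dl ep O)
    (hf2 : (P : Subgroup G).relIndex (Subgroup.normalizer ((P : Subgroup G) : Set G)) = 2)
    (χ : G → ℂ) (hχ : Cfsg.IsClassFunction G χ) (x : G) (hx : x ∈ (P : Subgroup G)) :
    χ x⁻¹ = χ x := by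
  obtain ⟨n, -, -, hn⟩ := br_p2t_inverts P h.card_P (le_of_eq h.cent_P) hf2
  rw [← hn x hx]
  exact hχ x n

theorem br_p2t_eta_inv (h : br_blk_IsData P X Y dl ep O)
    (hf2 : (P : Subgroup G).relIndex (Subgroup.normalizer ((P : Subgroup G) : Set G)) = 2)
    (ψ : Cfsg.IrrCharacter G) (hψ : ψ ∈ Y) (x : ↥(P : Subgroup G)) :
    br_blk_eta (O ψ) x⁻¹ = br_blk_eta (O ψ) x := by
  by_cases hx : x = 1
  · rw [hx, inv_one]
  · have hx' : x⁻¹ ≠ 1 := inv_ne_one.mpr hx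
    have h1 := h.val_Y ψ hψ x hx
    have h2 := h.val_Y ψ hψ x⁻¹ hx'
    have h3 : (ψ : G → ℂ) ((x⁻¹ : ↥(P : Subgroup G)) : G) = (ψ : G → ℂ) (x : G) := by
      rw [InvMemClass.coe_inv]
      exact br_p2t_val_inv h hf2 _
        (IsCharacter.isClassFunction (IsIrrCharacter.isCharacter ψ.2)) x x.2
    rw [h1, h2] at h3
    have hep := br_blk_ep_sq h
    linear_combination (ep : ℂ) * h3 -
      (br_blk_eta (O ψ) x⁻¹ - br_blk_eta (O ψ) x) * hep

open Classical in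
/-- for `f = 2` the sets `O ψ` are closed under inversion -/
theorem br_p2t_O_inv (h : br_blk_IsData P X Y dl ep O)
    (hf2 : (P : Subgroup G).relIndex (Subgroup.normalizer ((P : Subgroup G) : Set G)) = 2)
    (ψ : Cfsg.IrrCharacter G) (hψ : ψ ∈ Y) (l : ↥(P : Subgroup G) →* ℂˣ) (hl : l ∈ O ψ) :
    l⁻¹ ∈ O ψ := by
  haveI := br_blk_finite_P h
  haveI : Fintype ↥(P : Subgroup G) := Fintype.ofFinite _
  have h1 := br_blk_inner_eta (O ψ) {l}
  have h2 := br_blk_inner_eta (O ψ) {l⁻¹}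
  have h3 : ∑ x : ↥(P : Subgroup G), br_blk_eta (O ψ) x * conj (br_blk_eta {l⁻¹} x) =
      ∑ x : ↥(P : Subgroup G), br_blk_eta (O ψ) x * conj (br_blk_eta {l} x) := by
    have h4 := Equiv.sum_comp (Equiv.inv ↥(P : Subgroup G))
      (fun x => br_blk_eta (O ψ) x * conj (br_blk_eta {l⁻¹} x))
    rw [← h4]
    apply Finset.sum_congr rfl
    intro x _
    rw [Equiv.inv_apply, br_p2t_eta_inv h hf2 ψ hψ x]
    congr 2
    unfold br_blk_eta
    rw [Finset.sum_singleton, Finset.sum_singleton, MonoidHom.inv_apply, map_inv, inv_inv]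
  rw [h1, h2, Finset.inter_singleton_of_mem hl, Finset.card_singleton] at h3
  by_contra hnot
  rw [Finset.inter_singleton_of_notMem hnot, Finset.card_empty] at h3
  have hc : (Fintype.card ↥(P : Subgroup G) : ℂ) ≠ 0 := by
    exact_mod_cast Fintype.card_ne_zero
  apply hc
  linear_combination -h3

/-- for `f = 2`, `p` odd: `O ψ = {l, l⁻¹}`, in terms of `br_blk_eta` -/
theorem br_p2t_eta_pair (h : br_blk_IsData P X Y dl ep O)
    (hf2 : (P : Subgroup G).relIndex (Subgroup.normalizer ((P : Subgroup G) : Set G)) = 2)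
    (hp2 : p ≠ 2) (ψ : Cfsg.IrrCharacter G) (hψ : ψ ∈ Y) (l : ↥(P : Subgroup G) →* ℂˣ)
    (hl : l ∈ O ψ) (x : ↥(P : Subgroup G)) :
    br_blk_eta (O ψ) x = ((l x : ℂˣ) : ℂ) + ((l x : ℂˣ) : ℂ)⁻¹ := by
  classical
  have hl1 : l ≠ 1 := h.O_ne ψ hψ l hl
  have hinv := br_p2t_O_inv h hf2 ψ hψ l hl
  have hne : l ≠ l⁻¹ := by
    intro he
    have h2 : l ^ 2 = 1 := by
      rw [pow_two]
      nth_rewrite 2 [he]
      exact mul_inv_cancel l
    exact br_p2t_pow_ne_one h.card_P l hl1 2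
      (fun hd => hp2 ((Nat.prime_dvd_prime_iff_eq hp.out Nat.prime_two).mp hd)) h2
  have hsub : ({l, l⁻¹} : Finset (↥(P : Subgroup G) →* ℂˣ)) ⊆ O ψ := by
    intro a ha
    rw [Finset.mem_insert, Finset.mem_singleton] at ha
    rcases ha with rfl | rfl
    · exact hl
    · exact hinv
  have hcard : (O ψ).card ≤ ({l, l⁻¹} : Finset (↥(P : Subgroup G) →* ℂˣ)).card := by
    rw [Finset.card_pair hne, h.O_card ψ hψ, hf2]
  have heq := Finset.eq_of_subset_of_card_le hsub hcard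
  unfold br_blk_eta
  rw [← heq, Finset.sum_pair hne, MonoidHom.inv_apply, Units.val_inv_eq_inv_val]

/-- an exceptional character of degree `p - 2` forces `ep = -1` -/
theorem br_p2t_ep (h : br_blk_IsData P X Y dl ep O)
    (hf2 : (P : Subgroup G).relIndex (Subgroup.normalizer ((P : Subgroup G) : Set G)) = 2)
    (ψ : Cfsg.IrrCharacter G) (hψ : ψ ∈ Y)
    (hdeg : Cfsg.charDegree (ψ : G → ℂ) = p - 2) : ep = -1 := by
  haveI := br_blk_finite_P h
  haveI : Fintype ↥(P : Subgroup G) := Fintype.ofFinite _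
  rcases h.ep_sign with he | he
  · exfalso
    obtain ⟨w, hw, -⟩ := br_blk_deg_Y_pos h ψ hψ he
    rw [hdeg, hf2] at hw
    have hp2 : 2 ≤ p := hp.out.two_le
    rcases Nat.eq_zero_or_pos w with h0 | h0
    · rw [h0] at hw
      have h4 : p = 4 := by omega
      have hpr := hp.out
      rw [h4] at hpr
      exact absurd hpr (by norm_num)
    · have : p ≤ w * p := Nat.le_mul_of_pos_left p h0
      omega
  · exact he

/-- **(K1)** `Λ²ψ + ψ' = ∑_{ξ ∈ Y} ξ` -/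
theorem br_p2t_K1 [Finite G] (h : br_blk_IsData P X Y dl ep O)
    (hf2 : (P : Subgroup G).relIndex (Subgroup.normalizer ((P : Subgroup G) : Set G)) = 2)
    (hp2 : p ≠ 2) (ψ ψ' : Cfsg.IrrCharacter G) (hψ : ψ ∈ Y) (hψ' : ψ' ∈ Y)
    (hdeg : Cfsg.charDegree (ψ : G → ℂ) = p - 2)
    (l : ↥(P : Subgroup G) →* ℂˣ) (hl : l ∈ O ψ) (hl2 : l * l ∈ O ψ') (g : G) :
    (2 : ℂ)⁻¹ * ((ψ : G → ℂ) g ^ 2 - (ψ : G → ℂ) (g * g)) + (ψ' : G → ℂ) g =
      ∑ᶠ ξ ∈ Y, (ξ : G → ℂ) g := by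
  classical
  haveI : Fintype G := Fintype.ofFinite G
  haveI : Finite (Cfsg.IrrCharacter G) := irr_finite
  haveI : Fintype (Cfsg.IrrCharacter G) := Fintype.ofFinite _
  haveI := br_blk_finite_P h
  have hep : ep = -1 := br_p2t_ep h hf2 ψ hψ hdeg
  have hψc : Cfsg.IsCharacter G (ψ : G → ℂ) := IsIrrCharacter.isCharacter ψ.2
  have hψ'c : Cfsg.IsCharacter G (ψ' : G → ℂ) := IsIrrCharacter.isCharacter ψ'.2
  obtain ⟨Λ, hΛ⟩ : ∃ Λ : G → ℂ, Λ = fun g =>
    (2 : ℂ)⁻¹ * ((ψ : G → ℂ) g ^ 2 - (ψ : G → ℂ) (g * g)) := ⟨_, rfl⟩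
  have hΛc : Cfsg.IsCharacter G Λ := by
    rw [hΛ]
    exact br_as_isCharacter_alt hψc
  have hΨc : Cfsg.IsCharacter G (Λ + (ψ' : G → ℂ)) := IsCharacter.add hΛc hψ'c
  have hpp := hp.out
  have hp3 : 3 ≤ p := by
    have := hpp.two_le
    omega
  have hodd : ¬ p ∣ 2 := fun hd => hp2 ((Nat.prime_dvd_prime_iff_eq hpp Nat.prime_two).mp hd)
  -- the values on `P ∖ 1`
  have hval : ∀ x : G, x ∈ (P : Subgroup G) → x ≠ 1 → (Λ + (ψ' : G → ℂ)) x = 1 := by
    intro x hx hx1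
    obtain ⟨y, hy⟩ : ∃ y : ↥(P : Subgroup G), y = ⟨x, hx⟩ := ⟨_, rfl⟩
    have hyx : (y : G) = x := by rw [hy]
    have hy1 : y ≠ 1 := fun hh => hx1 (by rw [← hyx, hh]; rfl)
    have hyy1 : y * y ≠ 1 := by
      intro hh
      have h1 : orderOf y ∣ 2 := orderOf_dvd_of_pow_eq_one (by rw [pow_two]; exact hh)
      have h2 : orderOf y ∣ p := by
        have h4 := orderOf_dvd_natCard y
        rwa [h.card_P] at h4
      rcases (Nat.dvd_prime hpp).mp h2 with h3 | h3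
      · exact hy1 (orderOf_eq_one_iff.mp h3)
      · rw [h3] at h1
        exact hodd h1
    have e1 := h.val_Y ψ hψ y hy1
    have e2 := h.val_Y ψ hψ (y * y) hyy1
    have e3 := h.val_Y ψ' hψ' y hy1
    rw [br_p2t_eta_pair h hf2 hp2 ψ hψ l hl] at e1 e2
    rw [br_p2t_eta_pair h hf2 hp2 ψ' hψ' (l * l) hl2] at e3
    rw [map_mul, Units.val_mul, mul_inv] at e2
    rw [MonoidHom.mul_apply, Units.val_mul, mul_inv] at e3
    have ha : ((l y : ℂˣ) : ℂ) * ((l y : ℂˣ) : ℂ)⁻¹ = 1 := mul_inv_cancel₀ (Units.ne_zero _)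
    have hxx : x * x = ((y * y : ↥(P : Subgroup G)) : G) := by
      rw [Subgroup.coe_mul, hyx]
    show Λ x + (ψ' : G → ℂ) x = 1
    rw [hΛ]
    simp only
    rw [hxx, ← hyx, e1, e2, e3, hep]
    generalize ((l y : ℂˣ) : ℂ)⁻¹ = b at ha ⊢
    generalize ((l y : ℂˣ) : ℂ) = a at ha ⊢
    push_cast
    linear_combination ha
  -- the multiplicities
  obtain ⟨m, hm, hexp, hdegm⟩ := br_nd_mult (Λ + (ψ' : G → ℂ)) hΨc
  have hmval : ∀ x : G, x ∈ (P : Subgroup G) → x ≠ 1 →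
      ∑ χ, (m χ : ℂ) * (χ : G → ℂ) x = 1 := by
    intro x hx hx1
    have h1 := congrFun hexp x
    rw [hval x hx hx1] at h1
    simp only [Finset.sum_apply, Pi.smul_apply, smul_eq_mul] at h1
    exact h1.symm
  obtain ⟨m', hm', -⟩ := br_blk_indep h (fun χ => (m χ : ℂ)) 1 hmval
  have hmY : ∀ ξ ∈ Y, m ξ = m ψ' := by
    intro ξ hξ
    have h1 := (hm' ξ hξ).trans (hm' ψ' hψ').symm
    exact_mod_cast h1
  have hmψ' : 1 ≤ m ψ' := by
    obtain ⟨k, hk⟩ := classInner_char_char_nat hΛc hψ'c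
    have h1 := hm ψ'
    rw [classInner_add_left, hk, classInner_irr_self ψ'.2] at h1
    have h2 : k + 1 = m ψ' := by exact_mod_cast h1
    omega
  -- the degrees
  have hone : ¬ p ∣ orderOf (1 : G) := by
    rw [orderOf_one]
    exact hpp.one_lt.ne' ∘ Nat.dvd_one.mp
  have hdegY : ∀ ξ ∈ Y, Cfsg.charDegree (ξ : G → ℂ) = p - 2 := by
    intro ξ hξ
    have h1 := h.reg_Y ξ hξ ψ hψ 1 hone
    rw [← br_blk_deg_cast, ← br_blk_deg_cast] at h1
    rw [← hdeg]
    exact_mod_cast h1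
  have hcY : Nat.card Y * 2 = p - 1 := by
    have h1 := h.card_Y
    rwa [hf2] at h1
  have hD : (Λ + (ψ' : G → ℂ)) 1 = ((Nat.card Y * (p - 2) : ℕ) : ℂ) := by
    show Λ 1 + (ψ' : G → ℂ) 1 = _
    rw [hΛ]
    simp only [mul_one]
    rw [← br_blk_deg_cast, ← br_blk_deg_cast, hdeg, hdegY ψ' hψ']
    have h1 : ((p - 2 : ℕ) : ℂ) = (p : ℂ) - 2 := by
      rw [Nat.cast_sub (by omega)]
      norm_num
    have h2 : (Nat.card Y : ℂ) * 2 = (p : ℂ) - 1 := by
      have h3 : ((Nat.card Y * 2 : ℕ) : ℂ) = ((p - 1 : ℕ) : ℂ) := by rw [hcY]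
      rw [Nat.cast_sub (by omega)] at h3
      push_cast at h3
      exact h3
    rw [Nat.cast_mul, h1]
    linear_combination (-((p : ℂ) - 2) / 2) * h2
  have hsum := hdegm _ hD
  have hYcard : (Set.toFinite Y).toFinset.card = Nat.card Y := by
    rw [← Set.ncard_eq_toFinset_card Y, _root_.Nat.card_coe_set_eq]
  have hsub : ∑ ξ ∈ (Set.toFinite Y).toFinset, m ξ * Cfsg.charDegree (ξ : G → ℂ) =
      Nat.card Y * (m ψ' * (p - 2)) := by
    rw [Finset.sum_congr rfl (fun ξ hξ => by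
      rw [hmY ξ ((Set.Finite.mem_toFinset _).mp hξ), hdegY ξ ((Set.Finite.mem_toFinset _).mp hξ)]),
      Finset.sum_const, smul_eq_mul, hYcard]
  obtain ⟨hA, hB⟩ := br_nd_rest_zero Finset.univ (Set.toFinite Y).toFinset
    (fun ξ => m ξ * Cfsg.charDegree (ξ : G → ℂ)) _ (Finset.subset_univ _) hsum (by
      rw [hsub]
      exact Nat.mul_le_mul_left _ (Nat.le_mul_of_pos_left _ hmψ'))
  have hYpos : 0 < Nat.card Y := by
    rcases Nat.eq_zero_or_pos (Nat.card Y) with h0 | h0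
    · rw [h0] at hcY
      omega
    · exact h0
  have hm1 : m ψ' = 1 := by
    rw [hsub] at hA
    have h1 : m ψ' * (p - 2) = p - 2 := Nat.eq_of_mul_eq_mul_left hYpos hA
    exact Nat.eq_of_mul_eq_mul_right (show 0 < p - 2 by omega) (by rw [h1, one_mul])
  have hmZ : ∀ ξ : Cfsg.IrrCharacter G, ξ ∉ Y → m ξ = 0 := by
    intro ξ hξ
    have h1 := hB ξ (Finset.mem_univ _) (by rw [Set.Finite.mem_toFinset]; exact hξ)
    rcases Nat.mul_eq_zero.mp h1 with h0 | h0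
    · exact h0
    · exfalso
      have h2 := br_blk_deg_cast ξ
      rw [h0, Nat.cast_zero] at h2
      exact IsIrrCharacter.apply_one_ne_zero ξ.2 h2.symm
  -- conclusion
  have hfin := congrFun hexp g
  simp only [Finset.sum_apply, Pi.smul_apply, smul_eq_mul] at hfin
  rw [finsum_mem_eq_finite_toFinset_sum _ (Set.toFinite Y)]
  have hfin2 : ∑ ξ, (m ξ : ℂ) * (ξ : G → ℂ) g =
      ∑ ξ ∈ (Set.toFinite Y).toFinset, (ξ : G → ℂ) g := by
    rw [← Finset.sum_subset (Finset.subset_univ (Set.toFinite Y).toFinset) (fun ξ _ hξ => by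
      rw [hmZ ξ (by rwa [Set.Finite.mem_toFinset] at hξ)]
      simp)]
    apply Finset.sum_congr rfl
    intro ξ hξ
    rw [hmY ξ ((Set.Finite.mem_toFinset _).mp hξ), hm1]
    simp
  rw [← hfin2, ← hfin, hΛ]
  rfl

/-- **(T)** `ψ (g²) = ψ(g)² - (p - 3) ψ(g)` for `p`-regular `g` -/
theorem br_p2t_T [Finite G] (h : br_blk_IsData P X Y dl ep O)
    (hf2 : (P : Subgroup G).relIndex (Subgroup.normalizer ((P : Subgroup G) : Set G)) = 2)
    (hp2 : p ≠ 2) (ψ : Cfsg.IrrCharacter G) (hψ : ψ ∈ Y)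
    (hdeg : Cfsg.charDegree (ψ : G → ℂ) = p - 2) (g : G) (hg : ¬ p ∣ orderOf g) :
    (ψ : G → ℂ) (g * g) = (ψ : G → ℂ) g ^ 2 - ((p : ℂ) - 3) * (ψ : G → ℂ) g := by
  classical
  haveI : Finite (Cfsg.IrrCharacter G) := irr_finite
  have hpp := hp.out
  have hp3 : 3 ≤ p := by
    have := hpp.two_le
    omega
  have hodd : ¬ p ∣ 2 := fun hd => hp2 ((Nat.prime_dvd_prime_iff_eq hpp Nat.prime_two).mp hd)
  obtain ⟨l, hl⟩ : (O ψ).Nonempty := by
    rw [← Finset.card_pos, h.O_card ψ hψ, hf2]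
    norm_num
  have hl1 : l ≠ 1 := h.O_ne ψ hψ l hl
  have hll : l * l ≠ 1 := by
    have h1 := br_p2t_pow_ne_one h.card_P l hl1 2 hodd
    intro h2
    exact h1 ((pow_two l).trans h2)
  obtain ⟨ψ', hψ', hl2⟩ := h.O_cover (l * l) hll
  have hK := br_p2t_K1 h hf2 hp2 ψ ψ' hψ hψ' hdeg l hl hl2 g
  have h1 : ∑ᶠ ξ ∈ Y, (ξ : G → ℂ) g = (Nat.card Y : ℂ) * (ψ : G → ℂ) g := by
    rw [finsum_mem_congr rfl (fun ξ hξ => h.reg_Y ξ hξ ψ hψ g hg),
      finsum_mem_eq_finite_toFinset_sum _ (Set.toFinite Y), Finset.sum_const, nsmul_eq_mul,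
      ← Set.ncard_eq_toFinset_card Y, _root_.Nat.card_coe_set_eq]
  have hcY : Nat.card Y * 2 = p - 1 := by
    have h2 := h.card_Y
    rwa [hf2] at h2
  have h2 : (Nat.card Y : ℂ) * 2 = (p : ℂ) - 1 := by
    have h3 : ((Nat.card Y * 2 : ℕ) : ℂ) = ((p - 1 : ℕ) : ℂ) := by rw [hcY]
    rw [Nat.cast_sub (by omega)] at h3
    push_cast at h3
    exact h3
  rw [h1, h.reg_Y ψ' hψ' ψ hψ g hg] at hK
  linear_combination (-2 : ℂ) * hK - (ψ : G → ℂ) g * h2

end data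

end Cfsg.Agent.BR
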