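import Cfsg.Agent.BR.PTwoT
import Cfsg.Agent.Helper6.GaloisConj
import Cfsg.Agent.Helper6.RepEigen
import Cfsg.Agent.Helper6.FinOrder

/-!
# Brauer–Reynolds track, `f = 2`: uniqueness of exceptional characters, power maps, averages

Setting of `BR/PTwoT.lean` (`br_blk_IsData P X Y dl ep O`, `|N_G(P) : P| = 2`, `5 ≤ p`).

* `br_p2u_unique` : an irreducible character agreeing with `ψ ∈ Y` on `P ∖ 1` is `ψ`.
* `br_p2u_comp_pow` : if `k` is prime to `|G|` and `ψ (x ^ k) = ψ x` on `P`, then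
  `ψ (g ^ k) = ψ g` for all `g`.
* `br_p2u_real` : `ψ g⁻¹ = ψ g` for `ψ ∈ Y`.
* `br_p2u_avg` (general): for a character `χ`, `g` of order `n` and `ω ^ n = 1`, the twisted
  average `∑_{k < n} ω ^ k χ (g ^ k)` is `n` times a natural number.
-/

set_option autoImplicit false
set_option linter.style.haveILetI false

namespace Cfsg.Agent.BR

open Cfsg Cfsg.Agent.Helper6 Cfsg.Agent.D1
open scoped ComplexConjugate

universe u

/-! ### twisted averages over a cyclic subgroup -/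

section avg

variable {G : Type u} [Group G] [Finite G]

/-- a geometric sum of a root of unity -/
theorem br_p2u_geom (z : ℂ) (n : ℕ) (hz : z ^ n = 1) :
    ∑ k ∈ Finset.range n, z ^ k = if z = 1 then (n : ℂ) else 0 := by
  split_ifs with h1
  · rw [h1]
    simp
  · have h2 := mul_neg_geom_sum z n
    have h3 : (1 - z) ≠ 0 := fun h0 => h1 (by linear_combination -h0)
    have h4 : (1 - z) * ∑ k ∈ Finset.range n, z ^ k = 0 := by
      rw [h2, hz, sub_self]
    rcases mul_eq_zero.mp h4 with h5 | h5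
    · exact absurd h5 h3
    · exact h5

/-- values of a character on the powers of `g` as power sums of roots of unity -/
theorem br_p2u_eig {χ : G → ℂ} (hχ : Cfsg.IsCharacter G χ) (g : G) :
    ∃ (ι : Type) (_ : Fintype ι) (μ : ι → ℂ), (∀ i, μ i ^ orderOf g = 1) ∧
      ∀ k : ℕ, χ (g ^ k) = ∑ i, μ i ^ k := by
  obtain ⟨n, ρ, rfl⟩ := hχ
  obtain ⟨ι, hι, b, μ, h1, h2, -⟩ := exists_eigenbasis_rep ρ g
  refine ⟨ι, hι, μ, h2, fun k => ?_⟩
  show LinearMap.trace ℂ _ (ρ (g ^ k)) = _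
  exact trace_eq_sum_of_eigenbasis b (ρ (g ^ k)) (fun i => μ i ^ k)
    (fun i => eigen_pow ρ g b μ h1 k i)

/-- **twisted average**: `∑_{k < n} ω^k χ(g^k) = n N` with `N` a natural number
(`n = orderOf g`, `ω^n = 1`) -/
theorem br_p2u_avg {χ : G → ℂ} (hχ : Cfsg.IsCharacter G χ) (g : G) (ω : ℂ)
    (hω : ω ^ orderOf g = 1) :
    ∃ N : ℕ, ∑ k ∈ Finset.range (orderOf g), ω ^ k * χ (g ^ k) = (orderOf g : ℂ) * (N : ℂ) := by
  classical
  obtain ⟨ι, hι, μ, hμ, hval⟩ := br_p2u_eig hχ g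
  refine ⟨(Finset.univ.filter (fun i => ω * μ i = 1)).card, ?_⟩
  have h1 : ∀ k ∈ Finset.range (orderOf g), ω ^ k * χ (g ^ k) = ∑ i, (ω * μ i) ^ k := by
    intro k _
    rw [hval k, Finset.mul_sum]
    apply Finset.sum_congr rfl
    intro i _
    rw [mul_pow]
  rw [Finset.sum_congr rfl h1, Finset.sum_comm]
  have h2 : ∀ i ∈ (Finset.univ : Finset ι), ∑ k ∈ Finset.range (orderOf g), (ω * μ i) ^ k =
      if ω * μ i = 1 then (orderOf g : ℂ) else 0 := by
    intro i _
    apply br_p2u_geom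
    rw [mul_pow, hω, hμ i, one_mul]
  rw [Finset.sum_congr rfl h2, ← Finset.sum_filter, Finset.sum_const, nsmul_eq_mul]
  ring

end avg

/-! ### uniqueness and power maps -/

section data

variable {G : Type u} [Group G] {p : ℕ} [hp : Fact p.Prime] {P : Sylow p G}
  {X Y : Set (Cfsg.IrrCharacter G)} {dl : Cfsg.IrrCharacter G → ℤ} {ep : ℤ}
  {O : Cfsg.IrrCharacter G → Finset (↥(P : Subgroup G) →* ℂˣ)}

open Classical in
/-- **uniqueness**: an irreducible character agreeing with `ψ ∈ Y` on `P ∖ 1` is `ψ` -/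
theorem br_p2u_unique (h : br_blk_IsData P X Y dl ep O)
    (hf2 : (P : Subgroup G).relIndex (Subgroup.normalizer ((P : Subgroup G) : Set G)) = 2)
    (hp5 : 5 ≤ p) (ψ ξ : Cfsg.IrrCharacter G) (hψ : ψ ∈ Y)
    (hag : ∀ x : G, x ∈ (P : Subgroup G) → x ≠ 1 → (ξ : G → ℂ) x = (ψ : G → ℂ) x) : ξ = ψ := by
  haveI := br_blk_finite_P h
  haveI : Fintype ↥(P : Subgroup G) := Fintype.ofFinite _
  have hpC : (p : ℂ) ≠ 0 := by exact_mod_cast hp.out.ne_zero
  have hself := br_blk_inner_P_Y h ψ ψ hψ hψ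
  rw [if_pos rfl, hf2] at hself
  by_cases hξY : ξ ∈ Y
  · -- `ξ ∈ Y`
    have h1 := br_blk_inner_P_Y h ξ ψ hξY hψ
    rw [hf2] at h1
    have h2 := br_blk_sum_off_one
      (fun x : ↥(P : Subgroup G) => (ξ : G → ℂ) (x : G) * conj ((ψ : G → ℂ) (x : G)))
      (fun x : ↥(P : Subgroup G) => (ψ : G → ℂ) (x : G) * conj ((ψ : G → ℂ) (x : G)))
      (fun x hx => by
        show (ξ : G → ℂ) (x : G) * _ = (ψ : G → ℂ) (x : G) * _
        rw [hag x x.2 (br_blk_ne_one_coe x hx)])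
    simp only [OneMemClass.coe_one] at h2
    by_contra hne
    rw [if_neg hne] at h1
    rw [h1, hself] at h2
    have h3 : (p : ℂ) * ((2 : ℕ) : ℂ) = 0 := by linear_combination -h2
    rcases mul_eq_zero.mp h3 with h4 | h4
    · exact hpC h4
    · norm_num at h4
  · exfalso
    by_cases hξX : ξ ∈ X
    · -- `ξ ∈ X`: `ψ` would be constant `± 1` on `P ∖ 1`
      have h1 := br_blk_sum_P_Y h ψ hψ
      rw [hf2] at h1
      have h2 := br_blk_sum_off_one
        (fun x : ↥(P : Subgroup G) => (ψ : G → ℂ) (x : G)) (fun _ => (dl ξ : ℂ))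
        (fun x hx => by
          show (ψ : G → ℂ) (x : G) = _
          rw [← hag x x.2 (br_blk_ne_one_coe x hx),
            h.val_X ξ hξX x x.2 (br_blk_ne_one_coe x hx)])
      rw [Finset.sum_const, Finset.card_univ, nsmul_eq_mul, br_blk_card_fintype h,
        OneMemClass.coe_one, h1] at h2
      have h3 : ((p : ℂ) - 1) * (dl ξ : ℂ) = -((ep : ℂ) * ((2 : ℕ) : ℂ)) := by
        linear_combination -h2
      have h5 : ((p : ℤ) - 1) * dl ξ = -(ep * 2) := by exact_mod_cast h3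
      have hp5' : (5 : ℤ) ≤ (p : ℤ) := by exact_mod_cast hp5
      rcases h.dl_sign ξ with hd | hd <;> rcases h.ep_sign with he | he <;>
        rw [hd, he] at h5 <;> omega
    · -- `ξ ∉ X ∪ Y`: `ψ` would vanish on `P ∖ 1`
      have h2 := br_blk_sum_off_one
        (fun x : ↥(P : Subgroup G) => (ψ : G → ℂ) (x : G) * conj ((ψ : G → ℂ) (x : G)))
        (fun _ => (0 : ℂ))
        (fun x hx => by
          show (ψ : G → ℂ) (x : G) * _ = 0
          rw [← hag x x.2 (br_blk_ne_one_coe x hx),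
            h.val_Z ξ hξX hξY x x.2 (br_blk_ne_one_coe x hx), zero_mul])
      rw [Finset.sum_const_zero, OneMemClass.coe_one, hself] at h2
      have h3 : ((p : ℂ) - 2) * 2 = 0 := by
        push_cast at h2
        linear_combination h2
      have h4 : (((p : ℤ) - 2) * 2 : ℤ) = 0 := by exact_mod_cast h3
      have hp5' : (5 : ℤ) ≤ (p : ℤ) := by exact_mod_cast hp5
      omega

/-- **power maps**: if `k` is prime to `|G|` and `ψ (x ^ k) = ψ x` on `P`, then
`ψ (g ^ k) = ψ g` for all `g` -/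
theorem br_p2u_comp_pow [Finite G] (h : br_blk_IsData P X Y dl ep O)
    (hf2 : (P : Subgroup G).relIndex (Subgroup.normalizer ((P : Subgroup G) : Set G)) = 2)
    (hp5 : 5 ≤ p) (ψ : Cfsg.IrrCharacter G) (hψ : ψ ∈ Y) (k : ℕ) (hk : k.Coprime (Nat.card G))
    (hP : ∀ x : G, x ∈ (P : Subgroup G) → (ψ : G → ℂ) (x ^ k) = (ψ : G → ℂ) x) (g : G) :
    (ψ : G → ℂ) (g ^ k) = (ψ : G → ℂ) g := by
  haveI : Fintype G := Fintype.ofFinite G
  have h1 : Cfsg.IsIrrCharacter G (fun g => (ψ : G → ℂ) (g ^ k)) :=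
    IsIrrCharacter.comp_pow ψ.2 k hk
  have h2 := br_p2u_unique h hf2 hp5 ψ ⟨_, h1⟩ hψ (fun x hx _ => hP x hx)
  exact congrFun (congrArg Subtype.val h2) g

/-- members of `Y` are real: `ψ g⁻¹ = ψ g` -/
theorem br_p2u_real [Finite G] (h : br_blk_IsData P X Y dl ep O)
    (hf2 : (P : Subgroup G).relIndex (Subgroup.normalizer ((P : Subgroup G) : Set G)) = 2)
    (hp5 : 5 ≤ p) (ψ : Cfsg.IrrCharacter G) (hψ : ψ ∈ Y) (g : G) :
    (ψ : G → ℂ) g⁻¹ = (ψ : G → ℂ) g := by
  have hpos : 0 < Nat.card G := Nat.card_pos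
  have hpow : ∀ x : G, x ^ (Nat.card G - 1) = x⁻¹ := by
    intro x
    have h1 : x ^ (Nat.card G - 1) * x = 1 := by
      rw [← pow_succ, Nat.sub_add_cancel hpos, pow_card_eq_one']
    exact eq_inv_of_mul_eq_one_left h1
  have hcop : (Nat.card G - 1).Coprime (Nat.card G) := by
    have h1 : Nat.Coprime (Nat.card G - 1) (Nat.card G - 1 + 1) := by simp
    rwa [Nat.sub_add_cancel hpos] at h1
  have h2 := br_p2u_comp_pow h hf2 hp5 ψ hψ (Nat.card G - 1) hcop (fun x hx => by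
    rw [hpow x]
    exact br_p2t_val_inv h hf2 _
      (IsCharacter.isClassFunction (IsIrrCharacter.isCharacter ψ.2)) x hx) g
  rw [hpow g] at h2
  exact h2

end data

end Cfsg.Agent.BR
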