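import Cfsg.Agent.BR.PTwoU
import Cfsg.Agent.BR.CycT

/-!
# Brauer–Reynolds track, `f = 2`: the values of a faithful exceptional character of degree `p - 2`

Setting of `BR/PTwoT.lean`, `7 ≤ p`, `ψ ∈ Y` faithful of degree `p - 2`.  From the relation (T)
(`br_p2t_T`), the reality of `ψ` (`br_p2u_real`), cyclic Fourier analysis (`br_cyct_main`,
helper8/helper2) and the twisted averages `br_p2u_avg`:

* `br_p2v_invol` : `ψ = -1` on involutions;
* `br_p2v_odd` : `ψ = 0` on `p`-regular elements `≠ 1` of odd order;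
* `br_p2v_no_four` : there are no elements of order `4`;
* `br_p2v_two_odd` : `ψ = 0` on `p`-regular elements of order `2 m`, `m ≥ 3` odd;
* `br_p2v_values` : the summary.
-/

set_option autoImplicit false
set_option linter.style.haveILetI false

namespace Cfsg.Agent.BR

open Cfsg Cfsg.Agent.Helper6 Cfsg.Agent.D1
open scoped ComplexConjugate

universe u

variable {G : Type u} [Group G] {p : ℕ} [hp : Fact p.Prime] {P : Sylow p G}
  {X Y : Set (Cfsg.IrrCharacter G)} {dl : Cfsg.IrrCharacter G → ℤ} {ep : ℤ}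
  {O : Cfsg.IrrCharacter G → Finset (↥(P : Subgroup G) →* ℂˣ)}

omit hp in
/-- the degree as a complex number -/
theorem br_p2v_one (ψ : Cfsg.IrrCharacter G) (hp2 : 2 ≤ p)
    (hdeg : Cfsg.charDegree (ψ : G → ℂ) = p - 2) : (ψ : G → ℂ) 1 = (p : ℂ) - 2 := by
  rw [← br_blk_deg_cast, hdeg, Nat.cast_sub hp2]
  norm_num

/-- **involutions**: `ψ t = -1` -/
theorem br_p2v_invol [Finite G] (h : br_blk_IsData P X Y dl ep O)
    (hf2 : (P : Subgroup G).relIndex (Subgroup.normalizer ((P : Subgroup G) : Set G)) = 2)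
    (hp7 : 7 ≤ p) (ψ : Cfsg.IrrCharacter G) (hψ : ψ ∈ Y)
    (hdeg : Cfsg.charDegree (ψ : G → ℂ) = p - 2)
    (hfaith : ∀ g : G, (ψ : G → ℂ) g = (ψ : G → ℂ) 1 → g = 1)
    (g : G) (hgg : g * g = 1) (hg1 : g ≠ 1) : (ψ : G → ℂ) g = -1 := by
  have hp2 : p ≠ 2 := by omega
  have ho : orderOf g = 2 := orderOf_eq_prime (by rw [pow_two]; exact hgg) hg1
  have hreg : ¬ p ∣ orderOf g := by
    rw [ho]
    intro hd
    have := Nat.le_of_dvd (by norm_num) hd
    omega
  have hT := br_p2t_T h hf2 hp2 ψ hψ hdeg g hreg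
  have h1 := br_p2v_one ψ (by omega) hdeg
  rw [hgg, h1] at hT
  have h2 : ((ψ : G → ℂ) g - ((p : ℂ) - 2)) * ((ψ : G → ℂ) g + 1) = 0 := by
    linear_combination -hT
  rcases mul_eq_zero.mp h2 with h3 | h3
  · exfalso
    apply hg1
    apply hfaith
    rw [h1]
    linear_combination h3
  · linear_combination h3

open scoped IsMulCommutative in
/-- **odd order**: `ψ u = 0` for `p`-regular `u ≠ 1` of odd order -/
theorem br_p2v_odd [Finite G] (h : br_blk_IsData P X Y dl ep O)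
    (hf2 : (P : Subgroup G).relIndex (Subgroup.normalizer ((P : Subgroup G) : Set G)) = 2)
    (hp7 : 7 ≤ p) (ψ : Cfsg.IrrCharacter G) (hψ : ψ ∈ Y)
    (hdeg : Cfsg.charDegree (ψ : G → ℂ) = p - 2)
    (hfaith : ∀ g : G, (ψ : G → ℂ) g = (ψ : G → ℂ) 1 → g = 1)
    (g : G) (hodd : Odd (orderOf g)) (hreg : ¬ p ∣ orderOf g) (hg1 : g ≠ 1) :
    (ψ : G → ℂ) g = 0 := by
  have hp2 : p ≠ 2 := by omega
  have h1 := br_p2v_one ψ (by omega) hdeg
  haveI : Fintype ↥(Subgroup.zpowers g) := Fintype.ofFinite _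
  have hψc : Cfsg.IsCharacter G (ψ : G → ℂ) := IsIrrCharacter.isCharacter ψ.2
  have hF := IsCharacter.restrict (Subgroup.zpowers g) hψc
  have hcast : ((p - 2 : ℕ) : ℂ) = (p : ℂ) - 2 := by
    rw [Nat.cast_sub (by omega)]
    norm_num
  have hmain := br_cyct_main (H := ↥(Subgroup.zpowers g))
    (by rw [← Nat.card_eq_fintype_card, Nat.card_zpowers]; exact hodd)
    (fun x : ↥(Subgroup.zpowers g) => (ψ : G → ℂ) (x : G)) hF
    (fun x => by
      show (ψ : G → ℂ) ((x⁻¹ : ↥(Subgroup.zpowers g)) : G) = (ψ : G → ℂ) (x : G)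
      rw [InvMemClass.coe_inv]
      exact br_p2u_real h hf2 (by omega) ψ hψ (x : G))
    (p - 2)
    (by
      show (ψ : G → ℂ) ((1 : ↥(Subgroup.zpowers g)) : G) = _
      rw [OneMemClass.coe_one, h1, hcast])
    (by omega)
    (fun x => by
      show (ψ : G → ℂ) ((x * x : ↥(Subgroup.zpowers g)) : G) = (ψ : G → ℂ) (x : G) ^ 2 -
        (((p - 2 : ℕ) : ℂ) - 1) * (ψ : G → ℂ) (x : G)
      have hx : ¬ p ∣ orderOf (x : G) := fun hd =>
        hreg (dvd_trans hd (orderOf_dvd_of_mem_zpowers x.2))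
      rw [Subgroup.coe_mul, br_p2t_T h hf2 hp2 ψ hψ hdeg (x : G) hx, hcast]
      ring)
    (fun x hx => by
      have h2 : (ψ : G → ℂ) (x : G) = (ψ : G → ℂ) 1 := by
        rw [h1, ← hcast]
        exact hx
      exact Subtype.ext (hfaith _ h2))
  exact hmain ⟨g, Subgroup.mem_zpowers g⟩ (fun h0 => hg1 (congrArg Subtype.val h0))

/-- **no elements of order `4`** -/
theorem br_p2v_no_four [Finite G] (h : br_blk_IsData P X Y dl ep O)
    (hf2 : (P : Subgroup G).relIndex (Subgroup.normalizer ((P : Subgroup G) : Set G)) = 2)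
    (hp7 : 7 ≤ p) (ψ : Cfsg.IrrCharacter G) (hψ : ψ ∈ Y)
    (hdeg : Cfsg.charDegree (ψ : G → ℂ) = p - 2)
    (hfaith : ∀ g : G, (ψ : G → ℂ) g = (ψ : G → ℂ) 1 → g = 1)
    (g : G) (ho : orderOf g = 4) : False := by
  have hp2 : p ≠ 2 := by omega
  have hpp := hp.out
  have h1 := br_p2v_one ψ (by omega) hdeg
  have hψc : Cfsg.IsCharacter G (ψ : G → ℂ) := IsIrrCharacter.isCharacter ψ.2
  have hreg : ¬ p ∣ orderOf g := by
    rw [ho]
    intro hd
    have h2 : p ∣ 2 ^ 2 := by norm_num; exact hd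
    have h3 := (Nat.prime_dvd_prime_iff_eq hpp Nat.prime_two).mp (hpp.dvd_of_dvd_pow h2)
    omega
  have hg4 : g ^ 4 = 1 := by rw [← ho]; exact pow_orderOf_eq_one g
  have hsq1 : g * g ≠ 1 := by
    intro h0
    have h2 : orderOf g ∣ 2 := orderOf_dvd_of_pow_eq_one (by rw [pow_two]; exact h0)
    rw [ho] at h2
    have := Nat.le_of_dvd (by norm_num) h2
    omega
  have hsq : (g * g) * (g * g) = 1 := by
    have h2 : g ^ 4 = (g * g) * (g * g) := by
      rw [show 4 = 2 + 2 from rfl, pow_add, pow_two]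
    rw [← h2]
    exact hg4
  have hv2 := br_p2v_invol h hf2 hp7 ψ hψ hdeg hfaith (g * g) hsq hsq1
  have hT := br_p2t_T h hf2 hp2 ψ hψ hdeg g hreg
  rw [hv2] at hT
  -- the average over `⟨g⟩`
  obtain ⟨N, hN⟩ := br_p2u_avg hψc g 1 (one_pow _)
  rw [ho] at hN
  have hg3 : g ^ 3 = g⁻¹ := by
    apply eq_inv_of_mul_eq_one_left
    rw [← pow_succ]
    exact hg4
  have hreal := br_p2u_real h hf2 (by omega) ψ hψ g
  simp only [Finset.sum_range_succ, Finset.sum_range_zero, one_pow, one_mul, zero_add,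
    pow_zero, pow_one] at hN
  rw [hg3, hreal, pow_two, hv2, h1] at hN
  -- `2 v = 4 N - p + 3`
  obtain ⟨r, hr⟩ : ∃ r : ℤ, r = 4 * (N : ℤ) - (p : ℤ) + 3 := ⟨_, rfl⟩
  have hrv : (2 : ℂ) * (ψ : G → ℂ) g = (r : ℂ) := by
    rw [hr]
    push_cast
    linear_combination hN
  have heq : (r : ℂ) * (r : ℂ) - 2 * ((p : ℂ) - 3) * (r : ℂ) + 4 = 0 := by
    rw [← hrv]
    linear_combination (-4 : ℂ) * hT
  have heqZ : r * r - 2 * ((p : ℤ) - 3) * r + 4 = 0 := by exact_mod_cast heq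
  have hp7' : (7 : ℤ) ≤ (p : ℤ) := by exact_mod_cast hp7
  have hdvd : r ∣ 4 := ⟨2 * ((p : ℤ) - 3) - r, by linarith⟩
  have hle : r ≤ 4 := Int.le_of_dvd (by norm_num) hdvd
  have hge : -4 ≤ r := by
    have h2 : -r ∣ 4 := (neg_dvd).mpr hdvd
    have := Int.le_of_dvd (by norm_num) h2
    omega
  interval_cases r <;> omega

/-- the terms of the twisted average for an element of order `2 m`, `m ≥ 3` odd -/
theorem br_p2v_term [Finite G] (h : br_blk_IsData P X Y dl ep O)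
    (hf2 : (P : Subgroup G).relIndex (Subgroup.normalizer ((P : Subgroup G) : Set G)) = 2)
    (hp7 : 7 ≤ p) (ψ : Cfsg.IrrCharacter G) (hψ : ψ ∈ Y)
    (hdeg : Cfsg.charDegree (ψ : G → ℂ) = p - 2)
    (hfaith : ∀ g : G, (ψ : G → ℂ) g = (ψ : G → ℂ) 1 → g = 1)
    (g : G) (m : ℕ) (ho : orderOf g = 2 * m) (hm : Odd m) (hm3 : 3 ≤ m)
    (hreg : ¬ p ∣ orderOf g) (k : ℕ) (hk : k < 2 * m) :
    ∃ e : ℕ, (-1 : ℂ) ^ k * (ψ : G → ℂ) (g ^ k) =
        (if k = 0 then (p : ℂ) - 2 else 0) + (if k = m then 1 else 0) -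
          ((p : ℂ) - 3) * (e : ℂ) ∧
      (k = 1 → (ψ : G → ℂ) g ≠ 0 → e = 1) := by
  have hp2 : p ≠ 2 := by omega
  have h1 := br_p2v_one ψ (by omega) hdeg
  have hgpow : g ^ (2 * m) = 1 := by
    rw [← ho]
    exact pow_orderOf_eq_one g
  have hregk : ∀ j : ℕ, ¬ p ∣ orderOf (g ^ j) := fun j hd =>
    hreg (dvd_trans hd (orderOf_pow_dvd j))
  have hne1 : ∀ j : ℕ, 0 < j → j < 2 * m → g ^ j ≠ 1 := fun j hj0 hj =>
    pow_ne_one_of_lt_orderOf (by omega) (by rw [ho]; exact hj)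
  have hoddpow : ∀ j : ℕ, Odd (orderOf (g ^ (2 * j))) := by
    intro j
    have h2 : (g ^ (2 * j)) ^ m = 1 := by
      rw [← pow_mul, mul_right_comm, pow_mul, hgpow, one_pow]
    exact Odd.of_dvd_nat hm (orderOf_dvd_of_pow_eq_one h2)
  rcases Nat.even_or_odd k with hke | hko
  · -- `k` even
    have hkm : k ≠ m := by
      intro h0
      rw [h0] at hke
      exact (Nat.not_even_iff_odd.mpr hm) hke
    obtain ⟨j, hj⟩ := hke
    have hj2 : k = 2 * j := by omega
    by_cases hk0 : k = 0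
    · refine ⟨0, ?_, fun hk1 => by omega⟩
      rw [hk0, if_pos rfl, if_neg (by omega), pow_zero, pow_zero, h1]
      simp
    · refine ⟨0, ?_, fun hk1 => by omega⟩
      have h2 : (ψ : G → ℂ) (g ^ k) = 0 := by
        apply br_p2v_odd h hf2 hp7 ψ hψ hdeg hfaith (g ^ k) _ (hregk k) (hne1 k (by omega) hk)
        rw [hj2]
        exact hoddpow j
      rw [h2, if_neg hk0, if_neg hkm]
      simp
  · -- `k` odd
    have hk0 : k ≠ 0 := by
      intro h0
      rw [h0] at hko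
      exact absurd hko (by decide)
    have hsign : (-1 : ℂ) ^ k = -1 := Odd.neg_one_pow hko
    by_cases hkm : k = m
    · refine ⟨0, ?_, fun hk1 => by omega⟩
      have h2 : (g ^ k) * (g ^ k) = 1 := by
        rw [← pow_add, hkm, ← two_mul, hgpow]
      have h3 := br_p2v_invol h hf2 hp7 ψ hψ hdeg hfaith (g ^ k) h2 (hne1 k (by omega) hk)
      rw [h3, hsign, if_neg hk0, if_pos hkm]
      simp
    · have hyy : (g ^ k) * (g ^ k) = g ^ (2 * k) := by
        rw [← pow_add, ← two_mul]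
      have hyy1 : g ^ (2 * k) ≠ 1 := by
        intro h0
        have h2 := orderOf_dvd_of_pow_eq_one h0
        rw [ho] at h2
        have h3 : m ∣ k := Nat.dvd_of_mul_dvd_mul_left (by norm_num) h2
        obtain ⟨q, hq⟩ := h3
        rcases q with _ | _ | q
        · omega
        · omega
        · have : 2 * m ≤ m * (q + 1 + 1) := by nlinarith
          omega
      have h4 : (ψ : G → ℂ) (g ^ (2 * k)) = 0 :=
        br_p2v_odd h hf2 hp7 ψ hψ hdeg hfaith (g ^ (2 * k)) (hoddpow k) (hregk (2 * k)) hyy1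
      have hT := br_p2t_T h hf2 hp2 ψ hψ hdeg (g ^ k) (hregk k)
      rw [hyy, h4] at hT
      have h5 : (ψ : G → ℂ) (g ^ k) * ((ψ : G → ℂ) (g ^ k) - ((p : ℂ) - 3)) = 0 := by
        linear_combination -hT
      rcases mul_eq_zero.mp h5 with h6 | h6
      · refine ⟨0, ?_, fun hk1 hne => ?_⟩
        · rw [h6, if_neg hk0, if_neg hkm]
          simp
        · exfalso
          apply hne
          rw [hk1, pow_one] at h6
          exact h6
      · refine ⟨1, ?_, fun _ _ => rfl⟩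
        have h7 : (ψ : G → ℂ) (g ^ k) = (p : ℂ) - 3 := by linear_combination h6
        rw [h7, hsign, if_neg hk0, if_neg hkm]
        simp

/-- **order `2 m`, `m ≥ 3` odd**: `ψ g = 0` -/
theorem br_p2v_two_odd [Finite G] (h : br_blk_IsData P X Y dl ep O)
    (hf2 : (P : Subgroup G).relIndex (Subgroup.normalizer ((P : Subgroup G) : Set G)) = 2)
    (hp7 : 7 ≤ p) (ψ : Cfsg.IrrCharacter G) (hψ : ψ ∈ Y)
    (hdeg : Cfsg.charDegree (ψ : G → ℂ) = p - 2)
    (hfaith : ∀ g : G, (ψ : G → ℂ) g = (ψ : G → ℂ) 1 → g = 1)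
    (g : G) (m : ℕ) (ho : orderOf g = 2 * m) (hm : Odd m) (hm3 : 3 ≤ m)
    (hreg : ¬ p ∣ orderOf g) : (ψ : G → ℂ) g = 0 := by
  by_contra hne
  have hψc : Cfsg.IsCharacter G (ψ : G → ℂ) := IsIrrCharacter.isCharacter ψ.2
  have hterm := fun k (hk : k < 2 * m) =>
    br_p2v_term h hf2 hp7 ψ hψ hdeg hfaith g m ho hm hm3 hreg k hk
  choose! e he using hterm
  obtain ⟨N, hN⟩ := br_p2u_avg hψc g (-1) (by rw [ho, pow_mul]; norm_num)
  rw [ho] at hN
  have hsum : ∑ k ∈ Finset.range (2 * m), (-1 : ℂ) ^ k * (ψ : G → ℂ) (g ^ k) =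
      ∑ k ∈ Finset.range (2 * m), ((if k = 0 then (p : ℂ) - 2 else 0) +
        (if k = m then 1 else 0) - ((p : ℂ) - 3) * (e k : ℂ)) :=
    Finset.sum_congr rfl (fun k hk => (he k (Finset.mem_range.mp hk)).1)
  rw [hsum, Finset.sum_sub_distrib, Finset.sum_add_distrib, Finset.sum_ite_eq',
    Finset.sum_ite_eq', if_pos (Finset.mem_range.mpr (by omega)),
    if_pos (Finset.mem_range.mpr (by omega)), ← Finset.mul_sum, ← Nat.cast_sum] at hN
  obtain ⟨E, hE⟩ : ∃ E : ℕ, E = ∑ k ∈ Finset.range (2 * m), e k := ⟨_, rfl⟩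
  rw [← hE] at hN
  have he1 : e 1 = 1 := (he 1 (by omega)).2 rfl hne
  have hE1 : 1 ≤ E := by
    rw [hE, ← he1]
    exact Finset.single_le_sum (f := e) (fun _ _ => Nat.zero_le _)
      (Finset.mem_range.mpr (by omega))
  have hZ : (p : ℤ) - 2 + 1 - ((p : ℤ) - 3) * (E : ℤ) = ((2 * m : ℕ) : ℤ) * (N : ℤ) := by
    exact_mod_cast hN
  push_cast at hZ
  have hp7' : (7 : ℤ) ≤ (p : ℤ) := by exact_mod_cast hp7
  have hm3' : (3 : ℤ) ≤ (m : ℤ) := by exact_mod_cast hm3
  have hE1' : (1 : ℤ) ≤ (E : ℤ) := by exact_mod_cast hE1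
  have hN0 : (0 : ℤ) ≤ (N : ℤ) := Int.natCast_nonneg N
  obtain ⟨E2, hE2⟩ : ∃ E2 : ℕ, E = 1 + E2 := ⟨E - 1, by omega⟩
  have key : (2 : ℤ) - ((p : ℤ) - 3) * (E2 : ℤ) = 2 * (m : ℤ) * (N : ℤ) := by
    rw [hE2] at hZ
    push_cast at hZ
    linarith
  have hE20 : (0 : ℤ) ≤ (E2 : ℤ) := Int.natCast_nonneg E2
  have hmN : (0 : ℤ) ≤ (m : ℤ) * (N : ℤ) := mul_nonneg (by linarith) hN0
  rcases Nat.eq_zero_or_pos E2 with h0 | h0
  · rw [h0] at key
    push_cast at key
    rcases Nat.eq_zero_or_pos N with hN1 | hN1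
    · rw [hN1] at key
      push_cast at key
      omega
    · have hN1' : (1 : ℤ) ≤ (N : ℤ) := by exact_mod_cast hN1
      have h3 : (3 : ℤ) ≤ (m : ℤ) * (N : ℤ) := by nlinarith
      linarith
  · have h0' : (1 : ℤ) ≤ (E2 : ℤ) := by exact_mod_cast h0
    have h4 : (4 : ℤ) ≤ ((p : ℤ) - 3) * (E2 : ℤ) := by nlinarith
    linarith

/-- **the values of `ψ` on `p`-regular elements** -/
theorem br_p2v_values [Finite G] (h : br_blk_IsData P X Y dl ep O)
    (hf2 : (P : Subgroup G).relIndex (Subgroup.normalizer ((P : Subgroup G) : Set G)) = 2)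
    (hp7 : 7 ≤ p) (ψ : Cfsg.IrrCharacter G) (hψ : ψ ∈ Y)
    (hdeg : Cfsg.charDegree (ψ : G → ℂ) = p - 2)
    (hfaith : ∀ g : G, (ψ : G → ℂ) g = (ψ : G → ℂ) 1 → g = 1)
    (g : G) (hg1 : g ≠ 1) (hreg : ¬ p ∣ orderOf g) :
    (g * g = 1 ∧ (ψ : G → ℂ) g = -1) ∨ (g * g ≠ 1 ∧ (ψ : G → ℂ) g = 0) := by
  have hpos : 0 < orderOf g := orderOf_pos g
  have hsq : g * g = 1 → orderOf g ∣ 2 := fun h0 =>
    orderOf_dvd_of_pow_eq_one (by rw [pow_two]; exact h0)
  rcases Nat.even_or_odd (orderOf g) with hev | hodd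
  · obtain ⟨m, hm⟩ := hev
    have ho : orderOf g = 2 * m := by omega
    rcases Nat.even_or_odd m with hme | hmo
    · -- `4 ∣ orderOf g`: impossible
      exfalso
      obtain ⟨j, hj⟩ := hme
      have hj0 : j ≠ 0 := by
        intro h0
        omega
      have hdvd : j ∣ orderOf g := ⟨4, by omega⟩
      have h4 : orderOf (g ^ j) = 4 := by
        rw [orderOf_pow_of_dvd hj0 hdvd, ho, hj]
        have : 2 * (j + j) = 4 * j := by ring
        rw [this]
        exact Nat.mul_div_cancel 4 (Nat.pos_of_ne_zero hj0)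
      exact br_p2v_no_four h hf2 hp7 ψ hψ hdeg hfaith (g ^ j) h4
    · rcases Nat.lt_or_ge m 3 with hlt | hge
      · -- `m = 1`
        have hm1 : m = 1 := by
          rcases hmo with ⟨q, hq⟩
          omega
        left
        have hgg : g * g = 1 := by
          rw [← pow_two]
          have h2 : orderOf g = 2 := by omega
          rw [← h2]
          exact pow_orderOf_eq_one g
        exact ⟨hgg, br_p2v_invol h hf2 hp7 ψ hψ hdeg hfaith g hgg hg1⟩
      · right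
        refine ⟨fun h0 => ?_, br_p2v_two_odd h hf2 hp7 ψ hψ hdeg hfaith g m ho hmo hge hreg⟩
        have := Nat.le_of_dvd (by norm_num) (hsq h0)
        omega
  · right
    refine ⟨fun h0 => ?_, br_p2v_odd h hf2 hp7 ψ hψ hdeg hfaith g hodd hreg hg1⟩
    have h2 := hsq h0
    have h3 : orderOf g = 1 := by
      rcases (Nat.dvd_prime Nat.prime_two).mp h2 with h4 | h4
      · exact h4
      · rw [h4] at hodd
        exact absurd hodd (by decide)
    exact hg1 (orderOf_eq_one_iff.mp h3)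

end Cfsg.Agent.BR
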