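import Mathlib
import Cfsg.Prelude.Def_Characters
import Cfsg.Agent.D1C.SecA

/-!
# S4705 (faithful irreducible character of degree `p - 2`): the setting (helper4)

`br_pmt_Hyp p P ζ θ l` : `|P| = p ≥ 7`, `C_G(P) = P ⊔ Z(G)`, `|N_G(P) : C_G(P)| = 2`, `ζ` irreducible
of degree `p - 2` with central character `θ`, `ζ = -(l + l⁻¹)` on `P ∖ 1`, and `ζ` quasi-faithful:
`‖ζ g‖ = p - 2` only for central `g`.  `br_pmt_Odd θ` : `θ` has odd order.
Plan: `notes/S4705_plan.md`.  This file: the definitions and the elementary group theory.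
-/

set_option autoImplicit false
set_option linter.style.haveILetI false
set_option linter.unusedSectionVars false

namespace Cfsg.Agent.BR

open Cfsg Cfsg.Agent.D1

universe u

/-- the setting (K): `C_G(P) = P × Z(G)`, `|N_G(P) : C_G(P)| = 2`, `ζ` irreducible of degree `p - 2`
with central character `θ`, quasi-faithful (`|ζ g| = ζ 1` only on the centre), and
`ζ = -(l + l⁻¹)` on `P ∖ 1`. -/
structure br_pmt_Hyp {G : Type u} [Group G] (p : ℕ) (P : Sylow p G) (ζ : G → ℂ)
    (θ : ↥(Subgroup.center G) →* ℂˣ) (l : ↥(P : Subgroup G) →* ℂˣ) : Prop where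
  p_ge : 7 ≤ p
  card_P : Nat.card (P : Subgroup G) = p
  cent : Subgroup.centralizer ((P : Subgroup G) : Set G) = (P : Subgroup G) ⊔ Subgroup.center G
  index : (Subgroup.centralizer ((P : Subgroup G) : Set G)).relIndex
      (Subgroup.normalizer ((P : Subgroup G) : Set G)) = 2
  irr : IsIrrCharacter G ζ
  deg : ζ 1 = (p : ℂ) - 2
  central : ∀ (g : G) (y : ↥(Subgroup.center G)), ζ (g * y) = ζ g * ((θ y : ℂˣ) : ℂ)
  l_ne : l ≠ 1
  val : ∀ x : ↥(P : Subgroup G), x ≠ 1 →
    ζ x = -(((l x : ℂˣ) : ℂ) + (((l x)⁻¹ : ℂˣ) : ℂ))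
  qf : ∀ g : G, ‖ζ g‖ = (p : ℝ) - 2 → g ∈ Subgroup.center G

/-- the central character has odd order -/
def br_pmt_Odd {G : Type u} [Group G] (θ : ↥(Subgroup.center G) →* ℂˣ) : Prop :=
  ∃ m : ℕ, Odd m ∧ θ ^ m = 1

variable {G : Type u} [Group G] [Finite G] {p : ℕ} [hp : Fact p.Prime] {P : Sylow p G}
  {ζ : G → ℂ} {θ : ↥(Subgroup.center G) →* ℂˣ} {l : ↥(P : Subgroup G) →* ℂˣ}

/-- values of a homomorphism from a finite group to `ℂˣ` have norm one -/
theorem br_pmt_norm_hom {Q : Type*} [Group Q] [Finite Q] (μ : Q →* ℂˣ) (x : Q) :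
    ‖((μ x : ℂˣ) : ℂ)‖ = 1 := by
  have h1 : ((μ x : ℂˣ) : ℂ) ^ orderOf x = 1 := by
    rw [← Units.val_pow_eq_pow_val, ← map_pow, pow_orderOf_eq_one, map_one, Units.val_one]
  exact Complex.norm_eq_one_of_pow_eq_one h1 (orderOf_pos x).ne'

namespace br_pmt_Hyp

variable (h : br_pmt_Hyp p P ζ θ l)
include h

theorem zeta_center (y : ↥(Subgroup.center G)) :
    ζ (y : G) = ((p : ℂ) - 2) * ((θ y : ℂˣ) : ℂ) := by
  have := h.central 1 y
  rwa [one_mul, h.deg] at this

theorem norm_center (y : ↥(Subgroup.center G)) : ‖ζ (y : G)‖ = (p : ℝ) - 2 := by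
  rw [h.zeta_center, norm_mul, br_pmt_norm_hom, mul_one]
  have h7 := h.p_ge
  have h1 : ((p : ℂ) - 2) = (((p : ℝ) - 2 : ℝ) : ℂ) := by push_cast; ring
  rw [h1, Complex.norm_real, Real.norm_eq_abs, abs_of_nonneg]
  have : (7 : ℝ) ≤ p := by exact_mod_cast h7
  linarith

theorem norm_P (x : ↥(P : Subgroup G)) (hx : x ≠ 1) : ‖ζ (x : G)‖ ≤ 2 := by
  rw [h.val x hx, norm_neg]
  refine (norm_add_le _ _).trans ?_
  rw [br_pmt_norm_hom, ← map_inv, br_pmt_norm_hom]
  norm_num

theorem P_inf_Z : (P : Subgroup G) ⊓ Subgroup.center G = ⊥ := by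
  rw [eq_bot_iff]
  rintro x ⟨hxP, hxZ⟩
  rw [Subgroup.mem_bot]
  by_contra hx1
  have h1 := h.norm_P ⟨x, hxP⟩ (fun hh => hx1 (congrArg Subtype.val hh))
  have h2 := h.norm_center ⟨x, hxZ⟩
  have h7 := h.p_ge
  have : (7 : ℝ) ≤ p := by exact_mod_cast h7
  simp only at h1 h2
  linarith

end br_pmt_Hyp

omit [Finite G] in
theorem br_pmt_card_mul_relIndex {H K : Subgroup G} (hHK : H ≤ K) :
    Nat.card ↥H * H.relIndex K = Nat.card ↥K := by
  have := Subgroup.relIndex_mul_relIndex ⊥ H K bot_le hHK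
  rwa [Subgroup.relIndex_bot_left, Subgroup.relIndex_bot_left] at this

namespace br_pmt_Hyp

variable (h : br_pmt_Hyp p P ζ θ l)
include h

theorem not_dvd_card_Z : ¬ p ∣ Nat.card ↥(Subgroup.center G) := by
  intro hdvd
  obtain ⟨z, hz⟩ := exists_prime_orderOf_dvd_card' p hdvd
  have hzG : orderOf (z : G) = p := by rw [Subgroup.orderOf_coe]; exact hz
  have hpg : IsPGroup p ↥(Subgroup.zpowers (z : G)) := by
    apply IsPGroup.of_card (n := 1)
    rw [Nat.card_zpowers, hzG, pow_one]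
  obtain ⟨Q, hQ⟩ := hpg.exists_le_sylow
  obtain ⟨g, hg⟩ := MulAction.exists_smul_eq G Q P
  have hzQ : (z : G) ∈ (Q : Subgroup G) := hQ (Subgroup.mem_zpowers _)
  have hzP : (z : G) ∈ (P : Subgroup G) := by
    rw [← hg, Sylow.coe_subgroup_smul, Subgroup.mem_pointwise_smul_iff_inv_smul_mem]
    have : (MulAut.conj g)⁻¹ • (z : G) = (z : G) := by
      rw [← map_inv]
      show MulAut.conj g⁻¹ (z : G) = z
      rw [MulAut.conj_apply, inv_inv]
      have := Subgroup.mem_center_iff.1 z.2 g⁻¹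
      rw [this]; group
    rw [this]; exact hzQ
  have : (z : G) ∈ (P : Subgroup G) ⊓ Subgroup.center G := ⟨hzP, z.2⟩
  rw [h.P_inf_Z, Subgroup.mem_bot] at this
  rw [this, orderOf_one] at hzG
  exact hp.out.one_lt.ne hzG

theorem Z_le_C : Subgroup.center G ≤ Subgroup.centralizer ((P : Subgroup G) : Set G) :=
  Subgroup.center_le_centralizer _

theorem P_le_C : (P : Subgroup G) ≤ Subgroup.centralizer ((P : Subgroup G) : Set G) :=
  d1_sec_le_centralizer _ h.card_P

theorem mem_C_iff (g : G) : g ∈ Subgroup.centralizer ((P : Subgroup G) : Set G) ↔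
    ∃ x ∈ (P : Subgroup G), ∃ y ∈ Subgroup.center G, x * y = g := by
  rw [h.cent, Subgroup.mem_sup_of_normal_right]

theorem val_mul (x : ↥(P : Subgroup G)) (hx : x ≠ 1) (y : ↥(Subgroup.center G)) :
    ζ ((x : G) * (y : G)) =
      -(((l x : ℂˣ) : ℂ) + (((l x)⁻¹ : ℂˣ) : ℂ)) * ((θ y : ℂˣ) : ℂ) := by
  rw [h.central, h.val x hx]

theorem card_C : Nat.card ↥(Subgroup.centralizer ((P : Subgroup G) : Set G)) =
    p * Nat.card ↥(Subgroup.center G) := by
  rw [h.cent]
  have h1 : (Subgroup.center G).relIndex ((P : Subgroup G) ⊔ Subgroup.center G) = p := by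
    rw [Subgroup.relIndex_sup_right, ← Subgroup.inf_relIndex_right, inf_comm, h.P_inf_Z,
      Subgroup.relIndex_bot_left, h.card_P]
  have h2 := br_pmt_card_mul_relIndex (H := Subgroup.center G)
    (K := (P : Subgroup G) ⊔ Subgroup.center G) le_sup_right
  rw [h1, mul_comm] at h2
  exact h2.symm

theorem C_le_N : Subgroup.centralizer ((P : Subgroup G) : Set G) ≤
    Subgroup.normalizer ((P : Subgroup G) : Set G) :=
  Subgroup.centralizer_le_normalizer _

theorem card_N : Nat.card ↥(Subgroup.normalizer ((P : Subgroup G) : Set G)) =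
    2 * (p * Nat.card ↥(Subgroup.center G)) := by
  have h2 := br_pmt_card_mul_relIndex h.C_le_N
  rw [h.index, h.card_C, mul_comm] at h2
  exact h2.symm

theorem card_sylow_mul : Nat.card (Sylow p G) * (2 * (p * Nat.card ↥(Subgroup.center G))) =
    Nat.card G := by
  rw [← h.card_N, Sylow.card_eq_index_normalizer, mul_comm]
  exact Subgroup.card_mul_index _

/-- there is a `2`-element outside `C_G(P)` (the `2`-part of any element of `N ∖ C`) -/
theorem exists_two_elt : ∃ s : G, (∃ k : ℕ, s ^ 2 ^ k = 1) ∧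
    s ∈ Subgroup.normalizer ((P : Subgroup G) : Set G) ∧
    s ∉ Subgroup.centralizer ((P : Subgroup G) : Set G) := by
  set C := Subgroup.centralizer ((P : Subgroup G) : Set G) with hC
  set N := Subgroup.normalizer ((P : Subgroup G) : Set G) with hN
  have hidx : (C.subgroupOf N).index = 2 := h.index
  have hne : C.subgroupOf N ≠ ⊤ := by
    intro htop
    rw [htop, Subgroup.index_top] at hidx
    omega
  obtain ⟨t, ht⟩ : ∃ t : N, t ∉ C.subgroupOf N := by
    by_contra hall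
    exact hne (eq_top_iff.2 fun x _ => by_contra fun hx => hall ⟨x, hx⟩)
  have hsq : ∀ j : ℕ, t ^ (2 * j) ∈ C.subgroupOf N := by
    intro j
    rw [pow_mul]
    apply Subgroup.pow_mem
    rw [pow_two, Subgroup.mul_mem_iff_of_index_two hidx]
  have hodd : ∀ r : ℕ, Odd r → t ^ r ∉ C.subgroupOf N := by
    rintro r ⟨j, rfl⟩
    rw [pow_succ, Subgroup.mul_mem_iff_of_index_two hidx]
    intro hh
    exact ht (hh.1 (hsq j))
  obtain ⟨k, r, hr, hkr⟩ := Nat.exists_eq_two_pow_mul_odd (orderOf_pos t).ne'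
  refine ⟨((t ^ r : N) : G), ⟨k, ?_⟩, (t ^ r).2, ?_⟩
  · rw [← Subgroup.coe_pow, ← pow_mul, mul_comm, ← hkr, pow_orderOf_eq_one, Subgroup.coe_one]
  · have := hodd r hr
    rwa [Subgroup.mem_subgroupOf] at this

end br_pmt_Hyp

end Cfsg.Agent.BR
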