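import Mathlib
import Cfsg.Agent.BR.PmtDefs
import Cfsg.Agent.D1C.Sing

/-!
# S4705 : sums over the `p`-singular elements (helper4)

In the setting `br_pmt_Hyp` we have `C_G(P) = P × Z(G)`, and the retraction `τ : C → P` of
`D1C/SecA` is `τ (x y) = x`.  So helper1's `d1_sing_sum` (`D1C/Sing.lean`) becomes
`|N| ∑_g F g = |G| ∑_{x ∈ P} ∑_{y ∈ Z} F (x y)` for class functions `F` vanishing on the `p`-regular
elements (`br_pmt_sing_sum'`; `br_pmt_sing_sum` is the same with the terms `x = 1` removed by hand).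
-/

set_option autoImplicit false
set_option linter.style.haveILetI false
set_option linter.unusedSectionVars false

namespace Cfsg.Agent.BR

open Cfsg Cfsg.Agent.D1

universe u

variable {G : Type u} [Group G] [Finite G] {p : ℕ} [hp : Fact p.Prime] {P : Sylow p G}
  {ζ : G → ℂ} {θ : ↥(Subgroup.center G) →* ℂˣ} {l : ↥(P : Subgroup G) →* ℂˣ}

namespace br_pmt_Hyp

variable (h : br_pmt_Hyp p P ζ θ l)
include h

/-- central elements are `p`-regular -/
theorem center_reg (y : G) (hy : y ∈ Subgroup.center G) : ¬ p ∣ orderOf y := by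
  intro hdvd
  apply h.not_dvd_card_Z
  have h1 : orderOf (⟨y, hy⟩ : ↥(Subgroup.center G)) ∣ Nat.card ↥(Subgroup.center G) :=
    orderOf_dvd_natCard _
  rw [← Subgroup.orderOf_coe] at h1
  exact hdvd.trans h1

theorem mul_mem_C (x : ↥(P : Subgroup G)) (y : ↥(Subgroup.center G)) :
    (x : G) * (y : G) ∈ Subgroup.centralizer ((P : Subgroup G) : Set G) :=
  (h.mem_C_iff _).2 ⟨x, x.2, y, y.2, rfl⟩

/-- `P × Z → C_G(P)`, `(x, y) ↦ x y`, is bijective -/
theorem prod_bijective : Function.Bijective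
    (fun xy : ↥(P : Subgroup G) × ↥(Subgroup.center G) =>
      (⟨(xy.1 : G) * (xy.2 : G), h.mul_mem_C xy.1 xy.2⟩ :
        ↥(Subgroup.centralizer ((P : Subgroup G) : Set G)))) := by
  constructor
  · rintro ⟨x, y⟩ ⟨x', y'⟩ hxy
    have h1 : (x : G) * (y : G) = (x' : G) * (y' : G) := congrArg Subtype.val hxy
    have h2 : (x' : G)⁻¹ * (x : G) = (y' : G) * (y : G)⁻¹ := by
      rw [inv_mul_eq_iff_eq_mul, ← mul_assoc, ← h1, mul_inv_cancel_right]
    have h3 : (x' : G)⁻¹ * (x : G) ∈ (P : Subgroup G) ⊓ Subgroup.center G :=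
      ⟨(P : Subgroup G).mul_mem ((P : Subgroup G).inv_mem x'.2) x.2,
        h2 ▸ (Subgroup.center G).mul_mem y'.2 ((Subgroup.center G).inv_mem y.2)⟩
    rw [h.P_inf_Z, Subgroup.mem_bot, inv_mul_eq_one] at h3
    have h4 : (y : G) = (y' : G) := by
      rw [h3] at h1
      exact mul_left_cancel h1
    exact Prod.ext (Subtype.ext h3.symm) (Subtype.ext h4)
  · rintro ⟨c, hc⟩
    obtain ⟨x, hx, y, hy, hxy⟩ := (h.mem_C_iff c).1 hc
    exact ⟨(⟨x, hx⟩, ⟨y, hy⟩), Subtype.ext hxy⟩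

/-- the retraction of `D1C/SecA` is `x y ↦ x` -/
theorem tau_mul {τ : ↥(Subgroup.centralizer ((P : Subgroup G) : Set G)) →* ↥(P : Subgroup G)}
    (S : d1_sec_Setup p (P : Subgroup G) (Subgroup.centralizer ((P : Subgroup G) : Set G))
      (Subgroup.normalizer ((P : Subgroup G) : Set G)) τ)
    (x : ↥(P : Subgroup G)) (y : ↥(Subgroup.center G)) :
    τ ⟨(x : G) * (y : G), h.mul_mem_C x y⟩ = x := by
  have h1 : (⟨(x : G) * (y : G), h.mul_mem_C x y⟩ :
      ↥(Subgroup.centralizer ((P : Subgroup G) : Set G))) =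
      ⟨(x : G), h.P_le_C x.2⟩ * ⟨(y : G), h.Z_le_C y.2⟩ := rfl
  rw [h1, map_mul, S.tau_P _ x.2]
  have h2 : τ ⟨(y : G), h.Z_le_C y.2⟩ = 1 := by
    rw [← S.tau_reg]
    have : orderOf (⟨(y : G), h.Z_le_C y.2⟩ :
        ↥(Subgroup.centralizer ((P : Subgroup G) : Set G))) = orderOf (y : G) := by
      rw [← Subgroup.orderOf_coe]
    rw [this]
    exact h.center_reg y y.2
  rw [h2, mul_one]

end br_pmt_Hyp

/-- **the `p`-singular sum formula.** For a class function `F` vanishing on the `p`-regular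
elements: `|N| ∑_g F g = |G| ∑_{x ∈ P} ∑_{y ∈ Z} F (x y)` (the terms with `x = 1` vanish). -/
theorem br_pmt_sing_sum' [Fintype G] (p : ℕ) [Fact p.Prime] (P : Sylow p G) {ζ : G → ℂ}
    {θ : ↥(Subgroup.center G) →* ℂˣ} {l : ↥(P : Subgroup G) →* ℂˣ} (h : br_pmt_Hyp p P ζ θ l)
    [Fintype ↥(P : Subgroup G)] [Fintype ↥(Subgroup.center G)]
    (F : G → ℂ) (hF : ∀ g k : G, F (k * g * k⁻¹) = F g)
    (hreg : ∀ g : G, ¬ p ∣ orderOf g → F g = 0) :
    (Nat.card ↥(Subgroup.normalizer ((P : Subgroup G) : Set G)) : ℂ) * ∑ g : G, F g =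
      (Nat.card G : ℂ) * ∑ x : ↥(P : Subgroup G), ∑ y : ↥(Subgroup.center G),
        F ((x : G) * (y : G)) := by
  classical
  obtain ⟨τ, S⟩ := d1_sec_exists_setup P h.card_P
  haveI : Fintype ↥(Subgroup.centralizer ((P : Subgroup G) : Set G)) := Fintype.ofFinite _
  have hN0 : (Nat.card ↥(Subgroup.normalizer ((P : Subgroup G) : Set G)) : ℂ) ≠ 0 := by
    have : 0 < Nat.card ↥(Subgroup.normalizer ((P : Subgroup G) : Set G)) := Nat.card_pos
    exact_mod_cast this.ne'
  have h1 : ∑ g : G, F g = ∑ g : G, (if p ∣ orderOf g then F g else 0) := by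
    apply Finset.sum_congr rfl
    intro g _
    by_cases hg : p ∣ orderOf g
    · rw [if_pos hg]
    · rw [if_neg hg, hreg g hg]
  have h2 := d1_sing_sum P S F hF
  have h3 : ∑ c : ↥(Subgroup.centralizer ((P : Subgroup G) : Set G)),
      (if τ c = 1 then 0 else F (c : G)) =
      ∑ x : ↥(P : Subgroup G), ∑ y : ↥(Subgroup.center G), F ((x : G) * (y : G)) := by
    rw [← Fintype.sum_prod_type']
    symm
    apply Fintype.sum_bijective _ h.prod_bijective
    rintro ⟨x, y⟩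
    show F ((x : G) * (y : G)) = if τ ⟨(x : G) * (y : G), _⟩ = 1 then 0 else F ((x : G) * (y : G))
    rw [h.tau_mul S]
    by_cases hx : x = 1
    · rw [if_pos hx, hx, Subgroup.coe_one, one_mul]
      exact hreg _ (h.center_reg y y.2)
    · rw [if_neg hx]
  rw [h1]
  convert congrArg (fun z => (Nat.card ↥(Subgroup.normalizer ((P : Subgroup G) : Set G)) : ℂ) * z)
    h2 using 1
  rw [h3]
  field_simp

open Classical in
/-- `br_pmt_sing_sum'` with the (vanishing) terms `x = 1` left out -/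
theorem br_pmt_sing_sum [Fintype G] (p : ℕ) [Fact p.Prime] (P : Sylow p G) {ζ : G → ℂ}
    {θ : ↥(Subgroup.center G) →* ℂˣ} {l : ↥(P : Subgroup G) →* ℂˣ} (h : br_pmt_Hyp p P ζ θ l)
    [Fintype ↥(P : Subgroup G)] [Fintype ↥(Subgroup.center G)]
    (F : G → ℂ) (hF : ∀ g k : G, F (k * g * k⁻¹) = F g)
    (hreg : ∀ g : G, ¬ p ∣ orderOf g → F g = 0) :
    (Nat.card ↥(Subgroup.normalizer ((P : Subgroup G) : Set G)) : ℂ) * ∑ g : G, F g =
      (Nat.card G : ℂ) * ∑ x : ↥(P : Subgroup G), ∑ y : ↥(Subgroup.center G),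
        if x = 1 then 0 else F ((x : G) * (y : G)) := by
  rw [br_pmt_sing_sum' p P h F hF hreg]
  congr 1
  apply Finset.sum_congr rfl
  intro x _
  apply Finset.sum_congr rfl
  intro y _
  by_cases hx : x = 1
  · rw [if_pos hx, hx, Subgroup.coe_one, one_mul]
    exact hreg _ (h.center_reg y y.2)
  · rw [if_neg hx]

end Cfsg.Agent.BR
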