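import Mathlib
import Cfsg.Agent.BR.PmtSing
import Cfsg.Agent.Helper6.CharBasic

/-!
# S4705 (K3), first half: `2 |Syl_p(G)| = (p - 1)(p - 2)` (helper5)

Setting `br_pmt_Hyp p P ζ θ l` (`BR/PmtDefs.lean`).  With `d = p - 2`, `κ = (d² - 1)/4`,
`S = (ζ² + ζ(g²))/2`, `Λ = (ζ² - ζ(g²))/2` consider the class function
`F g = S g * conj (Λ g) + κ * ζ g * conj (ζ g) - [g ∈ Z] d² (d² - 1) / 2`.
The three value statements of K2 say exactly that `F` vanishes on the `p`-regular elements, so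
`br_pmt_sing_sum` evaluates `∑_g F g`; on the other hand `∑_g F g = κ |G| - |Z| d² (d² - 1)/2` by
`⟨ζ, ζ⟩ = 1` and `⟨S²ζ, Λ²ζ⟩ = 0`.  Comparing gives `2 |Syl_p(G)| = d (d + 1)`.

`br_pmt_cnt_core` takes the K1/K2 statements as hypotheses (skeleton statements verbatim).
-/

set_option autoImplicit false
set_option linter.style.haveILetI false
set_option linter.unusedSectionVars false

namespace Cfsg.Agent.BR

open Cfsg Cfsg.Agent.Helper6
open scoped ComplexConjugate

universe u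

variable {G : Type u} [Group G] [Finite G] {p : ℕ} [hp : Fact p.Prime] {P : Sylow p G}
  {ζ : G → ℂ} {θ : ↥(Subgroup.center G) →* ℂˣ} {l : ↥(P : Subgroup G) →* ℂˣ}

/-- the conjugate of a value of a homomorphism to `ℂˣ` is the inverse -/
theorem br_pmt_cnt_conj {Q : Type*} [Group Q] [Finite Q] (μ : Q →* ℂˣ) (x : Q) :
    conj ((μ x : ℂˣ) : ℂ) = ((μ x : ℂˣ) : ℂ)⁻¹ := by
  have h1 := br_pmt_norm_hom μ x
  have h2 : ((μ x : ℂˣ) : ℂ) * conj ((μ x : ℂˣ) : ℂ) = 1 := by
    rw [Complex.mul_conj, Complex.normSq_eq_norm_sq, h1]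
    simp
  exact eq_inv_of_mul_eq_one_right h2

/-- the sum of the values of a non-trivial homomorphism to `ℂˣ` over the non-identity elements -/
theorem br_pmt_cnt_sum_hom {Q : Type*} [Group Q] [Fintype Q] [DecidableEq Q] (μ : Q →* ℂˣ)
    (hμ : μ ≠ 1) : ∑ x : Q, (if x = 1 then (0 : ℂ) else ((μ x : ℂˣ) : ℂ)) = -1 := by
  have h1 : ∑ x : Q, ((μ x : ℂˣ) : ℂ) = 0 := by
    have h2 := sum_hom_units_eq_zero ((Units.coeHom ℂ).comp μ) (by
      intro h0
      apply hμ
      ext x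
      have := DFunLike.congr_fun h0 x
      simpa using this)
    simpa using h2
  have h3 : ∀ x : Q, (if x = 1 then (0 : ℂ) else ((μ x : ℂˣ) : ℂ)) =
      ((μ x : ℂˣ) : ℂ) - (if x = 1 then 1 else 0) := by
    intro x
    by_cases hx : x = 1
    · rw [if_pos hx, if_pos hx, hx, map_one, Units.val_one, sub_self]
    · rw [if_neg hx, if_neg hx, sub_zero]
  rw [Finset.sum_congr rfl (fun x _ => h3 x), Finset.sum_sub_distrib, h1, Finset.sum_ite_eq']
  simp

namespace br_pmt_Hyp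

variable (h : br_pmt_Hyp p P ζ θ l)
include h

theorem cnt_p_odd : ¬ p ∣ 2 := by
  intro hd
  have h7 := h.p_ge
  have := Nat.le_of_dvd (by norm_num) hd
  omega

/-- `x * x ≠ 1` for `1 ≠ x ∈ P` -/
theorem cnt_sq_ne_one (x : ↥(P : Subgroup G)) (hx : x ≠ 1) : x * x ≠ 1 := by
  intro h0
  have h1 : orderOf x ∣ 2 := orderOf_dvd_of_pow_eq_one (by rw [pow_two]; exact h0)
  have h2 : orderOf x ∣ p := by
    have h3 := orderOf_dvd_natCard x
    rwa [h.card_P] at h3
  rcases (Nat.dvd_prime hp.out).mp h2 with h3 | h3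
  · exact hx (orderOf_eq_one_iff.mp h3)
  · rw [h3] at h1
    exact h.cnt_p_odd h1

/-- `l * l ≠ 1` -/
theorem cnt_l_sq_ne : l * l ≠ 1 := by
  intro h0
  apply h.l_ne
  ext x
  by_cases hx : x = 1
  · rw [hx, map_one, map_one]
  -- `x` is a square
  haveI : Finite ↥(P : Subgroup G) :=
    Nat.finite_of_card_ne_zero (by rw [h.card_P]; exact hp.out.ne_zero)
  have h2 : orderOf x = p := by
    have h3 : orderOf x ∣ p := by
      have h4 := orderOf_dvd_natCard x
      rwa [h.card_P] at h4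
    rcases (Nat.dvd_prime hp.out).mp h3 with h4 | h4
    · exact absurd (orderOf_eq_one_iff.mp h4) hx
    · exact h4
  have hodd : Odd p := hp.out.odd_of_ne_two (by have := h.p_ge; omega)
  obtain ⟨k, hk⟩ := hodd
  have hxp : x ^ p = 1 := by
    have h8 := pow_orderOf_eq_one x
    rwa [h2] at h8
  have h5 : x = (x ^ (k + 1)) * (x ^ (k + 1)) := by
    rw [← pow_add]
    have h6 : k + 1 + (k + 1) = p + 1 := by omega
    rw [h6, pow_succ, hxp, one_mul]
  have h7 : (l * l) (x ^ (k + 1)) = 1 := by rw [h0, MonoidHom.one_apply]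
  rw [MonoidHom.mul_apply, ← map_mul, ← h5] at h7
  rw [h7, MonoidHom.one_apply]

/-- the value of `ζ` at `(x y)²` -/
theorem cnt_val_sq (x : ↥(P : Subgroup G)) (hx : x ≠ 1) (y : ↥(Subgroup.center G)) :
    ζ ((x : G) * (y : G) * ((x : G) * (y : G))) =
      -(((l x : ℂˣ) : ℂ) ^ 2 + (((l x : ℂˣ) : ℂ)⁻¹) ^ 2) * ((θ y : ℂˣ) : ℂ) ^ 2 := by
  have hcomm : (y : G) * (x : G) = (x : G) * (y : G) :=
    (Subgroup.mem_center_iff.mp y.2 (x : G)).symm
  have h1 : (x : G) * (y : G) * ((x : G) * (y : G)) =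
      ((x * x : ↥(P : Subgroup G)) : G) * ((y * y : ↥(Subgroup.center G)) : G) := by
    rw [Subgroup.coe_mul, Subgroup.coe_mul]
    calc (x : G) * (y : G) * ((x : G) * (y : G)) = (x : G) * ((y : G) * (x : G)) * (y : G) := by
          group
      _ = (x : G) * ((x : G) * (y : G)) * (y : G) := by rw [hcomm]
      _ = (x : G) * (x : G) * ((y : G) * (y : G)) := by group
  rw [h1, h.val_mul (x * x) (h.cnt_sq_ne_one x hx) (y * y)]
  simp only [map_mul, Units.val_mul, Units.val_inv_eq_inv_val, mul_inv]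
  ring

end br_pmt_Hyp

/-- **K3, first half, from the statements of K1 and K2** -/
theorem br_pmt_cnt_core [Fintype G] (p : ℕ) [hp : Fact p.Prime] (P : Sylow p G) {ζ : G → ℂ}
    {θ : ↥(Subgroup.center G) →* ℂˣ} {l : ↥(P : Subgroup G) →* ℂˣ} (h : br_pmt_Hyp p P ζ θ l)
    (hinner : classInner (fun g => (2 : ℂ)⁻¹ * (ζ g ^ 2 + ζ (g * g)))
        (fun g => (2 : ℂ)⁻¹ * (ζ g ^ 2 - ζ (g * g))) = 0)
    (hinv : ∀ g : G, ¬ p ∣ orderOf g → g ∉ Subgroup.center G →
      ∀ hg2 : g * g ∈ Subgroup.center G, ζ g ^ 2 = ((θ ⟨g * g, hg2⟩ : ℂˣ) : ℂ))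
    (hzero : ∀ g : G, ¬ p ∣ orderOf g → g * g ∉ Subgroup.center G → ζ g = 0)
    (hfour : ∀ g : G, ¬ p ∣ orderOf g → g * g * (g * g) ∈ Subgroup.center G →
      g * g ∈ Subgroup.center G) :
    2 * Nat.card (Sylow p G) = (p - 1) * (p - 2) := by
  classical
  haveI : Finite ↥(P : Subgroup G) :=
    Nat.finite_of_card_ne_zero (by rw [h.card_P]; exact hp.out.ne_zero)
  haveI : Fintype ↥(P : Subgroup G) := Fintype.ofFinite _
  haveI : Fintype ↥(Subgroup.center G) := Fintype.ofFinite _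
  have h7 := h.p_ge
  have hζc : IsCharacter G ζ := IsIrrCharacter.isCharacter h.irr
  have hcf := IsCharacter.isClassFunction hζc
  obtain ⟨d, hd⟩ : ∃ d : ℂ, d = (p : ℂ) - 2 := ⟨_, rfl⟩
  obtain ⟨κ, hκ⟩ : ∃ κ : ℂ, κ = (d ^ 2 - 1) / 4 := ⟨_, rfl⟩
  obtain ⟨D, hD⟩ : ∃ D : ℂ, D = d ^ 2 * (d ^ 2 - 1) / 2 := ⟨_, rfl⟩
  obtain ⟨Φ, hΦ⟩ : ∃ Φ : G → ℂ, Φ = fun g =>
    ((2 : ℂ)⁻¹ * (ζ g ^ 2 + ζ (g * g))) * conj ((2 : ℂ)⁻¹ * (ζ g ^ 2 - ζ (g * g))) +
      κ * (ζ g * conj (ζ g)) := ⟨_, rfl⟩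
  obtain ⟨F, hFdef⟩ : ∃ F : G → ℂ, F = fun g =>
    Φ g - (if g ∈ Subgroup.center G then D else 0) := ⟨_, rfl⟩
  have hc2 : conj (2 : ℂ)⁻¹ = (2 : ℂ)⁻¹ := by
    rw [map_inv₀, Complex.conj_ofNat]
  have hcd : conj d = d := by
    rw [hd, map_sub, Complex.conj_natCast, Complex.conj_ofNat]
  -- `F` is a class function
  have hF : ∀ g k : G, F (k * g * k⁻¹) = F g := by
    intro g k
    have h1 : k * g * k⁻¹ * (k * g * k⁻¹) = k * (g * g) * k⁻¹ := by group
    have h2 : k * g * k⁻¹ ∈ Subgroup.center G ↔ g ∈ Subgroup.center G := by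
      constructor
      · intro hm
        have hc := Subgroup.mem_center_iff.mp hm k⁻¹
        have h4 : g = k * g * k⁻¹ := by
          calc g = k⁻¹ * (k * g * k⁻¹) * k := by group
            _ = (k * g * k⁻¹) * k⁻¹ * k := by rw [hc]
            _ = k * g * k⁻¹ := by group
        rw [h4]
        exact hm
      · intro hm
        have hc := Subgroup.mem_center_iff.mp hm k
        have h4 : k * g * k⁻¹ = g := by
          rw [hc]
          group
        rw [h4]
        exact hm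
    rw [hFdef, hΦ]
    simp only
    rw [h1, hcf g k, hcf (g * g) k]
    by_cases hm : g ∈ Subgroup.center G
    · rw [if_pos hm, if_pos (h2.mpr hm)]
    · rw [if_neg hm, if_neg (fun hh => hm (h2.mp hh))]
  -- `F` vanishes on the `p`-regular elements
  have hreg : ∀ g : G, ¬ p ∣ orderOf g → F g = 0 := by
    intro g hg
    rw [hFdef, hΦ]
    simp only
    by_cases hgZ : g ∈ Subgroup.center G
    · -- central elements
      rw [if_pos hgZ]
      have e1 := h.zeta_center ⟨g, hgZ⟩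
      have e2 := h.zeta_center (⟨g, hgZ⟩ * ⟨g, hgZ⟩)
      rw [map_mul, Units.val_mul] at e2
      have e3 : ((⟨g, hgZ⟩ * ⟨g, hgZ⟩ : ↥(Subgroup.center G)) : G) = g * g := rfl
      rw [e3] at e2
      simp only at e1
      rw [e1, e2, map_mul, map_sub, map_pow, map_mul, map_mul, map_mul, br_pmt_cnt_conj,
        ← hd, hD, hκ]
      rw [hc2, hcd]
      have hτ : ((θ ⟨g, hgZ⟩ : ℂˣ) : ℂ) * ((θ ⟨g, hgZ⟩ : ℂˣ) : ℂ)⁻¹ = 1 :=
        mul_inv_cancel₀ (Units.ne_zero _)
      generalize ((θ ⟨g, hgZ⟩ : ℂˣ) : ℂ)⁻¹ = τi at hτ ⊢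
      generalize ((θ ⟨g, hgZ⟩ : ℂˣ) : ℂ) = τ at hτ ⊢
      have hτ2 : τ ^ 2 * τi ^ 2 = 1 := by
        have : τ ^ 2 * τi ^ 2 = (τ * τi) ^ 2 := by ring
        rw [this, hτ, one_pow]
      linear_combination (d ^ 2 * (d ^ 2 - 1) / 4 + (d ^ 2 - 1) / 4 * d ^ 2 * 0) * hτ2 +
        ((d ^ 2 - 1) / 4 * d ^ 2) * hτ
    · rw [if_neg hgZ, sub_zero]
      by_cases hg2 : g * g ∈ Subgroup.center G
      · -- `g ∉ Z`, `g² ∈ Z`
        have e1 := hinv g hg hgZ hg2
        have e2 := h.zeta_center ⟨g * g, hg2⟩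
        simp only at e2
        rw [e1, e2, map_mul, map_sub, map_mul, br_pmt_cnt_conj, ← hd, hκ]
        rw [hc2, hcd]
        -- `ζ g * conj (ζ g) = 1`
        have hn : ζ g * conj (ζ g) = 1 := by
          have h1 : (ζ g * conj (ζ g)) ^ 2 = 1 := by
            rw [mul_pow, ← map_pow, e1, br_pmt_cnt_conj]
            exact mul_inv_cancel₀ (Units.ne_zero _)
          rw [Complex.mul_conj] at h1 ⊢
          have h2 : (Complex.normSq (ζ g)) ^ 2 = 1 := by exact_mod_cast h1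
          have h3 : 0 ≤ Complex.normSq (ζ g) := Complex.normSq_nonneg _
          have h4 : Complex.normSq (ζ g) = 1 := by nlinarith
          rw [h4]
          norm_num
        rw [hn]
        have hτ : ((θ ⟨g * g, hg2⟩ : ℂˣ) : ℂ) * ((θ ⟨g * g, hg2⟩ : ℂˣ) : ℂ)⁻¹ = 1 :=
          mul_inv_cancel₀ (Units.ne_zero _)
        generalize ((θ ⟨g * g, hg2⟩ : ℂˣ) : ℂ)⁻¹ = τi at hτ ⊢
        generalize ((θ ⟨g * g, hg2⟩ : ℂˣ) : ℂ) = τ at hτ ⊢
        linear_combination ((1 + d) * (1 - d) / 4) * hτ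
      · -- `g² ∉ Z`
        have e1 := hzero g hg hg2
        have hg4 : g * g * (g * g) ∉ Subgroup.center G := fun hh => hg2 (hfour g hg hh)
        have hgg : ¬ p ∣ orderOf (g * g) := by
          intro hdvd
          apply hg
          have : g * g = g ^ 2 := (pow_two g).symm
          rw [this] at hdvd
          exact dvd_trans hdvd (orderOf_pow_dvd 2)
        have e2 := hzero (g * g) hgg hg4
        rw [e1, e2]
        simp
  -- the sum over `G`
  have hcardC : (Nat.card G : ℂ) ≠ 0 := by exact_mod_cast Nat.card_pos.ne'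
  have hsum1 : ∑ g : G, ((2 : ℂ)⁻¹ * (ζ g ^ 2 + ζ (g * g))) *
      conj ((2 : ℂ)⁻¹ * (ζ g ^ 2 - ζ (g * g))) = 0 := by
    unfold Cfsg.classInner at hinner
    rcases mul_eq_zero.mp hinner with h4 | h4
    · exact absurd (inv_eq_zero.mp h4) hcardC
    · exact h4
  have hsum2 : ∑ g : G, ζ g * conj (ζ g) = (Nat.card G : ℂ) := by
    have h2 := classInner_irr_self h.irr
    unfold Cfsg.classInner at h2
    rwa [inv_mul_eq_iff_eq_mul₀ hcardC, mul_one] at h2
  have hsum3 : ∑ g : G, (if g ∈ Subgroup.center G then D else 0) =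
      (Nat.card ↥(Subgroup.center G) : ℂ) * D := by
    rw [← Finset.sum_filter, Finset.sum_const, nsmul_eq_mul]
    congr 2
    rw [Nat.card_eq_fintype_card, Fintype.card_subtype]
  have hL : ∑ g : G, F g = κ * (Nat.card G : ℂ) - (Nat.card ↥(Subgroup.center G) : ℂ) * D := by
    rw [hFdef, hΦ]
    simp only
    rw [Finset.sum_sub_distrib, Finset.sum_add_distrib, hsum1, ← Finset.mul_sum, hsum2, hsum3,
      zero_add]
  -- the sum over `P × Z`
  have hR : ∑ x : ↥(P : Subgroup G), ∑ y : ↥(Subgroup.center G),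
      (if x = 1 then 0 else F ((x : G) * (y : G))) =
      (Nat.card ↥(Subgroup.center G) : ℂ) * ((1 + κ) * (-2) + ((p : ℂ) - 1) * (1 + 2 * κ)) := by
    have hterm : ∀ (x : ↥(P : Subgroup G)) (y : ↥(Subgroup.center G)),
        (if x = 1 then (0 : ℂ) else F ((x : G) * (y : G))) =
        (1 + κ) * ((if x = 1 then (0 : ℂ) else (((l * l) x : ℂˣ) : ℂ)) +
          (if x = 1 then (0 : ℂ) else (((l * l)⁻¹ x : ℂˣ) : ℂ))) +
        (1 + 2 * κ) * (if x = 1 then (0 : ℂ) else 1) := by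
      intro x y
      by_cases hx : x = 1
      · simp [hx]
      rw [if_neg hx, if_neg hx, if_neg hx, if_neg hx, mul_one]
      have hxyZ : (x : G) * (y : G) ∉ Subgroup.center G := by
        intro hm
        have h1 : (x : G) ∈ Subgroup.center G := by
          have h2 : (x : G) = (x : G) * (y : G) * (y : G)⁻¹ := by group
          rw [h2]
          exact mul_mem hm (inv_mem y.2)
        have h3 : (x : G) ∈ (P : Subgroup G) ⊓ Subgroup.center G := ⟨x.2, h1⟩
        rw [h.P_inf_Z, Subgroup.mem_bot] at h3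
        exact hx (Subtype.ext h3)
      rw [hFdef, hΦ]
      simp only
      rw [if_neg hxyZ, sub_zero, h.cnt_val_sq x hx y, h.val_mul x hx y]
      simp only [map_mul, map_sub, map_add, map_neg, map_pow, map_inv₀, br_pmt_cnt_conj, hc2,
        Units.val_inv_eq_inv_val, MonoidHom.inv_apply, MonoidHom.mul_apply, Units.val_mul,
        mul_inv, inv_inv]
      have ha0 : ((l x : ℂˣ) : ℂ) ≠ 0 := Units.ne_zero _
      have hτ0 : ((θ y : ℂˣ) : ℂ) ≠ 0 := Units.ne_zero _
      generalize ((l x : ℂˣ) : ℂ) = a at ha0 ⊢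
      generalize ((θ y : ℂˣ) : ℂ) = τ at hτ0 ⊢
      field_simp
      ring
    have hlinv : (l * l)⁻¹ ≠ 1 := by
      intro h0
      apply h.cnt_l_sq_ne
      ext x
      have h1 := DFunLike.congr_fun h0 x
      rw [MonoidHom.inv_apply, MonoidHom.one_apply, inv_eq_one] at h1
      rw [h1, MonoidHom.one_apply]
    simp_rw [hterm]
    rw [Finset.sum_congr rfl (fun x _ => Finset.sum_const _)]
    simp only [Finset.card_univ, nsmul_eq_mul]
    rw [← Finset.mul_sum, Finset.sum_add_distrib, ← Finset.mul_sum, ← Finset.mul_sum,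
      Finset.sum_add_distrib, br_pmt_cnt_sum_hom (l * l) h.cnt_l_sq_ne,
      br_pmt_cnt_sum_hom (l * l)⁻¹ hlinv]
    have hone : ∑ x : ↥(P : Subgroup G), (if x = 1 then (0 : ℂ) else 1) = (p : ℂ) - 1 := by
      have h1 : ∀ x : ↥(P : Subgroup G), (if x = 1 then (0 : ℂ) else 1) =
          1 - (if x = 1 then 1 else 0) := by
        intro x
        by_cases hx : x = 1
        · rw [if_pos hx, if_pos hx, sub_self]
        · rw [if_neg hx, if_neg hx, sub_zero]
      rw [Finset.sum_congr rfl (fun x _ => h1 x), Finset.sum_sub_distrib, Finset.sum_ite_eq',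
        Finset.sum_const, Finset.card_univ, ← Nat.card_eq_fintype_card, h.card_P]
      simp
    rw [hone, Nat.card_eq_fintype_card]
    ring
  -- comparison
  have hmain := br_pmt_sing_sum p P h F hF hreg
  rw [hL, hR, h.card_N] at hmain
  have hGc := h.card_sylow_mul
  obtain ⟨Q, hQ⟩ : ∃ Q : ℕ, Q = Nat.card (Sylow p G) := ⟨_, rfl⟩
  obtain ⟨z, hz⟩ : ∃ z : ℕ, z = Nat.card ↥(Subgroup.center G) := ⟨_, rfl⟩
  rw [← hQ, ← hz] at hGc
  rw [← hz, ← hGc] at hmain
  rw [← hQ]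
  have hz0 : (z : ℂ) ≠ 0 := by
    rw [hz]
    exact_mod_cast Nat.card_pos.ne'
  have hp0 : (p : ℂ) ≠ 0 := by exact_mod_cast hp.out.ne_zero
  have hd0 : d ≠ 0 := by
    rw [hd]
    intro h0
    have h1 : (p : ℂ) = ((2 : ℕ) : ℂ) := by
      push_cast
      linear_combination h0
    have h2 : p = 2 := by exact_mod_cast h1
    omega
  have hd1 : d - 1 ≠ 0 := by
    rw [hd]
    intro h0
    have h1 : (p : ℂ) = ((3 : ℕ) : ℂ) := by
      push_cast
      linear_combination h0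
    have h2 : p = 3 := by exact_mod_cast h1
    omega
  have hpd : (p : ℂ) = d + 2 := by rw [hd]; ring
  push_cast at hmain
  rw [hκ, hD, hpd] at hmain
  have key : (d + 2) * (z : ℂ) ^ 2 * d * (d - 1) * (2 * (Q : ℂ) - d * (d + 1)) = 0 := by
    linear_combination hmain
  have hfin : 2 * (Q : ℂ) - d * (d + 1) = 0 := by
    rcases mul_eq_zero.mp key with h1 | h1
    · exfalso
      rcases mul_eq_zero.mp h1 with h2 | h2
      · rcases mul_eq_zero.mp h2 with h3 | h3
        · rcases mul_eq_zero.mp h3 with h4 | h4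
          · rw [← hpd] at h4
            exact hp0 h4
          · exact hz0 (pow_eq_zero_iff (by norm_num) |>.mp h4)
        · exact hd0 h3
      · exact hd1 h2
    · exact h1
  rw [hd] at hfin
  have hfinN : ((2 * Q : ℕ) : ℂ) = (((p - 1) * (p - 2) : ℕ) : ℂ) := by
    rw [Nat.cast_mul, Nat.cast_mul, Nat.cast_sub (by omega), Nat.cast_sub (by omega)]
    push_cast
    linear_combination hfin
  exact_mod_cast hfinN

end Cfsg.Agent.BR
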