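import Mathlib
import Cfsg.Prelude.Def_Characters
import Cfsg.Prelude.Def_Blocks
import Cfsg.Agent.BR.PmtDefs
import Cfsg.Agent.Helper6.Extraspecial
import Cfsg.Agent.Helper6.AbelianInertia
import Cfsg.Agent.Helper6.BlockPart

/-!
# S4705, file (D): the determinant character (lead)

* `br_pmt_det_center` : `ζ` faithful irreducible, `y ∈ Z(G) ∩ G'` ⇒ `y ^ ζ(1) = 1`
  (Schur: `ρ(y) = c`, `det ρ(y) = c ^ ζ(1) = 1` since `det ∘ ρ` kills `G'`).
* `br_pmt_twist` : in the setting `br_pmt_Hyp p P ζ θ l`, the twist `ζ' = ζ · (det ρ) ^ (p e)` has a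
  central character `θ' = θ ^ (1 + (p - 2) p e)` of odd order for a suitable `e`, and all fields of
  the structure survive (the factor `p` in the exponent makes the twist trivial on `P`).
Headers: `notes/S4705_skeleton_helper4.lean.txt`, verbatim.
-/

set_option autoImplicit false
set_option linter.style.haveILetI false
set_option linter.unusedSectionVars false

namespace Cfsg.Agent.BR

open Cfsg Cfsg.Agent.Helper6

universe u

variable {G : Type u} [Group G] [Finite G]

/-- The determinant character of a representation on `Fin n → ℂ`. -/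
noncomputable def br_pmt_det_hom {n : ℕ} (ρ : Representation ℂ G (Fin n → ℂ)) : G →* ℂˣ :=
  (LinearMap.det.comp ρ).toHomUnits

omit [Finite G] in
theorem br_pmt_det_hom_apply {n : ℕ} (ρ : Representation ℂ G (Fin n → ℂ)) (g : G) :
    ((br_pmt_det_hom ρ g : ℂˣ) : ℂ) = LinearMap.det (ρ g) := rfl

omit [Finite G] in
/-- The determinant character is trivial on the commutator subgroup. -/
theorem br_pmt_det_comm {n : ℕ} (ρ : Representation ℂ G (Fin n → ℂ)) (y : G)
    (hy : y ∈ commutator G) : br_pmt_det_hom ρ y = 1 :=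
  MonoidHom.mem_ker.mp (Abelianization.commutator_subset_ker (br_pmt_det_hom ρ) hy)

omit [Finite G] in
/-- If `ρ y` is the scalar `c`, the determinant is `c ^ n` and the character value `n c`. -/
theorem br_pmt_det_scalar {n : ℕ} (ρ : Representation ℂ G (Fin n → ℂ)) (y : G) (c : ℂ)
    (hc : ρ y = c • (LinearMap.id : (Fin n → ℂ) →ₗ[ℂ] (Fin n → ℂ))) :
    ((br_pmt_det_hom ρ y : ℂˣ) : ℂ) = c ^ n ∧ ρ.character y = (n : ℂ) * c := by
  constructor
  · rw [br_pmt_det_hom_apply, hc, LinearMap.det_smul, LinearMap.det_id, mul_one,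
      Module.finrank_fin_fun]
  · unfold Representation.character
    rw [hc, map_smul, LinearMap.trace_id, Module.finrank_fin_fun, smul_eq_mul, mul_comm]

/-- **(D1)** a central element of `G'` has order dividing the degree of a faithful irreducible
character. -/
theorem br_pmt_det_center {ζ : G → ℂ} (hζ : IsIrrCharacter G ζ)
    (hfaith : ∀ g : G, ζ g = ζ 1 → g = 1) (y : G) (hy : y ∈ Subgroup.center G)
    (hy' : y ∈ commutator G) : y ^ charDegree ζ = 1 := by
  have hdegC := charDegree_cast_of_isCharacter (IsIrrCharacter.isCharacter hζ)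
  obtain ⟨n, ρ, hirr, hρ⟩ := hζ
  haveI := hirr
  have hn : charDegree ζ = n := by
    have h1 : ζ 1 = (n : ℂ) := by
      rw [← hρ, Representation.char_one, Module.finrank_fin_fun]
    rw [h1] at hdegC
    exact_mod_cast hdegC
  obtain ⟨c, hc⟩ := exists_scalar_of_mem_center ρ y hy
  have hdet := (br_pmt_det_scalar ρ y c hc).1
  rw [br_pmt_det_comm ρ y hy', Units.val_one] at hdet
  apply hfaith
  rw [hn, ← hρ]
  unfold Representation.character
  rw [map_pow, hc, smul_pow, ← hdet, one_smul, map_one,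
    show (LinearMap.id : (Fin n → ℂ) →ₗ[ℂ] (Fin n → ℂ)) = 1 from rfl, one_pow]

/-- for odd `a` there is `e` with `2 ^ k ∣ 1 + a e`. -/
theorem br_pmt_det_exists_exp (a k : ℕ) (ha : Odd a) : ∃ e : ℕ, 2 ^ k ∣ 1 + a * e := by
  have hcop : Nat.Coprime a (2 ^ k) := Nat.Coprime.pow_right k (Nat.coprime_two_right.mpr ha)
  refine ⟨(-(a : ZMod (2 ^ k))⁻¹).val, ?_⟩
  rw [← ZMod.natCast_eq_zero_iff]
  push_cast
  rw [ZMod.natCast_zmod_val, mul_neg, ZMod.coe_mul_inv_eq_one a hcop]
  ring

/-- **(D2)** twisting by a power of the determinant makes the central character odd. -/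
theorem br_pmt_twist (p : ℕ) [Fact p.Prime] (P : Sylow p G) {ζ : G → ℂ}
    {θ : ↥(Subgroup.center G) →* ℂˣ} {l : ↥(P : Subgroup G) →* ℂˣ} (h : br_pmt_Hyp p P ζ θ l) :
    ∃ (ζ' : G → ℂ) (θ' : ↥(Subgroup.center G) →* ℂˣ), br_pmt_Hyp p P ζ' θ' l ∧ br_pmt_Odd θ' := by
  classical
  haveI : Fintype G := Fintype.ofFinite G
  have hp7 := h.p_ge
  obtain ⟨n, ρ, hirr, hρ⟩ := h.irr
  haveI := hirr
  -- the degree
  have hn : n + 2 = p := by
    have h1 : ζ 1 = (n : ℂ) := by
      rw [← hρ, Representation.char_one, Module.finrank_fin_fun]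
    have h2 := h.deg
    rw [h1] at h2
    have h3 : ((n + 2 : ℕ) : ℂ) = (p : ℂ) := by push_cast; rw [h2]; ring
    exact_mod_cast h3
  have hn0 : (n : ℂ) ≠ 0 := by
    have : n ≠ 0 := by omega
    exact_mod_cast this
  -- the determinant on the centre
  have hdetZ : ∀ y : ↥(Subgroup.center G), br_pmt_det_hom ρ (y : G) = θ y ^ n := by
    intro y
    obtain ⟨c, hc⟩ := exists_scalar_of_mem_center ρ (y : G) y.2
    obtain ⟨h1, h2⟩ := br_pmt_det_scalar ρ (y : G) c hc
    have h3 := h.zeta_center y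
    rw [← hρ, h2] at h3
    have h4 : c = ((θ y : ℂˣ) : ℂ) := by
      have h5 : ((p : ℂ) - 2) = (n : ℂ) := by rw [← hn]; push_cast; ring
      rw [h5] at h3
      exact mul_left_cancel₀ hn0 h3
    apply Units.ext
    rw [h1, h4, Units.val_pow_eq_pow_val]
  -- the exponent
  have hZ0 : Nat.card ↥(Subgroup.center G) ≠ 0 := Nat.card_pos.ne'
  obtain ⟨k, m, hm, hkm⟩ := Nat.exists_eq_two_pow_mul_odd hZ0
  have hpodd : Odd p := (Fact.out : p.Prime).odd_of_ne_two (by omega)
  have hnodd : Odd n := by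
    rcases Nat.even_or_odd n with he | ho
    · exfalso
      have : Even p := by rw [← hn]; exact he.add even_two
      exact (Nat.not_even_iff_odd.mpr hpodd) this
    · exact ho
  obtain ⟨e, he⟩ := br_pmt_det_exists_exp (n * p) k (hnodd.mul hpodd)
  -- the twisting character
  set lam : G →* ℂˣ := br_pmt_det_hom ρ ^ (p * e) with hlam
  have hlamP : ∀ x : ↥(P : Subgroup G), lam (x : G) = 1 := by
    intro x
    have hxp : (x : G) ^ p = 1 := by
      have := pow_card_eq_one' (G := ↥(P : Subgroup G)) (x := x)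
      rw [h.card_P] at this
      exact_mod_cast congrArg Subtype.val this
    rw [hlam, MonoidHom.pow_apply, pow_mul, ← map_pow, hxp, map_one, one_pow]
  have hlamnorm : ∀ g : G, ‖((lam g : ℂˣ) : ℂ)‖ = 1 := fun g => br_pmt_norm_hom lam g
  refine ⟨ζ * fun g => ((lam g : ℂˣ) : ℂ), θ * lam.comp (Subgroup.center G).subtype, ?_, ?_⟩
  · refine ⟨h.p_ge, h.card_P, h.cent, h.index, IsIrrCharacter.mul_hom lam h.irr, ?_, ?_, h.l_ne,
      ?_, ?_⟩
    · rw [Pi.mul_apply, map_one, Units.val_one, mul_one, h.deg]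
    · intro g y
      rw [Pi.mul_apply, Pi.mul_apply, h.central g y, map_mul, MonoidHom.mul_apply, Units.val_mul,
        Units.val_mul]
      rw [MonoidHom.comp_apply]
      simp only [Subgroup.coe_subtype]
      ring
    · intro x hx
      rw [Pi.mul_apply, hlamP x, Units.val_one, mul_one, h.val x hx]
    · intro g hg
      rw [Pi.mul_apply, norm_mul, hlamnorm, mul_one] at hg
      exact h.qf g hg
  · refine ⟨m, hm, ?_⟩
    apply MonoidHom.ext
    intro y
    rw [MonoidHom.pow_apply, MonoidHom.mul_apply, MonoidHom.comp_apply, MonoidHom.one_apply]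
    simp only [Subgroup.coe_subtype]
    rw [hlam, MonoidHom.pow_apply, hdetZ y, ← pow_mul, ← pow_succ', ← pow_mul]
    obtain ⟨t, ht⟩ := he
    have hexp : (n * (p * e) + 1) * m = Nat.card ↥(Subgroup.center G) * t := by
      rw [hkm]
      have : n * (p * e) + 1 = 1 + n * p * e := by ring
      rw [this, ht]
      ring
    rw [hexp, pow_mul, ← map_pow, pow_card_eq_one', map_one, one_pow]

end Cfsg.Agent.BR
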