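import Mathlib
import Cfsg.Agent.BR.PmtDefs
import Cfsg.Agent.D1M.BrbBdry

/-!
# S4705, Part A (1): the type of a character of degree `p - 2` in a block of defect one

`br_pmtl_dichotomy` : the degree-`(p - 2)` sibling of `d1_brb_resp_dichotomy`: a character `ψ` of degree
`p - 2` (`p ≥ 7`) of a block with defect group `P` of order `p` is constant on `P`, or exceptional with
`δ = 1`, `f = 1` (`ψ(1) = θ(1)`), or exceptional with `δ = -1`, `f = |N : C| = 2` and `θ(1) = 1`.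
-/

set_option autoImplicit false
set_option linter.unusedSectionVars false
set_option linter.style.haveILetI false

namespace Cfsg.Agent.BR

open Cfsg Cfsg.Agent.Helper6 Cfsg.Agent.D1

open scoped ComplexConjugate

universe u

section general

variable {G : Type u} [Group G] {p : ℕ} [hp : Fact p.Prime] {P C N : Subgroup G}
  {τ : ↥C →* ↥P} {M : Ideal Cfsg.AlgInt}

open Classical in
/-- **the trichotomy for a character of degree `p - 2`** of a block of defect one with structure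
`X ⊔ Y` (hypotheses = context + outputs of `d1_conc_split`). -/
theorem br_pmtl_dichotomy [Finite G] [Fintype C] [Fintype P]
    (hM : Cfsg.IsPModular p M)
    (S : d1_sec_Setup p P C N τ) (B : Set (Cfsg.IrrCharacter G))
    (hBP : Cfsg.IsDefectGroup p M B P)
    (b : Set (Cfsg.IrrCharacter C)) (hind : Cfsg.IsInducedBlock M C b B)
    (θ : Cfsg.IrrCharacter C) (hθb : θ ∈ b) (hθ : d1_sec_KerP P (θ : C → ℂ))
    (T : Subgroup G) (hT : d1_sec_IsStab S θ T)
    (X Y : Set (Cfsg.IrrCharacter G)) (w : Cfsg.IrrCharacter G → ℤ) (δ : ℤ)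
    (jj : Cfsg.IrrCharacter G → d1_sec_J S θ)
    (hXY : B = X ∪ Y) (hw : ∀ χ, w χ = 1 ∨ w χ = -1) (hδ : δ = 1 ∨ δ = -1)
    (hvX : ∀ χ ∈ X, ∀ j, d1_sec_vJ S θ χ j = w χ)
    (hvY : ∀ ψ ∈ Y, ∀ j, d1_sec_vJ S θ ψ j = if j = jj ψ then δ else 0)
    (ψ : Cfsg.IrrCharacter G) (hψ : ψ ∈ B) (hp7 : 7 ≤ p)
    (hdegψ : Cfsg.charDegree (ψ : G → ℂ) = p - 2) :
    (∀ u : P, (ψ : G → ℂ) u = (ψ : G → ℂ) 1) ∨
      (ψ ∈ Y ∧ δ = 1 ∧ C.relIndex N = 1 ∧
        Cfsg.charDegree (ψ : G → ℂ) = C.relIndex N * Cfsg.charDegree (θ : C → ℂ)) ∨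
      (ψ ∈ Y ∧ δ = -1 ∧ C.relIndex N = 2 ∧ Cfsg.charDegree (θ : C → ℂ) = 1) := by
  haveI : Fintype N := Fintype.ofFinite _
  haveI : Finite (↥P →* ℂˣ) := d1_sec_finite_hom S
  haveI : Fintype (↥P →* ℂˣ) := Fintype.ofFinite _
  haveI : Finite (d1_sec_J S θ) := d1_sec_finite_J S θ
  letI : Fintype (d1_sec_J S θ) := Fintype.ofFinite _
  have hψc := IsIrrCharacter.isCharacter ψ.2
  obtain ⟨a, hale, hsumP, hdeg⟩ := d1_brb_resp_one hM S B hBP b hind θ hθb hθ T hT ψ hψ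
  have hcardJ := d1_sec_card_J hT
  rw [Nat.card_eq_fintype_card] at hcardJ
  have hfdvd := S.relIndex_dvd
  have hef : C.relIndex T * T.relIndex N = C.relIndex N :=
    Subgroup.relIndex_mul_relIndex C T N hT.C_le hT.le_N
  have hθ1pos : 0 < Cfsg.charDegree (θ : C → ℂ) := d1_fin_charDegree_pos θ
  have hconst : a = Cfsg.charDegree (ψ : G → ℂ) → ∀ u : P, (ψ : G → ℂ) u = (ψ : G → ℂ) 1 := by
    intro had u
    apply d1_brb_resp_const_of_sum hψc _ u
    rw [hsumP, had, charDegree_cast_of_isCharacter hψc]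
  -- the naturals involved
  obtain ⟨d, hd⟩ : ∃ d : ℕ, d = Cfsg.charDegree (ψ : G → ℂ) := ⟨_, rfl⟩
  obtain ⟨θ1, hθ1⟩ : ∃ d : ℕ, d = Cfsg.charDegree (θ : C → ℂ) := ⟨_, rfl⟩
  obtain ⟨f, hf⟩ : ∃ f : ℕ, f = C.relIndex N := ⟨_, rfl⟩
  obtain ⟨e, he⟩ : ∃ e : ℕ, e = C.relIndex T := ⟨_, rfl⟩
  obtain ⟨h, hh⟩ : ∃ h : ℕ, h = T.relIndex N := ⟨_, rfl⟩
  obtain ⟨t, ht⟩ : ∃ t : ℕ, t = Fintype.card (d1_sec_J S θ) := ⟨_, rfl⟩
  rw [← hd] at hale hconst hdeg hdegψ ⊢
  rw [← hθ1] at hθ1pos hdeg ⊢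
  rw [← hf] at hfdvd hef hdeg ⊢
  rw [← he] at hef hcardJ
  rw [← hh] at hef
  rw [← ht] at hcardJ
  have hfpos : 0 < f := by
    rcases Nat.eq_zero_or_pos f with h0 | h0
    · rw [h0, zero_dvd_iff] at hfdvd
      omega
    · exact h0
  have hepos : 0 < e := by
    rcases Nat.eq_zero_or_pos e with h0 | h0
    · rw [h0, zero_mul] at hef
      omega
    · exact h0
  have hhpos : 0 < h := by
    rcases Nat.eq_zero_or_pos h with h0 | h0
    · rw [h0, mul_zero] at hef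
      omega
    · exact h0
  -- integer versions
  have hPZ : (t : ℤ) * (e : ℤ) = (p : ℤ) - 1 := by
    have : t * e + 1 = p := by omega
    have h2 : ((t * e + 1 : ℕ) : ℤ) = (p : ℤ) := by rw [this]
    push_cast at h2
    linarith
  have hefZ : (e : ℤ) * (h : ℤ) = (f : ℤ) := by exact_mod_cast hef
  have haleZ : (a : ℤ) ≤ (d : ℤ) := by exact_mod_cast hale
  have ha0 : (0 : ℤ) ≤ (a : ℤ) := Int.natCast_nonneg _
  have hdZ : (d : ℤ) = (p : ℤ) - 2 := by
    have : d + 2 = p := by omega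
    have h2 : ((d + 2 : ℕ) : ℤ) = (p : ℤ) := by rw [this]
    push_cast at h2
    linarith
  have hθ1Z : (1 : ℤ) ≤ (θ1 : ℤ) := by exact_mod_cast hθ1pos
  have hhZ : (1 : ℤ) ≤ (h : ℤ) := by exact_mod_cast hhpos
  have hfZ : (1 : ℤ) ≤ (f : ℤ) := by exact_mod_cast hfpos
  have hp7Z : (7 : ℤ) ≤ (p : ℤ) := by exact_mod_cast hp7
  have hψ' := hψ
  rw [hXY] at hψ
  rcases hψ with hψX | hψY
  · -- `ψ ∈ X`
    have hs : ∑ j : d1_sec_J S θ, d1_sec_vJ S θ ψ j = (t : ℤ) * w ψ := by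
      rw [Finset.sum_congr rfl (fun j _ => hvX ψ hψX j), Finset.sum_const, Finset.card_univ,
        nsmul_eq_mul, ht]
    rw [hs] at hdeg
    have hK : (1 : ℤ) ≤ (θ1 : ℤ) * (h : ℤ) := by nlinarith
    have hft : (f : ℤ) * (θ1 : ℤ) * (t : ℤ) = (θ1 : ℤ) * (h : ℤ) * ((p : ℤ) - 1) := by
      rw [← hPZ, ← hefZ]
      ring
    rcases hw ψ with hw1 | hw1
    · exfalso
      rw [hw1, mul_one] at hdeg
      have h1 : (d : ℤ) = (p : ℤ) * (a : ℤ) + (θ1 : ℤ) * (h : ℤ) * ((p : ℤ) - 1) := by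
        rw [hdeg]
        linear_combination hft
      have h2 : (0 : ℤ) ≤ (p : ℤ) * (a : ℤ) := mul_nonneg (by linarith) ha0
      nlinarith
    · left
      apply hconst
      rw [hw1] at hdeg
      have h1 : (d : ℤ) = (p : ℤ) * (a : ℤ) - (θ1 : ℤ) * (h : ℤ) * ((p : ℤ) - 1) := by
        rw [hdeg]
        linear_combination -hft
      have hKd : (θ1 : ℤ) * (h : ℤ) ≤ (d : ℤ) := by
        have h3 : (p : ℤ) * (a : ℤ) ≤ (p : ℤ) * (d : ℤ) :=
          mul_le_mul_of_nonneg_left haleZ (by linarith)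
        have h4 : (θ1 : ℤ) * (h : ℤ) * ((p : ℤ) - 1) ≤ (d : ℤ) * ((p : ℤ) - 1) := by linarith
        exact le_of_mul_le_mul_right h4 (by linarith)
      have h5 := d1_brb_resp_arith (p : ℤ) (a : ℤ) (d : ℤ) ((θ1 : ℤ) * (h : ℤ))
        (by linarith) (by linarith) hKd (by linarith)
      exact_mod_cast h5
  · -- `ψ ∈ Y`
    have hs : ∑ j : d1_sec_J S θ, d1_sec_vJ S θ ψ j = δ := by
      rw [Finset.sum_congr rfl (fun j _ => hvY ψ hψY j),
        Finset.sum_ite_eq' Finset.univ (jj ψ) (fun _ => δ), if_pos (Finset.mem_univ _)]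
    rw [hs] at hdeg
    obtain ⟨c, hc⟩ := hfdvd
    have hcZ : (p : ℤ) - 1 = (f : ℤ) * (c : ℤ) := by
      have : f * c + 1 = p := by omega
      have h2 : ((f * c + 1 : ℕ) : ℤ) = (p : ℤ) := by rw [this]
      push_cast at h2
      linarith
    rcases hδ with hδ1 | hδ1
    · right
      left
      rw [hδ1, mul_one] at hdeg
      have ha1 : (a : ℤ) = 0 := by
        by_contra hne
        have h1 : (1 : ℤ) ≤ (a : ℤ) := by omega
        have h2 : (p : ℤ) ≤ (p : ℤ) * (a : ℤ) := by nlinarith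
        have h3 : (0 : ℤ) ≤ (f : ℤ) * (θ1 : ℤ) := by nlinarith
        linarith
      rw [ha1, mul_zero, zero_add] at hdeg
      have hdegN : d = f * θ1 := by exact_mod_cast hdeg
      -- `f ∣ p - 1` and `f ∣ p - 2`
      have hf1 : f = 1 := by
        have h1 : (f : ℤ) ∣ 1 := by
          have h2 : (1 : ℤ) = (f : ℤ) * ((c : ℤ) - (θ1 : ℤ)) := by
            rw [mul_sub, ← hcZ, ← hdeg, hdZ]
            ring
          exact Dvd.intro _ h2.symm
        have h3 := Int.le_of_dvd one_pos h1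
        omega
      exact ⟨hψY, hδ1, hf1, hdegN⟩
    · have hfib := d1_brb_resp_fibre hM S B hBP b hind θ hθb hθ T hT ψ hψ' (jj ψ)
        (fun j => by rw [hvY ψ hψY j, hδ1])
      rw [← hd, ← hθ1, ← hf] at hfib
      rw [hδ1] at hdeg
      -- `f θ1 = p (a - 1) + 2`
      have hfθ : (f : ℤ) * (θ1 : ℤ) = (p : ℤ) * ((a : ℤ) - 1) + 2 := by
        rw [hdZ] at hdeg
        linarith
      have ha1 : (1 : ℤ) ≤ (a : ℤ) := by
        by_contra hne
        have h1 : (a : ℤ) = 0 := by omega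
        rw [h1] at hfθ
        have h3 : (0 : ℤ) ≤ (f : ℤ) * (θ1 : ℤ) := by nlinarith
        linarith
      -- `θ1 ≤ a`
      have hθa : (θ1 : ℤ) ≤ (a : ℤ) := by
        have h1 : (p : ℤ) * (θ1 : ℤ) ≤ (p : ℤ) * (a : ℤ) := by
          rw [hdZ] at hfib
          nlinarith
        exact le_of_mul_le_mul_left h1 (by linarith)
      -- `f ∣ a + 1`
      have hfa : (f : ℤ) ≤ (a : ℤ) + 1 := by
        have h1 : (f : ℤ) ∣ (a : ℤ) + 1 := by
          have h2 : (a : ℤ) + 1 = (f : ℤ) * ((θ1 : ℤ) - (c : ℤ) * ((a : ℤ) - 1)) := by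
            have h3 : (p : ℤ) = (f : ℤ) * (c : ℤ) + 1 := by linarith
            rw [h3] at hfθ
            linear_combination (-1 : ℤ) * hfθ
          exact Dvd.intro _ h2.symm
        exact Int.le_of_dvd (by linarith) h1
      -- `(a - 1) (p - 2 - a) ≤ 0`
      have hprod : ((a : ℤ) - 1) * ((p : ℤ) - 2 - (a : ℤ)) ≤ 0 := by
        have h1 : (f : ℤ) * (θ1 : ℤ) ≤ ((a : ℤ) + 1) * (a : ℤ) :=
          mul_le_mul hfa hθa (by linarith) (by linarith)
        have h2 : ((a : ℤ) - 1) * ((p : ℤ) - 2 - (a : ℤ)) =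
            (p : ℤ) * ((a : ℤ) - 1) + 2 - ((a : ℤ) + 1) * (a : ℤ) := by ring
        rw [h2]
        linarith
      have hcases : (a : ℤ) = 1 ∨ (a : ℤ) = (d : ℤ) := by
        by_contra hne
        push Not at hne
        obtain ⟨hne1, hne2⟩ := hne
        have h1 : (1 : ℤ) ≤ (a : ℤ) - 1 := by omega
        have h2 : (1 : ℤ) ≤ (p : ℤ) - 2 - (a : ℤ) := by omega
        have h3 : (1 : ℤ) * 1 ≤ ((a : ℤ) - 1) * ((p : ℤ) - 2 - (a : ℤ)) :=
          mul_le_mul h1 h2 (by norm_num) (by linarith)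
        linarith
      rcases hcases with hcase | hcase
      · right
        right
        rw [hcase] at hfθ hθa
        have hθ11 : (θ1 : ℤ) = 1 := by linarith
        rw [hθ11] at hfθ
        have hf2 : (f : ℤ) = 2 := by linarith
        refine ⟨hψY, hδ1, ?_, ?_⟩
        · exact_mod_cast hf2
        · exact_mod_cast hθ11
      · left
        apply hconst
        exact_mod_cast hcase

end general

end Cfsg.Agent.BR
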