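import Mathlib
import Cfsg.Agent.BR.PmtLocalA

/-!
# S4705, Part A (2): the restriction to `C_G(P)` of an exceptional character of degree `p - 2`

`br_pmtl_structure` : in the situation `ψ ∈ Y`, `δ = -1`, `|N : C| = 2`, `θ(1) = 1`, `ψ(1) = p - 2` the
stabilizer of the root `θ` is all of `N` and `ψ|_C = θ · ∑_l (1 + v_ψ(l)) (l ∘ τ)`: only the twists of `θ`
occur in `ψ|_C`, each at most once.
-/

set_option autoImplicit false
set_option linter.unusedSectionVars false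
set_option linter.style.haveILetI false

namespace Cfsg.Agent.BR

open Cfsg Cfsg.Agent.Helper6 Cfsg.Agent.D1

open scoped ComplexConjugate

universe u

section general

variable {G : Type u} [Group G] {p : ℕ} [hp : Fact p.Prime] {P C N : Subgroup G}
  {τ : ↥C →* ↥P} {M : Ideal Cfsg.AlgInt}

open Classical in
/-- **the restriction to `C`** of an exceptional character of degree `p - 2` (`δ = -1`, `f = 2`,
`θ(1) = 1`): `e = 2` and `ψ|_C = θ ∑_l (1 + v(l)) (l ∘ τ)`. -/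
theorem br_pmtl_structure [Finite G] [Fintype C] [Fintype P] [Fintype (↥P →* ℂˣ)]
    (hM : Cfsg.IsPModular p M)
    (S : d1_sec_Setup p P C N τ)
    (θ : Cfsg.IrrCharacter C) (hθ : d1_sec_KerP P (θ : C → ℂ))
    (T : Subgroup G) (hT : d1_sec_IsStab S θ T)
    (Y : Set (Cfsg.IrrCharacter G)) (δ : ℤ)
    (jj : Cfsg.IrrCharacter G → d1_sec_J S θ)
    (hvY : ∀ ψ ∈ Y, ∀ j, d1_sec_vJ S θ ψ j = if j = jj ψ then δ else 0)
    (ψ : Cfsg.IrrCharacter G) (hψY : ψ ∈ Y) (hδ : δ = -1)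
    (hf : C.relIndex N = 2) (hθ1 : Cfsg.charDegree (θ : C → ℂ) = 1) (hp7 : 7 ≤ p)
    (hdegψ : Cfsg.charDegree (ψ : G → ℂ) = p - 2) :
    C.relIndex T = 2 ∧
      (∑ l : ↥P →* ℂˣ, (1 + (d1_sec_vZ τ θ ψ l : ℂ)) = (p : ℂ) - 2) ∧
      ∀ c : C, (ψ : G → ℂ) c = (θ : C → ℂ) c *
        ∑ l : ↥P →* ℂˣ, (1 + (d1_sec_vZ τ θ ψ l : ℂ)) * ((l (τ c) : ℂˣ) : ℂ) := by
  haveI : Fintype N := Fintype.ofFinite _
  haveI : Finite (d1_sec_J S θ) := d1_sec_finite_J S θ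
  letI : Fintype (d1_sec_J S θ) := Fintype.ofFinite _
  haveI : Finite (Cfsg.IrrCharacter C) := irr_finite
  haveI : Fintype {κ : Cfsg.IrrCharacter C // d1_sec_KerP P (κ : C → ℂ)} := Fintype.ofFinite _
  haveI : Finite P := Finite.of_fintype P
  have hψc := IsIrrCharacter.isCharacter ψ.2
  have hψcf := IsCharacter.isClassFunction hψc
  have hresc : Cfsg.IsCharacter C (fun c : C => (ψ : G → ℂ) c) := IsCharacter.restrict C hψc
  -- the multiplicities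
  have hm : ∀ (κ : Cfsg.IrrCharacter C) (l : ↥P →* ℂˣ), ∃ n : ℕ,
      Cfsg.classInner (fun c : C => (ψ : G → ℂ) c) (d1_sec_tw τ l κ : C → ℂ) = n := fun κ l =>
    classInner_char_char_nat hresc (IsIrrCharacter.isCharacter (d1_sec_tw τ l κ).2)
  choose m hm using hm
  -- the degree formula
  have hdegN : p - 2 = ∑ κ : {κ : Cfsg.IrrCharacter C // d1_sec_KerP P (κ : C → ℂ)},
      ∑ l : ↥P →* ℂˣ, m κ l * Cfsg.charDegree ((κ : Cfsg.IrrCharacter C) : C → ℂ) := by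
    have hexp1 := d1_secw_expand hM S (ψ : G → ℂ) hψcf (1 : C)
    have h2 : ((p - 2 : ℕ) : ℂ) = ((∑ κ : {κ : Cfsg.IrrCharacter C // d1_sec_KerP P (κ : C → ℂ)},
        ∑ l : ↥P →* ℂˣ, m κ l * Cfsg.charDegree ((κ : Cfsg.IrrCharacter C) : C → ℂ) : ℕ) : ℂ) := by
      rw [← hdegψ, charDegree_cast_of_isCharacter hψc]
      rw [Subgroup.coe_one] at hexp1
      rw [hexp1]
      push_cast
      apply Finset.sum_congr rfl
      intro κ _
      apply Finset.sum_congr rfl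
      intro l _
      rw [hm, map_one, map_one, Units.val_one, mul_one,
        charDegree_cast_of_isCharacter (IsIrrCharacter.isCharacter (κ : Cfsg.IrrCharacter C).2)]
    exact_mod_cast h2
  -- `v(l) = m(θ, l) - m(θ, 1)`
  have hvm : ∀ l : ↥P →* ℂˣ, d1_sec_vZ τ θ ψ l = (m θ l : ℤ) - (m θ 1 : ℤ) := by
    intro l
    have h1 := d1_sec_v_eq (τ := τ) θ (ψ : G → ℂ) l
    rw [d1_sec_vZ_spec θ ψ l, hm θ l] at h1
    have h2 := hm θ 1
    rw [d1_sec_tw_one] at h2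
    rw [h2] at h1
    have h3 : ((d1_sec_vZ τ θ ψ l : ℤ) : ℂ) = (((m θ l : ℤ) - (m θ 1 : ℤ) : ℤ) : ℂ) := by
      rw [h1]
      push_cast
      ring
    exact_mod_cast h3
  -- `∑_l v(l) = - e`
  have hsumv : ∑ l : ↥P →* ℂˣ, d1_sec_vZ τ θ ψ l = -(C.relIndex T : ℤ) := by
    rw [d1_finsecj_sum_vZ hT ψ, Finset.sum_congr rfl (fun j _ => hvY ψ hψY j),
      Finset.sum_ite_eq' Finset.univ (jj ψ) (fun _ => δ), if_pos (Finset.mem_univ _), hδ]
    ring
  -- `|Hom(P, ℂˣ)| = p`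
  have hcardl : Fintype.card (↥P →* ℂˣ) = p := by
    have hcommP : ∀ a b : P, a * b = b * a := fun a b =>
      Subtype.ext (d1_sec_comm P S.card_P _ a.2 _ b.2)
    rw [← Nat.card_eq_fintype_card, card_hom_units_of_comm hcommP, S.card_P]
  -- `∑_l m(θ, l) = p m(θ, 1) - e`
  have hsumm : ∑ l : ↥P →* ℂˣ, (m θ l : ℤ) = (p : ℤ) * (m θ 1 : ℤ) - (C.relIndex T : ℤ) := by
    have h1 : ∑ l : ↥P →* ℂˣ, (m θ l : ℤ) =
        ∑ l : ↥P →* ℂˣ, (d1_sec_vZ τ θ ψ l + (m θ 1 : ℤ)) := by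
      apply Finset.sum_congr rfl
      intro l _
      rw [hvm l]
      ring
    rw [h1, Finset.sum_add_distrib, hsumv, Finset.sum_const, Finset.card_univ, hcardl, nsmul_eq_mul]
    ring
  -- `m(θ, 1) ≥ 1`
  have hm1 : 1 ≤ m θ 1 := by
    obtain ⟨l₀, hl₀⟩ := d1_sec_pi_surjective S θ (jj ψ)
    have h1 : d1_sec_vZ τ θ ψ l₀.1 = -1 := by
      rw [← d1_sec_vJ_pi S θ ψ l₀, hl₀, hvY ψ hψY (jj ψ), if_pos rfl, hδ]
    rw [hvm l₀.1] at h1
    omega
  -- `e ∈ {1, 2}`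
  have hef : C.relIndex T * T.relIndex N = C.relIndex N :=
    Subgroup.relIndex_mul_relIndex C T N hT.C_le hT.le_N
  rw [hf] at hef
  have hele : C.relIndex T ≤ 2 := Nat.le_of_dvd (by norm_num) (Dvd.intro _ hef)
  -- split off the `θ`-term
  have hsplit := (Finset.add_sum_erase Finset.univ
    (fun κ : {κ : Cfsg.IrrCharacter C // d1_sec_KerP P (κ : C → ℂ)} =>
      ∑ l : ↥P →* ℂˣ, m κ l * Cfsg.charDegree ((κ : Cfsg.IrrCharacter C) : C → ℂ))
    (Finset.mem_univ (⟨θ, hθ⟩ : {κ : Cfsg.IrrCharacter C // d1_sec_KerP P (κ : C → ℂ)}))).symm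
  rw [← hdegN] at hsplit
  simp only [hθ1, mul_one] at hsplit
  obtain ⟨R, hR⟩ : ∃ R : ℕ, R = ∑ κ ∈ Finset.univ.erase
      (⟨θ, hθ⟩ : {κ : Cfsg.IrrCharacter C // d1_sec_KerP P (κ : C → ℂ)}),
      ∑ l : ↥P →* ℂˣ, m κ l * Cfsg.charDegree ((κ : Cfsg.IrrCharacter C) : C → ℂ) := ⟨_, rfl⟩
  rw [← hR] at hsplit
  have hsplitZ : (p : ℤ) - 2 = (p : ℤ) * (m θ 1 : ℤ) - (C.relIndex T : ℤ) + (R : ℤ) := by
    have h1 : ((p - 2 : ℕ) : ℤ) = ((∑ l : ↥P →* ℂˣ, m θ l + R : ℕ) : ℤ) := by rw [hsplit]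
    rw [Nat.cast_sub (by omega : 2 ≤ p)] at h1
    push_cast at h1
    rw [hsumm] at h1
    linarith
  have hm1Z : (1 : ℤ) ≤ (m θ 1 : ℤ) := by exact_mod_cast hm1
  have heleZ : (C.relIndex T : ℤ) ≤ 2 := by exact_mod_cast hele
  have hR0 : (0 : ℤ) ≤ (R : ℤ) := Int.natCast_nonneg _
  have hp7Z : (7 : ℤ) ≤ (p : ℤ) := by exact_mod_cast hp7
  have hmθ1 : m θ 1 = 1 := by
    by_contra hne
    have h2 : (2 : ℤ) ≤ (m θ 1 : ℤ) := by omega
    nlinarith
  have hmθ1Z : (m θ 1 : ℤ) = 1 := by exact_mod_cast hmθ1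
  rw [hmθ1Z] at hsplitZ
  have he2 : C.relIndex T = 2 := by
    have : (C.relIndex T : ℤ) = 2 := by linarith
    exact_mod_cast this
  have hRz : R = 0 := by
    have : (R : ℤ) = 0 := by
      have : (C.relIndex T : ℤ) = 2 := by exact_mod_cast he2
      linarith
    exact_mod_cast this
  -- the other characters do not occur
  have hzero : ∀ κ : {κ : Cfsg.IrrCharacter C // d1_sec_KerP P (κ : C → ℂ)},
      κ ≠ ⟨θ, hθ⟩ → ∀ l : ↥P →* ℂˣ, m κ l = 0 := by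
    intro κ hκ l
    rw [hRz] at hR
    have h1 := (Finset.sum_eq_zero_iff.mp hR.symm) κ
      (Finset.mem_erase.mpr ⟨hκ, Finset.mem_univ _⟩)
    have h2 := (Finset.sum_eq_zero_iff.mp h1) l (Finset.mem_univ _)
    rcases Nat.mul_eq_zero.mp h2 with h3 | h3
    · exact h3
    · exact absurd h3 (d1_fin_charDegree_pos (κ : Cfsg.IrrCharacter C)).ne'
  refine ⟨he2, ?_, ?_⟩
  · rw [Finset.sum_add_distrib, Finset.sum_const, Finset.card_univ, hcardl, ← Int.cast_sum, hsumv,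
      he2]
    push_cast
    ring
  intro c
  rw [d1_secw_expand hM S (ψ : G → ℂ) hψcf c,
    Finset.sum_eq_single (⟨θ, hθ⟩ : {κ : Cfsg.IrrCharacter C // d1_sec_KerP P (κ : C → ℂ)})]
  · rw [Finset.mul_sum]
    apply Finset.sum_congr rfl
    intro l _
    rw [hm θ l]
    have h1 : ((m θ l : ℕ) : ℂ) = 1 + (d1_sec_vZ τ θ ψ l : ℂ) := by
      rw [hvm l, hmθ1]
      push_cast
      ring
    rw [h1]
    ring
  · intro κ _ hκ
    apply Finset.sum_eq_zero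
    intro l _
    rw [hm, hzero κ hκ l, Nat.cast_zero, zero_mul]
  · intro h
    exact absurd (Finset.mem_univ _) h

end general

end Cfsg.Agent.BR
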