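import Mathlib
import Cfsg.Agent.BR.PmtLocalB
import Cfsg.Agent.Helper6.CentralDefectA
import Cfsg.Agent.Helper6.FrobRamB

/-!
# S4705, Part A: the local structure (`br_pmt_local`)

A faithful irreducible character `ζ` of degree `p - 2` (`p ≥ 7`) of a finite group whose Sylow
`p`-subgroup `P` has order `p` and is not normal satisfies `br_pmt_Hyp`: `C_G(P) = P × Z(G)`,
`|N_G(P) : C_G(P)| = 2`, `ζ = -(l + l⁻¹)` on `P ∖ 1`.
-/

set_option autoImplicit false
set_option linter.unusedSectionVars false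
set_option linter.style.haveILetI false

namespace Cfsg.Agent.BR

open Cfsg Cfsg.Agent.Helper6 Cfsg.Agent.D1 Cfsg.Agent.D1M

open scoped ComplexConjugate

universe u

/-- the central character of an irreducible character -/
theorem br_pmtl_central {G : Type u} [Group G] [Finite G] {ζ : G → ℂ}
    (hζ : Cfsg.IsIrrCharacter G ζ) :
    ∃ θ : ↥(Subgroup.center G) →* ℂˣ, ∀ (g : G) (y : ↥(Subgroup.center G)),
      ζ (g * y) = ζ g * ((θ y : ℂˣ) : ℂ) := by
  have hζ1 : ζ 1 ≠ 0 := IsIrrCharacter.apply_one_ne_zero hζ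
  have hmul : ∀ (z : ↥(Subgroup.center G)) (g : G), ζ ((z : G) * g) = ζ (z : G) / ζ 1 * ζ g := by
    intro z g
    obtain ⟨ω, -, hω⟩ := irr_center_mul ⟨ζ, hζ⟩ (z : G) z.2
    have h1 : ζ (z : G) = ω * ζ 1 := by
      have := hω 1
      rwa [mul_one] at this
    have h2 : ω = ζ (z : G) / ζ 1 := by
      rw [h1, mul_div_assoc, div_self hζ1, mul_one]
    rw [← h2]
    exact hω g
  obtain ⟨f, hf⟩ : ∃ f : ↥(Subgroup.center G) →* ℂ, ∀ z, f z = ζ (z : G) / ζ 1 :=
    ⟨{ toFun := fun z => ζ (z : G) / ζ 1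
       map_one' := by
         show ζ ((1 : ↥(Subgroup.center G)) : G) / ζ 1 = 1
         rw [Subgroup.coe_one, div_self hζ1]
       map_mul' := by
         intro z z'
         show ζ ((z * z' : ↥(Subgroup.center G)) : G) / ζ 1 = ζ (z : G) / ζ 1 * (ζ (z' : G) / ζ 1)
         rw [Subgroup.coe_mul, hmul z (z' : G)]
         ring }, fun _ => rfl⟩
  refine ⟨f.toHomUnits, ?_⟩
  intro g y
  rw [MonoidHom.coe_toHomUnits, hf]
  have hcomm : g * (y : G) = (y : G) * g := Subgroup.mem_center_iff.mp y.2 g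
  rw [hcomm, hmul y g]
  ring

/-- a faithful character is quasi-faithful -/
theorem br_pmtl_qf {G : Type u} [Group G] [Finite G] {ζ : G → ℂ} (hζ : Cfsg.IsCharacter G ζ)
    (hfaith : ∀ g : G, ζ g = ζ 1 → g = 1) (g : G) (hg : ‖ζ g‖ = (Cfsg.charDegree ζ : ℝ)) :
    g ∈ Subgroup.center G := by
  rw [Subgroup.mem_center_iff]
  intro k
  have h2 := d1_brb_comm_ker hζ g hg k
  have h3 := hfaith _ h2
  calc k * g = (g * k * g⁻¹ * k⁻¹)⁻¹ * (g * k) := by group
    _ = g * k := by rw [h3, inv_one, one_mul]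

/-- if `|N : C| = 2` every element of `N ∖ C` inverts `P` -/
theorem br_pmtl_inverts {G : Type u} [Group G] [Finite G] {p : ℕ} [hp : Fact p.Prime]
    {P C N : Subgroup G} {τ : ↥C →* ↥P} (S : d1_sec_Setup p P C N τ) (hf : C.relIndex N = 2)
    (s : G) (hsN : s ∈ N) (hsC : s ∉ C) : ∀ x ∈ P, s * x * s⁻¹ = x⁻¹ := by
  haveI : Fact (Nat.Prime p) := hp
  -- a generator
  obtain ⟨x₀, hx₀1⟩ : ∃ x : P, x ≠ 1 := by
    have h1 : 1 < Nat.card P := by rw [S.card_P]; exact hp.out.one_lt
    haveI : Finite P := Nat.finite_of_card_ne_zero (by omega)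
    haveI : Nontrivial P := (Finite.one_lt_card_iff_nontrivial).mp h1
    exact exists_ne 1
  have hx₀P : (x₀ : G) ∈ P := x₀.2
  have hx₀ne : (x₀ : G) ≠ 1 := fun h => hx₀1 (Subtype.ext h)
  have hz := d1_sec_zpowers_eq P S.card_P (x₀ : G) hx₀P hx₀ne
  have hord := d1_sec_orderOf_eq P S.card_P (x₀ : G) hx₀P hx₀ne
  have hconjP : s * (x₀ : G) * s⁻¹ ∈ Subgroup.zpowers (x₀ : G) := by
    rw [hz]; exact S.conj_mem_P hsN hx₀P
  obtain ⟨k, hk⟩ := d1m_bdry_exists_nat_pow p hp.out.ne_zero (x₀ : G) hord _ hconjP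
  -- `s * s ∈ C`
  have hss : s * s ∈ C := by
    have h1 : (C.subgroupOf N).index = 2 := hf
    have h2 := Subgroup.mul_self_mem_of_index_two h1 (⟨s, hsN⟩ : N)
    rw [Subgroup.mem_subgroupOf] at h2
    exact h2
  -- `x₀ ^ (k * k) = x₀`
  have hkk : (x₀ : G) ^ (k * k) = (x₀ : G) ^ 1 := by
    have h1 : (s * s) * (x₀ : G) * (s * s)⁻¹ = (x₀ : G) := by
      have h2 := S.central hx₀P hss
      rw [← h2]
      group
    have h3 : (s * s) * (x₀ : G) * (s * s)⁻¹ = s * (s * (x₀ : G) * s⁻¹) * s⁻¹ := by group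
    rw [h3, hk, ← conj_pow, hk, ← pow_mul] at h1
    rw [h1, pow_one]
  rw [pow_eq_pow_iff_modEq, hord] at hkk
  have hkZ : ((k : ZMod p)) * (k : ZMod p) = 1 := by
    have := (ZMod.natCast_eq_natCast_iff _ _ _).mpr hkk
    push_cast at this
    exact this
  rcases mul_self_eq_one_iff.mp hkZ with h1 | h1
  · -- `k ≡ 1`: `s` centralizes `P`
    exfalso
    apply hsC
    have h2 : (x₀ : G) ^ k = (x₀ : G) ^ 1 := by
      rw [pow_eq_pow_iff_modEq, hord]
      apply (ZMod.natCast_eq_natCast_iff _ _ _).mp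
      rw [h1]
      simp
    rw [h2, pow_one] at hk
    exact S.free hx₀P hx₀ne hk
  · -- `k ≡ -1`
    have h2 : (x₀ : G) ^ (k + 1) = 1 := by
      rw [← orderOf_dvd_iff_pow_eq_one, hord, ← ZMod.natCast_eq_zero_iff]
      push_cast
      rw [h1]
      ring
    have h3 : s * (x₀ : G) * s⁻¹ = (x₀ : G)⁻¹ := by
      rw [hk]
      apply eq_inv_of_mul_eq_one_left
      rw [← pow_succ]
      exact h2
    intro x hx
    rw [← hz] at hx
    obtain ⟨j, hj⟩ := Subgroup.mem_zpowers_iff.mp hx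
    rw [← hj, ← conj_zpow, h3, inv_zpow]

/-- a nontrivial linear character `l` of a group of odd prime order is different from `l⁻¹` -/
theorem br_pmtl_ne_inv {Q : Type u} [Group Q] [Finite Q] {p : ℕ} [hp : Fact p.Prime]
    (hQ : Nat.card Q = p) (hp2 : p ≠ 2) (l : Q →* ℂˣ) (hl : l ≠ 1) : l ≠ l⁻¹ := by
  intro h
  apply hl
  ext x
  have h1 : l x * l x = 1 := by
    have h2 : l x = (l x)⁻¹ := by
      conv_lhs => rw [h]
      rfl
    calc l x * l x = l x * (l x)⁻¹ := by rw [← h2]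
      _ = 1 := mul_inv_cancel _
  have h3 : l x ^ p = 1 := by
    rw [← map_pow, ← hQ, pow_card_eq_one', map_one]
  obtain ⟨k, hk⟩ := hp.out.odd_of_ne_two hp2
  have h4 : l x ^ p = l x := by
    rw [hk, pow_succ, pow_mul, pow_two, h1, one_pow, one_mul]
  rw [MonoidHom.one_apply, ← h4, h3, Units.val_one]

open Classical in
/-- **S4705, Part A** -/
theorem br_pmt_local {G : Type u} [Group G] [Finite G] (p : ℕ) [hpf : Fact p.Prime] (hp : 5 < p)
    (P : Sylow p G) (hP : Nat.card P = p) (hnn : ¬ (P : Subgroup G).Normal)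
    (ζ : G → ℂ) (hζ : IsIrrCharacter G ζ) (hfaith : ∀ g : G, ζ g = ζ 1 → g = 1)
    (hdeg : charDegree ζ = p - 2) :
    ∃ (θ : ↥(Subgroup.center G) →* ℂˣ) (l : ↥(P : Subgroup G) →* ℂˣ), br_pmt_Hyp p P ζ θ l := by
  have hp7 : 7 ≤ p := by
    by_contra h
    have h6 : p = 6 := by omega
    have hpr := hpf.out
    rw [h6] at hpr
    exact absurd hpr (by decide)
  have hp2 : p ≠ 2 := by omega
  obtain ⟨M, hM⟩ := exists_isPModular p hpf.out
  haveI : Fintype G := Fintype.ofFinite G
  haveI : Fintype ↥(Subgroup.centralizer ((P : Subgroup G) : Set G)) := Fintype.ofFinite _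
  haveI : Fintype ↥(P : Subgroup G) := Fintype.ofFinite _
  obtain ⟨τ, S⟩ := d1_sec_exists_setup P hP
  haveI : Finite (↥(P : Subgroup G) →* ℂˣ) := d1_sec_finite_hom S
  haveI : Fintype (↥(P : Subgroup G) →* ℂˣ) := Fintype.ofFinite _
  have hζc := IsIrrCharacter.isCharacter hζ
  obtain ⟨ψ, hψdef⟩ : ∃ ψ : Cfsg.IrrCharacter G, ψ = ⟨ζ, hζ⟩ := ⟨_, rfl⟩
  have hψζ : (ψ : G → ℂ) = ζ := by rw [hψdef]
  have hdegψ : Cfsg.charDegree (ψ : G → ℂ) = p - 2 := by rw [hψζ]; exact hdeg
  have hB : Cfsg.IsPBlock M (Cfsg.blockOf M (ψ : G → ℂ)) := ⟨ψ, rfl⟩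
  have hψB : ψ ∈ Cfsg.blockOf M (ψ : G → ℂ) := mem_blockOf_self hM.2.1 ψ
  have hBP := d1_brb_resp_defect p hM P hP ψ (by rw [hdegψ]; omega)
  obtain ⟨b, θ, hroot⟩ := d1_ine_Hroot p hM P hP _ hB hBP
  obtain ⟨X, Y, w, δ, jj, hXY, hdisj, hX, hY, hw, hδ, hvX, hvY, hbij⟩ :=
    d1_conc_split p hM P hP S _ hB hBP b θ hroot
  have hStab : d1_sec_IsStab S θ (d1_glob_T (P : Subgroup G)
      (θ : Subgroup.centralizer ((P : Subgroup G) : Set G) → ℂ)) :=
    d1_sec_isStab_of_frozen S θ _ (d1_glob_mem_T (P : Subgroup G) _)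
  -- a nontrivial element of `P`
  obtain ⟨x₁, hx₁⟩ : ∃ x : (P : Subgroup G), x ≠ 1 := by
    have h1 : 1 < Nat.card (P : Subgroup G) := by rw [hP]; omega
    haveI : Nontrivial (P : Subgroup G) := (Finite.one_lt_card_iff_nontrivial).mp h1
    exact exists_ne 1
  have hdegR : (Cfsg.charDegree ζ : ℝ) = (p : ℝ) - 2 := by
    rw [hdeg, Nat.cast_sub (by omega : 2 ≤ p)]
    norm_num
  have hdegC : ζ 1 = (p : ℂ) - 2 := by
    rw [← charDegree_cast_of_isCharacter hζc, hdeg, Nat.cast_sub (by omega : 2 ≤ p)]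
    norm_num
  rcases br_pmtl_dichotomy hM S _ hBP b hroot.1 θ hroot.2.1 hroot.2.2 _ hStab X Y w δ jj hXY hw hδ
    hvX hvY ψ hψB hp7 hdegψ with hconst | ⟨hψY, hδ1, hf1, hdeg'⟩ | ⟨hψY, hδ1, hf2, hθ1⟩
  · -- `P ≤ ker ζ`
    exfalso
    have h1 := hconst x₁
    rw [hψζ] at h1
    exact hx₁ (Subtype.ext (hfaith _ h1))
  · -- `P` acts by scalars
    exfalso
    obtain ⟨hfs, -⟩ := d1_brbo_main' p hM P hP S _ hB hBP b θ hroot X Y w δ jj hXY hdisj
      hX hY hw hδ hvX hvY hbij ψ hψY hδ1 hdeg'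
    apply hnn
    constructor
    intro u hu g
    have h1 := hfs hf1 ⟨u, hu⟩
    rw [hψζ] at h1
    have h2 := br_pmtl_qf hζc hfaith u h1
    have h3 : g * u = u * g := Subgroup.mem_center_iff.mp h2 g
    rw [h3, mul_inv_cancel_right]
    exact hu
  · -- the main case
    obtain ⟨he2, hsum2, hform⟩ := br_pmtl_structure hM S θ hroot.2.2 _ hStab Y δ jj hvY ψ hψY hδ1
      hf2 hθ1 hp7 hdegψ
    rw [hψζ] at hform
    -- `θ` is linear
    have hθ11 : (θ : Subgroup.centralizer ((P : Subgroup G) : Set G) → ℂ) 1 = 1 := by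
      rw [← charDegree_cast_of_isCharacter (IsIrrCharacter.isCharacter θ.2), hθ1, Nat.cast_one]
    obtain ⟨lam, hlam⟩ := exists_hom_of_irr_degree_one θ.2 hθ11
    -- the `p`-regular elements of `C` are central
    have hVZ : ∀ y : Subgroup.centralizer ((P : Subgroup G) : Set G), τ y = 1 →
        (y : G) ∈ Subgroup.center G := by
      intro y hy
      apply br_pmtl_qf hζc hfaith
      rw [hform y, hy]
      simp only [map_one, Units.val_one, mul_one]
      rw [hsum2, norm_mul, hlam, br_pmt_norm_hom, one_mul, hdegR]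
      have h1 : ((p : ℂ) - 2) = (((p : ℝ) - 2 : ℝ) : ℂ) := by push_cast; ring
      rw [h1, Complex.norm_real, Real.norm_eq_abs, abs_of_nonneg]
      have : (7 : ℝ) ≤ p := by exact_mod_cast hp7
      linarith
    -- `C = P ⊔ Z`
    have hcent : Subgroup.centralizer ((P : Subgroup G) : Set G) =
        (P : Subgroup G) ⊔ Subgroup.center G := by
      apply le_antisymm
      · intro c hc
        have h1 := S.tau_inv_mul ⟨c, hc⟩
        have h2 := hVZ _ h1
        have h3 : c = ((τ ⟨c, hc⟩ : (P : Subgroup G)) : G) *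
            (((τ ⟨c, hc⟩ : (P : Subgroup G)) : G)⁻¹ * c) := by group
        rw [h3]
        apply Subgroup.mul_mem
        · exact (le_sup_left : (P : Subgroup G) ≤ _) (τ ⟨c, hc⟩).2
        · exact (le_sup_right : Subgroup.center G ≤ (P : Subgroup G) ⊔ Subgroup.center G) h2
      · apply sup_le
        · exact S.P_le_C
        · exact Subgroup.center_le_centralizer _
    -- an element `s ∈ N ∖ C`
    obtain ⟨s, hsN, hsC⟩ : ∃ s ∈ Subgroup.normalizer ((P : Subgroup G) : Set G),
        s ∉ Subgroup.centralizer ((P : Subgroup G) : Set G) := by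
      have h1 : ¬ Subgroup.normalizer ((P : Subgroup G) : Set G) ≤
          Subgroup.centralizer ((P : Subgroup G) : Set G) := by
        rw [← Subgroup.relIndex_eq_one, hf2]
        norm_num
      exact SetLike.not_le_iff_exists.mp h1
    have hinv := br_pmtl_inverts S hf2
    -- `T = N`
    have hTN : ∀ n : Subgroup.normalizer ((P : Subgroup G) : Set G), d1_sec_cj S n θ = θ := by
      intro n
      rw [← hStab.mem_iff]
      have hef := Subgroup.relIndex_mul_relIndex _ _ _ hStab.C_le hStab.le_N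
      rw [he2, hf2] at hef
      have h1 : (d1_glob_T (P : Subgroup G)
          (θ : Subgroup.centralizer ((P : Subgroup G) : Set G) → ℂ)).relIndex
          (Subgroup.normalizer ((P : Subgroup G) : Set G)) = 1 := by omega
      exact (Subgroup.relIndex_eq_one.mp h1) n.2
    -- the exceptional orbit
    obtain ⟨l₀, hl₀⟩ := d1_sec_pi_surjective S θ (jj ψ)
    have hne_inv : l₀.1 ≠ l₀.1⁻¹ := br_pmtl_ne_inv hP hp2 l₀.1 l₀.2
    -- conjugation by an element of `N ∖ C` inverts the linear characters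
    have hcjl_inv : ∀ n : Subgroup.normalizer ((P : Subgroup G) : Set G),
        (n : G) ∉ Subgroup.centralizer ((P : Subgroup G) : Set G) →
        ∀ l : ↥(P : Subgroup G) →* ℂˣ, d1_sec_cjl S n l = l⁻¹ := by
      intro n hn l
      ext x
      have hn' : (n : G)⁻¹ ∉ Subgroup.centralizer ((P : Subgroup G) : Set G) := by
        intro h
        exact hn (by simpa using Subgroup.inv_mem _ h)
      have h1 := hinv (n : G)⁻¹ (Subgroup.inv_mem _ n.2) hn' (x : G) x.2
      rw [inv_inv] at h1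
      rw [d1_sec_cjl_apply S n l x x⁻¹ (by rw [Subgroup.coe_inv]; exact h1.symm), map_inv]
      rfl
    -- the values of `v`
    have hv1 : d1_sec_vZ τ θ ψ 1 = 0 := by
      have h1 := d1_sec_vZ_spec (τ := τ) θ ψ 1
      rw [d1_sec_v_one] at h1
      exact_mod_cast h1.symm
    have hv : ∀ l : ↥(P : Subgroup G) →* ℂˣ, d1_sec_vZ τ θ ψ l =
        (if l = l₀.1 then (-1 : ℤ) else 0) + (if l = l₀.1⁻¹ then (-1 : ℤ) else 0) := by
      intro l
      by_cases hl1 : l = 1
      · rw [hl1, hv1, if_neg (fun h => l₀.2 h.symm), if_neg, add_zero]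
        intro h
        apply l₀.2
        ext x
        have h1 := DFunLike.congr_fun h x
        rw [MonoidHom.one_apply, MonoidHom.inv_apply] at h1
        rw [MonoidHom.one_apply, ← inv_inv (l₀.1 x), ← h1, inv_one]
      · have h1 : d1_sec_vZ τ θ ψ l = if d1_sec_pi S θ ⟨l, hl1⟩ = jj ψ then (-1 : ℤ) else 0 := by
          rw [← d1_sec_vJ_pi S θ ψ ⟨l, hl1⟩, hvY ψ hψY, hδ1]
        rw [h1]
        have hiff : d1_sec_pi S θ ⟨l, hl1⟩ = jj ψ ↔ (l = l₀.1 ∨ l = l₀.1⁻¹) := by
          rw [← hl₀, eq_comm, d1_sec_pi_eq_iff]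
          constructor
          · rintro ⟨n, -, hn⟩
            by_cases hnC : (n : G) ∈ Subgroup.centralizer ((P : Subgroup G) : Set G)
            · left
              rw [d1_sec_cjl_of_mem_C S n hnC] at hn
              exact hn.symm
            · right
              rw [hcjl_inv n hnC] at hn
              exact hn.symm
          · rintro (h | h)
            · exact ⟨1, hTN 1, by rw [d1_sec_cjl_one']; exact h.symm⟩
            · exact ⟨⟨s, hsN⟩, hTN _, by rw [hcjl_inv ⟨s, hsN⟩ hsC]; exact h.symm⟩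
        by_cases hA : l = l₀.1
        · rw [if_pos (hiff.mpr (Or.inl hA)), if_pos hA, if_neg, add_zero]
          rw [hA]
          exact hne_inv
        · by_cases hB' : l = l₀.1⁻¹
          · rw [if_pos (hiff.mpr (Or.inr hB')), if_neg hA, if_pos hB', zero_add]
          · rw [if_neg, if_neg hA, if_neg hB', add_zero]
            rintro h
            rcases hiff.mp h with h | h
            · exact hA h
            · exact hB' h
    -- the central character
    obtain ⟨θZ, hθZ⟩ := br_pmtl_central hζ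
    refine ⟨θZ, l₀.1, ⟨hp7, hP, hcent, hf2, hζ, hdegC, hθZ, l₀.2, ?_, ?_⟩⟩
    · -- the values on `P ∖ 1`
      intro x hx
      have hcommP : ∀ a b : (P : Subgroup G), a * b = b * a := fun a b =>
        Subtype.ext (d1_sec_comm (P : Subgroup G) hP _ a.2 _ b.2)
      have h1 := hform (d1_sec_inP S x)
      rw [d1_sec_inP_coe, d1_sec_tau_inP] at h1
      have hθx : (θ : Subgroup.centralizer ((P : Subgroup G) : Set G) → ℂ) (d1_sec_inP S x) = 1 := by
        rw [hroot.2.2 (d1_sec_inP S x) (by rw [d1_sec_inP_coe]; exact x.2), hθ11]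
      rw [h1, hθx, one_mul]
      have h2 : ∀ l : ↥(P : Subgroup G) →* ℂˣ,
          (1 + (d1_sec_vZ τ θ ψ l : ℂ)) * ((l x : ℂˣ) : ℂ) =
          ((l x : ℂˣ) : ℂ) + ((if l = l₀.1 then -((l x : ℂˣ) : ℂ) else 0) +
            (if l = l₀.1⁻¹ then -((l x : ℂˣ) : ℂ) else 0)) := by
        intro l
        rw [hv l]
        by_cases hA : l = l₀.1
        · by_cases hB' : l = l₀.1⁻¹
          · rw [if_pos hA, if_pos hB', if_pos hA, if_pos hB']
            push_cast
            ring
          · rw [if_pos hA, if_neg hB', if_pos hA, if_neg hB']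
            push_cast
            ring
        · by_cases hB' : l = l₀.1⁻¹
          · rw [if_neg hA, if_pos hB', if_neg hA, if_pos hB']
            push_cast
            ring
          · rw [if_neg hA, if_neg hB', if_neg hA, if_neg hB']
            push_cast
            ring
      rw [Finset.sum_congr rfl (fun l _ => h2 l), Finset.sum_add_distrib, Finset.sum_add_distrib,
        sum_hom_units_apply hcommP x, if_neg hx, Finset.sum_ite_eq' Finset.univ l₀.1,
        if_pos (Finset.mem_univ _), Finset.sum_ite_eq' Finset.univ l₀.1⁻¹,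
        if_pos (Finset.mem_univ _), MonoidHom.inv_apply]
      ring
    · -- quasi-faithful
      intro g hg
      apply br_pmtl_qf hζc hfaith
      rw [hg, hdegR]

end Cfsg.Agent.BR
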