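import Mathlib
import Cfsg.Agent.BR.PmtDefs
import Cfsg.Agent.BR.PmtSing
import Cfsg.Agent.Helper6.AbelianInertia

/-!
# S4705, (K3) second half: `G = G' Z(G)` (`br_pmt_perfect`)

Setting `br_pmt_Hyp`.  For a linear character `μ` of `G` trivial on `Z(G)`:
* `μ = 1` on `P` (an element of `N ∖ C` inverts `P`), hence `μ (x y) = 1` on `P × Z`;
* `⟨ζ μ, ζ⟩ = 0` is impossible: the `p`-regular elements carry only `2 |G| / p` of `∑ |ζ|²`
  (`br_pmt_sing_sum`), while `⟨ζ - ζ μ, ζ⟩ = 1` would need `|G| ≤ 2 ∑_{reg} |ζ|²`;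
* so `ζ μ = ζ` and `μ = 1` wherever `ζ ≠ 0`: on the `2`-element `s ∈ N ∖ C` (`s² ∈ Z` by the statement
  `val_four`, `ζ(s)² = θ(s²)` by `val_inv`), hence on `N = C ∪ s C`, on the normal closure of `P`, and
  on `G` (Frattini).
Finally a finite abelian group without non-trivial characters is trivial.
-/

set_option autoImplicit false
set_option linter.style.haveILetI false
set_option linter.unusedSectionVars false

namespace Cfsg.Agent.BR

open Cfsg Cfsg.Agent.D1 Cfsg.Agent.Helper6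
open scoped ComplexConjugate

universe u

/-- conjugate of a value of a linear character of a finite group -/
theorem br_pmtp_conj_hom {Q : Type*} [Group Q] [Finite Q] (μ : Q →* ℂˣ) (x : Q) :
    conj ((μ x : ℂˣ) : ℂ) = (((μ x)⁻¹ : ℂˣ) : ℂ) := by
  have h1 := br_pmt_norm_hom μ x
  have h2 : ((μ x : ℂˣ) : ℂ) * conj ((μ x : ℂˣ) : ℂ) = 1 := by
    rw [Complex.mul_conj, Complex.normSq_eq_norm_sq, h1]; simp
  have h3 : ((μ x : ℂˣ) : ℂ) * (((μ x)⁻¹ : ℂˣ) : ℂ) = 1 := by
    rw [← Units.val_mul, mul_inv_cancel, Units.val_one]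
  have h0 : ((μ x : ℂˣ) : ℂ) ≠ 0 := Units.ne_zero _
  exact mul_left_cancel₀ h0 (h2.trans h3.symm)

/-- `∑_x λ(x)² = 0` for a non-trivial `λ` on a group of odd prime order -/
theorem br_pmtp_sq_sum {Q : Type*} [Group Q] [Fintype Q] {p : ℕ} (hp : p.Prime) (h7 : 7 ≤ p)
    (hcard : Nat.card Q = p) (l : Q →* ℂˣ) (hl : l ≠ 1) :
    ∑ x : Q, ((l x : ℂˣ) : ℂ) ^ 2 = 0 := by
  obtain ⟨m, hm⟩ := hp.odd_of_ne_two (by omega)
  have hl2 : l ^ 2 ≠ 1 := by
    intro h2
    apply hl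
    ext x
    have h3 : (l x) ^ 2 = 1 := by
      have := DFunLike.congr_fun h2 x
      simpa using this
    have h4 : (l x) ^ p = 1 := by
      rw [← map_pow, ← hcard, pow_card_eq_one', map_one]
    rw [hm, pow_succ, pow_mul, h3, one_pow, one_mul] at h4
    rw [h4]; simp
  have := sum_hom_units_eq_zero ((Units.coeHom ℂ).comp (l ^ 2)) (by
    intro h
    apply hl2
    ext x
    have := DFunLike.congr_fun h x
    simpa using this)
  simpa using this

open Classical in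
/-- the character sum `∑_{x ≠ 1} |λ(x) + λ(x)⁻¹|² = 2 p - 4` -/
theorem br_pmtp_lsum {Q : Type*} [Group Q] [Fintype Q] {p : ℕ} (hp : p.Prime) (h7 : 7 ≤ p)
    (hcard : Nat.card Q = p) (l : Q →* ℂˣ) (hl : l ≠ 1) :
    ∑ x : Q, (if x = 1 then (0 : ℂ) else
      (((l x : ℂˣ) : ℂ) + (((l x)⁻¹ : ℂˣ) : ℂ)) * conj (((l x : ℂˣ) : ℂ) + (((l x)⁻¹ : ℂˣ) : ℂ)))
      = 2 * (p : ℂ) - 4 := by
  have hs1 := br_pmtp_sq_sum hp h7 hcard l hl
  have hs2 := br_pmtp_sq_sum hp h7 hcard l⁻¹ (by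
    intro h
    apply hl
    ext x
    have := DFunLike.congr_fun h x
    simpa using this)
  have hterm : ∀ x : Q,
      (((l x : ℂˣ) : ℂ) + (((l x)⁻¹ : ℂˣ) : ℂ)) * conj (((l x : ℂˣ) : ℂ) + (((l x)⁻¹ : ℂˣ) : ℂ))
      = ((l x : ℂˣ) : ℂ) ^ 2 + (((l⁻¹) x : ℂˣ) : ℂ) ^ 2 + 2 := by
    intro x
    rw [map_add, br_pmtp_conj_hom, ← map_inv, br_pmtp_conj_hom, map_inv, inv_inv]
    have h3 : ((l x : ℂˣ) : ℂ) * (((l x)⁻¹ : ℂˣ) : ℂ) = 1 := by
      rw [← Units.val_mul, mul_inv_cancel, Units.val_one]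
    simp only [MonoidHom.inv_apply]
    linear_combination 2 * h3
  have hsplit : ∀ x : Q, (if x = 1 then (0 : ℂ) else
      (((l x : ℂˣ) : ℂ) + (((l x)⁻¹ : ℂˣ) : ℂ)) * conj (((l x : ℂˣ) : ℂ) + (((l x)⁻¹ : ℂˣ) : ℂ)))
      = (((l x : ℂˣ) : ℂ) ^ 2 + (((l⁻¹) x : ℂˣ) : ℂ) ^ 2 + 2) - (if x = 1 then (4 : ℂ) else 0) := by
    intro x
    by_cases hx : x = 1
    · rw [if_pos hx, if_pos hx, hx]
      simp
      norm_num
    · rw [if_neg hx, if_neg hx, hterm, sub_zero]
  rw [Finset.sum_congr rfl (fun x _ => hsplit x), Finset.sum_sub_distrib, Finset.sum_add_distrib,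
    Finset.sum_add_distrib, hs1, hs2, Finset.sum_ite_eq' Finset.univ (1 : Q) (fun _ => (4 : ℂ))]
  simp only [Finset.mem_univ, if_true, Finset.sum_const, Finset.card_univ, nsmul_eq_mul]
  rw [← Nat.card_eq_fintype_card, hcard]
  ring

variable {G : Type u} [Group G] [Finite G] {p : ℕ} [hp : Fact p.Prime] {P : Sylow p G}
  {ζ : G → ℂ} {θ : ↥(Subgroup.center G) →* ℂˣ} {l : ↥(P : Subgroup G) →* ℂˣ}

namespace br_pmt_Hyp

variable (h : br_pmt_Hyp p P ζ θ l)
include h

/-- an element of `N ∖ C` inverts `P`. -/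
theorem pf_inverts {s : G} (hsN : s ∈ Subgroup.normalizer ((P : Subgroup G) : Set G))
    (hsC : s ∉ Subgroup.centralizer ((P : Subgroup G) : Set G)) :
    ∀ x ∈ (P : Subgroup G), s * x * s⁻¹ = x⁻¹ := by
  have hp' : p.Prime := hp.out
  -- a generator
  haveI : Nontrivial ↥(P : Subgroup G) := by
    rw [← Finite.one_lt_card_iff_nontrivial, h.card_P]; exact hp'.one_lt
  obtain ⟨g, hg⟩ := exists_ne (1 : ↥(P : Subgroup G))
  obtain ⟨x₀, hx₀⟩ : ∃ x₀ : G, x₀ = (g : G) := ⟨_, rfl⟩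
  have hx₀P : x₀ ∈ (P : Subgroup G) := hx₀ ▸ g.2
  have hx₀1 : x₀ ≠ 1 := by
    rw [hx₀]; intro h1; exact hg (Subtype.ext h1)
  have hgen := d1_sec_zpowers_eq (P : Subgroup G) h.card_P x₀ hx₀P hx₀1
  have hord := d1_sec_orderOf_eq (P : Subgroup G) h.card_P x₀ hx₀P hx₀1
  -- `s x₀ s⁻¹ = x₀ ^ j`
  have hconjP : s * x₀ * s⁻¹ ∈ (P : Subgroup G) :=
    (Subgroup.mem_normalizer_iff.1 hsN x₀).1 hx₀P
  rw [← hgen] at hconjP
  obtain ⟨j, hj⟩ := Subgroup.mem_zpowers_iff.1 hconjP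
  -- `s * s ∈ C`
  have hidx : ((Subgroup.centralizer ((P : Subgroup G) : Set G)).subgroupOf
      (Subgroup.normalizer ((P : Subgroup G) : Set G))).index = 2 := h.index
  have hss : s * s ∈ Subgroup.centralizer ((P : Subgroup G) : Set G) := by
    have := Subgroup.mul_self_mem_of_index_two hidx
      (⟨s, hsN⟩ : ↥(Subgroup.normalizer ((P : Subgroup G) : Set G)))
    rwa [Subgroup.mem_subgroupOf] at this
  have hconj_pow : ∀ i : ℤ, s * x₀ ^ i * s⁻¹ = (x₀ ^ j) ^ i := by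
    intro i
    rw [hj, ← conj_zpow]
  have hss' : (s * s) * x₀ * (s * s)⁻¹ = x₀ := by
    have := (Subgroup.mem_centralizer_iff.1 hss) x₀ hx₀P
    rw [← this, mul_inv_cancel_right]
  have hjj : x₀ ^ (j * j) = x₀ := by
    have : (s * s) * x₀ * (s * s)⁻¹ = s * (s * x₀ * s⁻¹) * s⁻¹ := by group
    rw [this, ← hj, hconj_pow j, ← zpow_mul] at hss'
    exact hss'
  have hdvd : (p : ℤ) ∣ j * j - 1 := by
    rw [← hord, orderOf_dvd_iff_zpow_eq_one, zpow_sub, hjj, zpow_one, mul_inv_cancel]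
  have hfac : j * j - 1 = (j - 1) * (j + 1) := by ring
  rw [hfac] at hdvd
  rcases (Nat.prime_iff_prime_int.1 hp').dvd_or_dvd hdvd with hd | hd
  · -- `j ≡ 1`: `s` centralizes `P`
    exfalso
    apply hsC
    have h1 : x₀ ^ (j - 1) = 1 := by
      rw [← orderOf_dvd_iff_zpow_eq_one, hord]; exact hd
    have h2 : x₀ ^ j = x₀ := by
      have : x₀ ^ j = x₀ ^ (j - 1) * x₀ := by rw [← zpow_add_one]; congr 1; ring
      rw [this, h1, one_mul]
    rw [Subgroup.mem_centralizer_iff]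
    intro u hu
    rw [SetLike.mem_coe, ← hgen] at hu
    obtain ⟨i, rfl⟩ := Subgroup.mem_zpowers_iff.1 hu
    have h3 := hconj_pow i
    rw [h2] at h3
    -- `s * x₀^i * s⁻¹ = x₀^i`
    calc x₀ ^ i * s = (s * x₀ ^ i * s⁻¹) * s := by rw [h3]
      _ = s * x₀ ^ i := by group
  · -- `j ≡ -1`
    have h1 : x₀ ^ (j + 1) = 1 := by
      rw [← orderOf_dvd_iff_zpow_eq_one, hord]; exact hd
    have h2 : x₀ ^ j = x₀⁻¹ := by
      have : x₀ ^ j = x₀ ^ (j + 1) * x₀⁻¹ := by rw [zpow_add_one, mul_inv_cancel_right]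
      rw [this, h1, one_mul]
    intro x hx
    rw [← hgen] at hx
    obtain ⟨i, rfl⟩ := Subgroup.mem_zpowers_iff.1 hx
    rw [hconj_pow i, h2, inv_zpow]

/-- a linear character of `G` is trivial on `P`. -/
theorem pf_hom_P (μ : G →* ℂˣ) (x : G) (hx : x ∈ (P : Subgroup G)) : μ x = 1 := by
  obtain ⟨s, _, hsN, hsC⟩ := h.exists_two_elt
  have hinv := h.pf_inverts hsN hsC x hx
  have h1 : μ x = (μ x)⁻¹ := by
    have := congrArg μ hinv
    rw [map_mul, map_mul, map_inv, map_inv, mul_comm (μ s), mul_assoc, mul_inv_cancel, mul_one] at this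
    exact this
  have h2 : μ x * μ x = 1 := by
    nth_rewrite 2 [h1]
    rw [mul_inv_cancel]
  have hxp : x ^ p = 1 := by
    have h4 : (⟨x, hx⟩ : ↥(P : Subgroup G)) ^ Nat.card ↥(P : Subgroup G) = 1 := pow_card_eq_one'
    rw [h.card_P] at h4
    exact congrArg Subtype.val h4
  have h3 : μ x ^ p = 1 := by rw [← map_pow, hxp, map_one]
  have h7 := h.p_ge
  obtain ⟨m, hm⟩ := (hp.out.odd_of_ne_two (by omega))
  rw [hm, pow_succ, pow_mul, pow_two, h2, one_pow, one_mul] at h3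
  exact h3

end br_pmt_Hyp

theorem br_pmtp_orderOf_conj {G : Type*} [Group G] (k g : G) :
    orderOf (k * g * k⁻¹) = orderOf g := by
  have := orderOf_injective (MulAut.conj k).toMonoidHom (MulAut.conj k).injective g
  simpa [MulAut.conj_apply] using this

namespace br_pmt_Hyp

variable (h : br_pmt_Hyp p P ζ θ l)
include h

/-- `∑_g |ζ g|² = |G|` -/
theorem pf_sum_sq [Fintype G] : ∑ g : G, ζ g * conj (ζ g) = (Nat.card G : ℂ) := by
  have h1 := classInner_irr_self h.irr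
  rw [classInner_def] at h1
  have hG : (Nat.card G : ℂ) ≠ 0 := by exact_mod_cast Nat.card_pos.ne'
  field_simp at h1
  exact h1

/-- `x y` is `p`-singular for `1 ≠ x ∈ P`, `y ∈ Z(G)` -/
theorem pf_sing_mul (x : ↥(P : Subgroup G)) (hx : x ≠ 1) (y : ↥(Subgroup.center G)) :
    p ∣ orderOf ((x : G) * (y : G)) := by
  have hx1 : (x : G) ≠ 1 := fun hh => hx (Subtype.ext hh)
  have hord := d1_sec_orderOf_eq (P : Subgroup G) h.card_P (x : G) x.2 hx1
  have hcomm : Commute (x : G) (y : G) := Subgroup.mem_center_iff.1 y.2 (x : G)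
  have hco : (orderOf (x : G)).Coprime (orderOf (y : G)) := by
    rw [hord]
    exact (Nat.Prime.coprime_iff_not_dvd hp.out).2 (h.center_reg y y.2)
  rw [hcomm.orderOf_mul_eq_mul_orderOf_of_coprime hco, hord]
  exact dvd_mul_right _ _

/-- `|ζ (x y)|² = |λ(x) + λ(x)⁻¹|²` -/
theorem pf_sq_mul (x : ↥(P : Subgroup G)) (hx : x ≠ 1) (y : ↥(Subgroup.center G)) :
    ζ ((x : G) * (y : G)) * conj (ζ ((x : G) * (y : G))) =
      (((l x : ℂˣ) : ℂ) + (((l x)⁻¹ : ℂˣ) : ℂ)) *
        conj (((l x : ℂˣ) : ℂ) + (((l x)⁻¹ : ℂˣ) : ℂ)) := by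
  rw [h.val_mul x hx y, map_mul, map_neg, br_pmtp_conj_hom θ y]
  have h3 : ((θ y : ℂˣ) : ℂ) * (((θ y)⁻¹ : ℂˣ) : ℂ) = 1 := by
    rw [← Units.val_mul, mul_inv_cancel, Units.val_one]
  linear_combination (((l x : ℂˣ) : ℂ) + (((l x)⁻¹ : ℂˣ) : ℂ)) *
        conj (((l x : ℂˣ) : ℂ) + (((l x)⁻¹ : ℂˣ) : ℂ)) * h3

open Classical in
/-- the `p`-singular part of `∑ |ζ|²` -/
theorem pf_sum_sing [Fintype G] :
    (p : ℂ) * ∑ g : G, (if p ∣ orderOf g then ζ g * conj (ζ g) else 0) =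
      (Nat.card G : ℂ) * ((p : ℂ) - 2) := by
  haveI : Fintype ↥(P : Subgroup G) := Fintype.ofFinite _
  haveI : Fintype ↥(Subgroup.center G) := Fintype.ofFinite _
  have hcf := IsCharacter.isClassFunction (IsIrrCharacter.isCharacter h.irr)
  have h1 := br_pmt_sing_sum p P h (fun g => if p ∣ orderOf g then ζ g * conj (ζ g) else 0)
    (by
      intro g k
      simp only [br_pmtp_orderOf_conj, hcf g k])
    (by
      intro g hg
      simp only [if_neg hg])
  have h2 : ∑ x : ↥(P : Subgroup G), ∑ y : ↥(Subgroup.center G),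
      (if x = 1 then (0 : ℂ) else
        (fun g => if p ∣ orderOf g then ζ g * conj (ζ g) else 0) ((x : G) * (y : G))) =
      (Nat.card ↥(Subgroup.center G) : ℂ) * (2 * (p : ℂ) - 4) := by
    rw [← br_pmtp_lsum hp.out h.p_ge h.card_P l h.l_ne, Finset.mul_sum]
    apply Finset.sum_congr rfl
    intro x _
    by_cases hx : x = 1
    · simp only [if_pos hx, Finset.sum_const_zero, mul_zero]
    · simp only [if_neg hx, if_pos (h.pf_sing_mul x hx _), h.pf_sq_mul x hx]
      rw [Finset.sum_const, Finset.card_univ, nsmul_eq_mul, Nat.card_eq_fintype_card]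
  rw [h2, h.card_N] at h1
  have hZ : (Nat.card ↥(Subgroup.center G) : ℂ) ≠ 0 := by exact_mod_cast Nat.card_pos.ne'
  push_cast at h1
  have h3 : (2 * (Nat.card ↥(Subgroup.center G) : ℂ)) *
      ((p : ℂ) * ∑ g : G, (if p ∣ orderOf g then ζ g * conj (ζ g) else 0)) =
      (2 * (Nat.card ↥(Subgroup.center G) : ℂ)) * ((Nat.card G : ℂ) * ((p : ℂ) - 2)) := by
    linear_combination h1
  exact mul_left_cancel₀ (mul_ne_zero two_ne_zero hZ) h3

end br_pmt_Hyp

namespace br_pmt_Hyp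

variable (h : br_pmt_Hyp p P ζ θ l)
include h

open Classical in
/-- the `p`-regular part: `p ∑_{reg} |ζ|² = 2 |G|` -/
theorem pf_sum_reg [Fintype G] :
    (p : ℂ) * ∑ g : G, (if p ∣ orderOf g then 0 else ζ g * conj (ζ g)) =
      2 * (Nat.card G : ℂ) := by
  have h1 := h.pf_sum_sq
  have h2 := h.pf_sum_sing
  have h3 : ∑ g : G, ζ g * conj (ζ g) =
      ∑ g : G, (if p ∣ orderOf g then ζ g * conj (ζ g) else 0) +
        ∑ g : G, (if p ∣ orderOf g then 0 else ζ g * conj (ζ g)) := by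
    rw [← Finset.sum_add_distrib]
    apply Finset.sum_congr rfl
    intro g _
    by_cases hg : p ∣ orderOf g
    · rw [if_pos hg, if_pos hg, add_zero]
    · rw [if_neg hg, if_neg hg, zero_add]
  rw [h3] at h1
  linear_combination (p : ℂ) * h1 - h2

open Classical in
/-- a linear character trivial on `Z(G)` fixes `ζ` -/
theorem pf_twist [Fintype G] (μ : G →* ℂˣ) (hμ : ∀ y ∈ Subgroup.center G, μ y = 1) :
    (ζ * fun g => ((μ g : ℂˣ) : ℂ)) = ζ := by
  by_contra hne
  haveI : Fintype ↥(P : Subgroup G) := Fintype.ofFinite _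
  haveI : Fintype ↥(Subgroup.center G) := Fintype.ofFinite _
  have hcf := IsCharacter.isClassFunction (IsIrrCharacter.isCharacter h.irr)
  have hG : (Nat.card G : ℂ) ≠ 0 := by exact_mod_cast Nat.card_pos.ne'
  have hN0 : (Nat.card ↥(Subgroup.normalizer ((P : Subgroup G) : Set G)) : ℂ) ≠ 0 := by
    exact_mod_cast Nat.card_pos.ne'
  have hirr := IsIrrCharacter.mul_hom μ h.irr
  have h0 := classInner_irr_ne hirr h.irr hne
  rw [classInner_def] at h0
  have h0' : ∑ g : G, (ζ g * ((μ g : ℂˣ) : ℂ)) * conj (ζ g) = 0 := by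
    rcases mul_eq_zero.1 h0 with h' | h'
    · exact absurd (inv_eq_zero.1 h') hG
    · exact h'
  -- the singular part of `∑ (1 - μ) |ζ|²` vanishes
  have hsing : ∑ g : G, (if p ∣ orderOf g then
      (1 - ((μ g : ℂˣ) : ℂ)) * (ζ g * conj (ζ g)) else 0) = 0 := by
    have h1 := br_pmt_sing_sum p P h (fun g => if p ∣ orderOf g then
      (1 - ((μ g : ℂˣ) : ℂ)) * (ζ g * conj (ζ g)) else 0)
      (by
        intro g k
        have hμk : μ (k * g * k⁻¹) = μ g := by
          rw [map_mul, map_mul, map_inv, mul_comm (μ k), mul_assoc, mul_inv_cancel, mul_one]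
        simp only [br_pmtp_orderOf_conj, hcf g k, hμk])
      (by
        intro g hg
        simp only [if_neg hg])
    have h2 : ∑ x : ↥(P : Subgroup G), ∑ y : ↥(Subgroup.center G),
        (if x = 1 then (0 : ℂ) else
          (fun g => if p ∣ orderOf g then
            (1 - ((μ g : ℂˣ) : ℂ)) * (ζ g * conj (ζ g)) else 0) ((x : G) * (y : G))) = 0 := by
      apply Finset.sum_eq_zero
      intro x _
      apply Finset.sum_eq_zero
      intro y _
      by_cases hx : x = 1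
      · rw [if_pos hx]
      · rw [if_neg hx]
        have hμ1 : μ ((x : G) * (y : G)) = 1 := by
          rw [map_mul, h.pf_hom_P μ x x.2, hμ y y.2, one_mul]
        simp only [hμ1, Units.val_one, sub_self, zero_mul, ite_self]
    rw [h2, mul_zero] at h1
    exact (mul_eq_zero.1 h1).resolve_left hN0
  -- `∑_g (1 - μ g) ρ g = |G|`
  have hreg : ∑ g : G, (1 - ((μ g : ℂˣ) : ℂ)) *
      (if p ∣ orderOf g then 0 else ζ g * conj (ζ g)) = (Nat.card G : ℂ) := by
    have hsplit : ∀ g : G, (1 - ((μ g : ℂˣ) : ℂ)) *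
        (if p ∣ orderOf g then 0 else ζ g * conj (ζ g)) =
        ζ g * conj (ζ g) - (ζ g * ((μ g : ℂˣ) : ℂ)) * conj (ζ g) -
          (if p ∣ orderOf g then (1 - ((μ g : ℂˣ) : ℂ)) * (ζ g * conj (ζ g)) else 0) := by
      intro g
      by_cases hg : p ∣ orderOf g
      · rw [if_pos hg, if_pos hg]; ring
      · rw [if_neg hg, if_neg hg]; ring
    rw [Finset.sum_congr rfl (fun g _ => hsplit g), Finset.sum_sub_distrib,
      Finset.sum_sub_distrib, h.pf_sum_sq, h0', hsing, sub_zero, sub_zero]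
  -- pass to the reals
  set r : G → ℝ := fun g => if p ∣ orderOf g then 0 else Complex.normSq (ζ g) with hr
  have hcast : ∀ g : G, (if p ∣ orderOf g then (0 : ℂ) else ζ g * conj (ζ g)) =
      ((r g : ℝ) : ℂ) := by
    intro g
    by_cases hg : p ∣ orderOf g
    · simp only [hr, if_pos hg, Complex.ofReal_zero]
    · simp only [hr, if_neg hg, Complex.mul_conj]
  have hr0 : ∀ g : G, 0 ≤ r g := by
    intro g
    by_cases hg : p ∣ orderOf g
    · simp only [hr, if_pos hg, le_refl]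
    · simp only [hr, if_neg hg]; exact Complex.normSq_nonneg _
  have hsr := h.pf_sum_reg
  simp only [hcast] at hsr hreg
  have hsr' : (p : ℝ) * ∑ g : G, r g = 2 * (Nat.card G : ℝ) := by
    apply Complex.ofReal_injective
    push_cast
    exact hsr
  have hre := congrArg Complex.re hreg
  rw [Complex.re_sum] at hre
  simp only [Complex.re_mul_ofReal, Complex.natCast_re] at hre
  have hbound : ∀ g : G, (1 - ((μ g : ℂˣ) : ℂ)).re * r g ≤ 2 * r g := by
    intro g
    apply mul_le_mul_of_nonneg_right _ (hr0 g)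
    have h1 := Complex.abs_re_le_norm ((μ g : ℂˣ) : ℂ)
    rw [br_pmt_norm_hom] at h1
    have h2 := abs_le.1 h1
    rw [Complex.sub_re, Complex.one_re]
    linarith [h2.1]
  have hle : (Nat.card G : ℝ) ≤ 2 * ∑ g : G, r g := by
    rw [← hre, Finset.mul_sum]
    exact Finset.sum_le_sum (fun g _ => hbound g)
  have hGpos : (0 : ℝ) < Nat.card G := by exact_mod_cast Nat.card_pos
  have h7 : (7 : ℝ) ≤ p := by exact_mod_cast h.p_ge
  nlinarith

end br_pmt_Hyp

namespace br_pmt_Hyp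

variable (h : br_pmt_Hyp p P ζ θ l)
include h

/-- given the statements `val_four` and `val_inv`: a linear character of `G` trivial on `Z(G)`
is trivial -/
theorem pf_hom_trivial
    (hfour : ∀ g : G, ¬ p ∣ orderOf g → g * g * (g * g) ∈ Subgroup.center G →
      g * g ∈ Subgroup.center G)
    (hinv : ∀ g : G, ¬ p ∣ orderOf g → g ∉ Subgroup.center G →
      ∀ hg2 : g * g ∈ Subgroup.center G, ζ g ^ 2 = ((θ ⟨g * g, hg2⟩ : ℂˣ) : ℂ))
    (μ : G →* ℂˣ) (hμ : ∀ y ∈ Subgroup.center G, μ y = 1) : ∀ g : G, μ g = 1 := by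
  classical
  haveI : Fintype G := Fintype.ofFinite G
  have htw := h.pf_twist μ hμ
  have hnz : ∀ g : G, ζ g ≠ 0 → μ g = 1 := by
    intro g hg
    have h1 := congrFun htw g
    simp only [Pi.mul_apply] at h1
    have h2 : ((μ g : ℂˣ) : ℂ) = 1 := by
      have : ζ g * ((μ g : ℂˣ) : ℂ) = ζ g * 1 := by rw [h1, mul_one]
      exact mul_left_cancel₀ hg this
    exact Units.ext h2
  obtain ⟨s, ⟨k, hk⟩, hsN, hsC⟩ := h.exists_two_elt
  have hsZ : s ∉ Subgroup.center G := fun hh => hsC (h.Z_le_C hh)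
  have h7 := h.p_ge
  -- powers of `s` are `p`-regular
  have hreg : ∀ m : ℕ, ¬ p ∣ orderOf (s ^ m) := by
    intro m hdvd
    have h1 : orderOf (s ^ m) ∣ 2 ^ k := by
      apply orderOf_dvd_of_pow_eq_one
      rw [← pow_mul, mul_comm, pow_mul, hk, one_pow]
    have h2 := hp.out.dvd_of_dvd_pow (hdvd.trans h1)
    have := Nat.le_of_dvd (by norm_num) h2
    omega
  -- `s * s ∈ Z`
  have hind : ∀ j : ℕ, s ^ 2 ^ (j + 1) ∈ Subgroup.center G → s * s ∈ Subgroup.center G := by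
    intro j
    induction j with
    | zero =>
      intro hh
      rwa [zero_add, pow_one, pow_two] at hh
    | succ j ih =>
      intro hh
      apply ih
      have h1 := hfour (s ^ 2 ^ j) (hreg _) (by
        have h3 : s ^ 2 ^ j * s ^ 2 ^ j * (s ^ 2 ^ j * s ^ 2 ^ j) = s ^ 2 ^ (j + 1 + 1) := by
          rw [← pow_add, ← pow_add]; congr 1; ring
        rw [h3]; exact hh)
      have h2 : s ^ 2 ^ j * s ^ 2 ^ j = s ^ 2 ^ (j + 1) := by
        rw [← pow_add]; congr 1; ring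
      rwa [h2] at h1
  have hs2 : s * s ∈ Subgroup.center G := by
    rcases Nat.eq_zero_or_pos k with hk0 | hk0
    · exfalso
      rw [hk0, pow_zero, pow_one] at hk
      apply hsZ
      rw [hk]
      exact Subgroup.one_mem _
    · obtain ⟨k', rfl⟩ := Nat.exists_eq_succ_of_ne_zero hk0.ne'
      apply hind k'
      rw [hk]
      exact Subgroup.one_mem _
  have hs_reg : ¬ p ∣ orderOf s := by simpa using hreg 1
  have hζs : ζ s ≠ 0 := by
    intro h0
    have h1 := hinv s hs_reg hsZ hs2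
    rw [h0] at h1
    have h2 : ((θ ⟨s * s, hs2⟩ : ℂˣ) : ℂ) ≠ 0 := Units.ne_zero _
    apply h2
    rw [← h1]
    norm_num
  have hμs : μ s = 1 := hnz s hζs
  -- on `C`
  have hμC : ∀ g ∈ Subgroup.centralizer ((P : Subgroup G) : Set G), μ g = 1 := by
    intro g hg
    obtain ⟨x, hx, y, hy, rfl⟩ := (h.mem_C_iff g).1 hg
    rw [map_mul, h.pf_hom_P μ x hx, hμ y hy, one_mul]
  -- on `N`
  have hidx : ((Subgroup.centralizer ((P : Subgroup G) : Set G)).subgroupOf
      (Subgroup.normalizer ((P : Subgroup G) : Set G))).index = 2 := h.index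
  have hμN : ∀ g ∈ Subgroup.normalizer ((P : Subgroup G) : Set G), μ g = 1 := by
    intro g hg
    by_cases hgC : g ∈ Subgroup.centralizer ((P : Subgroup G) : Set G)
    · exact hμC g hgC
    · have h1 : ((⟨s, hsN⟩ : ↥(Subgroup.normalizer ((P : Subgroup G) : Set G))) * ⟨g, hg⟩) ∈
          (Subgroup.centralizer ((P : Subgroup G) : Set G)).subgroupOf
            (Subgroup.normalizer ((P : Subgroup G) : Set G)) := by
        rw [Subgroup.mul_mem_iff_of_index_two hidx, Subgroup.mem_subgroupOf,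
          Subgroup.mem_subgroupOf]
        exact ⟨fun hh => absurd hh hsC, fun hh => absurd hh hgC⟩
      rw [Subgroup.mem_subgroupOf] at h1
      have h2 := hμC _ h1
      simp only [Subgroup.coe_mul] at h2
      rw [map_mul, hμs, one_mul] at h2
      exact h2
  -- Frattini
  have hPK : (P : Subgroup G) ≤ μ.ker := fun x hx => MonoidHom.mem_ker.2 (h.pf_hom_P μ x hx)
  have hfr := Sylow.normalizer_sup_eq_top' P hPK
  have hNK : Subgroup.normalizer ((P : Subgroup G) : Set G) ≤ μ.ker :=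
    fun g hg => MonoidHom.mem_ker.2 (hμN g hg)
  have htop : μ.ker = ⊤ := by
    rw [eq_top_iff, ← hfr]
    exact sup_le hNK le_rfl
  intro g
  have hgk : g ∈ μ.ker := by rw [htop]; exact Subgroup.mem_top g
  exact MonoidHom.mem_ker.1 hgk

end br_pmt_Hyp

/-- **`G = G' Z(G)`**, given the statements `br_pmt_val_four` and `br_pmt_val_inv`. -/
theorem br_pmtp_core (p : ℕ) [Fact p.Prime] (P : Sylow p G) {ζ : G → ℂ}
    {θ : ↥(Subgroup.center G) →* ℂˣ} {l : ↥(P : Subgroup G) →* ℂˣ} (h : br_pmt_Hyp p P ζ θ l)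
    (hfour : ∀ g : G, ¬ p ∣ orderOf g → g * g * (g * g) ∈ Subgroup.center G →
      g * g ∈ Subgroup.center G)
    (hinv : ∀ g : G, ¬ p ∣ orderOf g → g ∉ Subgroup.center G →
      ∀ hg2 : g * g ∈ Subgroup.center G, ζ g ^ 2 = ((θ ⟨g * g, hg2⟩ : ℂˣ) : ℂ)) :
    commutator G ⊔ Subgroup.center G = ⊤ := by
  rw [eq_top_iff]
  intro g _
  by_contra hg
  set Z' : Subgroup (Abelianization G) := (Subgroup.center G).map Abelianization.of with hZ'
  let π : G →* Abelianization G ⧸ Z' := (QuotientGroup.mk' Z').comp Abelianization.of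
  have hπg : π g ≠ 1 := by
    intro h1
    apply hg
    have h2 : Abelianization.of g ∈ Z' := by
      rw [← QuotientGroup.eq_one_iff]; exact h1
    obtain ⟨z, hz, hzg⟩ := Subgroup.mem_map.1 h2
    have h3 : g * z⁻¹ ∈ commutator G := by
      rw [← Abelianization.ker_of, MonoidHom.mem_ker, map_mul, map_inv, hzg, mul_inv_cancel]
    have h4 := Subgroup.mul_mem_sup h3 hz
    rwa [inv_mul_cancel_right] at h4
  haveI : NeZero ((Monoid.exponent (Abelianization G ⧸ Z') : ℕ) : ℂ) :=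
    ⟨by exact_mod_cast Monoid.exponent_ne_zero_of_finite⟩
  obtain ⟨φ, hφ⟩ := CommGroup.exists_apply_ne_one_of_hasEnoughRootsOfUnity
    (Abelianization G ⧸ Z') ℂ hπg
  apply hφ
  have h5 := h.pf_hom_trivial hfour hinv (φ.comp π) (by
    intro y hy
    rw [MonoidHom.comp_apply]
    have h6 : π y = 1 := by
      show (QuotientGroup.mk' Z') (Abelianization.of y) = 1
      rw [QuotientGroup.mk'_apply, QuotientGroup.eq_one_iff]
      exact Subgroup.mem_map_of_mem _ hy
    rw [h6, map_one]) g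
  exact h5

end Cfsg.Agent.BR
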