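import Mathlib
import Cfsg.Prelude.Def_Characters
import Cfsg.Agent.Helper6.RepEigen
import Cfsg.Agent.Helper6.CharBasic

/-!
# S4705, K2 (values on the `p`-regular elements): the generic lemmas (helper6)

* `br_pmtv_cycle` : a nonnegative real sequence with `f (k+1) = f k ^ 2` and `f r = f 0`, `r ≥ 1`,
  starts at `0` or `1`.
* `br_pmtv_decomp` : `g = g^a * g^b` with `g^a` a `2`-element and `g^b` of odd order.
* `br_pmtv_eig` : the values of a character on the powers of `g` are power sums of roots of unity.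
* `br_pmtv_no_four_aux` : unit complex numbers `μ i` with `∑ μ i ^ 4 = card` and
  `v = ∑ μ i` a root of `x² - c x + 1`, `c ≥ 3`: impossible.
* `br_pmtv_mixed_aux` : the Cauchy-Schwarz contradiction for a mixed element `s u`.
-/

set_option autoImplicit false
set_option linter.style.haveILetI false
set_option linter.unusedSectionVars false

namespace Cfsg.Agent.BR

open Cfsg Cfsg.Agent.Helper6
open scoped ComplexConjugate

universe u

/-! ### the cycle argument -/

theorem br_pmtv_cycle (f : ℕ → ℝ) (h0 : 0 ≤ f 0) (hf : ∀ k, f (k + 1) = f k ^ 2) (r : ℕ)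
    (hr : 1 ≤ r) (hfr : f r = f 0) : f 0 = 0 ∨ f 0 = 1 := by
  have hpow : ∀ k, f k = f 0 ^ 2 ^ k := by
    intro k
    induction k with
    | zero => simp
    | succ k ih => rw [hf, ih, ← pow_mul, pow_succ]
  have h1 := hpow r
  rw [hfr] at h1
  by_cases hz : f 0 = 0
  · exact Or.inl hz
  · right
    have h2 : (2 : ℕ) ^ r = (2 ^ r - 1) + 1 := by
      have : 1 ≤ 2 ^ r := Nat.one_le_two_pow
      omega
    rw [h2, pow_succ] at h1
    have h3 : f 0 ^ (2 ^ r - 1) = 1 := by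
      have h4 : f 0 * (f 0 ^ (2 ^ r - 1) - 1) = 0 := by linear_combination -h1
      rcases mul_eq_zero.mp h4 with h5 | h5
      · exact absurd h5 hz
      · linear_combination h5
    have h6 : 2 ^ r - 1 ≠ 0 := by
      have : 2 ^ 1 ≤ 2 ^ r := Nat.pow_le_pow_right (by norm_num) hr
      omega
    exact (pow_eq_one_iff_of_nonneg h0 h6).mp h3

/-! ### the `2`-part and the odd part of an element -/

theorem br_pmtv_decomp {G : Type u} [Group G] (g : G) (hg : 0 < orderOf g) :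
    ∃ a b : ℕ, (∃ k : ℕ, orderOf (g ^ a) = 2 ^ k) ∧ Odd (orderOf (g ^ b)) ∧ g ^ a * g ^ b = g := by
  obtain ⟨k, m, hm, ho⟩ := Nat.exists_eq_two_pow_mul_odd hg.ne'
  have hcop : Nat.Coprime (2 ^ k) m :=
    Nat.Coprime.pow_left k (Nat.coprime_two_left.mpr hm)
  obtain ⟨a, ha1, ha2⟩ := Nat.chineseRemainder hcop 1 0
  obtain ⟨b, hb1, hb2⟩ := Nat.chineseRemainder hcop 0 1
  refine ⟨a, b, ?_, ?_, ?_⟩
  · have h1 : (g ^ a) ^ (2 ^ k) = 1 := by
      rw [← pow_mul]
      apply orderOf_dvd_iff_pow_eq_one.mp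
      rw [ho, mul_comm a]
      exact Nat.mul_dvd_mul_left _ ((Nat.modEq_zero_iff_dvd).mp ha2)
    obtain ⟨j, -, hj⟩ := (Nat.dvd_prime_pow Nat.prime_two).mp (orderOf_dvd_of_pow_eq_one h1)
    exact ⟨j, hj⟩
  · have h1 : (g ^ b) ^ m = 1 := by
      rw [← pow_mul]
      apply orderOf_dvd_iff_pow_eq_one.mp
      rw [ho]
      exact Nat.mul_dvd_mul_right ((Nat.modEq_zero_iff_dvd).mp hb1) _
    exact Odd.of_dvd_nat hm (orderOf_dvd_of_pow_eq_one h1)
  · rw [← pow_add]
    conv_rhs => rw [← pow_one g]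
    rw [pow_eq_pow_iff_modEq, ho]
    apply (Nat.modEq_and_modEq_iff_modEq_mul hcop).mp
    constructor
    · have := Nat.ModEq.add ha1 hb1
      simpa using this
    · have := Nat.ModEq.add ha2 hb2
      simpa using this

/-- an element of odd order is a power of each of its `2^n`-th powers -/
theorem br_pmtv_odd_pow {G : Type u} [Group G] (x : G) (hx : Odd (orderOf x)) (n : ℕ) :
    ∃ m : ℕ, (x ^ 2 ^ n) ^ m = x := by
  apply exists_pow_eq_self_of_coprime
  exact Nat.Coprime.pow_left n (Nat.coprime_two_left.mpr hx)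

/-- an element of odd order is fixed by some `r`-fold squaring, `r ≥ 1` -/
theorem br_pmtv_odd_cycle {G : Type u} [Group G] (x : G) (hx : Odd (orderOf x)) :
    ∃ r : ℕ, 1 ≤ r ∧ x ^ 2 ^ r = x := by
  have hpos : 0 < orderOf x := hx.pos
  refine ⟨Nat.totient (orderOf x), Nat.totient_pos.mpr hpos, ?_⟩
  conv_rhs => rw [← pow_one x]
  rw [pow_eq_pow_iff_modEq]
  exact Nat.ModEq.pow_totient (Nat.coprime_two_left.mpr hx)

/-! ### eigenvalues -/

/-- values of a character on the powers of `g` as power sums of roots of unity -/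
theorem br_pmtv_eig {G : Type u} [Group G] [Finite G] {χ : G → ℂ} (hχ : Cfsg.IsCharacter G χ)
    (g : G) :
    ∃ (ι : Type) (_ : Fintype ι) (μ : ι → ℂ), (∀ i, ‖μ i‖ = 1) ∧
      ∀ k : ℕ, χ (g ^ k) = ∑ i, μ i ^ k := by
  obtain ⟨n, ρ, rfl⟩ := hχ
  obtain ⟨ι, hι, b, μ, h1, h2, -⟩ := exists_eigenbasis_rep ρ g
  refine ⟨ι, hι, μ, fun i => norm_eq_one_of_pow_eq_one (orderOf_pos g) (h2 i), fun k => ?_⟩
  show LinearMap.trace ℂ _ (ρ (g ^ k)) = _
  exact trace_eq_sum_of_eigenbasis b (ρ (g ^ k)) (fun i => μ i ^ k)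
    (fun i => eigen_pow ρ g b μ h1 k i)

/-- unit complex numbers summing to their number are all `1` -/
theorem br_pmtv_all_one {ι : Type} [Fintype ι] (z : ι → ℂ) (hz : ∀ i, ‖z i‖ = 1)
    (hs : ∑ i, z i = (Fintype.card ι : ℂ)) : ∀ i, z i = 1 := by
  intro i
  obtain ⟨ω, -, hω⟩ := eq_of_norm_sum_eq_card z hz (by rw [hs]; simp) ⟨i⟩
  have h1 : ∑ j, z j = (Fintype.card ι : ℂ) * ω := by
    rw [Finset.sum_congr rfl (fun j _ => hω j), Finset.sum_const, Finset.card_univ, nsmul_eq_mul]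
  rw [hs] at h1
  have hc : (Fintype.card ι : ℂ) ≠ 0 := by
    haveI : Nonempty ι := ⟨i⟩
    exact_mod_cast Fintype.card_ne_zero
  have h2 : ω = 1 := by
    have h3 : (Fintype.card ι : ℂ) * (ω - 1) = 0 := by linear_combination -h1
    rcases mul_eq_zero.mp h3 with h4 | h4
    · exact absurd h4 hc
    · linear_combination h4
  rw [hω i, h2]

/-! ### no elements of order `4` modulo the kernel -/

theorem br_pmtv_gauss {μ : ℂ} (h4 : μ ^ 4 = 1) : ∃ X Y : ℤ, μ = (X : ℂ) + (Y : ℂ) * Complex.I := by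
  have h1 : (μ - 1) * (μ + 1) * ((μ - Complex.I) * (μ + Complex.I)) = 0 := by
    have hI : Complex.I ^ 2 = -1 := Complex.I_sq
    linear_combination h4 - (μ ^ 2 - 1) * hI
  rcases mul_eq_zero.mp h1 with h2 | h2
  · rcases mul_eq_zero.mp h2 with h3 | h3
    · exact ⟨1, 0, by push_cast; linear_combination h3⟩
    · exact ⟨-1, 0, by push_cast; linear_combination h3⟩
  · rcases mul_eq_zero.mp h2 with h3 | h3
    · exact ⟨0, 1, by push_cast; linear_combination h3⟩
    · exact ⟨0, -1, by push_cast; linear_combination h3⟩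

theorem br_pmtv_no_four_aux {ι : Type} [Fintype ι] (μ : ι → ℂ) (hμ : ∀ i, ‖μ i‖ = 1)
    (h4 : ∑ i, μ i ^ 4 = (Fintype.card ι : ℂ)) (c : ℤ) (hc : 3 ≤ c)
    (hv : (∑ i, μ i) ^ 2 - (c : ℂ) * (∑ i, μ i) + 1 = 0) : False := by
  classical
  have h1 : ∀ i, μ i ^ 4 = 1 :=
    br_pmtv_all_one (fun i => μ i ^ 4) (fun i => by rw [norm_pow, hμ i, one_pow]) h4
  have h2 : ∃ X Y : ℤ, ∑ i, μ i = (X : ℂ) + (Y : ℂ) * Complex.I := by
    apply Finset.sum_induction μ (fun z => ∃ X Y : ℤ, z = (X : ℂ) + (Y : ℂ) * Complex.I)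
    · rintro _ _ ⟨X, Y, rfl⟩ ⟨X', Y', rfl⟩
      exact ⟨X + X', Y + Y', by push_cast; ring⟩
    · exact ⟨0, 0, by simp⟩
    · intro i _
      exact br_pmtv_gauss (h1 i)
  obtain ⟨X, Y, hXY⟩ := h2
  rw [hXY] at hv
  have hre := congrArg Complex.re hv
  have him := congrArg Complex.im hv
  simp [pow_two] at hre him
  have hreZ : X * X - Y * Y - c * X + 1 = 0 := by exact_mod_cast hre
  have himZ : X * Y + Y * X - c * Y = 0 := by exact_mod_cast him
  by_cases hY : Y = 0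
  · rw [hY] at hreZ
    have h5 : X * (c - X) = 1 := by linarith
    rcases Int.eq_one_or_neg_one_of_mul_eq_one h5 with h6 | h6
    · rw [h6] at h5; omega
    · rw [h6] at h5; omega
  · have h5 : Y * (2 * X - c) = 0 := by linarith
    rcases mul_eq_zero.mp h5 with h6 | h6
    · exact hY h6
    · have h7 : c = 2 * X := by linarith
      rw [h7] at hreZ
      have h8 : X * X + Y * Y = 1 := by linarith
      have h9 : 1 ≤ Y * Y := by
        rcases lt_or_gt_of_ne hY with h | h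
        · nlinarith
        · nlinarith
      have h10 : X * X ≤ 0 := by linarith
      have h11 : X = 0 := by nlinarith
      omega

/-! ### the mixed elements `s u` -/

theorem br_pmtv_re_sq {z : ℂ} (hz : ‖z‖ = 1) : (z ^ 2).re = 2 * z.re ^ 2 - 1 := by
  have h1 : z.re ^ 2 + z.im ^ 2 = 1 := by
    have := Complex.sq_norm z
    rw [hz, Complex.normSq_apply] at this
    nlinarith [this]
  rw [pow_two, Complex.mul_re]
  nlinarith [h1]

theorem br_pmtv_mixed_aux {ι : Type} [Fintype ι] (σ ν : ι → ℂ) (hν : ∀ i, ‖ν i‖ = 1)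
    (t : ℕ) (ht : 3 ≤ t) (hcard : Fintype.card ι + 1 = 2 * t)
    (hσ : ∀ i, σ i = 1 ∨ σ i = -1) (h2 : ∑ i, σ i = -1)
    (h3 : ∑ i, ν i = 0) (h4 : ∑ i, ν i ^ 2 = 0)
    (h5 : ‖∑ i, σ i * ν i‖ = 2 * (t : ℝ) - 2) : False := by
  classical
  set Sp : Finset ι := Finset.univ.filter (fun i => σ i = 1) with hSp
  set Sm : Finset ι := Finset.univ.filter (fun i => ¬ σ i = 1) with hSm
  have hsplit : ∀ f : ι → ℂ, ∑ i, f i = ∑ i ∈ Sp, f i + ∑ i ∈ Sm, f i := fun f =>
    (Finset.sum_filter_add_sum_filter_not Finset.univ (fun i => σ i = 1) f).symm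
  have hcards : Sp.card + Sm.card = Fintype.card ι := by
    rw [hSp, hSm, Finset.card_filter_add_card_filter_not, Finset.card_univ]
  have hσp : ∀ i ∈ Sp, σ i = 1 := fun i hi => (Finset.mem_filter.mp hi).2
  have hσm : ∀ i ∈ Sm, σ i = -1 := fun i hi => by
    rcases hσ i with h | h
    · exact absurd h (Finset.mem_filter.mp hi).2
    · exact h
  -- the cardinalities
  have hc1 : (Sp.card : ℂ) - (Sm.card : ℂ) = -1 := by
    rw [hsplit σ, Finset.sum_congr rfl hσp, Finset.sum_congr rfl hσm] at h2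
    simp only [Finset.sum_const, nsmul_eq_mul, mul_one] at h2
    linear_combination h2
  have hc2 : (Sp.card : ℤ) - (Sm.card : ℤ) = -1 := by exact_mod_cast hc1
  have hSpc : Sp.card + 1 = t := by omega
  have hSmc : Sm.card = t := by omega
  -- the two partial sums
  set A : ℂ := ∑ i ∈ Sp, ν i with hA
  set B : ℂ := ∑ i ∈ Sm, ν i with hB
  have hAB : A + B = 0 := by rw [hA, hB, ← hsplit ν, h3]
  have h2A : ∑ i, σ i * ν i = 2 * A := by
    rw [hsplit (fun i => σ i * ν i),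
      Finset.sum_congr rfl (fun i hi => by rw [hσp i hi, one_mul] : ∀ i ∈ Sp, σ i * ν i = ν i),
      Finset.sum_congr rfl (fun i hi => by rw [hσm i hi] : ∀ i ∈ Sm, σ i * ν i = -1 * ν i),
      ← Finset.mul_sum]
    linear_combination -hAB
  have hnA : ‖A‖ = (t : ℝ) - 1 := by
    rw [h2A, norm_mul] at h5
    have : ‖(2 : ℂ)‖ = 2 := by simp
    rw [this] at h5
    linarith
  -- extraction
  have hSpne : Nonempty ↥Sp := by
    have : 0 < Sp.card := by omega
    exact (Finset.card_pos.mp this).to_subtype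
  have hsumcoe : ∑ i : ↥Sp, ν (i : ι) = A := Finset.sum_coe_sort Sp ν
  obtain ⟨w, hw, hall⟩ := eq_of_norm_sum_eq_card (fun i : ↥Sp => ν (i : ι)) (fun i => hν i)
    (by
      rw [hsumcoe, hnA, Fintype.card_coe]
      have : ((Sp.card + 1 : ℕ) : ℝ) = (t : ℝ) := by exact_mod_cast hSpc
      push_cast at this
      linarith) hSpne
  have hνp : ∀ i ∈ Sp, ν i = w := fun i hi => hall ⟨i, hi⟩
  have hSpC : (Sp.card : ℂ) = (t : ℂ) - 1 := by
    have : ((Sp.card + 1 : ℕ) : ℂ) = (t : ℂ) := by exact_mod_cast hSpc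
    push_cast at this
    linear_combination this
  have hAw : A = ((t : ℂ) - 1) * w := by
    rw [hA, Finset.sum_congr rfl hνp, Finset.sum_const, nsmul_eq_mul, hSpC]
  have hBw : B = -(((t : ℂ) - 1) * w) := by linear_combination hAB - hAw
  have hB2 : ∑ i ∈ Sm, ν i ^ 2 = -(((t : ℂ) - 1) * w ^ 2) := by
    have h6 := hsplit (fun i => ν i ^ 2)
    rw [h4, Finset.sum_congr rfl (fun i hi => by rw [hνp i hi] : ∀ i ∈ Sp, ν i ^ 2 = w ^ 2),
      Finset.sum_const, nsmul_eq_mul, hSpC] at h6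
    linear_combination -h6
  have hww : w * conj w = 1 := by
    rw [Complex.mul_conj, Complex.normSq_eq_norm_sq, hw]; simp
  -- real parts
  have hR1 : ∑ i ∈ Sm, (ν i * conj w).re = -((t : ℝ) - 1) := by
    rw [← Complex.re_sum, ← Finset.sum_mul, ← hB, hBw]
    have : -(((t : ℂ) - 1) * w) * conj w = ((-((t : ℝ) - 1) : ℝ) : ℂ) := by
      push_cast
      linear_combination (-((t : ℂ) - 1)) * hww
    rw [this, Complex.ofReal_re]
  have hR2' : ∑ i ∈ Sm, ((ν i * conj w) ^ 2).re = -((t : ℝ) - 1) := by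
    rw [← Complex.re_sum]
    have h7 : ∑ i ∈ Sm, (ν i * conj w) ^ 2 = (∑ i ∈ Sm, ν i ^ 2) * (conj w) ^ 2 := by
      rw [Finset.sum_mul]
      exact Finset.sum_congr rfl (fun i _ => mul_pow _ _ _)
    rw [h7, hB2]
    have : -(((t : ℂ) - 1) * w ^ 2) * (conj w) ^ 2 = ((-((t : ℝ) - 1) : ℝ) : ℂ) := by
      push_cast
      linear_combination (-((t : ℂ) - 1)) * (w * conj w + 1) * hww
    rw [this, Complex.ofReal_re]
  have hR2 : 2 * ∑ i ∈ Sm, (ν i * conj w).re ^ 2 = 1 := by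
    have h8 : ∀ i ∈ Sm, ((ν i * conj w) ^ 2).re = 2 * (ν i * conj w).re ^ 2 - 1 := fun i _ =>
      br_pmtv_re_sq (by rw [norm_mul, hν i, Complex.norm_conj, hw, one_mul])
    rw [Finset.sum_congr rfl h8, Finset.sum_sub_distrib, ← Finset.mul_sum, Finset.sum_const,
      nsmul_eq_mul, hSmc, mul_one] at hR2'
    linarith
  -- the final inequality
  have hnn : 0 ≤ ∑ i ∈ Sm, ((t : ℝ) * (ν i * conj w).re + ((t : ℝ) - 1)) ^ 2 :=
    Finset.sum_nonneg (fun i _ => sq_nonneg _)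
  have hexp : ∑ i ∈ Sm, ((t : ℝ) * (ν i * conj w).re + ((t : ℝ) - 1)) ^ 2 =
      (t : ℝ) ^ 2 * ∑ i ∈ Sm, (ν i * conj w).re ^ 2 +
        2 * (t : ℝ) * ((t : ℝ) - 1) * ∑ i ∈ Sm, (ν i * conj w).re +
        ((t : ℝ) - 1) ^ 2 * (t : ℝ) := by
    rw [Finset.mul_sum, Finset.mul_sum]
    have : ((t : ℝ) - 1) ^ 2 * (t : ℝ) = ∑ _i ∈ Sm, ((t : ℝ) - 1) ^ 2 := by
      rw [Finset.sum_const, nsmul_eq_mul, hSmc]; ring
    rw [this, ← Finset.sum_add_distrib, ← Finset.sum_add_distrib]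
    exact Finset.sum_congr rfl (fun i _ => by ring)
  rw [hexp, hR1] at hnn
  have ht' : (3 : ℝ) ≤ t := by exact_mod_cast ht
  nlinarith [hR2, hnn, ht']

end Cfsg.Agent.BR
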