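import Cfsg.Agent.BR.PmtDefs
import Cfsg.Agent.BR.PmtValA

/-!
# S4705, K2: the values of `ζ` on the `p`-regular elements, from the relation (T) (helper6)

Input: `h : br_pmt_Hyp p P ζ θ l`, `hodd : br_pmt_Odd θ` and the conclusions of `br_pmt_T` for
some exponent `J`, packaged as `br_pmtv_TJ p ζ J`.

* `br_pmtv_odd` : `g` `p`-regular of odd order: `g` central or `ζ g = 0` (cycle argument).
* `br_pmtv_invol` : `s` a `2`-element, `s ∉ Z`, `s² ∈ Z`: `ζ s = -1`.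
* `br_pmtv_val_inv` : `g` `p`-regular, `g ∉ Z`, `g² ∈ Z`: `ζ(g)² = θ(g²)`.
* `br_pmtv_no_four`, `br_pmtv_val_four` : `g⁴ ∈ Z ⇒ g² ∈ Z`.
* `br_pmtv_two_sq` : `s² ∈ Z` for every `2`-element `s`.
* `br_pmtv_val_zero` : `g` `p`-regular, `g² ∉ Z`: `ζ g = 0`.
-/

set_option autoImplicit false
set_option linter.style.haveILetI false
set_option linter.unusedSectionVars false

namespace Cfsg.Agent.BR

open Cfsg Cfsg.Agent.Helper6
open scoped ComplexConjugate

universe u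

variable {G : Type u} [Group G]

/-- the exponent `J` of `br_pmt_T` and the relation (T) -/
structure br_pmtv_TJ (p : ℕ) (ζ : G → ℂ) (J : ℕ) : Prop where
  odd : ∀ g : G, Odd (orderOf g) → ¬ p ∣ orderOf g → g ^ J = g * g
  two : ∀ g : G, (∃ k : ℕ, orderOf g = 2 ^ k) → g ^ J = g
  T : ∀ g : G, ¬ p ∣ orderOf g → ζ g ^ 2 - ζ (g * g) = ((p : ℂ) - 3) * ζ (g ^ J)

/-! ### elementary identities -/

theorem br_pmtv_pow_sq (g : G) (n : ℕ) : g ^ n * g ^ n = (g * g) ^ n := by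
  rw [← pow_two, ← pow_two, ← pow_mul, ← pow_mul, mul_comm]

theorem br_pmtv_four (g : G) : g * g * (g * g) = g ^ 4 := by
  simp [pow_succ, mul_assoc]

theorem br_pmtv_pow_four (g : G) (n : ℕ) :
    g ^ n * g ^ n * (g ^ n * g ^ n) = (g * g * (g * g)) ^ n := by
  rw [br_pmtv_four, br_pmtv_four, ← pow_mul, ← pow_mul, mul_comm]

theorem br_pmtv_sq_pow_two {s : G} {k : ℕ} (hk : orderOf s = 2 ^ k) : (s * s) ^ 2 ^ k = 1 := by
  rw [← br_pmtv_pow_sq, ← hk, pow_orderOf_eq_one, one_mul]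

theorem br_pmtv_sq_two {s : G} (hs : ∃ k : ℕ, orderOf s = 2 ^ k) :
    ∃ k : ℕ, orderOf (s * s) = 2 ^ k := by
  obtain ⟨k, hk⟩ := hs
  obtain ⟨j, -, hj⟩ := (Nat.dvd_prime_pow Nat.prime_two).mp
    (orderOf_dvd_of_pow_eq_one (br_pmtv_sq_pow_two hk))
  exact ⟨j, hj⟩

theorem br_pmtv_mul_mul {s u : G} (hc : Commute s u) : s * u * (s * u) = s * s * (u * u) :=
  Commute.mul_mul_mul_comm hc.symm s u

variable [Finite G] {p : ℕ} [hp : Fact p.Prime] {P : Sylow p G}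
  {ζ : G → ℂ} {θ : ↥(Subgroup.center G) →* ℂˣ} {l : ↥(P : Subgroup G) →* ℂˣ}

/-! ### `θ` on the `2`-elements of the centre -/

omit [Finite G] in
theorem br_pmtv_theta_two (hodd : br_pmt_Odd θ) (y : ↥(Subgroup.center G)) (k : ℕ)
    (hy : y ^ 2 ^ k = 1) : θ y = 1 := by
  obtain ⟨m, hm, hθ⟩ := hodd
  have h1 : (θ y) ^ m = 1 := by
    have := congrArg (fun f : ↥(Subgroup.center G) →* ℂˣ => f y) hθ
    simpa using this
  have h2 : (θ y) ^ 2 ^ k = 1 := by rw [← map_pow, hy, map_one]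
  have h3 : orderOf (θ y) ∣ Nat.gcd m (2 ^ k) :=
    Nat.dvd_gcd (orderOf_dvd_of_pow_eq_one h1) (orderOf_dvd_of_pow_eq_one h2)
  have h4 : Nat.gcd m (2 ^ k) = 1 := Nat.Coprime.pow_right k (Nat.coprime_two_right.mpr hm)
  rw [h4, Nat.dvd_one, orderOf_eq_one_iff] at h3
  exact h3

theorem br_pmtv_central_two (h : br_pmt_Hyp p P ζ θ l) (hodd : br_pmt_Odd θ) (g y : G)
    (hy : y ∈ Subgroup.center G) (k : ℕ) (hyk : y ^ 2 ^ k = 1) : ζ (g * y) = ζ g := by
  have h1 := h.central g ⟨y, hy⟩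
  rw [br_pmtv_theta_two hodd ⟨y, hy⟩ k (Subtype.ext (by simpa using hyk))] at h1
  simpa using h1

theorem br_pmtv_center_two (h : br_pmt_Hyp p P ζ θ l) (hodd : br_pmt_Odd θ) (y : G)
    (hy : y ∈ Subgroup.center G) (k : ℕ) (hyk : y ^ 2 ^ k = 1) : ζ y = (p : ℂ) - 2 := by
  have h1 := br_pmtv_central_two h hodd 1 y hy k hyk
  rwa [one_mul, h.deg] at h1

theorem br_pmtv_two_reg (h : br_pmt_Hyp p P ζ θ l) (s : G) (hs : ∃ k : ℕ, orderOf s = 2 ^ k) :
    ¬ p ∣ orderOf s := by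
  obtain ⟨k, hk⟩ := hs
  rw [hk]
  intro hd
  have h2 := (Nat.prime_dvd_prime_iff_eq hp.out Nat.prime_two).mp (hp.out.dvd_of_dvd_pow hd)
  have := h.p_ge
  omega

theorem br_pmtv_norm_d (h : br_pmt_Hyp p P ζ θ l) : ‖(p : ℂ) - 2‖ = (p : ℝ) - 2 := by
  have h7 : (7 : ℝ) ≤ p := by exact_mod_cast h.p_ge
  have h1 : ((p : ℂ) - 2) = (((p : ℝ) - 2 : ℝ) : ℂ) := by push_cast; ring
  rw [h1, Complex.norm_real, Real.norm_eq_abs, abs_of_nonneg (by linarith)]

theorem br_pmtv_norm_c (h : br_pmt_Hyp p P ζ θ l) : ‖(p : ℂ) - 3‖ = (p : ℝ) - 3 := by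
  have h7 : (7 : ℝ) ≤ p := by exact_mod_cast h.p_ge
  have h1 : ((p : ℂ) - 3) = (((p : ℝ) - 3 : ℝ) : ℂ) := by push_cast; ring
  rw [h1, Complex.norm_real, Real.norm_eq_abs, abs_of_nonneg (by linarith)]

/-! ### (V1) odd order -/

theorem br_pmtv_odd (h : br_pmt_Hyp p P ζ θ l) {J : ℕ} (hJ : br_pmtv_TJ p ζ J) (g : G)
    (hgo : Odd (orderOf g)) (hg : ¬ p ∣ orderOf g) : g ∈ Subgroup.center G ∨ ζ g = 0 := by
  have h7 : (7 : ℝ) ≤ p := by exact_mod_cast h.p_ge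
  have hd : (0 : ℝ) < (p : ℝ) - 2 := by linarith
  have hstep : ∀ x : G, Odd (orderOf x) → ¬ p ∣ orderOf x →
      ‖ζ x‖ ^ 2 = ((p : ℝ) - 2) * ‖ζ (x * x)‖ := by
    intro x hxo hx
    have hT := hJ.T x hx
    rw [hJ.odd x hxo hx] at hT
    have h1 : ζ x ^ 2 = ((p : ℂ) - 2) * ζ (x * x) := by linear_combination hT
    have h2 := congrArg norm h1
    rwa [norm_pow, norm_mul, br_pmtv_norm_d h] at h2
  set f : ℕ → ℝ := fun k => ‖ζ (g ^ 2 ^ k)‖ / ((p : ℝ) - 2) with hf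
  have hfs : ∀ k, f (k + 1) = f k ^ 2 := by
    intro k
    have hxo : Odd (orderOf (g ^ 2 ^ k)) := Odd.of_dvd_nat hgo (orderOf_pow_dvd _)
    have hx : ¬ p ∣ orderOf (g ^ 2 ^ k) := fun hd' => hg (dvd_trans hd' (orderOf_pow_dvd _))
    have h1 := hstep _ hxo hx
    have h2 : g ^ 2 ^ k * g ^ 2 ^ k = g ^ 2 ^ (k + 1) := by
      rw [← pow_add, pow_succ, mul_two]
    rw [h2] at h1
    simp only [hf]
    rw [div_pow, h1]
    field_simp
  obtain ⟨r, hr, hgr⟩ := br_pmtv_odd_cycle g hgo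
  have hfr : f r = f 0 := by
    simp only [hf]
    rw [hgr, pow_zero, pow_one]
  have hf0 : f 0 = ‖ζ g‖ / ((p : ℝ) - 2) := by
    simp only [hf]
    rw [pow_zero, pow_one]
  rcases br_pmtv_cycle f (by rw [hf0]; positivity) hfs r hr hfr with h0 | h1
  · right
    rw [hf0, div_eq_zero_iff] at h0
    rcases h0 with h0 | h0
    · exact norm_eq_zero.mp h0
    · exact absurd h0 hd.ne'
  · left
    apply h.qf
    rw [hf0, div_eq_one_iff_eq hd.ne'] at h1
    exact h1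

/-! ### (V2) involutions modulo the centre -/

theorem br_pmtv_invol (h : br_pmt_Hyp p P ζ θ l) (hodd : br_pmt_Odd θ) {J : ℕ}
    (hJ : br_pmtv_TJ p ζ J) (s : G) (hs : ∃ k : ℕ, orderOf s = 2 ^ k)
    (hsZ : s ∉ Subgroup.center G) (hs2 : s * s ∈ Subgroup.center G) : ζ s = -1 := by
  have hreg := br_pmtv_two_reg h s hs
  have hT := hJ.T s hreg
  rw [hJ.two s hs] at hT
  obtain ⟨k, hk⟩ := hs
  have h1 : ζ (s * s) = (p : ℂ) - 2 :=
    br_pmtv_center_two h hodd (s * s) hs2 k (br_pmtv_sq_pow_two hk)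
  rw [h1] at hT
  have h2 : (ζ s + 1) * (ζ s - ((p : ℂ) - 2)) = 0 := by linear_combination hT
  rcases mul_eq_zero.mp h2 with h3 | h3
  · linear_combination h3
  · exfalso
    apply hsZ
    apply h.qf
    have h4 : ζ s = (p : ℂ) - 2 := by linear_combination h3
    rw [h4, br_pmtv_norm_d h]

omit [Finite G] hp in
theorem br_pmtv_odd_mem {x : G} (hx : Odd (orderOf x)) (n : ℕ)
    (hxn : x ^ 2 ^ n ∈ Subgroup.center G) : x ∈ Subgroup.center G := by
  obtain ⟨m, hm⟩ := br_pmtv_odd_pow x hx n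
  rw [← hm]
  exact Subgroup.pow_mem _ hxn m

theorem br_pmtv_val_inv (h : br_pmt_Hyp p P ζ θ l) (hodd : br_pmt_Odd θ) {J : ℕ}
    (hJ : br_pmtv_TJ p ζ J) (g : G) (_hg : ¬ p ∣ orderOf g) (hgZ : g ∉ Subgroup.center G)
    (hg2 : g * g ∈ Subgroup.center G) : ζ g ^ 2 = ((θ ⟨g * g, hg2⟩ : ℂˣ) : ℂ) := by
  obtain ⟨a, b, hs, hu, hsu⟩ := br_pmtv_decomp g (orderOf_pos g)
  have hu2 : g ^ b * g ^ b ∈ Subgroup.center G := by
    rw [br_pmtv_pow_sq]
    exact Subgroup.pow_mem _ hg2 b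
  have hs2 : g ^ a * g ^ a ∈ Subgroup.center G := by
    rw [br_pmtv_pow_sq]
    exact Subgroup.pow_mem _ hg2 a
  have huZ : g ^ b ∈ Subgroup.center G := by
    apply br_pmtv_odd_mem hu 1
    rw [pow_one, pow_two]
    exact hu2
  have hsZ : g ^ a ∉ Subgroup.center G := by
    intro hsZ
    apply hgZ
    rw [← hsu]
    exact Subgroup.mul_mem _ hsZ huZ
  have hζs := br_pmtv_invol h hodd hJ (g ^ a) hs hsZ hs2
  have hζg : ζ g = -((θ ⟨g ^ b, huZ⟩ : ℂˣ) : ℂ) := by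
    have h1 := h.central (g ^ a) ⟨g ^ b, huZ⟩
    rw [hζs] at h1
    simp only at h1
    rw [hsu] at h1
    rw [h1]
    ring
  obtain ⟨k, hk⟩ := hs
  have hθs : θ ⟨g ^ a * g ^ a, hs2⟩ = 1 :=
    br_pmtv_theta_two hodd ⟨g ^ a * g ^ a, hs2⟩ k (Subtype.ext (by
      simpa using br_pmtv_sq_pow_two hk))
  have hcomm : Commute (g ^ a) (g ^ b) := Commute.pow_pow (Commute.refl g) a b
  have hgg : (⟨g * g, hg2⟩ : ↥(Subgroup.center G)) =
      ⟨g ^ a * g ^ a, hs2⟩ * (⟨g ^ b, huZ⟩ * ⟨g ^ b, huZ⟩) := by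
    apply Subtype.ext
    simp only [Subgroup.coe_mul]
    rw [← br_pmtv_mul_mul hcomm, hsu]
  rw [hgg, map_mul, map_mul, hθs, hζg]
  push_cast
  ring

/-! ### (V3) no elements of order `4` modulo the centre -/

theorem br_pmtv_no_four (h : br_pmt_Hyp p P ζ θ l) (hodd : br_pmt_Odd θ) {J : ℕ}
    (hJ : br_pmtv_TJ p ζ J) (s : G) (hs : ∃ k : ℕ, orderOf s = 2 ^ k)
    (hs2 : s * s ∉ Subgroup.center G) (hs4 : s * s * (s * s) ∈ Subgroup.center G) : False := by
  have hreg := br_pmtv_two_reg h s hs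
  have hζx : ζ (s * s) = -1 := br_pmtv_invol h hodd hJ (s * s) (br_pmtv_sq_two hs) hs2 hs4
  have hT := hJ.T s hreg
  rw [hJ.two s hs, hζx] at hT
  obtain ⟨ι, hι, μ, hμ, hval⟩ := br_pmtv_eig (IsIrrCharacter.isCharacter h.irr) s
  have hcard : (Fintype.card ι : ℂ) = (p : ℂ) - 2 := by
    have h0 := hval 0
    simp only [pow_zero, Finset.sum_const, Finset.card_univ, nsmul_eq_mul, mul_one] at h0
    rw [← h0, h.deg]
  obtain ⟨k, hk⟩ := br_pmtv_sq_two (br_pmtv_sq_two hs)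
  have h4 : ∑ i, μ i ^ 4 = (Fintype.card ι : ℂ) := by
    rw [← hval 4, ← br_pmtv_four, hcard]
    exact br_pmtv_center_two h hodd _ hs4 k (by rw [← hk]; exact pow_orderOf_eq_one _)
  have h1 : ∑ i, μ i = ζ s := by
    have := hval 1
    simp only [pow_one] at this
    exact this.symm
  have h7 : (7 : ℤ) ≤ (p : ℤ) := by exact_mod_cast h.p_ge
  apply br_pmtv_no_four_aux μ hμ h4 ((p : ℤ) - 3) (by omega)
  rw [h1]
  push_cast
  linear_combination hT

theorem br_pmtv_val_four (h : br_pmt_Hyp p P ζ θ l) (hodd : br_pmt_Odd θ) {J : ℕ}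
    (hJ : br_pmtv_TJ p ζ J) (g : G) (hg4 : g * g * (g * g) ∈ Subgroup.center G) :
    g * g ∈ Subgroup.center G := by
  obtain ⟨a, b, hs, hu, hsu⟩ := br_pmtv_decomp g (orderOf_pos g)
  have hu4 : (g ^ b) ^ 2 ^ 2 ∈ Subgroup.center G := by
    have h1 : (g ^ b) ^ 2 ^ 2 = (g * g * (g * g)) ^ b := by
      rw [← br_pmtv_pow_four, br_pmtv_four]
      norm_num
    rw [h1]
    exact Subgroup.pow_mem _ hg4 b
  have huZ : g ^ b ∈ Subgroup.center G := br_pmtv_odd_mem hu 2 hu4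
  have hs4 : g ^ a * g ^ a * (g ^ a * g ^ a) ∈ Subgroup.center G := by
    rw [br_pmtv_pow_four]
    exact Subgroup.pow_mem _ hg4 a
  have hcomm : Commute (g ^ a) (g ^ b) := Commute.pow_pow (Commute.refl g) a b
  by_cases hss : g ^ a * g ^ a ∈ Subgroup.center G
  · rw [← hsu, br_pmtv_mul_mul hcomm]
    exact Subgroup.mul_mem _ hss (Subgroup.mul_mem _ huZ huZ)
  · exact absurd (br_pmtv_no_four h hodd hJ (g ^ a) hs hss hs4) id

/-- the square of a `2`-element is central -/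
theorem br_pmtv_two_sq (h : br_pmt_Hyp p P ζ θ l) (hodd : br_pmt_Odd θ) {J : ℕ}
    (hJ : br_pmtv_TJ p ζ J) (s : G) (hs : ∃ k : ℕ, orderOf s = 2 ^ k) :
    s * s ∈ Subgroup.center G := by
  have key : ∀ j : ℕ, ∀ x : G, (∃ k : ℕ, orderOf x = 2 ^ k) →
      x ^ 2 ^ (j + 1) ∈ Subgroup.center G → x * x ∈ Subgroup.center G := by
    intro j
    induction j with
    | zero =>
      intro x _ hx
      rw [zero_add, pow_one, pow_two] at hx
      exact hx
    | succ j ih =>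
      intro x hx2 hx
      have h1 : x ^ 2 ^ (j + 1 + 1) = (x * x) ^ 2 ^ (j + 1) := by
        rw [← pow_two, ← pow_mul, ← pow_succ']
      rw [h1] at hx
      have h2 := ih (x * x) (br_pmtv_sq_two hx2) hx
      by_contra hxx
      exact br_pmtv_no_four h hodd hJ x hx2 hxx h2
  obtain ⟨k, hk⟩ := hs
  rcases k with _ | k
  · rw [pow_zero, orderOf_eq_one_iff] at hk
    rw [hk, one_mul]
    exact Subgroup.one_mem _
  · apply key k s ⟨k + 1, hk⟩
    rw [← hk, pow_orderOf_eq_one]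
    exact Subgroup.one_mem _

/-! ### (V4) the remaining `p`-regular elements -/

theorem br_pmtv_val_zero (h : br_pmt_Hyp p P ζ θ l) (hodd : br_pmt_Odd θ) {J : ℕ}
    (hJ : br_pmtv_TJ p ζ J) (g : G) (hg : ¬ p ∣ orderOf g)
    (hg2 : g * g ∉ Subgroup.center G) : ζ g = 0 := by
  have h7 : (7 : ℝ) ≤ p := by exact_mod_cast h.p_ge
  have hc : (0 : ℝ) < (p : ℝ) - 3 := by linarith
  obtain ⟨a, b, hs, hu, hsu⟩ := br_pmtv_decomp g (orderOf_pos g)
  have hss : g ^ a * g ^ a ∈ Subgroup.center G := br_pmtv_two_sq h hodd hJ (g ^ a) hs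
  have hcomm : Commute (g ^ a) (g ^ b) := Commute.pow_pow (Commute.refl g) a b
  have hgg : g * g = g ^ a * g ^ a * (g ^ b * g ^ b) := by
    rw [← br_pmtv_mul_mul hcomm, hsu]
  have huu : g ^ b * g ^ b ∉ Subgroup.center G := by
    intro huu
    apply hg2
    rw [hgg]
    exact Subgroup.mul_mem _ hss huu
  have hregpow : ∀ n : ℕ, ¬ p ∣ orderOf (g ^ n) := fun n hd =>
    hg (dvd_trans hd (orderOf_pow_dvd n))
  -- the powers `u ^ 2 ^ n` are non-central of odd order, so `ζ` vanishes there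
  have hupow : ∀ n : ℕ, (g ^ b) ^ 2 ^ n ∉ Subgroup.center G := by
    intro n hn
    apply huu
    exact Subgroup.mul_mem _ (br_pmtv_odd_mem hu n hn) (br_pmtv_odd_mem hu n hn)
  have hoddpow : ∀ n : ℕ, Odd (orderOf ((g ^ b) ^ 2 ^ n)) := fun n =>
    Odd.of_dvd_nat hu (orderOf_pow_dvd _)
  have hregu : ∀ n : ℕ, ¬ p ∣ orderOf ((g ^ b) ^ 2 ^ n) := by
    intro n
    rw [← pow_mul]
    exact hregpow _
  have hζu : ∀ n : ℕ, ζ ((g ^ b) ^ 2 ^ n) = 0 := fun n =>
    (br_pmtv_odd h hJ _ (hoddpow n) (hregu n)).resolve_left (hupow n)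
  have hζu1 : ζ (g ^ b) = 0 := by
    have := hζu 0
    rwa [pow_zero, pow_one] at this
  obtain ⟨k, hk⟩ := hs
  have hsk : (g ^ a) ^ 2 ^ k = 1 := by rw [← hk]; exact pow_orderOf_eq_one _
  by_cases hsZ : g ^ a ∈ Subgroup.center G
  · -- `s` central
    have h1 := br_pmtv_central_two h hodd (g ^ b) (g ^ a) hsZ k hsk
    rw [← hcomm.eq, hsu] at h1
    rw [h1, hζu1]
  · -- `s` not central
    have hζs : ζ (g ^ a) = -1 := br_pmtv_invol h hodd hJ (g ^ a) ⟨k, hk⟩ hsZ hss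
    have hstep : ∀ n : ℕ, ‖ζ (g ^ a * (g ^ b) ^ 2 ^ n)‖ ^ 2 =
        ((p : ℝ) - 3) * ‖ζ (g ^ a * (g ^ b) ^ 2 ^ (n + 1))‖ := by
      intro n
      set x : G := (g ^ b) ^ 2 ^ n with hx
      have hcx : Commute (g ^ a) x := hcomm.pow_right _
      have hxx : x * x = (g ^ b) ^ 2 ^ (n + 1) := by
        rw [hx, ← pow_add, pow_succ, mul_two]
      have hreg : ¬ p ∣ orderOf (g ^ a * x) := by
        rw [hx, ← pow_mul, ← pow_add]
        exact hregpow _
      have hT := hJ.T (g ^ a * x) hreg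
      have hpowJ : (g ^ a * x) ^ J = g ^ a * (x * x) := by
        rw [hcx.mul_pow, hJ.two (g ^ a) ⟨k, hk⟩, hJ.odd x (hoddpow n) (hregu n)]
      have hsq : ζ (g ^ a * x * (g ^ a * x)) = 0 := by
        rw [br_pmtv_mul_mul hcx, ← Subgroup.mem_center_iff.mp hss (x * x),
          br_pmtv_central_two h hodd (x * x) (g ^ a * g ^ a) hss k (br_pmtv_sq_pow_two hk), hxx]
        exact hζu (n + 1)
      rw [hpowJ, hsq, hxx] at hT
      have h1 : ζ (g ^ a * x) ^ 2 = ((p : ℂ) - 3) * ζ (g ^ a * (g ^ b) ^ 2 ^ (n + 1)) := by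
        linear_combination hT
      have h2 := congrArg norm h1
      rwa [norm_pow, norm_mul, br_pmtv_norm_c h] at h2
    set f : ℕ → ℝ := fun n => ‖ζ (g ^ a * (g ^ b) ^ 2 ^ n)‖ / ((p : ℝ) - 3) with hf
    have hfs : ∀ n, f (n + 1) = f n ^ 2 := by
      intro n
      simp only [hf]
      rw [div_pow, hstep n]
      field_simp
    obtain ⟨r, hr, hur⟩ := br_pmtv_odd_cycle (g ^ b) hu
    have hf0 : f 0 = ‖ζ g‖ / ((p : ℝ) - 3) := by
      simp only [hf]
      rw [pow_zero, pow_one, hsu]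
    have hfr : f r = f 0 := by
      rw [hf0]
      simp only [hf]
      rw [hur, hsu]
    rcases br_pmtv_cycle f (by rw [hf0]; positivity) hfs r hr hfr with h0 | h1
    · rw [hf0, div_eq_zero_iff] at h0
      rcases h0 with h0 | h0
      · exact norm_eq_zero.mp h0
      · exact absurd h0 hc.ne'
    · exfalso
      rw [hf0, div_eq_one_iff_eq hc.ne'] at h1
      obtain ⟨ι, hι, μ, hμ, hval⟩ := br_pmtv_eig (IsIrrCharacter.isCharacter h.irr) g
      have hcard : (Fintype.card ι : ℂ) = (p : ℂ) - 2 := by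
        have h0 := hval 0
        simp only [pow_zero, Finset.sum_const, Finset.card_univ, nsmul_eq_mul, mul_one] at h0
        rw [← h0, h.deg]
      obtain ⟨t, ht⟩ : ∃ t : ℕ, p = 2 * t + 1 := by
        have hpodd : Odd p := hp.out.odd_of_ne_two (by have := h.p_ge; omega)
        exact hpodd
      have h7' := h.p_ge
      have hcardN : Fintype.card ι + 2 = p := by
        have : ((Fintype.card ι + 2 : ℕ) : ℂ) = (p : ℂ) := by
          push_cast
          linear_combination hcard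
        exact_mod_cast this
      have hσsq : ∀ i, (μ i ^ a) ^ 2 = 1 := by
        apply br_pmtv_all_one (fun i => (μ i ^ a) ^ 2)
          (fun i => by rw [norm_pow, norm_pow, hμ i, one_pow, one_pow])
        have h2 : ∑ i, (μ i ^ a) ^ 2 = ζ (g ^ a * g ^ a) := by
          rw [← pow_two, ← pow_mul, hval]
          exact Finset.sum_congr rfl (fun i _ => by rw [pow_mul])
        rw [h2, hcard]
        exact br_pmtv_center_two h hodd _ hss k (br_pmtv_sq_pow_two hk)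
      have hσ : ∀ i, μ i ^ a = 1 ∨ μ i ^ a = -1 := by
        intro i
        have h2 : (μ i ^ a - 1) * (μ i ^ a + 1) = 0 := by linear_combination hσsq i
        rcases mul_eq_zero.mp h2 with h3 | h3
        · left; linear_combination h3
        · right; linear_combination h3
      apply br_pmtv_mixed_aux (fun i => μ i ^ a) (fun i => μ i ^ b)
        (fun i => by rw [norm_pow, hμ i, one_pow]) t (by omega) (by omega) hσ
      · rw [← hval a, hζs]
      · rw [← hval b, hζu1]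
      · have h2 : ∑ i, (μ i ^ b) ^ 2 = ζ ((g ^ b) ^ 2 ^ 1) := by
          rw [pow_one, ← pow_mul, hval]
          exact Finset.sum_congr rfl (fun i _ => by rw [pow_mul])
        rw [h2, hζu 1]
      · have h2 : ∑ i, μ i ^ a * μ i ^ b = ζ g := by
          rw [← hsu, ← pow_add, hval]
          exact Finset.sum_congr rfl (fun i _ => by rw [pow_add])
        rw [h2, h1, ht]
        push_cast
        ring

end Cfsg.Agent.BR
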