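import Cfsg.Agent.BR.PmtTw
import Cfsg.Agent.BR.PmtValB

/-!
# S4705, K2: the values of `ζ` on the `p`-regular elements (helper6)

`br_pmt_val_inv`, `br_pmt_val_zero`, `br_pmt_val_four` with the headers of
`notes/S4705_skeleton_helper4.lean.txt`: the lemmas of `BR/PmtValB.lean` with the exponent `J`
of `br_pmt_T` plugged in.
-/

set_option autoImplicit false
set_option linter.style.haveILetI false
set_option linter.unusedSectionVars false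

namespace Cfsg.Agent.BR

open Cfsg

universe u

variable {G : Type u} [Group G] [Finite G]

/-- the exponent `J` of `br_pmt_T`, packaged -/
theorem br_pmtv_exists_TJ (p : ℕ) [Fact p.Prime] (P : Sylow p G) {ζ : G → ℂ}
    {θ : ↥(Subgroup.center G) →* ℂˣ} {l : ↥(P : Subgroup G) →* ℂˣ} (h : br_pmt_Hyp p P ζ θ l)
    (hodd : br_pmt_Odd θ) : ∃ J : ℕ, br_pmtv_TJ p ζ J := by
  haveI : Fintype G := Fintype.ofFinite G
  obtain ⟨J, -, h1, h2, h3, -⟩ := br_pmt_T p P h hodd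
  exact ⟨J, ⟨h1, h2, h3⟩⟩

theorem br_pmt_val_inv (p : ℕ) [Fact p.Prime] (P : Sylow p G) {ζ : G → ℂ}
    {θ : ↥(Subgroup.center G) →* ℂˣ} {l : ↥(P : Subgroup G) →* ℂˣ} (h : br_pmt_Hyp p P ζ θ l)
    (hodd : br_pmt_Odd θ) (g : G) (hg : ¬ p ∣ orderOf g) (hgZ : g ∉ Subgroup.center G)
    (hg2 : g * g ∈ Subgroup.center G) : ζ g ^ 2 = ((θ ⟨g * g, hg2⟩ : ℂˣ) : ℂ) := by
  obtain ⟨J, hJ⟩ := br_pmtv_exists_TJ p P h hodd
  exact br_pmtv_val_inv h hodd hJ g hg hgZ hg2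

theorem br_pmt_val_zero (p : ℕ) [Fact p.Prime] (P : Sylow p G) {ζ : G → ℂ}
    {θ : ↥(Subgroup.center G) →* ℂˣ} {l : ↥(P : Subgroup G) →* ℂˣ} (h : br_pmt_Hyp p P ζ θ l)
    (hodd : br_pmt_Odd θ) (g : G) (hg : ¬ p ∣ orderOf g)
    (hg2 : g * g ∉ Subgroup.center G) : ζ g = 0 := by
  obtain ⟨J, hJ⟩ := br_pmtv_exists_TJ p P h hodd
  exact br_pmtv_val_zero h hodd hJ g hg hg2

theorem br_pmt_val_four (p : ℕ) [Fact p.Prime] (P : Sylow p G) {ζ : G → ℂ}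
    {θ : ↥(Subgroup.center G) →* ℂˣ} {l : ↥(P : Subgroup G) →* ℂˣ} (h : br_pmt_Hyp p P ζ θ l)
    (hodd : br_pmt_Odd θ) (g : G) (hg : ¬ p ∣ orderOf g)
    (hg4 : g * g * (g * g) ∈ Subgroup.center G) : g * g ∈ Subgroup.center G := by
  obtain ⟨J, hJ⟩ := br_pmtv_exists_TJ p P h hodd
  exact br_pmtv_val_four h hodd hJ g hg4

/-- the square of every `2`-element is central -/
theorem br_pmt_val_two_sq (p : ℕ) [Fact p.Prime] (P : Sylow p G) {ζ : G → ℂ}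
    {θ : ↥(Subgroup.center G) →* ℂˣ} {l : ↥(P : Subgroup G) →* ℂˣ} (h : br_pmt_Hyp p P ζ θ l)
    (hodd : br_pmt_Odd θ) (s : G) (hs : ∃ k : ℕ, orderOf s = 2 ^ k) :
    s * s ∈ Subgroup.center G := by
  obtain ⟨J, hJ⟩ := br_pmtv_exists_TJ p P h hodd
  exact br_pmtv_two_sq h hodd hJ s hs

/-- `ζ s = -1` for a non-central `2`-element `s` -/
theorem br_pmt_val_two (p : ℕ) [Fact p.Prime] (P : Sylow p G) {ζ : G → ℂ}
    {θ : ↥(Subgroup.center G) →* ℂˣ} {l : ↥(P : Subgroup G) →* ℂˣ} (h : br_pmt_Hyp p P ζ θ l)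
    (hodd : br_pmt_Odd θ) (s : G) (hs : ∃ k : ℕ, orderOf s = 2 ^ k)
    (hsZ : s ∉ Subgroup.center G) : ζ s = -1 := by
  obtain ⟨J, hJ⟩ := br_pmtv_exists_TJ p P h hodd
  exact br_pmtv_invol h hodd hJ s hs hsZ (br_pmtv_two_sq h hodd hJ s hs)

/-- a `p`-regular element of odd order is central or a zero of `ζ` -/
theorem br_pmt_val_odd (p : ℕ) [Fact p.Prime] (P : Sylow p G) {ζ : G → ℂ}
    {θ : ↥(Subgroup.center G) →* ℂˣ} {l : ↥(P : Subgroup G) →* ℂˣ} (h : br_pmt_Hyp p P ζ θ l)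
    (hodd : br_pmt_Odd θ) (g : G) (hgo : Odd (orderOf g)) (hg : ¬ p ∣ orderOf g) :
    g ∈ Subgroup.center G ∨ ζ g = 0 := by
  obtain ⟨J, hJ⟩ := br_pmtv_exists_TJ p P h hodd
  exact br_pmtv_odd h hJ g hgo hg

end Cfsg.Agent.BR
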