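import Mathlib
import Cfsg.Agent.BR.PmtPerf
import Cfsg.Agent.BR.PmtVal

/-!
# S4705, (K3) second half: `br_pmt_perfect` (skeleton header)

`br_pmtp_core` (`BR/PmtPerf.lean`) with the two statements of (K2) it needs (`br_pmt_val_four`,
`br_pmt_val_inv`, `BR/PmtVal.lean`) plugged in.
-/

set_option autoImplicit false
set_option linter.style.haveILetI false
set_option linter.unusedSectionVars false

namespace Cfsg.Agent.BR

open Cfsg

universe u

variable {G : Type u} [Group G] [Finite G]

/-- **`G = G' Z(G)`** in the setting `br_pmt_Hyp` with a central character of odd order. -/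
theorem br_pmt_perfect (p : ℕ) [Fact p.Prime] (P : Sylow p G) {ζ : G → ℂ}
    {θ : ↥(Subgroup.center G) →* ℂˣ} {l : ↥(P : Subgroup G) →* ℂˣ} (h : br_pmt_Hyp p P ζ θ l)
    (hodd : br_pmt_Odd θ) : commutator G ⊔ Subgroup.center G = ⊤ :=
  br_pmtp_core p P h
    (fun g hg hg4 => br_pmt_val_four p P h hodd g hg hg4)
    (fun g hg hgZ hg2 => br_pmt_val_inv p P h hodd g hg hgZ hg2)

end Cfsg.Agent.BR
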