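import Mathlib

/-!
# Brauer–Reynolds track: Sylow counts in a quotient

For `K ⊴ G` finite: `|Syl_p(G)| = |Syl_p(G ⧸ K)| (1 + a p)`; if `K` is a `p'`-group the Sylow
`p`-subgroups of `G ⧸ K` have the same order as those of `G`.
-/

set_option autoImplicit false
set_option linter.unusedSectionVars false
set_option linter.unusedVariables false

namespace Cfsg.Agent.BR

open Subgroup

variable {G : Type*} [Group G] [Finite G] (p : ℕ) [Fact p.Prime]

/-- `|Syl_p(G)| = |Syl_p(G ⧸ K)| · r` with `r ≡ 1 mod p` -/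
theorem br_qs_card (K : Subgroup G) [K.Normal] :
    ∃ a : ℕ, Nat.card (Sylow p G) = Nat.card (Sylow p (G ⧸ K)) * (1 + a * p) := by
  have hp : p.Prime := Fact.out
  have hs : Function.Surjective (QuotientGroup.mk' K) := QuotientGroup.mk'_surjective K
  obtain ⟨P⟩ : Nonempty (Sylow p G) := Sylow.nonempty
  set P' : Sylow p (G ⧸ K) := P.mapSurjective hs with hP'
  have hc : Nat.card (Sylow p G) = (Subgroup.normalizer (P : Set G)).index :=
    P.card_eq_index_normalizer
  have hc' : Nat.card (Sylow p (G ⧸ K)) = (Subgroup.normalizer (P' : Set (G ⧸ K))).index :=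
    P'.card_eq_index_normalizer
  set L : Subgroup G := (Subgroup.normalizer (P' : Set (G ⧸ K))).comap (QuotientGroup.mk' K)
    with hL
  have hLidx : L.index = (Subgroup.normalizer (P' : Set (G ⧸ K))).index :=
    Subgroup.index_comap_of_surjective _ hs
  have hle : Subgroup.normalizer (P : Set G) ≤ L := by
    intro g hg
    rw [hL, Subgroup.mem_comap]
    have h1 : (QuotientGroup.mk' K) g ∈ (Subgroup.normalizer ((P : Subgroup G) : Set G)).map
        (QuotientGroup.mk' K) := Subgroup.mem_map_of_mem _ hg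
    exact Subgroup.le_normalizer_map (QuotientGroup.mk' K) h1
  have hmul := Subgroup.relIndex_mul_index hle
  set r := (Subgroup.normalizer (P : Set G)).relIndex L with hr
  have h1 : Nat.card (Sylow p G) ≡ 1 [MOD p] := card_sylow_modEq_one p G
  have h1' : Nat.card (Sylow p (G ⧸ K)) ≡ 1 [MOD p] := card_sylow_modEq_one p (G ⧸ K)
  have hcr : Nat.card (Sylow p G) = r * Nat.card (Sylow p (G ⧸ K)) := by
    rw [hc, hc', ← hLidx, hmul]
  have hr1 : r ≡ 1 [MOD p] := by
    have h2 : r * Nat.card (Sylow p (G ⧸ K)) ≡ r * 1 [MOD p] := Nat.ModEq.mul_left r h1'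
    rw [← hcr, mul_one] at h2
    exact h2.symm.trans h1
  refine ⟨r / p, ?_⟩
  have hmod : r % p = 1 := by
    have := hr1
    unfold Nat.ModEq at this
    rw [this, Nat.mod_eq_of_lt hp.one_lt]
  have hdiv := Nat.div_add_mod r p
  rw [hmod, mul_comm] at hdiv
  rw [hcr, mul_comm]
  congr 1
  omega

/-- the same with the numbers written as `1 + n p` -/
theorem br_qs_card_n (K : Subgroup G) [K.Normal] (n : ℕ)
    (hn : Nat.card (Sylow p G) = 1 + n * p) :
    ∃ nbar a : ℕ, Nat.card (Sylow p (G ⧸ K)) = 1 + nbar * p ∧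
      1 + n * p = (1 + nbar * p) * (1 + a * p) := by
  have hp : p.Prime := Fact.out
  obtain ⟨a, ha⟩ := br_qs_card p K
  have h1' : Nat.card (Sylow p (G ⧸ K)) ≡ 1 [MOD p] := card_sylow_modEq_one p (G ⧸ K)
  have hpos : 0 < Nat.card (Sylow p (G ⧸ K)) := Nat.card_pos
  have hmod : Nat.card (Sylow p (G ⧸ K)) % p = 1 := by
    have := h1'
    unfold Nat.ModEq at this
    rw [this, Nat.mod_eq_of_lt hp.one_lt]
  have hdiv := Nat.div_add_mod (Nat.card (Sylow p (G ⧸ K))) p
  rw [hmod, mul_comm] at hdiv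
  refine ⟨Nat.card (Sylow p (G ⧸ K)) / p, a, ?_, ?_⟩
  · omega
  · rw [← hn, ha]
    congr 1
    omega

/-- for a normal `p'`-subgroup `K`, the Sylow `p`-subgroups of `G ⧸ K` have the order of those
of `G` -/
theorem br_qs_card_sylow_quot (K : Subgroup G) [K.Normal] (hK : ¬ p ∣ Nat.card K)
    (P : Sylow p G) (Q : Sylow p (G ⧸ K)) : Nat.card Q = Nat.card P := by
  have hp : p.Prime := Fact.out
  rw [P.card_eq_multiplicity, Q.card_eq_multiplicity]
  congr 1
  have hmul : Nat.card G = Nat.card (G ⧸ K) * Nat.card K :=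
    Subgroup.card_eq_card_quotient_mul_card_subgroup K
  rw [hmul, Nat.factorization_mul Nat.card_pos.ne' Nat.card_pos.ne', Finsupp.add_apply,
    Nat.factorization_eq_zero_of_not_dvd hK, add_zero]

end Cfsg.Agent.BR
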