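import Cfsg.Agent.BR.PmtDefs
import Cfsg.Agent.BR.QuotSyl
import Cfsg.Agent.BR.RedK
import Cfsg.Agent.Helper4.AffSLC
import Cfsg.Agent.S0996

/-!
# S4705, (K4): `S0996` on `G ⧸ Z(G)`

`notes/S4705_plan.md`.  Under `br_pmt_Hyp` (so `C_G(P) = P × Z(G)`, `|N : C| = 2`, `p ≥ 7`), the count
`2 |Syl_p(G)| = (p - 1)(p - 2)` and `G = G' Z(G)`: the quotient `G ⧸ Z(G)` is perfect, the image of a
generator of `P` is self-centralizing of order `p`, and `|Syl_p| < (p+1)(p+2)/2`; `S0996` gives
`PSL(2, p)` (excluded by the order) or `PSL(2, 2^a) = SL(2, 2^a)` with `p = 2^a + 1`.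
-/

set_option autoImplicit false

namespace Cfsg.Agent.BR

open Cfsg

universe u

variable {G : Type u} [Group G] [Finite G]

/-- a subgroup of prime order is generated by an element of that order. -/
theorem br_pmtq_gen (p : ℕ) [hp : Fact p.Prime] (P : Subgroup G) (hP : Nat.card P = p) :
    ∃ x : G, x ∈ P ∧ orderOf x = p ∧ Subgroup.zpowers x = P := by
  haveI : Nontrivial P := by
    rw [← Finite.one_lt_card_iff_nontrivial, hP]
    exact hp.out.one_lt
  obtain ⟨g, hg⟩ := exists_ne (1 : P)
  have hord : orderOf g = p := by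
    have hdvd : orderOf g ∣ p := hP ▸ orderOf_dvd_natCard g
    rcases (Nat.dvd_prime hp.out).1 hdvd with h | h
    · exact absurd (orderOf_eq_one_iff.1 h) hg
    · exact h
  obtain ⟨x, hx⟩ : ∃ x : G, x = (g : G) := ⟨_, rfl⟩
  have hxP : x ∈ P := hx ▸ g.2
  have hordG : orderOf x = p := by rw [hx, Subgroup.orderOf_coe]; exact hord
  refine ⟨x, hxP, hordG, ?_⟩
  apply Subgroup.eq_of_le_of_card_ge
  · rw [Subgroup.zpowers_le]; exact hxP
  · rw [Nat.card_zpowers, hordG, hP]

omit [Finite G] in
/-- `G = G' Z(G)` makes `G ⧸ Z(G)` perfect. -/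
theorem br_pmtq_perfect (hperf : commutator G ⊔ Subgroup.center G = ⊤) :
    commutator (G ⧸ Subgroup.center G) = ⊤ := by
  have hs : Function.Surjective (QuotientGroup.mk' (Subgroup.center G)) :=
    QuotientGroup.mk'_surjective _
  have h1 := congrArg (Subgroup.map (QuotientGroup.mk' (Subgroup.center G))) hperf
  rw [Subgroup.map_sup, QuotientGroup.map_mk'_self, sup_bot_eq,
    Subgroup.map_top_of_surjective _ hs, commutator_def, Subgroup.map_commutator,
    Subgroup.map_top_of_surjective _ hs] at h1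
  rw [commutator_def]
  exact h1

omit [Finite G] in
/-- if `g x g⁻¹ = x y` with `y` central of order prime to `p` and `x ^ p = 1` then `y = 1`. -/
theorem br_pmtq_central_one (p : ℕ) [hp : Fact p.Prime]
    (hZ : ¬ p ∣ Nat.card ↥(Subgroup.center G)) {g x y : G} (hy : y ∈ Subgroup.center G)
    (hx : x ^ p = 1) (hconj : g * x * g⁻¹ = x * y) : y = 1 := by
  have hcomm : Commute x y := Subgroup.mem_center_iff.1 hy x
  have h1 : (x * y) ^ p = 1 := by
    rw [← hconj, conj_pow, hx, mul_one, mul_inv_cancel]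
  rw [hcomm.mul_pow, hx, one_mul] at h1
  have hdvd : orderOf y ∣ p := orderOf_dvd_of_pow_eq_one h1
  rcases (Nat.dvd_prime hp.out).1 hdvd with h | h
  · exact orderOf_eq_one_iff.1 h
  · exfalso
    apply hZ
    have h2 : orderOf (⟨y, hy⟩ : ↥(Subgroup.center G)) = p := by
      rw [← Subgroup.orderOf_coe]; exact h
    rw [← h2]
    exact orderOf_dvd_natCard _

theorem br_pmt_quot (p : ℕ) [Fact p.Prime] (P : Sylow p G) {ζ : G → ℂ}
    {θ : ↥(Subgroup.center G) →* ℂˣ} {l : ↥(P : Subgroup G) →* ℂˣ} (h : br_pmt_Hyp p P ζ θ l)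
    (hcount : 2 * Nat.card (Sylow p G) = (p - 1) * (p - 2))
    (hperf : commutator G ⊔ Subgroup.center G = ⊤) :
    ∃ (a : ℕ) (F : Type) (_ : Field F) (_ : Fintype F), p = 2 ^ a + 1 ∧ Fintype.card F = 2 ^ a ∧
      Nonempty (G ⧸ Subgroup.center G ≃* Matrix.SpecialLinearGroup (Fin 2) F) := by
  classical
  have hp : p.Prime := Fact.out
  have h7 := h.p_ge
  have hZ := h.not_dvd_card_Z
  obtain ⟨x, hxP, hxord, hxgen⟩ := br_pmtq_gen p (P : Subgroup G) h.card_P
  have hxp : x ^ p = 1 := by rw [← hxord]; exact pow_orderOf_eq_one x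
  have hx1 : x ≠ 1 := by
    intro h1
    rw [h1, orderOf_one] at hxord
    exact hp.one_lt.ne hxord
  -- the image of `x`
  set π := QuotientGroup.mk' (Subgroup.center G) with hπ
  have hπs : Function.Surjective π := QuotientGroup.mk'_surjective _
  have hzord : orderOf (π x) = p := by
    have hdvd : orderOf (π x) ∣ p := by
      apply orderOf_dvd_of_pow_eq_one
      rw [← map_pow, hxp, map_one]
    rcases (Nat.dvd_prime hp).1 hdvd with h1 | h1
    · exfalso
      rw [orderOf_eq_one_iff, hπ, QuotientGroup.mk'_apply, QuotientGroup.eq_one_iff] at h1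
      have : x ∈ (P : Subgroup G) ⊓ Subgroup.center G := ⟨hxP, h1⟩
      rw [h.P_inf_Z, Subgroup.mem_bot] at this
      exact hx1 this
    · exact h1
  -- the centralizer of the image
  have hcent : Subgroup.centralizer ({π x} : Set (G ⧸ Subgroup.center G)) =
      Subgroup.zpowers (π x) := by
    apply le_antisymm
    · intro gb hgb
      obtain ⟨g, rfl⟩ := hπs gb
      rw [Subgroup.mem_centralizer_iff] at hgb
      have hcomm : π x * π g = π g * π x := hgb (π x) (Set.mem_singleton _)
      -- `y := x⁻¹ * (g * x * g⁻¹)` is central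
      have hy : x⁻¹ * (g * x * g⁻¹) ∈ Subgroup.center G := by
        rw [← QuotientGroup.eq_one_iff, ← QuotientGroup.mk'_apply, ← hπ]
        rw [map_mul, map_mul, map_mul, map_inv, map_inv, ← hcomm, mul_inv_cancel_right,
          inv_mul_cancel]
      have hconj : g * x * g⁻¹ = x * (x⁻¹ * (g * x * g⁻¹)) := by group
      have hy1 := br_pmtq_central_one p hZ hy hxp hconj
      have hgx : g * x = x * g := by
        have : g * x * g⁻¹ = x := by rw [hconj, hy1, mul_one]
        calc g * x = g * x * g⁻¹ * g := by group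
          _ = x * g := by rw [this]
      -- `g` centralizes `P`
      have hgC : g ∈ Subgroup.centralizer ((P : Subgroup G) : Set G) := by
        rw [Subgroup.mem_centralizer_iff]
        intro u hu
        rw [SetLike.mem_coe, ← hxgen] at hu
        obtain ⟨i, rfl⟩ := Subgroup.mem_zpowers_iff.1 hu
        exact ((Commute.zpow_right (show Commute g x from hgx) i).eq).symm
      obtain ⟨x', hx', y', hy', rfl⟩ := (h.mem_C_iff g).1 hgC
      rw [← hxgen] at hx'
      obtain ⟨i, rfl⟩ := Subgroup.mem_zpowers_iff.1 hx'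
      have : π (x ^ i * y') = π x ^ i := by
        rw [map_mul, map_zpow]
        have : π y' = 1 := by
          rw [hπ, QuotientGroup.mk'_apply, QuotientGroup.eq_one_iff]; exact hy'
        rw [this, mul_one]
      rw [this]
      exact Subgroup.zpow_mem_zpowers _ i
    · rw [Subgroup.zpowers_le, Subgroup.mem_centralizer_iff]
      intro u hu
      rw [Set.mem_singleton_iff] at hu
      rw [hu]
  -- the Sylow count
  have hsyl : 2 * Nat.card (Sylow p (G ⧸ Subgroup.center G)) < (p + 1) * (p + 2) := by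
    obtain ⟨a, ha⟩ := br_qs_card p (Subgroup.center G)
    have hle : Nat.card (Sylow p (G ⧸ Subgroup.center G)) ≤ Nat.card (Sylow p G) := by
      rw [ha]
      exact Nat.le_mul_of_pos_right _ (by omega)
    have h2 : (p - 1) * (p - 2) < (p + 1) * (p + 2) := by
      have h3 : (p - 1) * (p - 2) ≤ p * p := Nat.mul_le_mul (Nat.sub_le _ _) (Nat.sub_le _ _)
      nlinarith
    omega
  have hperf' := br_pmtq_perfect hperf
  -- the order of the quotient
  have hcardq : Nat.card (G ⧸ Subgroup.center G) = p * ((p - 1) * (p - 2)) := by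
    have h1 : Nat.card G = Nat.card (G ⧸ Subgroup.center G) * Nat.card ↥(Subgroup.center G) :=
      Subgroup.card_eq_card_quotient_mul_card_subgroup _
    have h2 := h.card_sylow_mul
    have hZpos : 0 < Nat.card ↥(Subgroup.center G) := Nat.card_pos
    have h3 : Nat.card (G ⧸ Subgroup.center G) * Nat.card ↥(Subgroup.center G) =
        (p * ((p - 1) * (p - 2))) * Nat.card ↥(Subgroup.center G) := by
      rw [← h1, ← h2, ← hcount]; ring
    exact Nat.eq_of_mul_eq_mul_right hZpos h3
  rcases Cfsg.Agent.S0996.result hperf' p (π x) hzord hcent hsyl with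
    ⟨F, iF, iFt, hF, _, ⟨e⟩⟩ | ⟨m, F, iF, iFt, hF, hpm, _, ⟨e⟩⟩
  · -- `PSL(2, p)` has the wrong order
    exfalso
    have hodd : Odd p := hp.odd_of_ne_two (by omega)
    have h1 := br_redK_card_psl_odd hF hodd
    rw [← Nat.card_congr e.toEquiv, hcardq] at h1
    obtain ⟨q, rfl⟩ : ∃ q, p = q + 7 := ⟨p - 7, by omega⟩
    have e1 : q + 7 - 1 = q + 6 := by omega
    have e2 : q + 7 - 2 = q + 5 := by omega
    have e3 : (q + 7) ^ 2 - 1 = (q + 6) * (q + 8) := by
      have : (q + 7) ^ 2 = (q + 6) * (q + 8) + 1 := by ring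
      omega
    rw [e1, e2, e3] at h1
    nlinarith
  · haveI : Fact (Nat.Prime 2) := ⟨Nat.prime_two⟩
    haveI : CharP F 2 := charP_of_card_eq_prime_pow hF
    obtain ⟨e2⟩ := Cfsg.Agent.Helper4.psl2_equiv_sl2 (F := F)
    exact ⟨m, F, iF, iFt, hpm, hF, ⟨e.trans e2⟩⟩

end Cfsg.Agent.BR
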