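import Mathlib
import Cfsg.Agent.Helper7.SL2Sylow

/-!
# S4705, file (S): splitting by transfer into the torus preimage (lead)

`G` finite, `Z = Z(G)`, `G ⧸ Z ≃* SL₂(F)`, `|F| = q = 2 ^ a`, `G = G' Z`, and every element of
`G' ∩ Z` has order dividing `q - 1`.  Then `G' ∩ Z = 1` and `G ≃* SL₂(F) × Z`.

Proof: let `d₀ ∈ SL₂(F)` be a diagonal element of order `q - 1`, `T` the preimage of `⟨d₀⟩` in `G`:
abelian, of index `q (q + 1)`.  The transfer `G → T` kills `G'` and is `y ↦ y ^ (q (q + 1))` on the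
centre; `gcd (q (q + 1), q - 1) = 1`.
-/

set_option autoImplicit false
set_option linter.unusedSectionVars false
set_option linter.style.haveILetI false

namespace Cfsg.Agent.BR

open Subgroup

universe u

variable {G : Type u} [Group G] [Finite G]

/-- **Transfer into an abelian subgroup kills `G' ∩ Z(G)` up to the index.**  If `T ≤ G` is abelian
then every `y ∈ G' ∩ Z(G)` satisfies `y ^ |G : T| = 1`. -/
theorem br_pmt_split_transfer (T : Subgroup G) (hT : ∀ s ∈ T, ∀ t ∈ T, s * t = t * s)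
    (y : G) (hyZ : y ∈ center G) (hyC : y ∈ commutator G) : y ^ T.index = 1 := by
  classical
  haveI : IsMulCommutative T := ⟨⟨fun a b => Subtype.ext (hT a a.2 b b.2)⟩⟩
  have key : ∀ (k : ℕ) (g₀ : G), g₀⁻¹ * y ^ k * g₀ ∈ T → g₀⁻¹ * y ^ k * g₀ = y ^ k := by
    intro k g₀ _
    have h1 : y ^ k ∈ center G := (center G).pow_mem hyZ k
    rw [Subgroup.mem_center_iff] at h1
    rw [mul_assoc, ← h1 g₀, inv_mul_cancel_left]
  open scoped IsMulCommutative in
  have h1 := MonoidHom.transfer_eq_pow (MonoidHom.id T) y key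
  open scoped IsMulCommutative in
  have h2 : y ∈ (MonoidHom.transfer (MonoidHom.id T)).ker :=
    Abelianization.commutator_subset_ker _ hyC
  rw [MonoidHom.mem_ker, h1] at h2
  have h3 := congrArg Subtype.val h2
  simpa using h3


/-- the diagonal matrix `diag (u, u⁻¹)` of `SL₂(F)` -/
def br_pmt_diag (F : Type*) [Field F] : Fˣ →* Matrix.SpecialLinearGroup (Fin 2) F where
  toFun u := ⟨!![(u : F), 0; 0, ((u⁻¹ : Fˣ) : F)], by simp [Matrix.det_fin_two]⟩
  map_one' := by
    ext i j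
    fin_cases i <;> fin_cases j <;> simp
  map_mul' u v := by
    apply Subtype.ext
    show !![((u * v : Fˣ) : F), 0; 0, (((u * v)⁻¹ : Fˣ) : F)] =
      !![(u : F), 0; 0, ((u⁻¹ : Fˣ) : F)] * !![(v : F), 0; 0, ((v⁻¹ : Fˣ) : F)]
    rw [Matrix.mul_fin_two]
    simp [mul_comm]

theorem br_pmt_diag_injective (F : Type*) [Field F] : Function.Injective (br_pmt_diag F) := by
  intro u v h
  have h1 := congrArg (fun g : Matrix.SpecialLinearGroup (Fin 2) F =>
    (g : Matrix (Fin 2) (Fin 2) F) 0 0) h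
  simp [br_pmt_diag] at h1
  exact Units.ext h1

/-- `SL₂(F)` has an element of order `|F| - 1`. -/
theorem br_pmt_exists_torus (F : Type*) [Field F] [Fintype F] :
    ∃ d : Matrix.SpecialLinearGroup (Fin 2) F, orderOf d = Fintype.card F - 1 := by
  classical
  obtain ⟨u, hu⟩ := IsCyclic.exists_generator (α := Fˣ)
  refine ⟨br_pmt_diag F u, ?_⟩
  rw [orderOf_injective (br_pmt_diag F) (br_pmt_diag_injective F) u,
    orderOf_eq_card_of_forall_mem_zpowers hu, Nat.card_eq_fintype_card, Fintype.card_units]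

/-- arithmetic: `gcd (q (q + 1), q - 1) = 1` for `q = 2 ^ a`, `a ≥ 1`. -/
theorem br_pmt_split_coprime (a : ℕ) (ha : 1 ≤ a) :
    Nat.Coprime (2 ^ a * (2 ^ a + 1)) (2 ^ a - 1) := by
  obtain ⟨b, rfl⟩ : ∃ b, a = b + 1 := ⟨a - 1, by omega⟩
  have hq : 2 ^ (b + 1) = 2 * 2 ^ b := by rw [pow_succ]; ring
  have hpos : 0 < 2 ^ b := pow_pos (by norm_num) b
  set m := 2 ^ (b + 1) - 1 with hm
  have hq' : 2 ^ (b + 1) = m + 1 := by omega
  have hodd : Odd m := ⟨2 ^ b - 1, by omega⟩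
  rw [hq']
  apply Nat.Coprime.mul_left
  · have h1 : m + 1 = 1 + m := by ring
    rw [h1, Nat.coprime_add_self_left]
    exact Nat.coprime_one_left m
  · have h1 : m + 1 + 1 = 2 + m := by ring
    rw [h1, Nat.coprime_add_self_left]
    exact Nat.coprime_two_left.mpr hodd


/-- internal direct product `G = K × Z(G)` from `K ⊓ Z(G) = ⊥`, `K ⊔ Z(G) = ⊤` -/
theorem br_pmt_split_prod (K : Subgroup G) (hinf : K ⊓ center G = ⊥) (hsup : K ⊔ center G = ⊤) :
    Nonempty (G ≃* ↥K × ↥(center G)) ∧ Nonempty (↥K ≃* G ⧸ center G) := by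
  classical
  have hmul : ∀ g : G, ∃ c ∈ K, ∃ z ∈ center G, g = c * z := by
    intro g
    have h1 : g ∈ ((K ⊔ center G : Subgroup G) : Set G) := by rw [hsup]; trivial
    rw [Subgroup.mul_normal] at h1
    obtain ⟨c, hc, z, hz, rfl⟩ := h1
    exact ⟨c, hc, z, hz, rfl⟩
  constructor
  · let f₂ : ↥K × ↥(center G) →* G :=
      { toFun := fun x => (x.1 : G) * (x.2 : G)
        map_one' := by simp
        map_mul' := by
          rintro ⟨c, z⟩ ⟨c', z'⟩
          have hz : (c' : G) * (z : G) = (z : G) * (c' : G) :=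
            Subgroup.mem_center_iff.mp z.2 (c' : G)
          show ((c * c' : K) : G) * ((z * z' : center G) : G) = (c : G) * (z : G) * ((c' : G) * (z' : G))
          rw [Subgroup.coe_mul, Subgroup.coe_mul]
          calc (c : G) * (c' : G) * ((z : G) * (z' : G))
              = (c : G) * ((c' : G) * (z : G)) * (z' : G) := by simp only [mul_assoc]
            _ = (c : G) * ((z : G) * (c' : G)) * (z' : G) := by rw [hz]
            _ = (c : G) * (z : G) * ((c' : G) * (z' : G)) := by simp only [mul_assoc] }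
    have hinj : Function.Injective f₂ := by
      rw [injective_iff_map_eq_one]
      rintro ⟨c, z⟩ h
      have h' : (c : G) * (z : G) = 1 := h
      have hcz : (c : G) = (z : G)⁻¹ := eq_inv_of_mul_eq_one_left h'
      have hc : (c : G) ∈ K ⊓ center G := ⟨c.2, hcz ▸ (center G).inv_mem z.2⟩
      rw [hinf, Subgroup.mem_bot] at hc
      have hz : (z : G) = 1 := by rw [hc, one_mul] at h'; exact h'
      exact Prod.ext (Subtype.ext hc) (Subtype.ext hz)
    have hsurj : Function.Surjective f₂ := by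
      intro g
      obtain ⟨c, hc, z, hz, rfl⟩ := hmul g
      exact ⟨(⟨c, hc⟩, ⟨z, hz⟩), rfl⟩
    exact ⟨(MulEquiv.ofBijective f₂ ⟨hinj, hsurj⟩).symm⟩
  · let f₁ : ↥K →* G ⧸ center G := (QuotientGroup.mk' (center G)).comp K.subtype
    have hinj : Function.Injective f₁ := by
      rw [injective_iff_map_eq_one]
      intro c h
      have h' : (QuotientGroup.mk' (center G)) (c : G) = 1 := h
      rw [QuotientGroup.mk'_apply, QuotientGroup.eq_one_iff] at h'
      have hc : (c : G) ∈ K ⊓ center G := ⟨c.2, h'⟩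
      rw [hinf, Subgroup.mem_bot] at hc
      exact Subtype.ext hc
    have hsurj : Function.Surjective f₁ := by
      intro x
      obtain ⟨g, rfl⟩ := QuotientGroup.mk'_surjective (center G) x
      obtain ⟨c, hc, z, hz, rfl⟩ := hmul g
      refine ⟨⟨c, hc⟩, ?_⟩
      show (QuotientGroup.mk' (center G)) c = (QuotientGroup.mk' (center G)) (c * z)
      have hz1 : (QuotientGroup.mk' (center G)) z = 1 := (QuotientGroup.eq_one_iff z).mpr hz
      rw [map_mul, hz1, mul_one]
    exact ⟨MulEquiv.ofBijective f₁ ⟨hinj, hsurj⟩⟩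

/-- **(S)** the splitting `G ≃* SL₂(F) × Z(G)`. -/
theorem br_pmt_split (F : Type) [Field F] [Fintype F] (a : ℕ) (ha : 1 ≤ a)
    (hF : Fintype.card F = 2 ^ a)
    (e : G ⧸ Subgroup.center G ≃* Matrix.SpecialLinearGroup (Fin 2) F)
    (hperf : commutator G ⊔ Subgroup.center G = ⊤)
    (hdet : ∀ y ∈ Subgroup.center G, y ∈ commutator G → y ^ (2 ^ a - 1) = 1) :
    Nonempty (G ≃* Matrix.SpecialLinearGroup (Fin 2) F × ↥(Subgroup.center G)) := by
  classical
  set π : G →* Matrix.SpecialLinearGroup (Fin 2) F :=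
    e.toMonoidHom.comp (QuotientGroup.mk' (center G)) with hπ
  have hπs : Function.Surjective π := e.surjective.comp (QuotientGroup.mk'_surjective _)
  have hker : ∀ g, π g = 1 → g ∈ center G := by
    intro g hg
    have h1 : e (QuotientGroup.mk' (center G) g) = 1 := hg
    have h2 : QuotientGroup.mk' (center G) g = 1 := by
      rw [← e.map_one] at h1; exact e.injective h1
    exact (QuotientGroup.eq_one_iff g).mp h2
  obtain ⟨d₀, hd₀⟩ := br_pmt_exists_torus F
  obtain ⟨t₀, ht₀⟩ := hπs d₀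
  set T := (zpowers d₀).comap π with hT
  -- `T` is abelian
  have hdecomp : ∀ s ∈ T, ∃ i : ℤ, (t₀ ^ i)⁻¹ * s ∈ center G := by
    intro s hs
    obtain ⟨i, hi⟩ := Subgroup.mem_zpowers_iff.mp (Subgroup.mem_comap.mp hs)
    refine ⟨i, hker _ ?_⟩
    rw [map_mul, map_inv, map_zpow, ht₀, hi, inv_mul_cancel]
  have hTab : ∀ s ∈ T, ∀ t ∈ T, s * t = t * s := by
    intro s hs t ht
    obtain ⟨i, hi⟩ := hdecomp s hs
    obtain ⟨j, hj⟩ := hdecomp t ht
    have hs' : s = t₀ ^ i * ((t₀ ^ i)⁻¹ * s) := by rw [mul_inv_cancel_left]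
    have ht' : t = t₀ ^ j * ((t₀ ^ j)⁻¹ * t) := by rw [mul_inv_cancel_left]
    have cz1 : ∀ x : G, Commute ((t₀ ^ i)⁻¹ * s) x := fun x =>
      (Subgroup.mem_center_iff.mp hi x).symm
    have cz2 : ∀ x : G, Commute ((t₀ ^ j)⁻¹ * t) x := fun x =>
      (Subgroup.mem_center_iff.mp hj x).symm
    have hc : Commute (t₀ ^ i) (t₀ ^ j) := (Commute.refl t₀).zpow_zpow i j
    have : Commute (t₀ ^ i * ((t₀ ^ i)⁻¹ * s)) (t₀ ^ j * ((t₀ ^ j)⁻¹ * t)) :=
      Commute.mul_left (Commute.mul_right hc (cz2 _).symm) (cz1 _)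
    rw [hs', ht']
    exact this
  -- the index of `T`
  have hq2 : 2 ≤ 2 ^ a := by
    calc 2 = 2 ^ 1 := by norm_num
      _ ≤ 2 ^ a := Nat.pow_le_pow_right (by norm_num) ha
  have hidx : T.index = 2 ^ a * (2 ^ a + 1) := by
    rw [hT, Subgroup.index_comap_of_surjective _ hπs]
    have h1 := (zpowers d₀).index_mul_card
    rw [Nat.card_zpowers, hd₀, Cfsg.Agent.Helper7.SL2.card_SL2, hF] at h1
    have h2 : (2 ^ a) ^ 2 - 1 = (2 ^ a + 1) * (2 ^ a - 1) := by
      obtain ⟨m, hm⟩ : ∃ m, 2 ^ a = m + 1 := ⟨2 ^ a - 1, by omega⟩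
      rw [hm]
      have : (m + 1) ^ 2 = (m + 1 + 1) * m + 1 := by ring
      rw [this]
      simp
    rw [h2, ← mul_assoc] at h1
    exact Nat.eq_of_mul_eq_mul_right (by omega) h1
  -- `G' ∩ Z = 1`
  have hinf : commutator G ⊓ center G = ⊥ := by
    rw [eq_bot_iff]
    rintro y ⟨hyC, hyZ⟩
    rw [Subgroup.mem_bot]
    have h1 : y ^ (2 ^ a * (2 ^ a + 1)) = 1 := hidx ▸ br_pmt_split_transfer T hTab y hyZ hyC
    have h2 : y ^ (2 ^ a - 1) = 1 := hdet y hyZ hyC
    have h3 : orderOf y ∣ Nat.gcd (2 ^ a * (2 ^ a + 1)) (2 ^ a - 1) :=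
      Nat.dvd_gcd (orderOf_dvd_of_pow_eq_one h1) (orderOf_dvd_of_pow_eq_one h2)
    rw [br_pmt_split_coprime a ha] at h3
    exact orderOf_eq_one_iff.mp (Nat.dvd_one.mp h3)
  obtain ⟨⟨f₂⟩, ⟨f₁⟩⟩ := br_pmt_split_prod (commutator G) hinf hperf
  exact ⟨f₂.trans ((f₁.trans e).prodCongr (MulEquiv.refl _))⟩

end Cfsg.Agent.BR
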