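import Mathlib
import Cfsg.Agent.BR.PmtSing
import Cfsg.Agent.BR.AltSq
import Cfsg.Agent.Helper6.GaloisConj
import Cfsg.Agent.Helper2.Sh3SimB

/-!
# S4705, K1 (part A): tools for the twisted family (helper4)

* `br_pmt_JData G p a r Jf` : `|G| = 2 ^ a * r * p` (`r` odd, prime to `p`) and exponents `Jf k`
  with `Jf k ≡ 1 mod 2 ^ a`, `≡ 2 mod r`, `≡ k mod p`; existence (`br_pmt_exists_JData`) and the
  behaviour of the power maps `g ↦ g ^ Jf k`.
* `br_pmt_char_eq_sum` : a character containing pairwise distinct irreducible characters whose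
  degrees add up to its degree is their sum.
* the characters `l` of `P` and `θ` of `Z(G)`: `l` is injective, `∑_x l(x)^k = 0`,
  `θ(y)^(Jf k) = θ(y)^2` for `θ` of odd order.
-/

set_option autoImplicit false
set_option linter.style.haveILetI false
set_option linter.unusedSectionVars false

namespace Cfsg.Agent.BR

open Cfsg Cfsg.Agent.D1 Cfsg.Agent.Helper6
open scoped ComplexConjugate

universe u

/-! ### the exponents `J k` -/


/-- `n = 2 ^ a * r * p` with `r` odd and prime to `p`, and exponents `J k` with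
`J k ≡ 1 mod 2 ^ a`, `≡ 2 mod r`, `≡ k mod p`. -/
theorem br_pmt_exists_J (n p : ℕ) (hp : p.Prime) (hodd : p ≠ 2) (hn : 0 < n) (hpn : p ∣ n)
    (hp2 : ¬ p ^ 2 ∣ n) :
    ∃ (a r : ℕ) (Jf : ℕ → ℕ), n = 2 ^ a * r * p ∧ Odd r ∧ ¬ p ∣ r ∧
      ∀ k, Jf k ≡ 1 [MOD 2 ^ a] ∧ Jf k ≡ 2 [MOD r] ∧ Jf k ≡ k [MOD p] := by
  obtain ⟨a, m, hm, hnm⟩ := Nat.exists_eq_two_pow_mul_odd hn.ne'
  have hpm : p ∣ m := by
    have h1 : Nat.Coprime p (2 ^ a) := by
      apply Nat.Coprime.pow_right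
      rw [Nat.coprime_primes hp Nat.prime_two]
      exact hodd
    rw [hnm] at hpn
    exact h1.dvd_of_dvd_mul_left hpn
  obtain ⟨r, hr⟩ := hpm
  have hrodd : Odd r := by
    rw [hr] at hm
    exact (Nat.odd_mul.1 hm).2
  have hpr : ¬ p ∣ r := by
    rintro ⟨r', hr'⟩
    apply hp2
    rw [hnm, hr, hr']
    exact ⟨2 ^ a * r', by ring⟩
  have hc1 : Nat.Coprime (2 ^ a) r := by
    apply Nat.Coprime.pow_left
    exact hrodd.coprime_two_left
  have hc2 : Nat.Coprime (2 ^ a * r) p := by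
    apply Nat.Coprime.mul_left
    · apply Nat.Coprime.pow_left
      rw [Nat.coprime_primes Nat.prime_two hp]
      exact Ne.symm hodd
    · exact ((Nat.Prime.coprime_iff_not_dvd hp).2 hpr).symm
  refine ⟨a, r, fun k => (Nat.chineseRemainder hc2 (Nat.chineseRemainder hc1 1 2 : ℕ) k : ℕ),
    by rw [hnm, hr]; ring, hrodd, hpr, fun k => ?_⟩
  have h1 := (Nat.chineseRemainder hc2 (Nat.chineseRemainder hc1 1 2 : ℕ) k).2
  have h2 := (Nat.chineseRemainder hc1 1 2).2
  refine ⟨?_, ?_, h1.2⟩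
  · exact (h1.1.of_dvd (Dvd.intro _ rfl)).trans h2.1
  · exact (h1.1.of_dvd (Dvd.intro_left _ rfl)).trans h2.2


/-- the exponents `J k`: `|G| = 2 ^ a * r * p`, `r` odd and prime to `p`, `J k ≡ 1 mod 2 ^ a`,
`≡ 2 mod r`, `≡ k mod p`. -/
structure br_pmt_JData (G : Type u) [Group G] (p a r : ℕ) (Jf : ℕ → ℕ) : Prop where
  card : Nat.card G = 2 ^ a * r * p
  odd : Odd r
  ndvd : ¬ p ∣ r
  mod2 : ∀ k, Jf k ≡ 1 [MOD 2 ^ a]
  modr : ∀ k, Jf k ≡ 2 [MOD r]
  modp : ∀ k, Jf k ≡ k [MOD p]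

namespace br_pmt_JData

variable {G : Type u} [Group G] [Finite G] {p a r : ℕ} {Jf : ℕ → ℕ} [hp : Fact p.Prime]

theorem coprime (D : br_pmt_JData G p a r Jf) (k : ℕ) (hk : ¬ p ∣ k) :
    (Jf k).Coprime (Nat.card G) := by
  rw [D.card]
  apply Nat.Coprime.mul_right
  · apply Nat.Coprime.mul_right
    · have h1 : Nat.gcd (Jf k) (2 ^ a) = Nat.gcd 1 (2 ^ a) := (D.mod2 k).gcd_eq
      rw [Nat.Coprime, h1]
      exact Nat.gcd_one_left _
    · have h1 : Nat.gcd (Jf k) r = Nat.gcd 2 r := (D.modr k).gcd_eq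
      rw [Nat.Coprime, h1]
      exact D.odd.coprime_two_left
  · have h1 : Nat.gcd (Jf k) p = Nat.gcd k p := (D.modp k).gcd_eq
    rw [Nat.Coprime, h1]
    exact ((Nat.Prime.coprime_iff_not_dvd hp.out).2 hk).symm

theorem coprime_two_pow_r (D : br_pmt_JData G p a r Jf) : Nat.Coprime (2 ^ a) r :=
  Nat.Coprime.pow_left _ D.odd.coprime_two_left

/-- a divisor of `|G|` prime to `p` divides `2 ^ a * r` -/
theorem dvd_of_not_dvd (D : br_pmt_JData G p a r Jf) {d : ℕ} (hd : d ∣ Nat.card G)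
    (hpd : ¬ p ∣ d) : d ∣ 2 ^ a * r := by
  rw [D.card] at hd
  have h1 : Nat.Coprime d p := ((Nat.Prime.coprime_iff_not_dvd hp.out).2 hpd).symm
  exact h1.dvd_of_dvd_mul_right hd

/-- an odd divisor of `|G|` prime to `p` divides `r` -/
theorem dvd_r (D : br_pmt_JData G p a r Jf) {d : ℕ} (hd : d ∣ Nat.card G)
    (hpd : ¬ p ∣ d) (hodd : Odd d) : d ∣ r := by
  have h1 := D.dvd_of_not_dvd hd hpd
  have h2 : Nat.Coprime d (2 ^ a) := Nat.Coprime.pow_right _ hodd.coprime_two_right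
  exact h2.dvd_of_dvd_mul_left h1

/-- on `p`-regular elements the power maps `g ↦ g ^ J k` agree -/
theorem pow_reg (D : br_pmt_JData G p a r Jf) (k m : ℕ) (g : G) (hg : ¬ p ∣ orderOf g) :
    g ^ Jf k = g ^ Jf m := by
  rw [pow_eq_pow_iff_modEq]
  have h1 : orderOf g ∣ 2 ^ a * r := D.dvd_of_not_dvd (orderOf_dvd_natCard g) hg
  have h2 : Jf k ≡ Jf m [MOD 2 ^ a * r] := by
    rw [← Nat.modEq_and_modEq_iff_modEq_mul D.coprime_two_pow_r]
    exact ⟨(D.mod2 k).trans (D.mod2 m).symm, (D.modr k).trans (D.modr m).symm⟩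
  exact h2.of_dvd h1

/-- on `p`-regular elements of odd order `g ↦ g ^ J k` is squaring -/
theorem pow_odd (D : br_pmt_JData G p a r Jf) (k : ℕ) (g : G) (hodd : Odd (orderOf g))
    (hg : ¬ p ∣ orderOf g) : g ^ Jf k = g * g := by
  rw [← pow_two, pow_eq_pow_iff_modEq]
  exact (D.modr k).of_dvd (D.dvd_r (orderOf_dvd_natCard g) hg hodd)

/-- on `2`-elements `g ↦ g ^ J k` is the identity -/
theorem pow_two_elt (D : br_pmt_JData G p a r Jf) (hp2 : p ≠ 2) (k : ℕ) (g : G)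
    (hg : ∃ j : ℕ, orderOf g = 2 ^ j) : g ^ Jf k = g := by
  obtain ⟨j, hj⟩ := hg
  conv_rhs => rw [← pow_one g]
  rw [pow_eq_pow_iff_modEq]
  have h1 : orderOf g ∣ 2 ^ a := by
    have h2 : orderOf g ∣ 2 ^ a * (r * p) := by
      have := orderOf_dvd_natCard g
      rwa [D.card, mul_assoc] at this
    have h3 : Nat.Coprime (orderOf g) (r * p) := by
      rw [hj]
      apply Nat.Coprime.pow_left
      apply Nat.Coprime.mul_right D.odd.coprime_two_left
      rw [Nat.coprime_primes Nat.prime_two hp.out]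
      exact Ne.symm hp2
    exact h3.dvd_of_dvd_mul_right h2
  exact (D.mod2 k).of_dvd h1

/-- on elements of order dividing `p`, `g ↦ g ^ J k` is `g ↦ g ^ k` -/
theorem pow_p (D : br_pmt_JData G p a r Jf) (k : ℕ) {M : Type*} [Group M] (x : M)
    (hx : x ^ p = 1) : x ^ Jf k = x ^ k := by
  rw [pow_eq_pow_iff_modEq]
  exact (D.modp k).of_dvd (orderOf_dvd_of_pow_eq_one hx)

/-- on elements of order dividing `r`, `g ↦ g ^ J k` is squaring -/
theorem pow_r (D : br_pmt_JData G p a r Jf) (k : ℕ) {M : Type*} [Group M] (x : M)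
    (hx : orderOf x ∣ r) : x ^ Jf k = x ^ 2 := by
  rw [pow_eq_pow_iff_modEq]
  exact (D.modr k).of_dvd hx

end br_pmt_JData

/-- existence of the data -/
theorem br_pmt_exists_JData (G : Type u) [Group G] [Finite G] (p : ℕ) [hp : Fact p.Prime]
    (hodd : p ≠ 2) (hpn : p ∣ Nat.card G) (hp2 : ¬ p ^ 2 ∣ Nat.card G) :
    ∃ (a r : ℕ) (Jf : ℕ → ℕ), br_pmt_JData G p a r Jf := by
  obtain ⟨a, r, Jf, h1, h2, h3, h4⟩ :=
    br_pmt_exists_J (Nat.card G) p hp.out hodd Nat.card_pos hpn hp2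
  exact ⟨a, r, Jf, h1, h2, h3, fun k => (h4 k).1, fun k => (h4 k).2.1, fun k => (h4 k).2.2⟩

/-! ### a character is the sum of its constituents when the degrees add up -/

/-- a character which contains the pairwise distinct irreducible characters `Ξ i`, and whose
degree is the sum of their degrees, is their sum. -/
theorem br_pmt_char_eq_sum {X : Type u} [Group X] [Fintype X] {Ψ : X → ℂ}
    (hΨ : IsCharacter X Ψ) {ι : Type*} [Fintype ι] (Ξ : ι → X → ℂ)
    (hΞ : ∀ i, IsIrrCharacter X (Ξ i)) (hinj : Function.Injective Ξ)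
    (hne : ∀ i, classInner Ψ (Ξ i) ≠ 0) (hdeg : Ψ 1 = ∑ i, Ξ i 1) : Ψ = ∑ i, Ξ i := by
  classical
  haveI : Finite (IrrCharacter X) := irr_finite
  haveI : Fintype (IrrCharacter X) := Fintype.ofFinite _
  obtain ⟨n, hn, hexp, hdegn, -⟩ := Cfsg.Agent.Helper2.Sh3Sim.exists_mult hΨ
  set e : ι → IrrCharacter X := fun i => ⟨Ξ i, hΞ i⟩ with he
  have heinj : Function.Injective e := by
    intro i j hij
    exact hinj (congrArg Subtype.val hij)
  set T : Finset (IrrCharacter X) := Finset.univ.image e with hT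
  have hnT : ∀ χ ∈ T, 1 ≤ n χ := by
    intro χ hχ
    obtain ⟨i, -, rfl⟩ := Finset.mem_image.1 hχ
    rcases Nat.eq_zero_or_pos (n (e i)) with h0 | h0
    · exfalso
      apply hne i
      have := hn (e i)
      rw [h0] at this
      simpa using this
    · exact h0
  have hdegpos : ∀ χ : IrrCharacter X, 0 < charDegree (χ : X → ℂ) := by
    intro χ
    obtain ⟨a, ha0, ha⟩ := IsIrrCharacter.apply_one_pos χ.2
    have h1 := charDegree_cast_of_isCharacter (IsIrrCharacter.isCharacter χ.2)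
    rw [ha] at h1
    have : charDegree (χ : X → ℂ) = a := by exact_mod_cast h1
    omega
  -- the degree identity in ℕ
  have hdegN : charDegree Ψ = ∑ χ ∈ T, charDegree (χ : X → ℂ) := by
    rw [hT, Finset.sum_image (fun i _ j _ hij => heinj hij)]
    have h1 : (charDegree Ψ : ℂ) = ((∑ i, charDegree (Ξ i) : ℕ) : ℂ) := by
      rw [charDegree_cast_of_isCharacter hΨ, hdeg]
      push_cast
      apply Finset.sum_congr rfl
      intro i _
      rw [charDegree_cast_of_isCharacter (IsIrrCharacter.isCharacter (hΞ i))]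
    exact_mod_cast h1
  have hle : ∀ χ ∈ (Finset.univ : Finset (IrrCharacter X)),
      (if χ ∈ T then charDegree (χ : X → ℂ) else 0) ≤ n χ * charDegree (χ : X → ℂ) := by
    intro χ _
    by_cases hχ : χ ∈ T
    · rw [if_pos hχ]
      exact Nat.le_mul_of_pos_left _ (hnT χ hχ)
    · rw [if_neg hχ]
      exact Nat.zero_le _
  have hsum : ∑ χ : IrrCharacter X, (if χ ∈ T then charDegree (χ : X → ℂ) else 0) =
      ∑ χ : IrrCharacter X, n χ * charDegree (χ : X → ℂ) := by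
    rw [← hdegn, hdegN, Finset.sum_ite_mem, Finset.univ_inter]
  have heq := (Finset.sum_eq_sum_iff_of_le hle).1 hsum
  have hn1 : ∀ χ : IrrCharacter X, n χ = if χ ∈ T then 1 else 0 := by
    intro χ
    have h1 := heq χ (Finset.mem_univ _)
    by_cases hχ : χ ∈ T
    · rw [if_pos hχ] at h1 ⊢
      have h2 := hdegpos χ
      have : n χ * charDegree (χ : X → ℂ) = 1 * charDegree (χ : X → ℂ) := by rw [one_mul, ← h1]
      exact Nat.eq_of_mul_eq_mul_right h2 this
    · rw [if_neg hχ] at h1 ⊢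
      have h2 := hdegpos χ
      rcases Nat.eq_zero_or_pos (n χ) with h0 | h0
      · exact h0
      · exfalso
        have := Nat.mul_pos h0 h2
        omega
  rw [hexp]
  have h3 : ∑ χ : IrrCharacter X, (n χ : ℂ) • (χ : X → ℂ) = ∑ χ ∈ T, (χ : X → ℂ) := by
    rw [← Finset.sum_filter_add_sum_filter_not Finset.univ (fun χ => χ ∈ T)]
    have h4 : ∑ χ ∈ Finset.univ.filter (fun χ => ¬ χ ∈ T), (n χ : ℂ) • (χ : X → ℂ) = 0 := by
      apply Finset.sum_eq_zero
      intro χ hχ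
      rw [Finset.mem_filter] at hχ
      rw [hn1 χ, if_neg hχ.2]
      simp
    rw [h4, add_zero]
    have h5 : Finset.univ.filter (fun χ => χ ∈ T) = T := by
      ext χ; simp
    rw [h5]
    apply Finset.sum_congr rfl
    intro χ hχ
    rw [hn1 χ, if_pos hχ]
    simp
  rw [h3, hT, Finset.sum_image (fun i _ j _ hij => heinj hij)]


/-! ### the characters `l` of `P` and `θ` of `Z` -/

section chars

variable {G : Type u} [Group G] [Finite G] {p : ℕ} [hp : Fact p.Prime] {P : Sylow p G}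
  {ζ : G → ℂ} {θ : ↥(Subgroup.center G) →* ℂˣ} {l : ↥(P : Subgroup G) →* ℂˣ}

namespace br_pmt_Hyp

variable (h : br_pmt_Hyp p P ζ θ l)
include h

theorem p_ne_two : p ≠ 2 := by
  have := h.p_ge
  omega

theorem pow_p_eq_one (x : ↥(P : Subgroup G)) : x ^ p = 1 := by
  have := pow_card_eq_one' (G := ↥(P : Subgroup G)) (x := x)
  rwa [h.card_P] at this

theorem l_pow_p (x : ↥(P : Subgroup G)) : (l x) ^ p = 1 := by
  rw [← map_pow, h.pow_p_eq_one, map_one]

/-- `l` is injective -/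
theorem l_ne_one (x : ↥(P : Subgroup G)) (hx : x ≠ 1) : l x ≠ 1 := by
  intro hlx
  apply h.l_ne
  ext1 x₀
  have h1 : Subgroup.zpowers x = ⊤ := zpowers_eq_top_of_prime_card h.card_P hx
  have h2 : x₀ ∈ Subgroup.zpowers x := by rw [h1]; trivial
  obtain ⟨i, rfl⟩ := Subgroup.mem_zpowers_iff.1 h2
  rw [map_zpow, hlx, one_zpow, MonoidHom.one_apply]

theorem orderOf_l (x : ↥(P : Subgroup G)) (hx : x ≠ 1) : orderOf (l x) = p := by
  have h1 : orderOf (l x) ∣ p := orderOf_dvd_of_pow_eq_one (h.l_pow_p x)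
  rcases (Nat.dvd_prime hp.out).1 h1 with h2 | h2
  · exact absurd (orderOf_eq_one_iff.1 h2) (h.l_ne_one x hx)
  · exact h2

theorem pow_ne_one (x : ↥(P : Subgroup G)) (hx : x ≠ 1) (k : ℕ) (hk : ¬ p ∣ k) : x ^ k ≠ 1 := by
  intro hxk
  apply hk
  have h1 : orderOf x = p := by
    have h2 : orderOf x ∣ p := orderOf_dvd_of_pow_eq_one (h.pow_p_eq_one x)
    rcases (Nat.dvd_prime hp.out).1 h2 with h3 | h3
    · exact absurd (orderOf_eq_one_iff.1 h3) hx
    · exact h3
  rw [← h1]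
  exact orderOf_dvd_of_pow_eq_one hxk

theorem exists_ne_one : ∃ x : ↥(P : Subgroup G), x ≠ 1 := by
  haveI : Nontrivial ↥(P : Subgroup G) := by
    rw [← Finite.one_lt_card_iff_nontrivial, h.card_P]
    exact hp.out.one_lt
  exact exists_ne 1

/-- `∑_{x ∈ P} l(x)^k = 0` for `p ∤ k` -/
theorem sum_l_pow [Fintype ↥(P : Subgroup G)] (k : ℕ) (hk : ¬ p ∣ k) :
    ∑ x : ↥(P : Subgroup G), ((l x : ℂˣ) : ℂ) ^ k = 0 := by
  have hf : (Units.coeHom ℂ).comp (l ^ k) ≠ 1 := by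
    obtain ⟨x, hx⟩ := h.exists_ne_one
    intro hf
    have h1 := DFunLike.congr_fun hf x
    simp only [MonoidHom.comp_apply, MonoidHom.pow_apply, Units.coeHom_apply, MonoidHom.one_apply,
      Units.val_eq_one] at h1
    apply hk
    rw [← h.orderOf_l x hx]
    exact orderOf_dvd_of_pow_eq_one h1
  have := sum_hom_units_eq_zero _ hf
  simpa using this

/-- `∑_{x ∈ P} l(x)^(-k) = 0` for `p ∤ k` -/
theorem sum_l_inv_pow [Fintype ↥(P : Subgroup G)] (k : ℕ) (hk : ¬ p ∣ k) :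
    ∑ x : ↥(P : Subgroup G), (((l x)⁻¹ : ℂˣ) : ℂ) ^ k = 0 := by
  rw [← h.sum_l_pow k hk]
  apply Fintype.sum_equiv (Equiv.inv ↥(P : Subgroup G))
  intro x
  rw [Equiv.inv_apply, map_inv]

/-- `θ y` has order dividing `|Z|` -/
theorem theta_pow_card (y : ↥(Subgroup.center G)) :
    (θ y) ^ Nat.card ↥(Subgroup.center G) = 1 := by
  rw [← map_pow, pow_card_eq_one', map_one]

/-- `θ(y)^(J k) = θ(y)^2` -/
theorem theta_pow_J (hodd : br_pmt_Odd θ) {a r : ℕ} {Jf : ℕ → ℕ} (D : br_pmt_JData G p a r Jf)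
    (k : ℕ) (y : ↥(Subgroup.center G)) : (θ y) ^ Jf k = (θ y) ^ 2 := by
  apply D.pow_r
  obtain ⟨m, hm, hθm⟩ := hodd
  have h1 : orderOf (θ y) ∣ m := by
    apply orderOf_dvd_of_pow_eq_one
    have := DFunLike.congr_fun hθm y
    simpa using this
  have h2 : orderOf (θ y) ∣ Nat.card ↥(Subgroup.center G) :=
    orderOf_dvd_of_pow_eq_one (h.theta_pow_card y)
  apply D.dvd_r (h2.trans (Subgroup.card_subgroup_dvd_card _))
  · intro hp'
    exact h.not_dvd_card_Z (hp'.trans h2)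
  · exact Odd.of_dvd_nat hm h1

end br_pmt_Hyp

end chars

end Cfsg.Agent.BR
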