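import Mathlib
import Cfsg.Agent.BR.PmtTwA

/-!
# S4705, K1: the twisted family, `Λ²ζ`, the relation (T) (helper4)

Setting `h : br_pmt_Hyp p P ζ θ l`, `θ` of odd order.  With the exponents `Jf k` of `PmtTwA`
(`≡ 1` on `2`-elements, `≡ 2` on odd `p'`-elements, `≡ k` on `P`) the functions
`ξ_k = ζ ∘ (· ^ Jf k)` (`br_pmt_xi`) are irreducible characters which agree on the `p`-regular
elements and are `-(l^k + l^(-k))(x) θ(y)²` on `x y` (`x ∈ P ∖ 1`, `y ∈ Z(G)`).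
Both `Λ²ζ + ξ_2` and `S²ζ` are `θ(y)²` on `x y`, so by the `p`-singular sum formula they have
the same inner product with all `ξ_k`; the degree count gives `Λ²ζ + ξ_2 = ∑_{k ≤ (p-1)/2} ξ_k`,
i.e. (T) `ζ(g)² - ζ(g²) = (p-3) ζ(g^J)` on `p`-regular `g`, and `⟨S²ζ, ξ_k⟩ = 0`
(else `ζ(g²) = ζ(g)` on `2`-elements, which makes them central).  Main export: `br_pmt_T`.
-/

set_option autoImplicit false
set_option linter.style.haveILetI false
set_option linter.unusedSectionVars false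

namespace Cfsg.Agent.BR

open Cfsg Cfsg.Agent.D1 Cfsg.Agent.Helper6
open scoped ComplexConjugate

universe u

section lemmas

variable {G : Type u} [Group G] [Fintype G] {p : ℕ} [hp : Fact p.Prime] {P : Sylow p G}
  {ζ : G → ℂ} {θ : ↥(Subgroup.center G) →* ℂˣ} {l : ↥(P : Subgroup G) →* ℂˣ}
  {a r : ℕ} {Jf : ℕ → ℕ}

/-- the twisted family `ξ_k = ζ ∘ (· ^ J k)` -/
def br_pmt_xi (ζ : G → ℂ) (Jf : ℕ → ℕ) (k : ℕ) : G → ℂ := fun g => ζ (g ^ Jf k)

/-- `c_k = l^k + l^(-k)` on `P` -/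
def br_pmt_c (l : ↥(P : Subgroup G) →* ℂˣ) (k : ℕ) (x : ↥(P : Subgroup G)) : ℂ :=
  ((l x : ℂˣ) : ℂ) ^ k + (((l x)⁻¹ : ℂˣ) : ℂ) ^ k

omit [Fintype G] hp in
theorem br_pmt_c_one (k : ℕ) : br_pmt_c l k 1 = 2 := by
  unfold br_pmt_c
  rw [map_one, inv_one, Units.val_one, one_pow]
  norm_num

theorem br_pmt_xi_irr (h : br_pmt_Hyp p P ζ θ l) (D : br_pmt_JData G p a r Jf) (k : ℕ)
    (hk : ¬ p ∣ k) : IsIrrCharacter G (br_pmt_xi ζ Jf k) :=
  IsIrrCharacter.comp_pow h.irr (Jf k) (D.coprime k hk)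

omit [Fintype G] in
theorem br_pmt_xi_reg [Finite G] (D : br_pmt_JData G p a r Jf) (k m : ℕ) (g : G)
    (hg : ¬ p ∣ orderOf g) : br_pmt_xi ζ Jf k g = br_pmt_xi ζ Jf m g := by
  unfold br_pmt_xi
  rw [D.pow_reg k m g hg]

omit [Fintype G] in
theorem br_pmt_xi_val [Finite G] (h : br_pmt_Hyp p P ζ θ l) (hodd : br_pmt_Odd θ)
    (D : br_pmt_JData G p a r Jf) (k : ℕ) (hk : ¬ p ∣ k) (x : ↥(P : Subgroup G)) (hx : x ≠ 1)
    (y : ↥(Subgroup.center G)) :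
    br_pmt_xi ζ Jf k ((x : G) * (y : G)) = -(br_pmt_c l k x) * ((θ y : ℂˣ) : ℂ) ^ 2 := by
  unfold br_pmt_xi br_pmt_c
  have hcomm : Commute (x : G) (y : G) := Subgroup.mem_center_iff.1 y.2 x
  have h1 : ((x : G) * (y : G)) ^ Jf k =
      ((x ^ k : ↥(P : Subgroup G)) : G) * ((y ^ Jf k : ↥(Subgroup.center G)) : G) := by
    rw [hcomm.mul_pow, ← D.pow_p k x (h.pow_p_eq_one x), Subgroup.coe_pow, Subgroup.coe_pow]
  rw [h1, h.val_mul (x ^ k) (h.pow_ne_one x hx k hk) (y ^ Jf k), map_pow, map_pow,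
    h.theta_pow_J hodd D k y, ← inv_pow, Units.val_pow_eq_pow_val, Units.val_pow_eq_pow_val,
    Units.val_pow_eq_pow_val]

omit [Fintype G] in
/-- `ζ ((x y) (x y)) = -(c_2 x) θ(y)²` -/
theorem br_pmt_sq_val [Finite G] (h : br_pmt_Hyp p P ζ θ l) (x : ↥(P : Subgroup G)) (hx : x ≠ 1)
    (y : ↥(Subgroup.center G)) :
    ζ ((x : G) * (y : G) * ((x : G) * (y : G))) =
      -(br_pmt_c l 2 x) * ((θ y : ℂˣ) : ℂ) ^ 2 := by
  unfold br_pmt_c
  have hcomm : Commute (x : G) (y : G) := Subgroup.mem_center_iff.1 y.2 x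
  have h2 : ¬ p ∣ 2 := by
    intro h2
    have := Nat.le_of_dvd (by norm_num) h2
    have := h.p_ge
    omega
  have h1 : (x : G) * (y : G) * ((x : G) * (y : G)) =
      ((x ^ 2 : ↥(P : Subgroup G)) : G) * ((y ^ 2 : ↥(Subgroup.center G)) : G) := by
    rw [← pow_two, hcomm.mul_pow, Subgroup.coe_pow, Subgroup.coe_pow]
  rw [h1, h.val_mul (x ^ 2) (h.pow_ne_one x hx 2 h2) (y ^ 2), map_pow, map_pow, ← inv_pow,
    Units.val_pow_eq_pow_val, Units.val_pow_eq_pow_val, Units.val_pow_eq_pow_val]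

omit [Fintype G] in
/-- the symmetric square is `θ(y)²` on `x y` -/
theorem br_pmt_sym_val [Finite G] (h : br_pmt_Hyp p P ζ θ l) (x : ↥(P : Subgroup G)) (hx : x ≠ 1)
    (y : ↥(Subgroup.center G)) :
    (2 : ℂ)⁻¹ * (ζ ((x : G) * (y : G)) ^ 2 + ζ ((x : G) * (y : G) * ((x : G) * (y : G)))) =
      ((θ y : ℂˣ) : ℂ) ^ 2 := by
  rw [br_pmt_sq_val h x hx y, h.val_mul x hx y]
  unfold br_pmt_c
  have hLL : ((l x : ℂˣ) : ℂ) * (((l x)⁻¹ : ℂˣ) : ℂ) = 1 := by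
    rw [← Units.val_mul, mul_inv_cancel, Units.val_one]
  linear_combination (((θ y : ℂˣ) : ℂ) ^ 2) * hLL

omit [Fintype G] in
/-- the exterior square plus `ξ_2` is `θ(y)²` on `x y` -/
theorem br_pmt_alt_val [Finite G] (h : br_pmt_Hyp p P ζ θ l) (hodd : br_pmt_Odd θ)
    (D : br_pmt_JData G p a r Jf) (x : ↥(P : Subgroup G)) (hx : x ≠ 1)
    (y : ↥(Subgroup.center G)) :
    (2 : ℂ)⁻¹ * (ζ ((x : G) * (y : G)) ^ 2 - ζ ((x : G) * (y : G) * ((x : G) * (y : G)))) +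
      br_pmt_xi ζ Jf 2 ((x : G) * (y : G)) = ((θ y : ℂˣ) : ℂ) ^ 2 := by
  have h2 : ¬ p ∣ 2 := by
    intro h2
    have := Nat.le_of_dvd (by norm_num) h2
    have := h.p_ge
    omega
  rw [br_pmt_sq_val h x hx y, h.val_mul x hx y, br_pmt_xi_val h hodd D 2 h2 x hx y]
  unfold br_pmt_c
  have hLL : ((l x : ℂˣ) : ℂ) * (((l x)⁻¹ : ℂˣ) : ℂ) = 1 := by
    rw [← Units.val_mul, mul_inv_cancel, Units.val_one]
  linear_combination (((θ y : ℂˣ) : ℂ) ^ 2) * hLL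

omit [Fintype G] in
theorem br_pmt_sum_c [Finite G] (h : br_pmt_Hyp p P ζ θ l) [Fintype ↥(P : Subgroup G)] (k : ℕ)
    (hk : ¬ p ∣ k) : ∑ x : ↥(P : Subgroup G), br_pmt_c l k x = 0 := by
  unfold br_pmt_c
  rw [Finset.sum_add_distrib, h.sum_l_pow k hk, h.sum_l_inv_pow k hk, add_zero]

omit [Fintype G] hp in
theorem br_pmt_theta_mul_conj [Finite G] (y : ↥(Subgroup.center G)) :
    ((θ y : ℂˣ) : ℂ) ^ 2 * conj (((θ y : ℂˣ) : ℂ) ^ 2) = 1 := by
  rw [Complex.mul_conj, Complex.normSq_eq_norm_sq, norm_pow, br_pmt_norm_hom]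
  norm_num

/-- a class function `F` with `F (x y) = θ(y)²` on the `p`-singular elements of `C_G(P)` has the
same inner product with all `ξ_k` -/
theorem br_pmt_inner_diff (h : br_pmt_Hyp p P ζ θ l) (hodd : br_pmt_Odd θ)
    (D : br_pmt_JData G p a r Jf) (F : G → ℂ) (hF : IsClassFunction G F)
    (hFv : ∀ x : ↥(P : Subgroup G), x ≠ 1 → ∀ y : ↥(Subgroup.center G),
      F ((x : G) * (y : G)) = ((θ y : ℂˣ) : ℂ) ^ 2)
    (k m : ℕ) (hk : ¬ p ∣ k) (hm : ¬ p ∣ m) :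
    classInner (br_pmt_xi ζ Jf k - br_pmt_xi ζ Jf m) F = 0 := by
  classical
  haveI : Fintype ↥(P : Subgroup G) := Fintype.ofFinite _
  haveI : Fintype ↥(Subgroup.center G) := Fintype.ofFinite _
  have hck := IsCharacter.isClassFunction (IsIrrCharacter.isCharacter (br_pmt_xi_irr h D k hk))
  have hcm := IsCharacter.isClassFunction (IsIrrCharacter.isCharacter (br_pmt_xi_irr h D m hm))
  set Φ : G → ℂ := fun g => (br_pmt_xi ζ Jf k g - br_pmt_xi ζ Jf m g) * conj (F g) with hΦ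
  have hΦc : ∀ g k' : G, Φ (k' * g * k'⁻¹) = Φ g := by
    intro g k'
    show (br_pmt_xi ζ Jf k (k' * g * k'⁻¹) - br_pmt_xi ζ Jf m (k' * g * k'⁻¹)) *
      conj (F (k' * g * k'⁻¹)) = _
    rw [hck g k', hcm g k', hF g k']
  have hΦr : ∀ g : G, ¬ p ∣ orderOf g → Φ g = 0 := by
    intro g hg
    show (br_pmt_xi ζ Jf k g - br_pmt_xi ζ Jf m g) * conj (F g) = 0
    rw [br_pmt_xi_reg D k m g hg, sub_self, zero_mul]
  have hsum := br_pmt_sing_sum' p P h Φ hΦc hΦr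
  have hpt : ∀ (x : ↥(P : Subgroup G)) (y : ↥(Subgroup.center G)),
      Φ ((x : G) * (y : G)) = br_pmt_c l m x - br_pmt_c l k x := by
    intro x y
    by_cases hx : x = 1
    · rw [hx, br_pmt_c_one, br_pmt_c_one, sub_self, Subgroup.coe_one, one_mul]
      exact hΦr _ (h.center_reg y y.2)
    · show (br_pmt_xi ζ Jf k ((x : G) * (y : G)) - br_pmt_xi ζ Jf m ((x : G) * (y : G))) *
        conj (F ((x : G) * (y : G))) = _
      rw [br_pmt_xi_val h hodd D k hk x hx y, br_pmt_xi_val h hodd D m hm x hx y, hFv x hx y]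
      linear_combination (br_pmt_c l m x - br_pmt_c l k x) * br_pmt_theta_mul_conj (θ := θ) y
  have hzero : ∑ x : ↥(P : Subgroup G), ∑ y : ↥(Subgroup.center G), Φ ((x : G) * (y : G)) = 0 := by
    simp_rw [hpt]
    rw [Finset.sum_comm]
    apply Finset.sum_eq_zero
    intro y _
    rw [Finset.sum_sub_distrib, br_pmt_sum_c h m hm, br_pmt_sum_c h k hk, sub_self]
  rw [hzero, mul_zero] at hsum
  have hN0 : (Nat.card ↥(Subgroup.normalizer ((P : Subgroup G) : Set G)) : ℂ) ≠ 0 := by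
    have : 0 < Nat.card ↥(Subgroup.normalizer ((P : Subgroup G) : Set G)) := Nat.card_pos
    exact_mod_cast this.ne'
  have hS : ∑ g : G, Φ g = 0 := by
    rcases mul_eq_zero.1 hsum with h0 | h0
    · exact absurd h0 hN0
    · exact h0
  unfold classInner
  have : ∑ g : G, (br_pmt_xi ζ Jf k - br_pmt_xi ζ Jf m) g * conj (F g) = ∑ g : G, Φ g := rfl
  rw [this, hS, mul_zero]

omit [Fintype G] in
/-- `ξ_k ≠ ξ_m` for `1 ≤ k < m ≤ (p-1)/2` -/
theorem br_pmt_xi_ne [Finite G] (h : br_pmt_Hyp p P ζ θ l) (hodd : br_pmt_Odd θ)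
    (D : br_pmt_JData G p a r Jf) (k m : ℕ) (hk1 : 1 ≤ k) (hkm : k < m) (hm : 2 * m + 1 ≤ p) :
    br_pmt_xi ζ Jf k ≠ br_pmt_xi ζ Jf m := by
  intro heq
  obtain ⟨x, hx⟩ := h.exists_ne_one
  have hk : ¬ p ∣ k := Nat.not_dvd_of_pos_of_lt (by omega) (by omega)
  have hm' : ¬ p ∣ m := Nat.not_dvd_of_pos_of_lt (by omega) (by omega)
  have h1 := congrFun heq ((x : G) * ((1 : ↥(Subgroup.center G)) : G))
  rw [br_pmt_xi_val h hodd D k hk x hx 1, br_pmt_xi_val h hodd D m hm' x hx 1, map_one,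
    Units.val_one, one_pow, mul_one, mul_one, neg_inj] at h1
  unfold br_pmt_c at h1
  have hLL : ((l x : ℂˣ) : ℂ) * (((l x)⁻¹ : ℂˣ) : ℂ) = 1 := by
    rw [← Units.val_mul, mul_inv_cancel, Units.val_one]
  have hLLk : ((l x : ℂˣ) : ℂ) ^ k * (((l x)⁻¹ : ℂˣ) : ℂ) ^ k = 1 := by
    rw [← mul_pow, hLL, one_pow]
  have hLLm : ((l x : ℂˣ) : ℂ) ^ m * (((l x)⁻¹ : ℂˣ) : ℂ) ^ m = 1 := by
    rw [← mul_pow, hLL, one_pow]
  have hprod : (((l x : ℂˣ) : ℂ) ^ k - ((l x : ℂˣ) : ℂ) ^ m) *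
      (1 - (((l x)⁻¹ : ℂˣ) : ℂ) ^ (k + m)) = 0 := by
    rw [pow_add]
    linear_combination h1 + (-(((l x)⁻¹ : ℂˣ) : ℂ) ^ m) * hLLk +
      ((((l x)⁻¹ : ℂˣ) : ℂ) ^ k) * hLLm
  have hord := h.orderOf_l x hx
  rcases mul_eq_zero.1 hprod with h2 | h2
  · have h3 : (l x) ^ k = (l x) ^ m := by
      apply Units.ext
      rw [Units.val_pow_eq_pow_val, Units.val_pow_eq_pow_val]
      exact sub_eq_zero.1 h2
    rw [pow_eq_pow_iff_modEq, hord] at h3
    have := Nat.ModEq.eq_of_lt_of_lt h3 (by omega) (by omega)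
    omega
  · have h3 : ((l x)⁻¹) ^ (k + m) = 1 := by
      apply Units.ext
      rw [Units.val_pow_eq_pow_val, Units.val_one]
      exact (sub_eq_zero.1 h2).symm
    have h4 : orderOf (l x)⁻¹ ∣ k + m := orderOf_dvd_of_pow_eq_one h3
    rw [orderOf_inv, hord] at h4
    have := Nat.le_of_dvd (by omega) h4
    omega

omit [Fintype G] in
/-- `ζ (g * g) = ζ g` cannot hold for all `2`-elements -/
theorem br_pmt_no_sq [Finite G] (h : br_pmt_Hyp p P ζ θ l)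
    (hsq : ∀ g : G, (∃ j : ℕ, orderOf g = 2 ^ j) → ζ (g * g) = ζ g) : False := by
  have key : ∀ k : ℕ, ∀ g : G, g ^ 2 ^ k = 1 → ζ g = ζ 1 := by
    intro k
    induction k with
    | zero =>
      intro g hg
      rw [pow_zero, pow_one] at hg
      rw [hg]
    | succ k ih =>
      intro g hg
      have h1 : (g * g) ^ 2 ^ k = 1 := by
        rw [← pow_two, ← pow_mul, ← pow_succ']
        exact hg
      have h2 : ∃ j : ℕ, orderOf g = 2 ^ j := by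
        obtain ⟨j, -, hj⟩ := (Nat.dvd_prime_pow Nat.prime_two).1 (orderOf_dvd_of_pow_eq_one hg)
        exact ⟨j, hj⟩
      rw [← hsq g h2]
      exact ih _ h1
  obtain ⟨s, ⟨k, hk⟩, -, hsC⟩ := h.exists_two_elt
  apply hsC
  apply h.Z_le_C
  apply h.qf
  rw [key k s hk]
  have := h.norm_center 1
  rwa [Subgroup.coe_one] at this

end lemmas

section main

variable {G : Type u} [Group G] [Finite G]

/-- **K1.** The relation (T) and `⟨S²ζ, Λ²ζ⟩ = 0`. -/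
theorem br_pmt_T [Fintype G] (p : ℕ) [Fact p.Prime] (P : Sylow p G) {ζ : G → ℂ}
    {θ : ↥(Subgroup.center G) →* ℂˣ} {l : ↥(P : Subgroup G) →* ℂˣ} (h : br_pmt_Hyp p P ζ θ l)
    (hodd : br_pmt_Odd θ) :
    ∃ J : ℕ, J.Coprime (Nat.card G) ∧
      (∀ g : G, Odd (orderOf g) → ¬ p ∣ orderOf g → g ^ J = g * g) ∧
      (∀ g : G, (∃ k : ℕ, orderOf g = 2 ^ k) → g ^ J = g) ∧
      (∀ g : G, ¬ p ∣ orderOf g → ζ g ^ 2 - ζ (g * g) = ((p : ℂ) - 3) * ζ (g ^ J)) ∧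
      classInner (fun g => (2 : ℂ)⁻¹ * (ζ g ^ 2 + ζ (g * g)))
        (fun g => (2 : ℂ)⁻¹ * (ζ g ^ 2 - ζ (g * g))) = 0 := by
  classical
  have hp7 := h.p_ge
  have hpn : p ∣ Nat.card G := by
    rw [← h.card_P]
    exact Subgroup.card_subgroup_dvd_card _
  have hp2 : ¬ p ^ 2 ∣ Nat.card G := by
    intro hdvd
    have h1 := P.pow_dvd_card_of_pow_dvd_card hdvd
    rw [h.card_P] at h1
    have h2 := Nat.le_of_dvd (Nat.Prime.pos Fact.out) h1
    have : p < p ^ 2 := by nlinarith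
    omega
  obtain ⟨a, r, Jf, D⟩ := br_pmt_exists_JData G p h.p_ne_two hpn hp2
  obtain ⟨t, ht⟩ : ∃ t : ℕ, 2 * t + 1 = p := by
    have hodd' : Odd p := (Nat.Prime.eq_two_or_odd' Fact.out).resolve_left h.p_ne_two
    obtain ⟨t, ht⟩ := hodd'
    exact ⟨t, ht.symm⟩
  have hpC : (p : ℂ) = 2 * (t : ℂ) + 1 := by rw [← ht]; push_cast; ring
  have hnd : ∀ k : ℕ, 1 ≤ k → k ≤ t → ¬ p ∣ k := fun k h1 h2 =>
    Nat.not_dvd_of_pos_of_lt (by omega) (by omega)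
  have h2nd : ¬ p ∣ 2 := hnd 2 (by omega) (by omega)
  have h1nd : ¬ p ∣ 1 := hnd 1 (by omega) (by omega)
  have hζc : IsCharacter G ζ := IsIrrCharacter.isCharacter h.irr
  -- the family
  set Ξ : Fin t → G → ℂ := fun i => br_pmt_xi ζ Jf (i.1 + 1) with hΞ
  have hΞirr : ∀ i, IsIrrCharacter G (Ξ i) := fun i =>
    br_pmt_xi_irr h D _ (hnd _ (by omega) (by have := i.2; omega))
  have hΞinj : Function.Injective Ξ := by
    intro i j hij
    by_contra hne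
    rcases lt_or_gt_of_ne (fun hh => hne (Fin.ext hh)) with hlt | hlt
    · exact br_pmt_xi_ne h hodd D (i.1 + 1) (j.1 + 1) (by omega) (by omega)
        (by have := j.2; omega) hij
    · exact br_pmt_xi_ne h hodd D (j.1 + 1) (i.1 + 1) (by omega) (by omega)
        (by have := i.2; omega) hij.symm
  have hΞone : ∀ i, Ξ i 1 = (p : ℂ) - 2 := by
    intro i
    show ζ (1 ^ Jf (i.1 + 1)) = _
    rw [one_pow, h.deg]
  -- the two characters
  set A : G → ℂ := fun g => (2 : ℂ)⁻¹ * (ζ g ^ 2 - ζ (g * g)) with hA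
  set S : G → ℂ := fun g => (2 : ℂ)⁻¹ * (ζ g ^ 2 + ζ (g * g)) with hS
  have hAc : IsCharacter G A := br_as_isCharacter_alt hζc
  have hSc : IsCharacter G S := br_as_isCharacter_sym hζc
  have hξ2 := br_pmt_xi_irr h D 2 h2nd
  set Ψ : G → ℂ := A + br_pmt_xi ζ Jf 2 with hΨ
  have hΨc : IsCharacter G Ψ := IsCharacter.add hAc (IsIrrCharacter.isCharacter hξ2)
  have hΨv : ∀ x : ↥(P : Subgroup G), x ≠ 1 → ∀ y : ↥(Subgroup.center G),
      Ψ ((x : G) * (y : G)) = ((θ y : ℂˣ) : ℂ) ^ 2 := fun x hx y =>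
    br_pmt_alt_val h hodd D x hx y
  have hSv : ∀ x : ↥(P : Subgroup G), x ≠ 1 → ∀ y : ↥(Subgroup.center G),
      S ((x : G) * (y : G)) = ((θ y : ℂˣ) : ℂ) ^ 2 := fun x hx y =>
    br_pmt_sym_val h x hx y
  -- all inner products with the `ξ_k` agree
  have hall : ∀ (F : G → ℂ), IsClassFunction G F →
      (∀ x : ↥(P : Subgroup G), x ≠ 1 → ∀ y : ↥(Subgroup.center G),
        F ((x : G) * (y : G)) = ((θ y : ℂˣ) : ℂ) ^ 2) →
      ∀ k m : ℕ, ¬ p ∣ k → ¬ p ∣ m →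
        classInner F (br_pmt_xi ζ Jf k) = classInner F (br_pmt_xi ζ Jf m) := by
    intro F hF hFv k m hk hm
    have h1 := br_pmt_inner_diff h hodd D F hF hFv k m hk hm
    rw [classInner_sub_left, sub_eq_zero] at h1
    rw [classInner_conj_symm (br_pmt_xi ζ Jf k) F, classInner_conj_symm (br_pmt_xi ζ Jf m) F, h1]
  -- `Ψ = ∑ ξ_k`
  have hΨne : ∀ i, classInner Ψ (Ξ i) ≠ 0 := by
    intro i
    have h1 := hall Ψ (IsCharacter.isClassFunction hΨc) hΨv (i.1 + 1) 2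
      (hnd _ (by omega) (by have := i.2; omega)) h2nd
    show classInner Ψ (br_pmt_xi ζ Jf (i.1 + 1)) ≠ 0
    rw [h1, hΨ, classInner_add_left, classInner_irr_self hξ2]
    obtain ⟨n, hn⟩ := classInner_char_char_nat hAc (IsIrrCharacter.isCharacter hξ2)
    rw [hn]
    exact Nat.cast_add_one_ne_zero n
  have hΨdeg : Ψ 1 = ∑ i, Ξ i 1 := by
    rw [Finset.sum_congr rfl (fun i _ => hΞone i), Finset.sum_const, Finset.card_univ,
      Fintype.card_fin, nsmul_eq_mul]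
    show (2 : ℂ)⁻¹ * (ζ 1 ^ 2 - ζ (1 * 1)) + ζ (1 ^ Jf 2) = _
    rw [one_pow, one_mul, h.deg, hpC]
    ring
  have hΨsum : Ψ = ∑ i, Ξ i := br_pmt_char_eq_sum hΨc Ξ hΞirr hΞinj hΨne hΨdeg
  -- `S` contains no `ξ_k`
  have hSzero : ∀ k : ℕ, ¬ p ∣ k → classInner S (br_pmt_xi ζ Jf k) = 0 := by
    intro k hk
    rw [hall S (IsCharacter.isClassFunction hSc) hSv k 1 hk h1nd]
    by_contra hne
    have hSne : ∀ i, classInner S (Ξ i) ≠ 0 := by
      intro i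
      show classInner S (br_pmt_xi ζ Jf (i.1 + 1)) ≠ 0
      rw [hall S (IsCharacter.isClassFunction hSc) hSv (i.1 + 1) 1
        (hnd _ (by omega) (by have := i.2; omega)) h1nd]
      exact hne
    have hSdeg : S 1 = ∑ i, Ξ i 1 := by
      rw [Finset.sum_congr rfl (fun i _ => hΞone i), Finset.sum_const, Finset.card_univ,
        Fintype.card_fin, nsmul_eq_mul]
      show (2 : ℂ)⁻¹ * (ζ 1 ^ 2 + ζ (1 * 1)) = _
      rw [one_mul, h.deg, hpC]
      ring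
    have hSsum : S = ∑ i, Ξ i := br_pmt_char_eq_sum hSc Ξ hΞirr hΞinj hSne hSdeg
    apply br_pmt_no_sq h
    intro g hg
    have h1 : S g = Ψ g := by rw [hSsum, hΨsum]
    have h2 : ζ (g * g) = br_pmt_xi ζ Jf 2 g := by
      have h3 : (2 : ℂ)⁻¹ * (ζ g ^ 2 + ζ (g * g)) =
          (2 : ℂ)⁻¹ * (ζ g ^ 2 - ζ (g * g)) + br_pmt_xi ζ Jf 2 g := h1
      linear_combination h3
    rw [h2]
    show ζ (g ^ Jf 2) = ζ g
    rw [D.pow_two_elt h.p_ne_two 2 g hg]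
  refine ⟨Jf 1, D.coprime 1 h1nd, fun g hg1 hg2 => D.pow_odd 1 g hg1 hg2,
    fun g hg => D.pow_two_elt h.p_ne_two 1 g hg, ?_, ?_⟩
  · intro g hg
    have h1 := congrFun hΨsum g
    rw [Finset.sum_apply] at h1
    have h2 : ∀ i : Fin t, Ξ i g = ζ (g ^ Jf 1) := fun i => br_pmt_xi_reg D _ 1 g hg
    rw [Finset.sum_congr rfl (fun i _ => h2 i), Finset.sum_const, Finset.card_univ,
      Fintype.card_fin, nsmul_eq_mul] at h1
    have h3 : (2 : ℂ)⁻¹ * (ζ g ^ 2 - ζ (g * g)) + ζ (g ^ Jf 1) = (t : ℂ) * ζ (g ^ Jf 1) := by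
      rw [← h1]
      show _ = A g + br_pmt_xi ζ Jf 2 g
      rw [br_pmt_xi_reg D 2 1 g hg]
      rfl
    rw [hpC]
    linear_combination 2 * h3
  · have hAeq : A = ∑ i, Ξ i - br_pmt_xi ζ Jf 2 := by
      rw [← hΨsum, hΨ, add_sub_cancel_right]
    show classInner S A = 0
    rw [hAeq, classInner_sub_right, classInner_sum_right, hSzero 2 h2nd, sub_zero]
    apply Finset.sum_eq_zero
    intro i _
    exact hSzero _ (hnd _ (by omega) (by have := i.2; omega))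

end main

end Cfsg.Agent.BR
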