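/-
Brauer–Reynolds track (helper7): the arithmetic of THEOREM B (pure `ℕ`).
-/
import Mathlib

set_option autoImplicit false

namespace Cfsg.Agent.BR

/-- a `δ = +` degree `u p + 1` dividing `f (1 + n p) < p²` is `1 + n p` -/
theorem br_reda_plus (p u n f : ℕ) (hp : p.Prime) (hu : 1 ≤ u) (hf1 : 1 ≤ f) (hfp : f < p)
    (hdvd : u * p + 1 ∣ f * (1 + n * p)) (hlt : f * (1 + n * p) < p * p) : u = n := by
  have hp2 : 2 ≤ p := hp.two_le
  obtain ⟨k, hk⟩ := hdvd
  have hkp : k < p := by
    by_contra hcon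
    push Not at hcon
    have h1 : (p + 1) * p ≤ (u * p + 1) * k := by
      apply Nat.mul_le_mul _ hcon
      nlinarith
    nlinarith
  have hmod : f % p = k % p := by
    have h1 : f + p * (f * n) = k + p * (u * k) := by nlinarith
    have h2 := congrArg (· % p) h1
    simp only [Nat.add_mul_mod_self_left] at h2
    exact h2
  rw [Nat.mod_eq_of_lt hfp, Nat.mod_eq_of_lt hkp] at hmod
  subst hmod
  have h1 : 1 + n * p = u * p + 1 := by
    have : f * (1 + n * p) = f * (u * p + 1) := by rw [hk]; ring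
    exact Nat.eq_of_mul_eq_mul_left hf1 this
  have h2 : n * p = u * p := by omega
  exact (Nat.eq_of_mul_eq_mul_right (by omega) h2).symm

/-- a `δ = -` degree `u p - 1` dividing `f (1 + n p) < p²`, with `2 ≤ f ≤ (p - 1) / 2` and
`f n < p`, is `p - 1`, and `f (n + 1) = p - 1` -/
theorem br_reda_minus (p u n f d : ℕ) (hp : p.Prime) (hd : d + 1 = u * p)
    (hf2 : 2 ≤ f) (hff : 2 * f + 1 ≤ p) (hdvd : d ∣ f * (1 + n * p))
    (hlt : f * (1 + n * p) < p * p) (hfn : f * n < p) : u = 1 ∧ f * (n + 1) + 1 = p := by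
  have hp2 : 5 ≤ p := by omega
  obtain ⟨k, hk⟩ := hdvd
  have hu : 1 ≤ u := by
    rcases Nat.eq_zero_or_pos u with h | h
    · rw [h, zero_mul] at hd; omega
    · exact h
  have hdp : p ≤ d + 1 := by rw [hd]; nlinarith
  have hk1 : 1 ≤ k := by
    rcases Nat.eq_zero_or_pos k with h | h
    · rw [h, mul_zero] at hk
      have : 0 < f * (1 + n * p) := by positivity
      omega
    · exact h
  have hkle : k ≤ p + 1 := by
    by_contra hcon
    push Not at hcon
    have h1 : (p - 1) * (p + 2) ≤ d * k := Nat.mul_le_mul (by omega) hcon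
    have h2 : (p - 1) * (p + 2) + 2 = p * p + p := by
      obtain ⟨q, rfl⟩ : ∃ q, p = q + 1 := ⟨p - 1, by omega⟩
      simp only [Nat.add_sub_cancel]
      ring
    nlinarith
  -- `f + k = p (u k - f n)`
  have hsum : f + k + p * (f * n) = p * (u * k) := by
    have : (d + 1) * k = d * k + k := by ring
    rw [hd] at this
    nlinarith
  have hdvd2 : p ∣ f + k := by
    have h1 : p ∣ f + k + p * (f * n) := by rw [hsum]; exact dvd_mul_right _ _
    exact (Nat.dvd_add_left (dvd_mul_right p (f * n))).mp h1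
  obtain ⟨c, hc⟩ := hdvd2
  have hc1 : c = 1 := by
    have h1 : 0 < f + k := by omega
    have h2 : f + k < 2 * p := by omega
    rcases Nat.lt_or_ge c 1 with h | h
    · have : c = 0 := by omega
      rw [this, mul_zero] at hc; omega
    · rcases Nat.lt_or_ge c 2 with h' | h'
      · omega
      · have : p * 2 ≤ p * c := Nat.mul_le_mul_left _ h'
        omega
  rw [hc1, mul_one] at hc
  -- `u k = f n + 1`
  have huk : u * k = f * n + 1 := by
    have h1 : p * (u * k) = p * (f * n + 1) := by rw [← hsum, hc]; ring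
    exact Nat.eq_of_mul_eq_mul_left (by omega) h1
  have hkpf : k = p - f := by omega
  have hu1 : u = 1 := by
    rcases Nat.lt_or_ge u 2 with h | h
    · omega
    · exfalso
      have h1 : 2 * k ≤ u * k := Nat.mul_le_mul_right _ h
      omega
  refine ⟨hu1, ?_⟩
  rw [hu1, one_mul] at huk
  have : f * (n + 1) = f * n + f := by ring
  omega

/-- the degree `f + (f - 1) n p` cannot divide `f v (1 + n p)` when `f v n < p` -/
theorem br_reda_none (p n f v y : ℕ) (hp : p.Prime) (hf2 : 2 ≤ f) (hn : 1 ≤ n) (hv : 1 ≤ v)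
    (hfvn : f * v * n < p) (hy : y = f + (f - 1) * n * p) (hdvd : y ∣ f * v * (1 + n * p)) :
    False := by
  have hp2 : 2 ≤ p := hp.two_le
  obtain ⟨k, hk⟩ := hdvd
  obtain ⟨g, rfl⟩ : ∃ g, f = g + 2 := ⟨f - 2, by omega⟩
  have hy' : y = (g + 2) + (g + 1) * n * p := by rw [hy]; rfl
  have hfv : (g + 2) * v ≤ (g + 2) * v * n := Nat.le_mul_of_pos_right _ hn
  have hvp : v < p := by nlinarith
  have hfp : g + 2 < p := by nlinarith
  -- `y < f (1 + n p)`
  have hylt : y < (g + 2) * (1 + n * p) := by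
    rw [hy']
    have : 0 < n * p := by positivity
    nlinarith
  -- `k > v`
  have hkv : v < k := by
    by_contra hcon
    push Not at hcon
    have h1 : y * k ≤ y * v := Nat.mul_le_mul_left _ hcon
    have h2 : y * v < (g + 2) * (1 + n * p) * v := Nat.mul_lt_mul_of_pos_right hylt hv
    have h3 : (g + 2) * v * (1 + n * p) = (g + 2) * (1 + n * p) * v := by ring
    omega
  -- `p ∣ (g+2) (k - v)`
  have hcong : p ∣ (g + 2) * (k - v) := by
    have h1 : (g + 2) * v + p * ((g + 2) * v * n) = (g + 2) * k + p * ((g + 1) * n * k) := by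
      rw [hy'] at hk
      nlinarith
    have h2 : (g + 2) * (k - v) + p * ((g + 1) * n * k) = p * ((g + 2) * v * n) := by
      have : (g + 2) * (k - v) = (g + 2) * k - (g + 2) * v := Nat.mul_sub _ _ _
      have h3 : (g + 2) * v ≤ (g + 2) * k := Nat.mul_le_mul_left _ hkv.le
      omega
    have h3 : p ∣ (g + 2) * (k - v) + p * ((g + 1) * n * k) := by
      rw [h2]; exact dvd_mul_right _ _
    exact (Nat.dvd_add_left (dvd_mul_right p _)).mp h3
  have hpk : p ∣ k - v := by
    rcases (Nat.Prime.dvd_mul hp).mp hcong with h | h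
    · exact absurd (Nat.le_of_dvd (by omega) h) (by omega)
    · exact h
  have hkge : p + 1 ≤ k := by
    have := Nat.le_of_dvd (by omega) hpk
    omega
  have hyge : p + 2 ≤ y := by
    rw [hy']
    have : p ≤ (g + 1) * n * p := by
      have : 1 ≤ (g + 1) * n := by nlinarith
      nlinarith
    omega
  have h1 : (p + 2) * (p + 1) ≤ y * k := Nat.mul_le_mul hyge hkge
  have h2 : (g + 2) * v * (1 + n * p) < p * p := by
    have : (g + 2) * v * (1 + n * p) = (g + 2) * v + (g + 2) * v * n * p := by ring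
    rw [this]
    have h3 : (g + 2) * v * n * p ≤ (p - 1) * p := Nat.mul_le_mul_right _ (by omega)
    have h4 : (p - 1) * p + p = p * p := by
      obtain ⟨q, rfl⟩ : ∃ q, p = q + 1 := ⟨p - 1, by omega⟩
      simp only [Nat.add_sub_cancel]
      ring
    omega
  nlinarith

end Cfsg.Agent.BR
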