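/-
Brauer–Reynolds track (helper7): THEOREM B, general lemmas.

* `br_redb_sum_translate` : if `∑_{x ∈ P} χ(x) = 0` for a character `χ` and a subgroup `P`, then
  `∑_{x ∈ P} χ(x y) = 0` for every `y` (the averaging idempotent of `P` has trace zero, so it is
  zero).
* `br_redb_eq_triv` : a perfect group has only one linear character.
* `br_redb_degree_dvd_class` : if `χ(x) = ±1` then `χ(1)` divides the class size of `x`.
-/
import Mathlib
import Cfsg.Prelude.Def_Characters
import Cfsg.Prelude.Def_Blocks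
import Cfsg.Agent.Helper6.Osima3
import Cfsg.Agent.Helper6.SmallDegree
import Cfsg.Agent.Helper6.Linear
import Cfsg.Agent.Helper6.SchurB
import Cfsg.Agent.Helper6.PrincipalDefect
import Cfsg.Agent.Helper6.BlockPart

set_option autoImplicit false
set_option linter.style.haveILetI false

namespace Cfsg.Agent.BR

open Cfsg Cfsg.Agent.Helper6

universe u

variable {G : Type u} [Group G]

/-- **translation lemma**: a character whose sum over a subgroup `P` vanishes has vanishing sums
over all cosets `P y` -/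
theorem br_redb_sum_translate (P : Subgroup G) [Fintype P] {χ : G → ℂ}
    (hχ : Cfsg.IsCharacter G χ) (h0 : ∑ x : P, χ (x : G) = 0) (y : G) :
    ∑ x : P, χ ((x : G) * y) = 0 := by
  obtain ⟨n, ρ, rfl⟩ := hχ
  obtain ⟨E, hE⟩ : ∃ E : Module.End ℂ (Fin n → ℂ), E = ∑ x : P, ρ (x : G) := ⟨_, rfl⟩
  have hcard : (Fintype.card P : ℂ) ≠ 0 := by
    have : 0 < Fintype.card P := Fintype.card_pos
    exact_mod_cast this.ne'
  -- `ρ(a) E = E`
  have hmul : ∀ a : P, ρ (a : G) * E = E := by
    intro a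
    rw [hE, Finset.mul_sum]
    rw [← Equiv.sum_comp (Equiv.mulLeft a) (fun x : P => ρ (x : G))]
    apply Finset.sum_congr rfl
    intro x _
    rw [← map_mul]
    rfl
  have hEE : E * E = (Fintype.card P : ℂ) • E := by
    have h1 : (∑ a : P, ρ (a : G)) * E = (Fintype.card P : ℂ) • E := by
      rw [Finset.sum_mul, Finset.sum_congr rfl (fun a _ => hmul a), Finset.sum_const,
        Finset.card_univ, ← Nat.cast_smul_eq_nsmul ℂ]
    rwa [← hE] at h1
  have htr : LinearMap.trace ℂ (Fin n → ℂ) E = 0 := by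
    rw [hE, map_sum]
    exact h0
  obtain ⟨e, he⟩ : ∃ e : Module.End ℂ (Fin n → ℂ), e = (Fintype.card P : ℂ)⁻¹ • E := ⟨_, rfl⟩
  have hidem : IsIdempotentElem e := by
    show e * e = e
    rw [he, smul_mul_smul_comm, hEE, smul_smul, mul_assoc, inv_mul_cancel₀ hcard, mul_one]
  have he0 : e = 0 := by
    apply LinearMap.IsIdempotentElem.eq_zero_of_trace_eq_zero hidem
    rw [he, map_smul, htr, smul_zero]
  have hE0 : E = 0 := by
    have : E = (Fintype.card P : ℂ) • e := by
      rw [he, smul_smul, mul_inv_cancel₀ hcard, one_smul]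
    rw [this, he0, smul_zero]
  have h1 : ∑ x : P, ρ.character ((x : G) * y) = LinearMap.trace ℂ (Fin n → ℂ) (E * ρ y) := by
    rw [hE, Finset.sum_mul, map_sum]
    apply Finset.sum_congr rfl
    intro x _
    unfold Representation.character
    rw [map_mul]
  rw [h1, hE0, zero_mul, map_zero]

/-- in a perfect group the trivial character is the only irreducible character of degree one -/
theorem br_redb_eq_triv [Finite G] (hperf : commutator G = ⊤) (χ : Cfsg.IrrCharacter G)
    (h1 : (χ : G → ℂ) 1 = 1) : χ = trivIrr G := by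
  have hcard := card_linear_irr (G := G)
  rw [hperf, Subgroup.index_top] at hcard
  have hsub : Subsingleton {χ : Cfsg.IrrCharacter G // (χ : G → ℂ) 1 = 1} :=
    (Nat.card_eq_one_iff_unique.mp hcard).1
  have := Subsingleton.elim (⟨χ, h1⟩ :
    {χ : Cfsg.IrrCharacter G // (χ : G → ℂ) 1 = 1}) ⟨trivIrr G, rfl⟩
  exact congrArg Subtype.val this

/-- the degree as a positive natural number -/
theorem br_redb_degree (χ : Cfsg.IrrCharacter G) :
    0 < Cfsg.charDegree (χ : G → ℂ) ∧
      (χ : G → ℂ) 1 = (Cfsg.charDegree (χ : G → ℂ) : ℂ) := by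
  obtain ⟨n, hn, hn1⟩ := IsIrrCharacter.apply_one_pos χ.2
  have h := charDegree_cast_of_isCharacter (IsIrrCharacter.isCharacter χ.2)
  refine ⟨?_, h.symm⟩
  have : (Cfsg.charDegree (χ : G → ℂ) : ℂ) = (n : ℂ) := by rw [h, hn1]
  have h2 : Cfsg.charDegree (χ : G → ℂ) = n := by exact_mod_cast this
  omega

/-- if `χ(x) = ±1` then `χ(1)` divides the class size of `x` -/
theorem br_redb_degree_dvd_class [Finite G] (χ : Cfsg.IrrCharacter G) (x : G) (ε : ℤ)
    (hε : ε = 1 ∨ ε = -1) (hx : (χ : G → ℂ) x = (ε : ℂ)) :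
    Cfsg.charDegree (χ : G → ℂ) ∣ (Subgroup.centralizer ({x} : Set G)).index := by
  obtain ⟨hdpos, hd⟩ := br_redb_degree χ
  set d := Cfsg.charDegree (χ : G → ℂ) with hddef
  set m := (Subgroup.centralizer ({x} : Set G)).index with hm
  have hint := isIntegral_centralChar χ x
  unfold Cfsg.centralChar at hint
  rw [hx, hd, ← hm] at hint
  have hd0 : (d : ℂ) ≠ 0 := by exact_mod_cast hdpos.ne'
  have hq : (m : ℂ) * (ε : ℂ) / (d : ℂ) = (((m : ℚ) * (ε : ℚ) / (d : ℚ) : ℚ) : ℂ) := by
    push_cast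
    rfl
  obtain ⟨c, hc⟩ := exists_int_of_rat_isIntegral hint _ hq
  have h1 : (m : ℂ) * (ε : ℂ) = (c : ℂ) * (d : ℂ) := by
    rw [← hc]
    field_simp
  have h2 : (m : ℤ) * ε = c * (d : ℤ) := by exact_mod_cast h1
  have h3 : (d : ℤ) ∣ (m : ℤ) * ε := ⟨c, by rw [h2]; ring⟩
  have h4 : (d : ℤ) ∣ (m : ℤ) := by
    rcases hε with h | h
    · rw [h, mul_one] at h3; exact h3
    · rw [h, mul_neg, mul_one] at h3; exact (dvd_neg).mp h3
  exact_mod_cast h4

end Cfsg.Agent.BR
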