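/-
Brauer–Reynolds track (helper7): THEOREM B, group-theoretic bookkeeping.
-/
import Mathlib
import Cfsg.Prelude.Def_Solvable
import Cfsg.Agent.Helper5.PPrimeCore

set_option autoImplicit false
set_option linter.style.haveILetI false

namespace Cfsg.Agent.BR

universe u

variable {H : Type u} [Group H]

/-- a generator of a subgroup of prime order -/
theorem br_redb_generator [Finite H] (p : ℕ) [hp : Fact p.Prime] (Q : Subgroup H)
    (hQ : Nat.card Q = p) :
    ∃ x : H, x ∈ Q ∧ x ≠ 1 ∧ orderOf x = p ∧ (∀ q ∈ Q, ∃ k : ℤ, x ^ k = q) ∧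
      Subgroup.centralizer ({x} : Set H) = Subgroup.centralizer (Q : Set H) := by
  haveI : IsCyclic Q := isCyclic_of_prime_card hQ
  obtain ⟨g, hg⟩ := IsCyclic.exists_generator (α := Q)
  have hord : orderOf (g : H) = p := by
    rw [Subgroup.orderOf_coe, orderOf_eq_card_of_forall_mem_zpowers hg, hQ]
  have hpow : ∀ q ∈ Q, ∃ k : ℤ, (g : H) ^ k = q := by
    intro q hq
    obtain ⟨k, hk⟩ := Subgroup.mem_zpowers_iff.mp (hg ⟨q, hq⟩)
    refine ⟨k, ?_⟩
    have := congrArg (Subtype.val) hk
    simpa using this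
  refine ⟨(g : H), g.2, ?_, hord, hpow, ?_⟩
  · intro h1
    rw [h1, orderOf_one] at hord
    exact hp.out.one_lt.ne hord
  · ext y
    rw [Subgroup.mem_centralizer_iff, Subgroup.mem_centralizer_iff]
    constructor
    · intro h q hq
      obtain ⟨k, rfl⟩ := hpow q hq
      have hc : Commute (g : H) y := h (g : H) (Set.mem_singleton _)
      exact (hc.zpow_left k).eq
    · intro h q hq
      rw [Set.mem_singleton_iff] at hq
      rw [hq]
      exact h (g : H) g.2

/-- the order of `H` through the centralizer and the normalizer of a Sylow subgroup -/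
theorem br_redb_card [Finite H] (p : ℕ) [Fact p.Prime] (Q : Sylow p H) :
    Nat.card H = Nat.card (Subgroup.centralizer ((Q : Subgroup H) : Set H)) *
      ((Subgroup.centralizer ((Q : Subgroup H) : Set H)).relIndex
        (Subgroup.normalizer ((Q : Subgroup H) : Set H)) * Nat.card (Sylow p H)) := by
  have h1 : Nat.card (Sylow p H) = (Subgroup.normalizer ((Q : Subgroup H) : Set H)).index :=
    Sylow.card_eq_index_normalizer Q
  rw [h1, Subgroup.relIndex_mul_index (Subgroup.centralizer_le_normalizer _),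
    Subgroup.card_mul_index]

/-- if every `p`-regular element of `C_H(Q)` is trivial then `C_H(Q) = Q` -/
theorem br_redb_centralizer_eq [Finite H] (p : ℕ) [hp : Fact p.Prime] (Q : Sylow p H)
    (hQC : (Q : Subgroup H) ≤ Subgroup.centralizer ((Q : Subgroup H) : Set H))
    (h : ∀ y ∈ Subgroup.centralizer ((Q : Subgroup H) : Set H), ¬ p ∣ orderOf y → y = 1) :
    Subgroup.centralizer ((Q : Subgroup H) : Set H) = (Q : Subgroup H) := by
  have hpg : IsPGroup p (Subgroup.centralizer ((Q : Subgroup H) : Set H)) := by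
    intro g
    have hpos : orderOf (g : H) ≠ 0 := (orderOf_pos (g : H)).ne'
    obtain ⟨a, m, hm, hom⟩ := Nat.exists_eq_pow_mul_and_not_dvd hpos p hp.out.ne_one
    refine ⟨a, ?_⟩
    have h1 : orderOf ((g : H) ^ (p ^ a)) = m := by
      rw [orderOf_pow' _ (pow_ne_zero a hp.out.ne_zero), hom,
        Nat.gcd_eq_right (dvd_mul_right _ _), Nat.mul_div_cancel_left _ (pow_pos hp.out.pos a)]
    have h2 : (g : H) ^ (p ^ a) = 1 :=
      h _ (Subgroup.pow_mem _ g.2 _) (by rw [h1]; exact hm)
    apply Subtype.ext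
    simpa using h2
  exact Q.3 hpg hQC

/-- a normal subgroup meeting a Sylow `p`-subgroup trivially lies in `O_{p'}` -/
theorem br_redb_le_core [Finite H] (p : ℕ) [hp : Fact p.Prime] (Q : Sylow p H)
    (K : Subgroup H) [hK : K.Normal] (hKQ : ∀ x ∈ (Q : Subgroup H), x ∈ K → x = 1) :
    K ≤ Cfsg.pPrimeCore p H := by
  apply Cfsg.Agent.Helper5.le_pPrimeCore hK
  rw [Nat.coprime_comm, hp.out.coprime_iff_not_dvd]
  intro hdvd
  obtain ⟨k, hk⟩ := exists_prime_orderOf_dvd_card' p hdvd
  have hk' : orderOf (k : H) = p := by rw [Subgroup.orderOf_coe]; exact hk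
  have hZ : IsPGroup p (Subgroup.zpowers (k : H)) := by
    apply IsPGroup.of_card (n := 1)
    rw [Nat.card_zpowers, hk', pow_one]
  obtain ⟨Q', hQ'⟩ := hZ.exists_le_sylow
  obtain ⟨g, hg⟩ := MulAction.exists_smul_eq H Q Q'
  have hkQ' : (k : H) ∈ (Q' : Subgroup H) := hQ' (Subgroup.mem_zpowers _)
  rw [← hg, Sylow.coe_subgroup_smul, Subgroup.mem_smul_pointwise_iff_exists] at hkQ'
  obtain ⟨q, hq, hqk⟩ := hkQ'
  have hqk' : g * q * g⁻¹ = (k : H) := hqk
  have hqK : q ∈ K := by
    have h1 : q = g⁻¹ * (k : H) * g⁻¹⁻¹ := by rw [← hqk']; group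
    rw [h1]
    exact hK.conj_mem _ k.2 _
  have hq1 := hKQ q hq hqK
  rw [hq1, mul_one, mul_inv_cancel] at hqk'
  rw [← hqk', orderOf_one] at hk'
  exact hp.out.one_lt.ne hk'

end Cfsg.Agent.BR
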