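/-
Brauer–Reynolds track (helper7): THEOREM B, the character-theoretic core.

`H` perfect with a Sylow `p`-subgroup `Q` of order `p`, `f = |N_H(Q) : C_H(Q)|` with
`2 ≤ f ≤ (p - 1) / 2`, `1 + n p` Sylow subgroups, `|C_H(Q)| = p v`, `f v n < p`,
`f (1 + n p) < p²`.  Then `f (n + 1) = p - 1` and the principal block contains a character of
degree `p - 1` taking the value `-1` on `x y` (`1 ≠ x ∈ Q`, `y ∈ C_H(Q)` `p`-regular).
-/
import Mathlib
import Cfsg.Agent.S4441
import Cfsg.Agent.BR.RedA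
import Cfsg.Agent.BR.RedB
import Cfsg.Agent.BR.RedB2

set_option autoImplicit false
set_option linter.style.haveILetI false

namespace Cfsg.Agent.BR

open Cfsg Cfsg.Agent.Helper6

universe u

/-- a finite sum of a function taking one value at `a` and another one elsewhere -/
theorem br_redb_finsum_two {α : Type*} [Finite α] (X : Set α) (a : α) (ha : a ∈ X) (c d : ℂ)
    (g : α → ℂ) (hga : g a = c) (hg : ∀ b ∈ X, b ≠ a → g b = d) :
    ∑ᶠ b ∈ X, g b = c + ((Nat.card X : ℂ) - 1) * d := by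
  classical
  have hX : X.Finite := Set.toFinite X
  rw [finsum_mem_eq_finite_toFinset_sum g hX]
  have haT : a ∈ hX.toFinset := hX.mem_toFinset.mpr ha
  rw [← Finset.add_sum_erase _ g haT, hga]
  congr 1
  have h1 : ∀ b ∈ hX.toFinset.erase a, g b = d := by
    intro b hb
    rw [Finset.mem_erase] at hb
    exact hg b (hX.mem_toFinset.mp hb.2) hb.1
  rw [Finset.sum_congr rfl h1, Finset.sum_const, Finset.card_erase_of_mem haT,
    ← Set.ncard_eq_toFinset_card X hX, Nat.card_coe_set_eq, nsmul_eq_mul]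
  have hpos : 1 ≤ X.ncard := by
    rw [Nat.succ_le_iff, Set.ncard_pos hX]
    exact ⟨a, ha⟩
  rw [Nat.cast_sub hpos, Nat.cast_one]

variable {H : Type u} [Group H]

/-- the degree of the trivial character -/
theorem br_redb_charDegree_triv : Cfsg.charDegree ((trivIrr H : Cfsg.IrrCharacter H) : H → ℂ) = 1 := by
  have h := (br_redb_degree (trivIrr H)).2
  have h1 : ((trivIrr H : Cfsg.IrrCharacter H) : H → ℂ) 1 = 1 := rfl
  rw [h1] at h
  exact_mod_cast h.symm

set_option maxHeartbeats 1600000 in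
/-- **THEOREM B, core** -/
theorem br_redb_core [Fintype H] (hperf : commutator H = ⊤) (p : ℕ) [hp : Fact p.Prime]
    (M : Ideal Cfsg.AlgInt) (hM : Cfsg.IsPModular p M) (Q : Sylow p H)
    (hQ : Nat.card (Q : Subgroup H) = p) (f : ℕ)
    (hf : (Subgroup.centralizer ((Q : Subgroup H) : Set H)).relIndex
      (Subgroup.normalizer ((Q : Subgroup H) : Set H)) = f)
    (hf2 : 2 ≤ f) (hff : 2 * f + 1 ≤ p) (n v : ℕ)
    (hS : Nat.card (Sylow p H) = 1 + n * p) (hn : 1 ≤ n)
    (hv : Nat.card (Subgroup.centralizer ((Q : Subgroup H) : Set H)) = p * v) (hv1 : 1 ≤ v)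
    (hfvn : f * v * n < p) (hlt : f * (1 + n * p) < p * p) :
    f * (n + 1) + 1 = p ∧ ∃ χ : Cfsg.IrrCharacter H,
      Cfsg.charDegree (χ : H → ℂ) + 1 = p ∧
      ∀ x : H, x ∈ (Q : Subgroup H) → x ≠ 1 → ∀ y : H,
        y ∈ Subgroup.centralizer ((Q : Subgroup H) : Set H) → ¬ p ∣ orderOf y →
        (χ : H → ℂ) (x * y) = -1 := by
  classical
  haveI : Finite (Cfsg.IrrCharacter H) := irr_finite
  have hp5 : 5 ≤ p := by omega
  have hodd : p ≠ 2 := by omega
  have hfp : f < p := by omega
  have hfn : f * n < p := by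
    have : f * n ≤ f * v * n := by
      have : f * n * 1 ≤ f * n * v := Nat.mul_le_mul_left _ hv1
      calc f * n = f * n * 1 := (mul_one _).symm
        _ ≤ f * n * v := this
        _ = f * v * n := by ring
    omega
  obtain ⟨X, Y, hB, -, hcX, hcY, εX, ε, hX, hε, hYdeg, -, hrel⟩ :=
    Cfsg.Agent.S4441.result p M hM hodd Q hQ f hf
  obtain ⟨x, hxQ, hx1, -, -, hcent⟩ := br_redb_generator p (Q : Subgroup H) hQ
  have hp1 : ¬ p ∣ orderOf (1 : H) := by
    rw [orderOf_one]
    exact hp.out.one_lt.ne' ∘ Nat.dvd_one.mp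
  -- the class size of `x`
  have hidx : (Subgroup.centralizer ({x} : Set H)).index = f * (1 + n * p) := by
    have h1 : Nat.card (Sylow p H) = (Subgroup.normalizer ((Q : Subgroup H) : Set H)).index :=
      Sylow.card_eq_index_normalizer Q
    rw [hcent, ← Subgroup.relIndex_mul_index (Subgroup.centralizer_le_normalizer _), hf, ← h1, hS]
  have hvalx : ∀ χ ∈ X, (χ : H → ℂ) x = (εX χ : ℂ) := by
    intro χ hχ
    have := (hX χ hχ).2.2 x hxQ hx1 1 (one_mem _) hp1
    rwa [mul_one] at this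
  have hdvdX : ∀ χ ∈ X, Cfsg.charDegree (χ : H → ℂ) ∣ f * (1 + n * p) := by
    intro χ hχ
    rw [← hidx]
    exact br_redb_degree_dvd_class χ x (εX χ) (hX χ hχ).1 (hvalx χ hχ)
  -- Claim A
  have hA : ∀ χ ∈ X, εX χ = 1 → χ ≠ trivIrr H → Cfsg.charDegree (χ : H → ℂ) = 1 + n * p := by
    intro χ hχ hε1 hne
    obtain ⟨hdpos, hd⟩ := br_redb_degree χ
    set d := Cfsg.charDegree (χ : H → ℂ) with hddef
    have hd1 : d ≠ 1 := by
      intro h1
      apply hne
      apply br_redb_eq_triv hperf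
      rw [hd, h1, Nat.cast_one]
    have hmod := (hX χ hχ).2.1
    rw [hε1] at hmod
    have hdv : (p : ℤ) ∣ (d : ℤ) - 1 := (Int.modEq_iff_dvd.mp hmod.symm)
    have hdv' : p ∣ d - 1 := by
      have : ((d - 1 : ℕ) : ℤ) = (d : ℤ) - 1 := by
        rw [Nat.cast_sub hdpos, Nat.cast_one]
      rw [← this] at hdv
      exact_mod_cast hdv
    obtain ⟨u, hu⟩ := hdv'
    have hu1 : 1 ≤ u := by
      rcases Nat.eq_zero_or_pos u with h | h
      · rw [h, mul_zero] at hu; omega
      · exact h
    have hdu : d = u * p + 1 := by rw [mul_comm]; omega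
    have := br_reda_plus p u n f hp.out hu1 (by omega) hfp (by rw [← hdu]; exact hdvdX χ hχ) hlt
    rw [hdu, this]; ring
  -- Claim B
  have hBm : ∀ χ ∈ X, εX χ = -1 →
      Cfsg.charDegree (χ : H → ℂ) + 1 = p ∧ f * (n + 1) + 1 = p := by
    intro χ hχ hε1
    set d := Cfsg.charDegree (χ : H → ℂ) with hddef
    have hmod := (hX χ hχ).2.1
    rw [hε1] at hmod
    have hdv : (p : ℤ) ∣ (d : ℤ) + 1 := by
      have := Int.modEq_iff_dvd.mp hmod.symm
      rwa [sub_neg_eq_add] at this
    have hdv' : p ∣ d + 1 := by exact_mod_cast hdv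
    obtain ⟨u, hu⟩ := hdv'
    have hdu : d + 1 = u * p := by rw [hu, mul_comm]
    obtain ⟨hu1, hfin⟩ := br_reda_minus p u n f d hp.out hdu hf2 hff (hdvdX χ hχ) hlt hfn
    refine ⟨?_, hfin⟩
    rw [hdu, hu1, one_mul]
  -- Claim C
  have hC : ∃ χ ∈ X, εX χ = -1 := by
    by_contra hcon
    push Not at hcon
    have hall : ∀ χ ∈ X, εX χ = 1 := fun χ hχ => (hX χ hχ).1.resolve_right (hcon χ hχ)
    -- the trivial character lies in `X`
    have htrivB : trivIrr H ∈ X ∪ Y := by
      rw [← hB]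
      exact trivIrr_mem_principalBlock hM.2.1
    have htrivX : trivIrr H ∈ X := by
      rcases htrivB with h | h
      · exact h
      · exfalso
        have h1 := hYdeg _ h
        rw [br_redb_charDegree_triv] at h1
        have h2 := Int.modEq_iff_dvd.mp h1
        rcases hε with he | he
        · rw [he, one_mul] at h2
          have h3 : (p : ℤ) ∣ ((f - 1 : ℕ) : ℤ) := by
            rw [Nat.cast_sub (by omega : 1 ≤ f)]
            simpa using h2
          have h4 : p ∣ f - 1 := by exact_mod_cast h3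
          have := Nat.le_of_dvd (by omega) h4
          omega
        · rw [he] at h2
          have h3 : (p : ℤ) ∣ ((f + 1 : ℕ) : ℤ) := by
            have : ((f + 1 : ℕ) : ℤ) = -(-1 * (f : ℤ) - ((1 : ℕ) : ℤ)) := by push_cast; ring
            rw [this]
            exact (dvd_neg).mpr h2
          have h4 : p ∣ f + 1 := by exact_mod_cast h3
          have := Nat.le_of_dvd (by omega) h4
          omega
    -- a member of `Y`
    have hYne : Y.Nonempty := by
      have h1 : 0 < Nat.card Y := by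
        rw [hcY]
        apply Nat.div_pos _ (by omega)
        omega
      rw [Nat.card_pos_iff] at h1
      obtain ⟨⟨θ, hθ⟩⟩ := h1.1
      exact ⟨θ, hθ⟩
    obtain ⟨θ, hθ⟩ := hYne
    have hsum := hrel θ hθ 1 hp1
    have hg : ∑ᶠ χ ∈ X, (εX χ : ℂ) * (χ : H → ℂ) 1 =
        1 + ((Nat.card X : ℂ) - 1) * ((1 + n * p : ℕ) : ℂ) := by
      apply br_redb_finsum_two X (trivIrr H) htrivX
      · rw [hall _ htrivX]
        show ((1 : ℤ) : ℂ) * 1 = 1
        simp
      · intro χ hχ hne
        rw [hall χ hχ, (br_redb_degree χ).2, hA χ hχ (hall χ hχ) hne]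
        simp
    rw [hg, hcX] at hsum
    obtain ⟨hypos, hy⟩ := br_redb_degree θ
    set y := Cfsg.charDegree (θ : H → ℂ) with hydef
    rw [hy] at hsum
    have hcast : (1 : ℂ) + ((f : ℂ) - 1) * ((1 + n * p : ℕ) : ℂ) =
        ((f + (f - 1) * n * p : ℕ) : ℂ) := by
      have h1 : ((f - 1 : ℕ) : ℂ) = (f : ℂ) - 1 := by
        rw [Nat.cast_sub (by omega : 1 ≤ f), Nat.cast_one]
      push_cast
      rw [h1]
      ring
    rw [hcast] at hsum
    have hy2 : y = f + (f - 1) * n * p := by
      rcases hε with he | he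
      · rw [he] at hsum
        have : (y : ℂ) = ((f + (f - 1) * n * p : ℕ) : ℂ) := by
          rw [← hsum]; simp
        exact_mod_cast this
      · exfalso
        rw [he] at hsum
        have h1 : ((y + (f + (f - 1) * n * p) : ℕ) : ℂ) = 0 := by
          push_cast
          have h2 : ((-1 : ℤ) : ℂ) * (y : ℂ) = -(y : ℂ) := by simp
          rw [h2] at hsum
          push_cast at hsum
          linear_combination -hsum
        have h3 : y + (f + (f - 1) * n * p) = 0 := by exact_mod_cast h1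
        omega
    -- `y ∣ |H|`
    obtain ⟨m, hm1, hm2, -⟩ := IsIrrCharacter.degree_dvd_card θ.2
    have hym : m = y := by
      have : (m : ℂ) = (y : ℂ) := by rw [← hm1, hy]
      exact_mod_cast this
    rw [hym] at hm2
    have hcardH := br_redb_card p Q
    rw [hf, hS, hv] at hcardH
    rw [hcardH] at hm2
    have hcop : Nat.Coprime y p := by
      rw [Nat.coprime_comm, hp.out.coprime_iff_not_dvd]
      intro hdv
      rw [hy2] at hdv
      have h1 : p ∣ f := (Nat.dvd_add_left (Dvd.intro_left _ rfl)).mp hdv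
      have := Nat.le_of_dvd (by omega) h1
      omega
    have hdv2 : y ∣ f * v * (1 + n * p) := by
      have h1 : p * v * (f * (1 + n * p)) = p * (f * v * (1 + n * p)) := by ring
      rw [h1] at hm2
      exact hcop.dvd_of_dvd_mul_left hm2
    exact br_reda_none p n f v y hp.out hf2 hn hv1 hfvn hy2 hdv2
  obtain ⟨χ, hχ, hχε⟩ := hC
  obtain ⟨hdeg, hfin⟩ := hBm χ hχ hχε
  refine ⟨hfin, χ, hdeg, ?_⟩
  intro x' hx' hx'1 y hy hyreg
  rw [(hX χ hχ).2.2 x' hx' hx'1 y hy hyreg, hχε]
  simp

end Cfsg.Agent.BR
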