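/-
Brauer–Reynolds track (helper7): THEOREM B.

`H` perfect, `|H| < p ^ 3`, a Sylow `p`-subgroup `Q` of order `p`, `O_{p'}(H) = 1`.  Then
`C_H(Q) = Q` and the number `1 + n p` of Sylow `p`-subgroups satisfies `2 (1 + n p) < (p+1)(p+2)`.
-/
import Mathlib
import Cfsg.Agent.BR.RedB3
import Cfsg.Agent.BR.RedK
import Cfsg.Agent.Helper6.BlockKernel
import Cfsg.Agent.Helper6.PowCongr
import Cfsg.Agent.D1C.ValPMain

set_option autoImplicit false
set_option linter.style.haveILetI false

namespace Cfsg.Agent.BR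

open Cfsg Cfsg.Agent.Helper6

universe u

variable {H : Type u} [Group H]

/-- the sum over a finite group of a function constant off the identity -/
theorem br_redb_sum_const {Q : Type*} [Group Q] [Fintype Q] (F : Q → ℂ) (c : ℂ)
    (hF : ∀ x : Q, x ≠ 1 → F x = c) :
    ∑ x : Q, F x = F 1 + ((Fintype.card Q : ℂ) - 1) * c := by
  classical
  rw [← Finset.add_sum_erase Finset.univ F (Finset.mem_univ (1 : Q))]
  congr 1
  rw [Finset.sum_congr rfl (fun x hx => hF x (Finset.ne_of_mem_erase hx)), Finset.sum_const,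
    Finset.card_erase_of_mem (Finset.mem_univ _), Finset.card_univ, nsmul_eq_mul,
    Nat.cast_sub Fintype.card_pos, Nat.cast_one]

set_option maxHeartbeats 1600000 in
/-- **THEOREM B** -/
theorem br_redb_main [Finite H] (hperf : commutator H = ⊤) (p : ℕ) [hp : Fact p.Prime]
    (hbig : Nat.card H < p ^ 3) (Q : Sylow p H) (hQ : Nat.card (Q : Subgroup H) = p)
    (hcore : Cfsg.pPrimeCore p H = ⊥) :
    Subgroup.centralizer ((Q : Subgroup H) : Set H) = (Q : Subgroup H) ∧
      2 * Nat.card (Sylow p H) < (p + 1) * (p + 2) := by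
  classical
  haveI : Fintype H := Fintype.ofFinite H
  have hp2 : 2 ≤ p := hp.out.two_le
  have hQ1 : (Q : Subgroup H) ≠ ⊥ := by
    intro h
    rw [h, Subgroup.card_bot] at hQ
    omega
  obtain ⟨x₀, hx₀Q, hx₀1, -, hpow, -⟩ := br_redb_generator p (Q : Subgroup H) hQ
  have hQC : (Q : Subgroup H) ≤ Subgroup.centralizer ((Q : Subgroup H) : Set H) := by
    intro a ha
    rw [Subgroup.mem_centralizer_iff]
    intro b hb
    obtain ⟨k, rfl⟩ := hpow a ha
    obtain ⟨l, rfl⟩ := hpow b hb
    exact ((Commute.refl x₀).zpow_zpow l k).eq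
  obtain ⟨f, hf⟩ : ∃ f : ℕ, (Subgroup.centralizer ((Q : Subgroup H) : Set H)).relIndex
      (Subgroup.normalizer ((Q : Subgroup H) : Set H)) = f := ⟨_, rfl⟩
  have hf0 : f ≠ 0 := by
    rw [← hf]
    exact Subgroup.index_ne_zero_of_finite
  have hf1 : f ≠ 1 := by
    intro h1
    rw [h1, Subgroup.relIndex_eq_one] at hf
    exact hQ1 (br_redK_transfer hperf p Q hf)
  have hf2 : 2 ≤ f := by omega
  obtain ⟨M, hM⟩ := exists_isPModular p hp.out
  obtain ⟨J, iF, -, -, -, hJ, -⟩ := Cfsg.Agent.D1.d1_valp_main (M := M) p hM Q hQ f hf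
  have hp3 : 3 ≤ p := by
    rcases Nat.eq_zero_or_pos (Fintype.card J) with h | h
    · rw [h, zero_mul] at hJ; omega
    · have : f ≤ Fintype.card J * f := Nat.le_mul_of_pos_left _ h
      omega
  -- the number of Sylow subgroups
  have hmod := card_sylow_modEq_one p H
  obtain ⟨n, hS⟩ : ∃ n : ℕ, Nat.card (Sylow p H) = 1 + n * p := by
    refine ⟨Nat.card (Sylow p H) / p, ?_⟩
    have h1 : Nat.card (Sylow p H) % p = 1 := by
      have h2 : Nat.card (Sylow p H) % p = 1 % p := hmod
      rwa [Nat.mod_eq_of_lt (by omega : 1 < p)] at h2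
    have := Nat.div_add_mod (Nat.card (Sylow p H)) p
    rw [h1] at this
    rw [mul_comm]
    omega
  have hn : 1 ≤ n := by
    rcases Nat.eq_zero_or_pos n with h | h
    · exfalso
      rw [h, zero_mul, add_zero] at hS
      haveI : Subsingleton (Sylow p H) := (Nat.card_eq_one_iff_unique.mp hS).1
      exact br_redK_not_normal hperf p Q hQ (Sylow.normal_of_subsingleton Q)
    · exact h
  -- the order of the centralizer
  obtain ⟨v, hv⟩ : ∃ v : ℕ, Nat.card (Subgroup.centralizer ((Q : Subgroup H) : Set H)) = p * v := by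
    have := Subgroup.card_dvd_of_le hQC
    rw [hQ] at this
    exact this
  have hv1 : 1 ≤ v := by
    rcases Nat.eq_zero_or_pos v with h | h
    · rw [h, mul_zero] at hv
      have : 0 < Nat.card (Subgroup.centralizer ((Q : Subgroup H) : Set H)) := Nat.card_pos
      omega
    · exact h
  have hcard := br_redb_card p Q
  rw [hf, hS, hv] at hcard
  have hlt0 : v * (f * (1 + n * p)) < p * p := by
    have h1 : p * (v * (f * (1 + n * p))) < p * (p * p) := by
      calc p * (v * (f * (1 + n * p))) = Nat.card H := by rw [hcard]; ring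
        _ < p ^ 3 := hbig
        _ = p * (p * p) := by ring
    exact Nat.lt_of_mul_lt_mul_left h1
  have hlt : f * (1 + n * p) < p * p := by
    have : f * (1 + n * p) ≤ v * (f * (1 + n * p)) := Nat.le_mul_of_pos_left _ hv1
    omega
  have hfvn : f * v * n < p := by
    have h1 : f * v * n * p < p * p := by
      have : f * v * n * p ≤ v * (f * (1 + n * p)) := by nlinarith
      omega
    exact Nat.lt_of_mul_lt_mul_right h1
  rcases Nat.lt_or_ge p (2 * f + 1) with hcase | hcase
  · -- `f = p - 1`
    have hfp : f = p - 1 := by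
      rcases Nat.lt_or_ge (Fintype.card J) 2 with h | h
      · rcases Nat.eq_zero_or_pos (Fintype.card J) with h0 | h0
        · rw [h0, zero_mul] at hJ; omega
        · have : Fintype.card J = 1 := by omega
          rw [this, one_mul] at hJ
          exact hJ
      · have : 2 * f ≤ Fintype.card J * f := Nat.mul_le_mul_right _ h
        omega
    have hvn : v * n ≤ 1 := by
      by_contra hcon
      push Not at hcon
      have h1 : f * 2 ≤ f * (v * n) := Nat.mul_le_mul_left _ hcon
      have h2 : f * (v * n) = f * v * n := by ring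
      omega
    have hv' : v = 1 := by
      rcases Nat.lt_or_ge v 2 with h | h
      · omega
      · have : 2 * 1 ≤ v * n := Nat.mul_le_mul h hn
        omega
    have hn' : n = 1 := by
      rw [hv', one_mul] at hvn
      omega
    refine ⟨?_, ?_⟩
    · symm
      apply Subgroup.eq_of_le_of_card_ge hQC
      rw [hv, hv', mul_one, hQ]
    · rw [hS, hn']
      nlinarith
  · -- `2 f + 1 ≤ p`
    obtain ⟨hfin, χ, hdeg, hval⟩ :=
      br_redb_core hperf p M hM Q hQ f hf hf2 hcase n v hS hn hv hv1 hfvn hlt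
    haveI : Fintype (Q : Subgroup H) := Fintype.ofFinite _
    have hcardQ : (Fintype.card (Q : Subgroup H) : ℂ) = (p : ℂ) := by
      rw [← Nat.card_eq_fintype_card, hQ]
    obtain ⟨-, hd⟩ := br_redb_degree χ
    have hd' : (χ : H → ℂ) 1 = (p : ℂ) - 1 := by
      rw [hd]
      have : ((Cfsg.charDegree (χ : H → ℂ) + 1 : ℕ) : ℂ) = (p : ℂ) := by rw [hdeg]
      push_cast at this
      linear_combination this
    have hp1 : ¬ p ∣ orderOf (1 : H) := by
      rw [orderOf_one]
      exact hp.out.one_lt.ne' ∘ Nat.dvd_one.mp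
    have hvalQ : ∀ a : (Q : Subgroup H), a ≠ 1 → (χ : H → ℂ) (a : H) = -1 := by
      intro a ha
      have := hval (a : H) a.2 (fun h => ha (Subtype.ext h)) 1 (one_mem _) hp1
      rwa [mul_one] at this
    have hsum0 : ∑ a : (Q : Subgroup H), (χ : H → ℂ) (a : H) = 0 := by
      rw [br_redb_sum_const (fun a : (Q : Subgroup H) => (χ : H → ℂ) (a : H)) (-1) hvalQ, hcardQ]
      show (χ : H → ℂ) ((1 : (Q : Subgroup H)) : H) + _ = 0
      rw [OneMemClass.coe_one, hd']
      ring
    have hχc : Cfsg.IsCharacter H (χ : H → ℂ) := IsIrrCharacter.isCharacter χ.2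
    have hker : ∀ y ∈ Subgroup.centralizer ((Q : Subgroup H) : Set H), ¬ p ∣ orderOf y →
        (χ : H → ℂ) y = (χ : H → ℂ) 1 := by
      intro y hy hyreg
      have h1 := br_redb_sum_translate (Q : Subgroup H) hχc hsum0 y
      rw [br_redb_sum_const (fun a : (Q : Subgroup H) => (χ : H → ℂ) ((a : H) * y)) (-1)
        (fun a ha => hval (a : H) a.2 (fun h => ha (Subtype.ext h)) y hy hyreg), hcardQ] at h1
      have h2 : (χ : H → ℂ) (((1 : (Q : Subgroup H)) : H) * y) = (χ : H → ℂ) y := by
        rw [OneMemClass.coe_one, one_mul]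
      rw [h2] at h1
      rw [hd']
      linear_combination h1
    haveI : (kerSub χ).Normal := kerSub_normal χ
    have hKQ : ∀ a ∈ (Q : Subgroup H), a ∈ kerSub χ → a = 1 := by
      intro a ha haK
      by_contra hne
      rw [mem_kerSub] at haK
      have h1 := hvalQ ⟨a, ha⟩ (fun h => hne (congrArg Subtype.val h))
      rw [show ((⟨a, ha⟩ : (Q : Subgroup H)) : H) = a from rfl, haK, hd'] at h1
      have h2 : (p : ℂ) = 0 := by linear_combination h1
      exact hp.out.ne_zero (by exact_mod_cast h2)
    have hKle := br_redb_le_core p Q (kerSub χ) hKQ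
    rw [hcore, le_bot_iff] at hKle
    refine ⟨?_, ?_⟩
    · apply br_redb_centralizer_eq p Q hQC
      intro y hy hyreg
      have : y ∈ kerSub χ := (mem_kerSub χ y).mpr (hker y hy hyreg)
      rw [hKle, Subgroup.mem_bot] at this
      exact this
    · rw [hS]
      have h1 : 2 * (n + 1) ≤ f * (n + 1) := Nat.mul_le_mul_right _ hf2
      have h2 : 2 * n + 3 ≤ p := by omega
      nlinarith

end Cfsg.Agent.BR
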