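/-
Brauer–Reynolds track (helper7): the divisibility lemma of THEOREM B for a general centralizer
`C_G(P) = P × V` (no hypothesis on `|G|`).

If `χ` is irreducible and takes the value `ε = ±1` at a generator of the Sylow subgroup `P` of
order `p`, then `χ(1)` divides `|N_G(P) : C_G(P)| · |Syl_p(G)|` (the class size of the
generator): this is the integrality of the central character.
-/
import Mathlib
import Cfsg.Agent.BR.RedB
import Cfsg.Agent.BR.RedB2

set_option autoImplicit false
set_option linter.style.haveILetI false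

namespace Cfsg.Agent.BR

open Cfsg Cfsg.Agent.Helper6

universe u

variable {G : Type u} [Group G]

/-- the class size of a generator of a Sylow subgroup of prime order -/
theorem br_redx_index [Finite G] (p : ℕ) [Fact p.Prime] (P : Sylow p G) (x : G)
    (hcent : Subgroup.centralizer ({x} : Set G) =
      Subgroup.centralizer ((P : Subgroup G) : Set G)) :
    (Subgroup.centralizer ({x} : Set G)).index =
      (Subgroup.centralizer ((P : Subgroup G) : Set G)).relIndex
        (Subgroup.normalizer ((P : Subgroup G) : Set G)) * Nat.card (Sylow p G) := by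
  have h1 : Nat.card (Sylow p G) = (Subgroup.normalizer ((P : Subgroup G) : Set G)).index :=
    Sylow.card_eq_index_normalizer P
  rw [hcent, h1, Subgroup.relIndex_mul_index (Subgroup.centralizer_le_normalizer _)]

/-- **the divisibility lemma**: an irreducible character with a value `±1` at some non-identity
element of the Sylow subgroup `P` of order `p` has degree dividing
`|N_G(P) : C_G(P)| · |Syl_p(G)|` -/
theorem br_redx_degree_dvd [Finite G] (p : ℕ) [hp : Fact p.Prime] (P : Sylow p G)
    (hP : Nat.card (P : Subgroup G) = p) (χ : Cfsg.IrrCharacter G) (ε : ℤ)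
    (hε : ε = 1 ∨ ε = -1)
    (hval : ∀ x : G, x ∈ (P : Subgroup G) → x ≠ 1 → (χ : G → ℂ) x = (ε : ℂ)) :
    Cfsg.charDegree (χ : G → ℂ) ∣
      (Subgroup.centralizer ((P : Subgroup G) : Set G)).relIndex
        (Subgroup.normalizer ((P : Subgroup G) : Set G)) * Nat.card (Sylow p G) := by
  obtain ⟨x, hxP, hx1, -, -, hcent⟩ := br_redb_generator p (P : Subgroup G) hP
  rw [← br_redx_index p P x hcent]
  exact br_redb_degree_dvd_class χ x ε hε (hval x hxP hx1)

/-- the cofactor congruence: if `d * k = f * S` with `S ≡ 1` and `d ≡ ε (mod p)`, `ε = ±1`, then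
`k ≡ ε f (mod p)` -/
theorem br_redx_cofactor (p : ℕ) (d k f S : ℕ) (ε : ℤ) (hε : ε = 1 ∨ ε = -1)
    (hS : (S : ℤ) ≡ 1 [ZMOD p]) (hd : (d : ℤ) ≡ ε [ZMOD p]) (hk : d * k = f * S) :
    (k : ℤ) ≡ ε * (f : ℤ) [ZMOD p] := by
  have h1 : (d : ℤ) * (k : ℤ) = (f : ℤ) * (S : ℤ) := by exact_mod_cast hk
  have h2 : ε * (k : ℤ) ≡ (f : ℤ) [ZMOD p] := by
    calc ε * (k : ℤ) ≡ (d : ℤ) * (k : ℤ) [ZMOD p] := (hd.symm).mul_right _
      _ = (f : ℤ) * (S : ℤ) := h1
      _ ≡ (f : ℤ) * 1 [ZMOD p] := hS.mul_left _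
      _ = (f : ℤ) := mul_one _
  have h3 : ε * ε = 1 := by rcases hε with h | h <;> rw [h] <;> norm_num
  calc (k : ℤ) = ε * ε * (k : ℤ) := by rw [h3, one_mul]
    _ = ε * (ε * (k : ℤ)) := by ring
    _ ≡ ε * (f : ℤ) [ZMOD p] := h2.mul_left _

end Cfsg.Agent.BR
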