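/-
Brauer–Reynolds track (helper7): the last step of THEOREM B as a standalone lemma (no hypothesis on
`|H|`): a character of degree `p - 1` with value `-1` on `x y` (`1 ≠ x ∈ Q`, `y ∈ C_H(Q)`
`p`-regular) has every `p`-regular element of `C_H(Q)` in its kernel; with `O_{p'}(H) = 1` this
gives `C_H(Q) = Q`.
-/
import Mathlib
import Cfsg.Agent.BR.RedB4

set_option autoImplicit false
set_option linter.style.haveILetI false

namespace Cfsg.Agent.BR

open Cfsg Cfsg.Agent.Helper6

universe u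

variable {H : Type u} [Group H]

/-- a character of degree `p - 1` with value `-1` on `Q^# · (p'-part of C_H(Q))` is trivial on the
`p`-regular elements of `C_H(Q)` -/
theorem br_redy_ker [Finite H] (p : ℕ) [hp : Fact p.Prime] (Q : Sylow p H)
    (hQ : Nat.card (Q : Subgroup H) = p) (χ : Cfsg.IrrCharacter H)
    (hdeg : Cfsg.charDegree (χ : H → ℂ) + 1 = p)
    (hval : ∀ x : H, x ∈ (Q : Subgroup H) → x ≠ 1 → ∀ y : H,
      y ∈ Subgroup.centralizer ((Q : Subgroup H) : Set H) → ¬ p ∣ orderOf y →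
      (χ : H → ℂ) (x * y) = -1) :
    ∀ y ∈ Subgroup.centralizer ((Q : Subgroup H) : Set H), ¬ p ∣ orderOf y →
      (χ : H → ℂ) y = (χ : H → ℂ) 1 := by
  classical
  haveI : Fintype (Q : Subgroup H) := Fintype.ofFinite _
  have hcardQ : (Fintype.card (Q : Subgroup H) : ℂ) = (p : ℂ) := by
    rw [← Nat.card_eq_fintype_card, hQ]
  obtain ⟨-, hd⟩ := br_redb_degree χ
  have hd' : (χ : H → ℂ) 1 = (p : ℂ) - 1 := by
    rw [hd]
    have : ((Cfsg.charDegree (χ : H → ℂ) + 1 : ℕ) : ℂ) = (p : ℂ) := by rw [hdeg]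
    push_cast at this
    linear_combination this
  have hp1 : ¬ p ∣ orderOf (1 : H) := by
    rw [orderOf_one]
    exact hp.out.one_lt.ne' ∘ Nat.dvd_one.mp
  have hvalQ : ∀ a : (Q : Subgroup H), a ≠ 1 → (χ : H → ℂ) (a : H) = -1 := by
    intro a ha
    have := hval (a : H) a.2 (fun h => ha (Subtype.ext h)) 1 (one_mem _) hp1
    rwa [mul_one] at this
  have hsum0 : ∑ a : (Q : Subgroup H), (χ : H → ℂ) (a : H) = 0 := by
    rw [br_redb_sum_const (fun a : (Q : Subgroup H) => (χ : H → ℂ) (a : H)) (-1) hvalQ, hcardQ]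
    show (χ : H → ℂ) ((1 : (Q : Subgroup H)) : H) + _ = 0
    rw [OneMemClass.coe_one, hd']
    ring
  have hχc : Cfsg.IsCharacter H (χ : H → ℂ) := IsIrrCharacter.isCharacter χ.2
  intro y hy hyreg
  have h1 := br_redb_sum_translate (Q : Subgroup H) hχc hsum0 y
  rw [br_redb_sum_const (fun a : (Q : Subgroup H) => (χ : H → ℂ) ((a : H) * y)) (-1)
    (fun a ha => hval (a : H) a.2 (fun h => ha (Subtype.ext h)) y hy hyreg), hcardQ] at h1
  have h2 : (χ : H → ℂ) (((1 : (Q : Subgroup H)) : H) * y) = (χ : H → ℂ) y := by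
    rw [OneMemClass.coe_one, one_mul]
  rw [h2] at h1
  rw [hd']
  linear_combination h1

/-- **`V = 1`**: with `O_{p'}(H) = 1`, a character as in `br_redy_ker` forces `C_H(Q) = Q` -/
theorem br_redy_centralizer [Finite H] (p : ℕ) [hp : Fact p.Prime] (Q : Sylow p H)
    (hQ : Nat.card (Q : Subgroup H) = p) (hcore : Cfsg.pPrimeCore p H = ⊥)
    (χ : Cfsg.IrrCharacter H) (hdeg : Cfsg.charDegree (χ : H → ℂ) + 1 = p)
    (hval : ∀ x : H, x ∈ (Q : Subgroup H) → x ≠ 1 → ∀ y : H,
      y ∈ Subgroup.centralizer ((Q : Subgroup H) : Set H) → ¬ p ∣ orderOf y →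
      (χ : H → ℂ) (x * y) = -1) :
    Subgroup.centralizer ((Q : Subgroup H) : Set H) = (Q : Subgroup H) := by
  classical
  have hker := br_redy_ker p Q hQ χ hdeg hval
  obtain ⟨x₀, -, -, -, hpow, -⟩ := br_redb_generator p (Q : Subgroup H) hQ
  have hQC : (Q : Subgroup H) ≤ Subgroup.centralizer ((Q : Subgroup H) : Set H) := by
    intro a ha
    rw [Subgroup.mem_centralizer_iff]
    intro b hb
    obtain ⟨k, rfl⟩ := hpow a ha
    obtain ⟨l, rfl⟩ := hpow b hb
    exact ((Commute.refl x₀).zpow_zpow l k).eq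
  obtain ⟨-, hd⟩ := br_redb_degree χ
  have hp1 : ¬ p ∣ orderOf (1 : H) := by
    rw [orderOf_one]
    exact hp.out.one_lt.ne' ∘ Nat.dvd_one.mp
  haveI : (kerSub χ).Normal := kerSub_normal χ
  have hKQ : ∀ a ∈ (Q : Subgroup H), a ∈ kerSub χ → a = 1 := by
    intro a ha haK
    by_contra hne
    rw [mem_kerSub] at haK
    have h1 := hval a ha hne 1 (one_mem _) hp1
    rw [mul_one, haK, hd] at h1
    have h2 : ((Cfsg.charDegree (χ : H → ℂ) + 1 : ℕ) : ℂ) = 0 := by
      push_cast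
      linear_combination h1
    rw [hdeg] at h2
    exact hp.out.ne_zero (by exact_mod_cast h2)
  have hKle := br_redb_le_core p Q (kerSub χ) hKQ
  rw [hcore, le_bot_iff] at hKle
  apply br_redb_centralizer_eq p Q hQC
  intro y hy hyreg
  have : y ∈ kerSub χ := (mem_kerSub χ y).mpr (hker y hy hyreg)
  rw [hKle, Subgroup.mem_bot] at this
  exact this

end Cfsg.Agent.BR
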