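import Mathlib
import Cfsg.Agent.S4441
import Cfsg.Agent.BR.RedY
import Cfsg.Agent.BR.RedX
import Cfsg.Agent.BR.ArithM
import Cfsg.Agent.Helper6.WeakOrth

/-!
# Brauer–Reynolds track: `V = 1` when `n` is not of the form `F(p, u, h)` (helper9)

`H` perfect, `Q` a Sylow `p`-subgroup of order `p`, `C_H(Q) = Q × V` arbitrary, `1 + n p` Sylow
`p`-subgroups, `n` not of the form `F(p, u, h)`.  On the data of the principal block (`S4441`):

* `br_redv_dvd_Y` : the degree of an exceptional character divides `f (1 + n p)`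
  (weak block orthogonality gives `∑_{θ ∈ Y} θ(x) = -ε`, then integrality of the central characters);
* `br_redv_core` : the principal block contains a character of degree `p - 1` with value `-1` on
  `x y` (`1 ≠ x ∈ Q`, `y ∈ C_H(Q)` `p`-regular);
* `br_redv_main` : if moreover `O_{p'}(H) = 1` then `C_H(Q) = Q`.
-/

set_option autoImplicit false
set_option linter.style.haveILetI false

namespace Cfsg.Agent.BR

open Cfsg Cfsg.Agent.Helper6
open scoped ComplexConjugate

universe u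

variable {H : Type u} [Group H]

/-- complex conjugation fixes the integers -/
theorem br_redv_conj_int (k : ℤ) : conj (k : ℂ) = (k : ℂ) :=
  Complex.conj_eq_iff_re.mpr rfl

/-- **the degree of an exceptional character of the principal block divides `f |Syl_p|`**
(general `C_H(Q)`), on the data of `S4441` -/
theorem br_redv_dvd_Y [Fintype H] (p : ℕ) [hp : Fact p.Prime] (M : Ideal Cfsg.AlgInt)
    (hM : Cfsg.IsPModular p M) (Q : Sylow p H) (hQ : Nat.card (Q : Subgroup H) = p)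
    (X Y : Set (Cfsg.IrrCharacter H)) (hB : Cfsg.principalBlock M H = X ∪ Y) (hdisj : Disjoint X Y)
    (εX : Cfsg.IrrCharacter H → ℤ) (ε : ℤ) (hε : ε = 1 ∨ ε = -1)
    (hXval : ∀ χ ∈ X, ∀ x : H, x ∈ (Q : Subgroup H) → x ≠ 1 → (χ : H → ℂ) x = (εX χ : ℂ))
    (hYreg : ∀ θ ∈ Y, ∀ θ' ∈ Y, ∀ g : H, ¬ p ∣ orderOf g → (θ : H → ℂ) g = (θ' : H → ℂ) g)
    (hrel : ∀ θ ∈ Y, ∀ g : H, ¬ p ∣ orderOf g →
      (ε : ℂ) * (θ : H → ℂ) g = ∑ᶠ χ ∈ X, (εX χ : ℂ) * (χ : H → ℂ) g)
    (θ₀ : Cfsg.IrrCharacter H) (hθ₀ : θ₀ ∈ Y) :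
    Cfsg.charDegree (θ₀ : H → ℂ) ∣
      (Subgroup.centralizer ((Q : Subgroup H) : Set H)).relIndex
        (Subgroup.normalizer ((Q : Subgroup H) : Set H)) * Nat.card (Sylow p H) := by
  classical
  haveI : Finite (Cfsg.IrrCharacter H) := irr_finite
  obtain ⟨x, hxQ, hx1, hord, -, hcent⟩ := br_redb_generator p (Q : Subgroup H) hQ
  have hidx := br_redx_index p Q x hcent
  have hp1 : ¬ p ∣ orderOf (1 : H) := by
    rw [orderOf_one]
    exact hp.out.one_lt.ne' ∘ Nat.dvd_one.mp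
  have hpx : p ∣ orderOf x := by rw [hord]
  obtain ⟨hypos, hy⟩ := br_redb_degree θ₀
  set y := Cfsg.charDegree (θ₀ : H → ℂ) with hydef
  have hy0 : y ≠ 0 := hypos.ne'
  have hyC : (y : ℂ) ≠ 0 := by exact_mod_cast hy0
  have hdeg : ∀ θ ∈ Y, (θ : H → ℂ) 1 = (y : ℂ) := by
    intro θ hθ
    rw [hYreg θ hθ θ₀ hθ₀ 1 hp1, hy]
  have hεsq : (ε : ℂ) * (ε : ℂ) = 1 := by
    rcases hε with h | h <;> rw [h] <;> norm_num
  -- weak block orthogonality at `(1, x)`
  have hwbo := weak_block_orthogonality hM.2.1 p hM.2.2 (Cfsg.principalBlock M H)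
    (isPBlock_principalBlock H) 1 x hp1 hpx
  rw [hB, finsum_mem_union hdisj (Set.toFinite X) (Set.toFinite Y)] at hwbo
  have hXpart : ∑ᶠ χ ∈ X, (χ : H → ℂ) 1 * conj ((χ : H → ℂ) x) = (ε : ℂ) * (y : ℂ) := by
    rw [← hy, hrel θ₀ hθ₀ 1 hp1]
    apply finsum_mem_congr rfl
    intro χ hχ
    rw [hXval χ hχ x hxQ hx1, br_redv_conj_int, mul_comm]
  have hYpart : ∑ᶠ θ ∈ Y, (θ : H → ℂ) 1 * conj ((θ : H → ℂ) x) =
      (y : ℂ) * conj (∑ θ ∈ (Set.toFinite Y).toFinset, (θ : H → ℂ) x) := by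
    rw [finsum_mem_eq_finite_toFinset_sum _ (Set.toFinite Y), map_sum, Finset.mul_sum]
    apply Finset.sum_congr rfl
    intro θ hθ
    rw [hdeg θ ((Set.Finite.mem_toFinset _).mp hθ)]
  rw [hXpart, hYpart] at hwbo
  have hS : ∑ θ ∈ (Set.toFinite Y).toFinset, (θ : H → ℂ) x = -(ε : ℂ) := by
    have h1 : conj (∑ θ ∈ (Set.toFinite Y).toFinset, (θ : H → ℂ) x) = -(ε : ℂ) := by
      have h2 : (y : ℂ) * ((ε : ℂ) +
          conj (∑ θ ∈ (Set.toFinite Y).toFinset, (θ : H → ℂ) x)) = 0 := by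
        linear_combination hwbo
      rcases mul_eq_zero.mp h2 with h3 | h3
      · exact absurd h3 hyC
      · linear_combination h3
    have h4 := congrArg (starRingEnd ℂ) h1
    rw [Complex.conj_conj, map_neg, br_redv_conj_int] at h4
    exact h4
  -- the algebraic integer
  set m := (Subgroup.centralizer ({x} : Set H)).index with hm
  have hint : IsIntegral ℤ (((-ε : ℤ) : ℂ) *
      ∑ θ ∈ (Set.toFinite Y).toFinset, Cfsg.centralChar (θ : H → ℂ) x) :=
    IsIntegral.mul (isIntegral_intCast (-ε)) (IsIntegral.sum _ (fun θ _ =>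
      isIntegral_centralChar θ x))
  have hval : ((-ε : ℤ) : ℂ) *
      ∑ θ ∈ (Set.toFinite Y).toFinset, Cfsg.centralChar (θ : H → ℂ) x =
      (m : ℂ) / (y : ℂ) := by
    have h1 : ∀ θ ∈ (Set.toFinite Y).toFinset, Cfsg.centralChar (θ : H → ℂ) x =
        (m : ℂ) / (y : ℂ) * (θ : H → ℂ) x := by
      intro θ hθ
      unfold Cfsg.centralChar
      rw [hdeg θ ((Set.Finite.mem_toFinset _).mp hθ)]
      ring
    rw [Finset.sum_congr rfl h1, ← Finset.mul_sum, hS]
    push_cast
    field_simp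
    linear_combination (m : ℂ) * hεsq
  rw [hval] at hint
  have h2 : ((m : ℕ) : ℂ) = (y : ℂ) * ((m : ℂ) / (y : ℂ)) := by
    field_simp
  have h3 := nat_dvd_of_isIntegral _ _ hy0 _ hint h2
  rwa [hidx] at h3


/-- a signed sum over a finite set whose members take three kinds of values -/
theorem br_redv_sum_three {α : Type*} [DecidableEq α] (Xf : Finset α) (e : α → ℤ) (d : α → ℕ)
    (a₀ : α) (D G : ℕ)
    (he : ∀ χ ∈ Xf, e χ = 1 ∨ e χ = -1)
    (h0 : a₀ ∈ Xf → e a₀ = 1 ∧ d a₀ = 1)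
    (hplus : ∀ χ ∈ Xf, e χ = 1 → χ ≠ a₀ → d χ = D)
    (hminus : ∀ χ ∈ Xf, e χ = -1 → d χ = G) :
    ∃ a c : ℕ, a + c + (if a₀ ∈ Xf then 1 else 0) = Xf.card ∧
      (0 < c → ∃ χ ∈ Xf, e χ = -1) ∧
      ∑ χ ∈ Xf, e χ * (d χ : ℤ) =
        (if a₀ ∈ Xf then 1 else 0) + (a : ℤ) * (D : ℤ) - (c : ℤ) * (G : ℤ) := by
  classical
  set Cn := Xf.filter (fun χ => e χ = -1) with hCn
  set Pn := Xf.filter (fun χ => ¬ e χ = -1) with hPn
  have hcard : Cn.card + Pn.card = Xf.card := Finset.card_filter_add_card_filter_not _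
  have hsplit : ∑ χ ∈ Xf, e χ * (d χ : ℤ) =
      ∑ χ ∈ Cn, e χ * (d χ : ℤ) + ∑ χ ∈ Pn, e χ * (d χ : ℤ) :=
    (Finset.sum_filter_add_sum_filter_not Xf _ _).symm
  have hC : ∑ χ ∈ Cn, e χ * (d χ : ℤ) = -((Cn.card : ℤ) * (G : ℤ)) := by
    have h1 : ∀ χ ∈ Cn, e χ * (d χ : ℤ) = -(G : ℤ) := by
      intro χ hχ
      rw [hCn, Finset.mem_filter] at hχ
      rw [hχ.2, hminus χ hχ.1 hχ.2]
      ring
    rw [Finset.sum_congr rfl h1, Finset.sum_const, nsmul_eq_mul]
    ring
  have hPe : ∀ χ ∈ Pn, χ ∈ Xf ∧ e χ = 1 := by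
    intro χ hχ
    rw [hPn, Finset.mem_filter] at hχ
    exact ⟨hχ.1, (he χ hχ.1).resolve_right hχ.2⟩
  have hex : 0 < Cn.card → ∃ χ ∈ Xf, e χ = -1 := by
    intro hpos
    obtain ⟨χ, hχ⟩ := Finset.card_pos.mp hpos
    rw [hCn, Finset.mem_filter] at hχ
    exact ⟨χ, hχ.1, hχ.2⟩
  by_cases ha : a₀ ∈ Xf
  · have haP : a₀ ∈ Pn := by
      rw [hPn, Finset.mem_filter]
      refine ⟨ha, ?_⟩
      rw [(h0 ha).1]
      norm_num
    refine ⟨(Pn.erase a₀).card, Cn.card, ?_, hex, ?_⟩
    · rw [if_pos ha, Finset.card_erase_of_mem haP]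
      have : 0 < Pn.card := Finset.card_pos.mpr ⟨a₀, haP⟩
      omega
    · rw [if_pos ha, hsplit, hC, ← Finset.add_sum_erase Pn _ haP, (h0 ha).1, (h0 ha).2]
      have h1 : ∀ χ ∈ Pn.erase a₀, e χ * (d χ : ℤ) = (D : ℤ) := by
        intro χ hχ
        rw [Finset.mem_erase] at hχ
        obtain ⟨hX, h1⟩ := hPe χ hχ.2
        rw [h1, hplus χ hX h1 hχ.1, one_mul]
      rw [Finset.sum_congr rfl h1, Finset.sum_const, nsmul_eq_mul]
      push_cast
      ring
  · refine ⟨Pn.card, Cn.card, ?_, hex, ?_⟩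
    · rw [if_neg ha]
      omega
    · rw [if_neg ha, hsplit, hC]
      have h1 : ∀ χ ∈ Pn, e χ * (d χ : ℤ) = (D : ℤ) := by
        intro χ hχ
        obtain ⟨hX, h1⟩ := hPe χ hχ
        have hne : χ ≠ a₀ := fun h => ha (h ▸ hX)
        rw [h1, hplus χ hX h1 hne, one_mul]
      rw [Finset.sum_congr rfl h1, Finset.sum_const, nsmul_eq_mul]
      ring

set_option maxHeartbeats 1600000 in
/-- **the character of degree `p - 1`** in the principal block when `n` is not of the form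
`F(p, u, h)` (general `C_H(Q)`) -/
theorem br_redv_core [Fintype H] (hperf : commutator H = ⊤) (p : ℕ) [hp : Fact p.Prime]
    (M : Ideal Cfsg.AlgInt) (hM : Cfsg.IsPModular p M) (Q : Sylow p H)
    (hQ : Nat.card (Q : Subgroup H) = p) (f : ℕ)
    (hf : (Subgroup.centralizer ((Q : Subgroup H) : Set H)).relIndex
      (Subgroup.normalizer ((Q : Subgroup H) : Set H)) = f)
    (n : ℕ) (hS : Nat.card (Sylow p H) = 1 + n * p) (hn : 1 ≤ n)
    (hnF : ¬ ∃ h u : ℕ, 0 < h ∧ 0 < u ∧ n * (u + 1) = h * u * p + u ^ 2 + u + h) :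
    ∃ χ : Cfsg.IrrCharacter H,
      Cfsg.charDegree (χ : H → ℂ) + 1 = p ∧
      ∀ x : H, x ∈ (Q : Subgroup H) → x ≠ 1 → ∀ y : H,
        y ∈ Subgroup.centralizer ((Q : Subgroup H) : Set H) → ¬ p ∣ orderOf y →
        (χ : H → ℂ) (x * y) = -1 := by
  classical
  haveI : Finite (Cfsg.IrrCharacter H) := irr_finite
  have hp2 : 2 ≤ p := hp.out.two_le
  have hQ1 : (Q : Subgroup H) ≠ ⊥ := by
    intro h
    rw [h, Subgroup.card_bot] at hQ
    omega
  have hf0 : f ≠ 0 := by
    rw [← hf]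
    exact Subgroup.index_ne_zero_of_finite
  have hf1 : f ≠ 1 := by
    intro h1
    rw [h1, Subgroup.relIndex_eq_one] at hf
    exact hQ1 (br_redK_transfer hperf p Q hf)
  have hf2 : 2 ≤ f := by omega
  obtain ⟨J, iF, -, -, -, hJ, -⟩ := Cfsg.Agent.D1.d1_valp_main (M := M) p hM Q hQ f hf
  obtain ⟨t, ht⟩ : ∃ t : ℕ, t = Fintype.card J := ⟨_, rfl⟩
  rw [← ht] at hJ
  have htpos : 0 < t := by
    rcases Nat.eq_zero_or_pos t with h | h
    · rw [h, zero_mul] at hJ; omega
    · exact h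
  have hfle : f ≤ p - 1 := by
    rw [← hJ]; exact Nat.le_mul_of_pos_left f htpos
  have hp3 : 3 ≤ p := by omega
  have hodd : p ≠ 2 := by omega
  have hfp : f < p := by omega
  have hfdvd : f ∣ p - 1 := ⟨t, by rw [← hJ]; ring⟩
  obtain ⟨X, Y, hB, hdisj, hcX, hcY, εX, ε, hX, hε, hYdeg, hYreg, hrel⟩ :=
    Cfsg.Agent.S4441.result p M hM hodd Q hQ f hf
  have hp1 : ¬ p ∣ orderOf (1 : H) := by
    rw [orderOf_one]
    exact hp.out.one_lt.ne' ∘ Nat.dvd_one.mp
  have hXval : ∀ χ ∈ X, ∀ x : H, x ∈ (Q : Subgroup H) → x ≠ 1 →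
      (χ : H → ℂ) x = (εX χ : ℂ) := by
    intro χ hχ x hx hx1
    have := (hX χ hχ).2.2 x hx hx1 1 (one_mem _) hp1
    rwa [mul_one] at this
  have hdvdX : ∀ χ ∈ X, Cfsg.charDegree (χ : H → ℂ) ∣ f * (1 + n * p) := by
    intro χ hχ
    have := br_redx_degree_dvd p Q hQ χ (εX χ) (hX χ hχ).1 (hXval χ hχ)
    rwa [hf, hS] at this
  have hdvdY : ∀ θ ∈ Y, Cfsg.charDegree (θ : H → ℂ) ∣ f * (1 + n * p) := by
    intro θ hθ
    have := br_redv_dvd_Y p M hM Q hQ X Y hB hdisj εX ε hε hXval hYreg hrel θ hθ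
    rwa [hf, hS] at this
  -- Claim A
  have hA : ∀ χ ∈ X, εX χ = 1 → χ ≠ trivIrr H → Cfsg.charDegree (χ : H → ℂ) = 1 + n * p := by
    intro χ hχ hε1 hne
    obtain ⟨hdpos, hd⟩ := br_redb_degree χ
    set d := Cfsg.charDegree (χ : H → ℂ) with hddef
    have hd1 : d ≠ 1 := by
      intro h1
      apply hne
      apply br_redb_eq_triv hperf
      rw [hd, h1, Nat.cast_one]
    have hmod := (hX χ hχ).2.1
    rw [hε1] at hmod
    have hdv : (p : ℤ) ∣ (d : ℤ) - 1 := (Int.modEq_iff_dvd.mp hmod.symm)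
    have hdv' : p ∣ d - 1 := by
      have : ((d - 1 : ℕ) : ℤ) = (d : ℤ) - 1 := by
        rw [Nat.cast_sub hdpos, Nat.cast_one]
      rw [← this] at hdv
      exact_mod_cast hdv
    obtain ⟨u, hu⟩ := hdv'
    have hu1 : 1 ≤ u := by
      rcases Nat.eq_zero_or_pos u with h | h
      · rw [h, mul_zero] at hu; omega
      · exact h
    have hdu : d = u * p + 1 := by rw [mul_comm]; omega
    have hdiv : (u * p + 1) ∣ f * (1 + n * p) := by rw [← hdu]; exact hdvdX χ hχ
    obtain ⟨h, heq, hiff⟩ := br_arith_X hp.out hfdvd hdiv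
    rcases Nat.eq_zero_or_pos h with h0 | h0
    · rw [hdu, hiff.mp h0]; ring
    · exact absurd ⟨h, u, h0, hu1, heq⟩ hnF
  -- Claim B
  have hBm : ∀ χ ∈ X, εX χ = -1 → Cfsg.charDegree (χ : H → ℂ) + 1 = p ∨
      Cfsg.charDegree (χ : H → ℂ) = (p - 1) * (1 + n * p) := by
    intro χ hχ hε1
    obtain ⟨hdpos, -⟩ := br_redb_degree χ
    set d := Cfsg.charDegree (χ : H → ℂ) with hddef
    have hmod := (hX χ hχ).2.1
    rw [hε1] at hmod
    have hdv : (p : ℤ) ∣ (d : ℤ) + 1 := by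
      have := Int.modEq_iff_dvd.mp hmod.symm
      rwa [sub_neg_eq_add] at this
    have hdv' : p ∣ d + 1 := by exact_mod_cast hdv
    obtain ⟨u, hu⟩ := hdv'
    have hdu : d + 1 = u * p := by rw [hu, mul_comm]
    have hu1 : 1 ≤ u := by
      rcases Nat.eq_zero_or_pos u with h | h
      · rw [h, zero_mul] at hdu; omega
      · exact h
    rcases Nat.lt_or_ge u 2 with h | h
    · left
      have : u = 1 := by omega
      rw [hdu, this, one_mul]
    · right
      have hd' : d = u * p - 1 := by omega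
      have hdiv : (u * p - 1) ∣ f * (1 + n * p) := by rw [← hd']; exact hdvdX χ hχ
      rcases br_arith_minus hp.out hJ h hdiv with h1 | h1
      · rw [hd', h1]
      · exact absurd h1 hnF
  -- Claim C
  have hC : ∃ χ ∈ X, εX χ = -1 ∧ Cfsg.charDegree (χ : H → ℂ) + 1 = p := by
    by_contra hcon
    have hgiant : ∀ χ ∈ X, εX χ = -1 →
        Cfsg.charDegree (χ : H → ℂ) = (p - 1) * (1 + n * p) := by
      intro χ hχ he
      rcases hBm χ hχ he with h | h
      · exact absurd ⟨χ, hχ, he, h⟩ hcon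
      · exact h
    -- a member of `Y`
    have hYne : Y.Nonempty := by
      have h1 : 0 < Nat.card Y := by
        rw [hcY]
        exact Nat.div_pos hfle (by omega)
      rw [Nat.card_pos_iff] at h1
      obtain ⟨⟨θ, hθ⟩⟩ := h1.1
      exact ⟨θ, hθ⟩
    obtain ⟨θ, hθ⟩ := hYne
    obtain ⟨hypos, hy⟩ := br_redb_degree θ
    set y := Cfsg.charDegree (θ : H → ℂ) with hydef
    -- the signed sum of the degrees over `X`
    have hXfin : X.Finite := Set.toFinite X
    have htrivdeg : trivIrr H ∈ hXfin.toFinset →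
        εX (trivIrr H) = 1 ∧ Cfsg.charDegree ((trivIrr H : Cfsg.IrrCharacter H) : H → ℂ) = 1 := by
      intro hmem
      have hχ := hXfin.mem_toFinset.mp hmem
      refine ⟨?_, br_redb_charDegree_triv⟩
      rcases (hX _ hχ).1 with h | h
      · exact h
      · exfalso
        have hmod := (hX _ hχ).2.1
        rw [br_redb_charDegree_triv, h] at hmod
        have h2 := Int.modEq_iff_dvd.mp hmod.symm
        have h3 : (p : ℤ) ∣ 2 := by
          have : ((1 : ℕ) : ℤ) - (-1 : ℤ) = 2 := by norm_num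
          rwa [this] at h2
        have h4 : p ∣ 2 := by exact_mod_cast h3
        have := Nat.le_of_dvd (by norm_num) h4
        omega
    obtain ⟨a, c, hac, hcex, hsum⟩ := br_redv_sum_three hXfin.toFinset εX
      (fun χ => Cfsg.charDegree (χ : H → ℂ)) (trivIrr H) (1 + n * p) ((p - 1) * (1 + n * p))
      (fun χ hχ => (hX χ (hXfin.mem_toFinset.mp hχ)).1) htrivdeg
      (fun χ hχ h1 hne => hA χ (hXfin.mem_toFinset.mp hχ) h1 hne)
      (fun χ hχ h1 => hgiant χ (hXfin.mem_toFinset.mp hχ) h1)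
    have hcardX : hXfin.toFinset.card = f := by
      rw [← hcX, ← Set.ncard_eq_toFinset_card X hXfin, Nat.card_coe_set_eq]
    rw [hcardX] at hac
    -- the degree relation
    have hrel1 := hrel θ hθ 1 hp1
    rw [finsum_mem_eq_finite_toFinset_sum _ hXfin, hy] at hrel1
    have hrelZ : ε * (y : ℤ) = ∑ χ ∈ hXfin.toFinset,
        εX χ * ((Cfsg.charDegree (χ : H → ℂ) : ℕ) : ℤ) := by
      have h1 : ((ε * (y : ℤ) : ℤ) : ℂ) = ((∑ χ ∈ hXfin.toFinset,
          εX χ * ((Cfsg.charDegree (χ : H → ℂ) : ℕ) : ℤ) : ℤ) : ℂ) := by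
        push_cast
        rw [hrel1]
        apply Finset.sum_congr rfl
        intro χ _
        rw [(br_redb_degree χ).2]
      exact_mod_cast h1
    rw [hsum] at hrelZ
    set S := 1 + n * p with hSdef
    have hSpos : 3 ≤ S := by
      have : 1 * 2 ≤ n * p := Nat.mul_le_mul hn hp2
      omega
    by_cases htX : trivIrr H ∈ hXfin.toFinset
    · rw [if_pos htX] at hac hrelZ
      rcases Nat.eq_zero_or_pos c with hc0 | hcpos
      · -- no `δ = -`: `y = f + (f - 1) n p`
        rw [hc0] at hrelZ hac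
        have haf : a = f - 1 := by omega
        rcases hε with he | he
        · rw [he] at hrelZ
          have hy2 : y = f + (f - 1) * n * p := by
            have h1 : (y : ℤ) = ((f + (f - 1) * n * p : ℕ) : ℤ) := by
              rw [haf] at hrelZ
              have h2 : ((f - 1 : ℕ) : ℤ) = (f : ℤ) - 1 := by
                rw [Nat.cast_sub (by omega : 1 ≤ f), Nat.cast_one]
              push_cast at hrelZ ⊢
              rw [h2] at hrelZ ⊢
              rw [hSdef] at hrelZ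
              push_cast at hrelZ
              linear_combination hrelZ
            exact_mod_cast h1
          exact br_arith_none' hp.out hf2 hfp hn hy2 (hdvdY θ hθ)
        · rw [he] at hrelZ
          have h1 : (0 : ℤ) ≤ (a : ℤ) * (S : ℤ) := by positivity
          have h2 : (0 : ℤ) < (y : ℤ) := by exact_mod_cast hypos
          push_cast at hrelZ
          linarith
      · -- a giant `δ = -` member: `f = p - 1`
        obtain ⟨χg, hχg, hεg⟩ := hcex hcpos
        have hχgX := hXfin.mem_toFinset.mp hχg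
        have hfp1 : f = p - 1 := by
          have h1 := hdvdX χg hχgX
          rw [hgiant χg hχgX hεg] at h1
          have h2 : (p - 1) ∣ f := Nat.dvd_of_mul_dvd_mul_right (by omega : 0 < 1 + n * p) h1
          have := Nat.le_of_dvd (by omega) h2
          omega
        have hacp : a + c + 2 ≤ p := by omega
        rcases hε with he | he
        · exfalso
          rw [he] at hrelZ
          have h2 : (0 : ℤ) < (y : ℤ) := by exact_mod_cast hypos
          have h3 : (a : ℤ) * (S : ℤ) + 2 * (S : ℤ) ≤ (c : ℤ) * (((p - 1) * S : ℕ) : ℤ) := by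
            have h4 : (a + 2) * S ≤ c * ((p - 1) * S) := by
              calc (a + 2) * S ≤ (p - 1) * S := Nat.mul_le_mul_right _ (by omega)
                _ ≤ c * ((p - 1) * S) := Nat.le_mul_of_pos_left _ hcpos
            have h5 : (((a + 2) * S : ℕ) : ℤ) ≤ ((c * ((p - 1) * S) : ℕ) : ℤ) := by
              exact_mod_cast h4
            push_cast at h5 ⊢
            linarith
          have h6 : (3 : ℤ) ≤ (S : ℤ) := by exact_mod_cast hSpos
          linarith
        · rw [he] at hrelZ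
          have hy2 : y + 1 + a * (1 + n * p) = c * (p - 1) * (1 + n * p) := by
            have h1 : ((y + 1 + a * S : ℕ) : ℤ) = ((c * (p - 1) * S : ℕ) : ℤ) := by
              push_cast at hrelZ ⊢
              linear_combination -hrelZ
            exact_mod_cast h1
          have hdv := hdvdY θ hθ
          rw [hfp1] at hdv
          exact br_arith_giant hp.out hn hcpos hacp hy2 hdv
    · -- the trivial character lies in `Y`: `± y = (1 + n p) (a - c (p - 1))`
      rw [if_neg htX] at hac hrelZ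
      have htY : trivIrr H ∈ Y := by
        have h1 : trivIrr H ∈ X ∪ Y := by
          rw [← hB]
          exact trivIrr_mem_principalBlock hM.2.1
        rcases h1 with h | h
        · exact absurd (hXfin.mem_toFinset.mpr h) htX
        · exact h
      have hy1 : y = 1 := by
        have h1 : (θ : H → ℂ) 1 = ((trivIrr H : Cfsg.IrrCharacter H) : H → ℂ) 1 :=
          hYreg θ hθ (trivIrr H) htY 1 hp1
        have h2 : ((trivIrr H : Cfsg.IrrCharacter H) : H → ℂ) 1 = 1 := rfl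
        rw [hy, h2] at h1
        exact_mod_cast h1
      have hdvd : (S : ℤ) ∣ ε * (y : ℤ) := by
        rw [hrelZ]
        refine ⟨(a : ℤ) - (c : ℤ) * ((p - 1 : ℕ) : ℤ), ?_⟩
        push_cast
        ring
      rw [hy1] at hdvd
      have hdvd1 : (S : ℤ) ∣ 1 := by
        rcases hε with he | he
        · rw [he] at hdvd; simpa using hdvd
        · rw [he] at hdvd
          have : ((-1 : ℤ) * ((1 : ℕ) : ℤ)) = -1 := by norm_num
          rw [this] at hdvd
          exact (dvd_neg).mp hdvd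
      have h3 : S ∣ 1 := by exact_mod_cast hdvd1
      have := Nat.le_of_dvd (by norm_num) h3
      omega
  obtain ⟨χ, hχ, hχε, hdeg⟩ := hC
  refine ⟨χ, hdeg, ?_⟩
  intro x' hx' hx'1 y hy hyreg
  rw [(hX χ hχ).2.2 x' hx' hx'1 y hy hyreg, hχε]
  simp

/-- **`V = 1`**: `H` perfect with `O_{p'}(H) = 1`, a Sylow `p`-subgroup `Q` of order `p`,
`1 + n p` Sylow `p`-subgroups and `n` not of the form `F(p, u, h)`: then `C_H(Q) = Q`. -/
theorem br_redv_main [Finite H] (hperf : commutator H = ⊤) (p : ℕ) [hp : Fact p.Prime]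
    (Q : Sylow p H) (hQ : Nat.card (Q : Subgroup H) = p)
    (hcore : Cfsg.pPrimeCore p H = ⊥) (n : ℕ) (hS : Nat.card (Sylow p H) = 1 + n * p)
    (hnF : ¬ ∃ h u : ℕ, 0 < h ∧ 0 < u ∧ n * (u + 1) = h * u * p + u ^ 2 + u + h) :
    Subgroup.centralizer ((Q : Subgroup H) : Set H) = (Q : Subgroup H) := by
  classical
  haveI : Fintype H := Fintype.ofFinite H
  have hn : 1 ≤ n := by
    rcases Nat.eq_zero_or_pos n with h | h
    · exfalso
      rw [h, zero_mul, add_zero] at hS
      haveI : Subsingleton (Sylow p H) := (Nat.card_eq_one_iff_unique.mp hS).1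
      exact br_redK_not_normal hperf p Q hQ (Sylow.normal_of_subsingleton Q)
    · exact h
  obtain ⟨M, hM⟩ := exists_isPModular p hp.out
  obtain ⟨χ, hdeg, hval⟩ := br_redv_core hperf p M hM Q hQ _ rfl n hS hn hnF
  exact br_redy_centralizer p Q hQ hcore χ hdeg hval

end Cfsg.Agent.BR
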