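/-
Brauer–Reynolds track (helper7): S4701 and S0999 from the statement of S0996.

`br_redw_S0996 p` is the statement of S0996 for the prime `p` over all finite groups of a fixed
universe; `br_redw_s4701` and `br_redw_s0999` derive the conclusions of S4701 and S0999 from it
(THEOREM B `br_redb_main` + the outer reduction `br_redK_main`).
-/
import Mathlib
import Cfsg.Agent.BR.RedB4
import Cfsg.Agent.BR.RedK

set_option autoImplicit false
set_option linter.style.haveILetI false

namespace Cfsg.Agent.BR

open scoped commutatorElement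

universe u

/-- the statement of S0996 for the prime `p`, for all finite groups in `Type u` -/
def br_redw_S0996 (p : ℕ) : Prop :=
  ∀ (H : Type u) [Group H] [Finite H], commutator H = ⊤ → ∀ z : H, orderOf z = p →
    Subgroup.centralizer ({z} : Set H) = Subgroup.zpowers z →
    2 * Nat.card (Sylow p H) < (p + 1) * (p + 2) →
    (∃ (F : Type) (_ : Field F) (_ : Fintype F), Fintype.card F = p ∧ 3 < p ∧
      Nonempty (H ≃* Matrix.ProjectiveSpecialLinearGroup (Fin 2) F)) ∨
    (∃ (m : ℕ) (F : Type) (_ : Field F) (_ : Fintype F), Fintype.card F = 2 ^ m ∧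
      p = 2 ^ m + 1 ∧ 3 < p ∧ Nonempty (H ≃* Matrix.ProjectiveSpecialLinearGroup (Fin 2) F))

/-- **S4701 from S0996** -/
theorem br_redw_s4701 {G : Type u} [Group G] [Finite G] (hperf : commutator G = ⊤) (p : ℕ)
    [hp : Fact p.Prime] (hdvd : p ∣ Nat.card G) (hbig : Nat.card G < p ^ 3) (P : Sylow p G)
    (hP : ¬ (P : Subgroup G).Normal) (h2 : ∀ N : Subgroup G, N.Normal → Nat.card N ≠ 2)
    (h0996 : br_redw_S0996.{u} p) :
    (∃ (F : Type) (_ : Field F) (_ : Fintype F), Fintype.card F = p ∧ 3 < p ∧
      Nonempty (G ≃* Matrix.ProjectiveSpecialLinearGroup (Fin 2) F)) ∨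
    (∃ (m : ℕ) (F : Type) (_ : Field F) (_ : Fintype F), Fintype.card F = 2 ^ m ∧
      p = 2 ^ m + 1 ∧ 3 < p ∧ Nonempty (G ≃* Matrix.SpecialLinearGroup (Fin 2) F)) := by
  apply br_redK_main hperf p hdvd hbig P hP h2
  intro H _ _ hperfH _ hbigH hsyl hcoreH
  obtain ⟨Q⟩ : Nonempty (Sylow p H) := inferInstance
  have hQ := (hsyl Q).1
  obtain ⟨hCQ, hnum⟩ := br_redb_main hperfH p hbigH Q hQ hcoreH
  obtain ⟨z, hzQ, -, hzord, hpow, hcent⟩ := br_redb_generator p (Q : Subgroup H) hQ
  have hzp : Subgroup.zpowers z = (Q : Subgroup H) := by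
    apply le_antisymm
    · rw [Subgroup.zpowers_le]
      exact hzQ
    · intro q hq
      obtain ⟨k, rfl⟩ := hpow q hq
      exact Subgroup.zpow_mem_zpowers z k
  exact h0996 H hperfH z hzord (by rw [hcent, hCQ, hzp]) hnum

/-- **S0999 from S0996** -/
theorem br_redw_s0999 {G : Type u} [Group G] [Finite G] [IsSimpleGroup G] (hG : ¬ IsCyclic G)
    (p : ℕ) (hp : p.Prime) (hdvd : p ∣ Nat.card G) (hbig : Nat.card G < p ^ 3)
    (h0996 : br_redw_S0996.{u} p) :
    (∃ (F : Type) (_ : Field F) (_ : Fintype F), Fintype.card F = p ∧ 3 < p ∧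
      Nonempty (G ≃* Matrix.ProjectiveSpecialLinearGroup (Fin 2) F)) ∨
    (∃ (m : ℕ) (F : Type) (_ : Field F) (_ : Fintype F), Fintype.card F = 2 ^ m ∧
      p = 2 ^ m + 1 ∧ 3 < p ∧ Nonempty (G ≃* Matrix.ProjectiveSpecialLinearGroup (Fin 2) F)) := by
  haveI : Fact p.Prime := ⟨hp⟩
  -- `G` is not commutative
  have hnc : ¬ ∀ a b : G, a * b = b * a := by
    intro hc
    let _ : CommGroup G := { (inferInstance : Group G) with mul_comm := hc }
    exact hG (IsSimpleGroup.isCyclic)
  -- `G` is perfect
  have hperf : commutator G = ⊤ := by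
    rcases (inferInstance : (commutator G).Normal).eq_bot_or_eq_top with h | h
    · exfalso
      apply hnc
      intro a b
      have h1 : ⁅a, b⁆ ∈ commutator G := by
        rw [commutator_def]
        exact Subgroup.commutator_mem_commutator (Subgroup.mem_top a) (Subgroup.mem_top b)
      rw [h, Subgroup.mem_bot, commutatorElement_eq_one_iff_mul_comm] at h1
      exact h1
    · exact h
  obtain ⟨P⟩ : Nonempty (Sylow p G) := inferInstance
  -- the Sylow subgroup is not normal
  have hP : ¬ (P : Subgroup G).Normal := by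
    intro hn
    rcases hn.eq_bot_or_eq_top with h | h
    · have h1 : Nat.card (P : Subgroup G) = 1 := by rw [h]; exact Subgroup.card_bot
      have h3 := P.card_eq_multiplicity
      rw [h1] at h3
      have h4 : (Nat.card G).factorization p = 0 := by
        by_contra hne
        have : p ∣ p ^ (Nat.card G).factorization p := dvd_pow_self p hne
        rw [← h3] at this
        exact hp.one_lt.ne' (Nat.dvd_one.mp this)
      have h5 := hp.factorization_pos_of_dvd Nat.card_pos.ne' hdvd
      omega
    · -- `G` is a `p`-group: its centre is nontrivial, hence everything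
      have hpg : IsPGroup p G := by
        have := P.isPGroup'
        rw [h] at this
        exact IsPGroup.of_equiv this Subgroup.topEquiv
      haveI : Nontrivial G := IsSimpleGroup.toNontrivial
      have hZ : Subgroup.center G ≠ ⊥ := by
        have := hpg.center_nontrivial
        intro hb
        rw [hb] at this
        exact not_nontrivial _ this
      have hZt : Subgroup.center G = ⊤ :=
        ((inferInstance : (Subgroup.center G).Normal).eq_bot_or_eq_top).resolve_left hZ
      apply hnc
      intro a b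
      have : a ∈ Subgroup.center G := by rw [hZt]; trivial
      exact (Subgroup.mem_center_iff.mp this b).symm
  -- no normal subgroup of order two
  have h2 : ∀ N : Subgroup G, N.Normal → Nat.card N ≠ 2 := by
    intro N hN hc
    rcases hN.eq_bot_or_eq_top with h | h
    · rw [h, Subgroup.card_bot] at hc
      omega
    · rw [h, Subgroup.card_top] at hc
      haveI : Fact (Nat.Prime 2) := ⟨Nat.prime_two⟩
      exact hG (isCyclic_of_prime_card hc)
  rcases br_redw_s4701 hperf p hdvd hbig P hP h2 h0996 with h | ⟨m, F, iF, iFt, hF, hpm, h3, ⟨e⟩⟩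
  · exact Or.inl h
  · right
    haveI : Fact (Nat.Prime 2) := ⟨Nat.prime_two⟩
    haveI : CharP F 2 := charP_of_card_eq_prime_pow hF
    obtain ⟨e2⟩ := Cfsg.Agent.Helper4.psl2_equiv_sl2 (F := F)
    exact ⟨m, F, iF, iFt, hF, hpm, h3, ⟨e.trans e2.symm⟩⟩

end Cfsg.Agent.BR
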