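import Cfsg.Agent.BR.Star
import Cfsg.Agent.BR.Glue

/-!
# Brauer–Reynolds track: the condition (**) when `n` is not of the form `F(p, u, h)` (helper9)

The fields `star_X`, `star_Y` of `br_nd_Hyp` under the hypothesis of S4700
`¬ ∃ h u, 0 < h ∧ 0 < u ∧ n (u + 1) = h u p + u² + u + h` (instead of `2 n < p + 3`,
which implies it: `br_starf_not_fform`), and the complete bundle `br_glf_main` under it.
-/

set_option autoImplicit false
set_option linter.style.haveILetI false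
set_option linter.unusedSectionVars false

namespace Cfsg.Agent.BR

open Cfsg Cfsg.Agent.Helper6 Cfsg.Agent.D1
open scoped ComplexConjugate

universe u

/-! ### arithmetic -/

/-- `2 n < p + 3` excludes the form `F(p, u, h)` -/
theorem br_starf_not_fform {p n : ℕ} (hn : 2 * n < p + 3) :
    ¬ ∃ h u : ℕ, 0 < h ∧ 0 < u ∧ n * (u + 1) = h * u * p + u ^ 2 + u + h := by
  rintro ⟨h, u, hh, hu, heq⟩
  have := br_arith_bound hu hh heq
  omega

/-- L1 for a node in `X` -/
theorem br_starf_X_arith {p f u n : ℕ} (hp : p.Prime) (hf : f ∣ p - 1) (hu : 1 ≤ u)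
    (hnF : ¬ ∃ h u : ℕ, 0 < h ∧ 0 < u ∧ n * (u + 1) = h * u * p + u ^ 2 + u + h)
    (hdiv : (u * p + 1) ∣ f * (1 + n * p)) : u = n := by
  obtain ⟨h, heq, hiff⟩ := br_arith_X hp hf hdiv
  rcases Nat.eq_zero_or_pos h with h0 | h0
  · exact hiff.mp h0
  · exact absurd ⟨h, u, h0, hu, heq⟩ hnF

/-- L1 for the exceptional node (`ε = -1`) -/
theorem br_starf_Y_arith {p f t w n : ℕ} (hp : p.Prime) (htf : t * f = p - 1) (hw : f < w * p)
    (hnF : ¬ ∃ h u : ℕ, 0 < h ∧ 0 < u ∧ n * (u + 1) = h * u * p + u ^ 2 + u + h)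
    (hdiv : (w * p - f) ∣ f * (1 + n * p)) (htw : 2 ≤ t * w) :
    t * (w * p - f) = 1 + n * p := by
  obtain ⟨h, heq, hiff⟩ := br_arith_E hp htf hw hdiv
  rcases Nat.eq_zero_or_pos h with h0 | h0
  · exact hiff.mp h0
  · exfalso
    apply hnF
    refine ⟨h, t * w - 1, h0, by omega, ?_⟩
    rw [Nat.sub_add_cancel (by omega : 1 ≤ t * w)]
    exact heq

variable {G : Type u} [Group G]

section data

variable {p : ℕ} [hp : Fact p.Prime] {P : Sylow p G} {X Y : Set (IrrCharacter G)}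
  {dl : IrrCharacter G → ℤ} {ep : ℤ}
  {O : IrrCharacter G → Finset (↥(P : Subgroup G) →* ℂˣ)}

/-- **(**) for `X`** when `n` is not of the form `F(p, u, h)` -/
theorem br_starf_X [Finite G] (h : br_blk_IsData P X Y dl ep O) (hperf : commutator G = ⊤)
    (n : ℕ)
    (hnF : ¬ ∃ h u : ℕ, 0 < h ∧ 0 < u ∧ n * (u + 1) = h * u * p + u ^ 2 + u + h)
    (χ : IrrCharacter G) (hχ : χ ∈ X) (hχt : χ ≠ trivIrr G)
    (hd : dl χ = 1)
    (hdvd : charDegree (χ : G → ℂ) ∣
      (P : Subgroup G).relIndex (Subgroup.normalizer ((P : Subgroup G) : Set G)) *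
        (1 + n * p)) :
    charDegree (χ : G → ℂ) = 1 + n * p := by
  obtain ⟨u, hu⟩ := br_star_deg_X h χ hχ hd
  have h2 := br_star_two_le hperf χ hχt
  have hu1 : 1 ≤ u := by
    rcases Nat.eq_zero_or_pos u with h0 | h0
    · rw [h0, zero_mul] at hu
      omega
    · exact h0
  rw [hu] at hdvd
  have := br_starf_X_arith hp.out (br_blk_f_dvd h) hu1 hnF hdvd
  rw [hu, this]
  ring

/-- **(**) for `Y`** (`ε = -1`) when `n` is not of the form `F(p, u, h)` -/
theorem br_starf_Y [Finite G] (h : br_blk_IsData P X Y dl ep O) (hperf : commutator G = ⊤)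
    (he : ep = -1) (n : ℕ)
    (hnF : ¬ ∃ h u : ℕ, 0 < h ∧ 0 < u ∧ n * (u + 1) = h * u * p + u ^ 2 + u + h)
    (ψ : IrrCharacter G) (hψ : ψ ∈ Y)
    (hdvd : charDegree (ψ : G → ℂ) ∣
      (P : Subgroup G).relIndex (Subgroup.normalizer ((P : Subgroup G) : Set G)) *
        (1 + n * p)) :
    Nat.card Y * charDegree (ψ : G → ℂ) = 1 + n * p := by
  obtain ⟨w, hw⟩ := br_star_deg_Y h he ψ hψ
  set f := (P : Subgroup G).relIndex (Subgroup.normalizer ((P : Subgroup G) : Set G)) with hf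
  have hψt : ψ ≠ trivIrr G := by
    intro h0
    rw [h0] at hψ
    exact Set.disjoint_left.mp h.disj h.triv_mem hψ
  have h2 := br_star_two_le hperf ψ hψt
  have hy : charDegree (ψ : G → ℂ) = w * p - f := by omega
  have hfw : f < w * p := by omega
  have hfpos := br_blk_f_pos h
  have hcY := h.card_Y
  have htw : 2 ≤ Nat.card Y * w := by
    by_contra hlt
    push Not at hlt
    have hp2 := hp.out.two_le
    have ht0 : Nat.card Y ≠ 0 := by
      intro h0
      rw [h0, zero_mul] at hcY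
      omega
    have hw0 : w ≠ 0 := by
      intro h0
      rw [h0, zero_mul] at hfw
      omega
    have h3 : Nat.card Y * w = 1 := by
      have : 0 < Nat.card Y * w := Nat.mul_pos (Nat.pos_of_ne_zero ht0) (Nat.pos_of_ne_zero hw0)
      omega
    have ht1 : Nat.card Y = 1 := Nat.eq_one_of_mul_eq_one_right h3
    have hw1 : w = 1 := Nat.eq_one_of_mul_eq_one_left h3
    rw [ht1, one_mul] at hcY
    rw [hw1, one_mul] at hy
    omega
  rw [hy] at hdvd ⊢
  exact br_starf_Y_arith hp.out hcY hfw hnF hdvd htw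

/-- **(**) for `Y`**, finset form (the field `star_Y` of `br_nd_Hyp`) -/
theorem br_starf_Y_sum [Finite G] (h : br_blk_IsData P X Y dl ep O) (hperf : commutator G = ⊤)
    (he : ep = -1) (n : ℕ)
    (hnF : ¬ ∃ h u : ℕ, 0 < h ∧ 0 < u ∧ n * (u + 1) = h * u * p + u ^ 2 + u + h)
    (Yf : Finset (IrrCharacter G))
    (hYf : ∀ ψ, ψ ∈ Yf ↔ ψ ∈ Y)
    (hdvd : ∀ ψ ∈ Y, charDegree (ψ : G → ℂ) ∣
      (P : Subgroup G).relIndex (Subgroup.normalizer ((P : Subgroup G) : Set G)) *
        (1 + n * p)) :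
    ∑ ψ ∈ Yf, charDegree (ψ : G → ℂ) = 1 + n * p := by
  classical
  have hcard : Nat.card Y = Yf.card := by
    rw [← Nat.card_congr (Equiv.subtypeEquivRight hYf), Nat.card_eq_fintype_card,
      Fintype.card_coe]
  have hne : Yf.Nonempty := by
    rw [← Finset.card_pos, ← hcard]
    rcases Nat.eq_zero_or_pos (Nat.card Y) with h0 | h0
    · have h1 := h.card_Y
      rw [h0, zero_mul] at h1
      have := hp.out.two_le
      omega
    · exact h0
  obtain ⟨ψ₀, hψ₀⟩ := hne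
  have hψ₀Y := (hYf ψ₀).1 hψ₀
  rw [Finset.sum_congr rfl (fun ψ hψ => br_star_deg_eq h ψ ψ₀ ((hYf ψ).1 hψ) hψ₀Y),
    Finset.sum_const, smul_eq_mul, ← hcard]
  exact br_starf_Y h hperf he n hnF ψ₀ hψ₀Y (hdvd ψ₀ hψ₀Y)

end data

/-- **the complete bundle** for a perfect group whose `n` is not of the form `F(p, u, h)`,
together with the block data it comes from -/
theorem br_glf_main [Fintype G] (hperf : commutator G = ⊤) (p : ℕ) [Fact p.Prime] (P : Sylow p G)
    (hP : Nat.card (P : Subgroup G) = p)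
    (hC : Subgroup.centralizer ((P : Subgroup G) : Set G) ≤ (P : Subgroup G))
    (n : ℕ) (hn : Nat.card (Sylow p G) = 1 + n * p)
    (hnF : ¬ ∃ h u : ℕ, 0 < h ∧ 0 < u ∧ n * (u + 1) = h * u * p + u ^ 2 + u + h)
    [Fintype ↥(P : Subgroup G)] [Fintype ↥(br_setup_A p P)] [Fintype (IrrCharacter G)] :
    ∃ (Xs Ys : Set (IrrCharacter G)) (dl : IrrCharacter G → ℤ) (ep : ℤ)
      (O : IrrCharacter G → Finset (↥(P : Subgroup G) →* ℂˣ))
      (Xf Yf : Finset (IrrCharacter G)),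
      br_blk_IsData P Xs Ys dl ep O ∧ (∀ χ, χ ∈ Xf ↔ χ ∈ Xs) ∧ (∀ ψ, ψ ∈ Yf ↔ ψ ∈ Ys) ∧
      br_vl_Hyp p (P : Subgroup G) (Subgroup.normalizer ((P : Subgroup G) : Set G))
        ((P : Subgroup G).relIndex (Subgroup.normalizer ((P : Subgroup G) : Set G))) n Xf Yf dl ep
        (fun l : ↥(br_setup_A p P) =>
          br_dg_theta (Subgroup.normalizer ((P : Subgroup G) : Set G))
            (l : ↥(Subgroup.normalizer ((P : Subgroup G) : Set G)) →* ℂˣ)) 1
        (fun (l : ↥(br_setup_A p P)) (g : G) =>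
          extendByZero (Subgroup.normalizer ((P : Subgroup G) : Set G))
            (br_mky_fn (Subgroup.normalizer ((P : Subgroup G) : Set G))
              (l : ↥(Subgroup.normalizer ((P : Subgroup G) : Set G)) →* ℂˣ)) g) ∧
      Xf.card = (P : Subgroup G).relIndex (Subgroup.normalizer ((P : Subgroup G) : Set G)) := by
  classical
  obtain ⟨X, Y, dl, ep, O, h⟩ := br_blk_exists p P hP hC
  have hXf : ∀ χ, χ ∈ (Set.toFinite X).toFinset ↔ χ ∈ X := fun χ => Set.Finite.mem_toFinset _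
  have hYf : ∀ ψ, ψ ∈ (Set.toFinite Y).toFinset ↔ ψ ∈ Y := fun ψ => Set.Finite.mem_toFinset _
  refine ⟨X, Y, dl, ep, O, (Set.toFinite X).toFinset, (Set.toFinite Y).toFinset, h, hXf, hYf,
    br_gl_vl h _ _ hXf hYf n hn ?_ ?_, ?_⟩
  · intro χ hχ hχt hd
    have hχX := (hXf χ).mp hχ
    have hdvd := br_blk_dvd_X h χ hχX
    rw [hn] at hdvd
    exact br_starf_X h hperf n hnF χ hχX hχt hd hdvd
  · intro he
    apply br_starf_Y_sum h hperf he n hnF _ hYf
    intro ψ hψ
    have hdvd := br_blk_dvd_Y h ψ hψ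
    rw [hn] at hdvd
    exact hdvd
  · rw [← br_gl_card_eq X _ hXf]
    exact h.card_X

end Cfsg.Agent.BR
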