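import Cfsg.Agent.BR.MainC
import Cfsg.Agent.BR.StarF
import Cfsg.Agent.BR.QuotSyl
import Cfsg.Agent.BR.RedK

/-!
# Brauer–Reynolds track: S4700 (Brauer 1942-II, Theorem 10, general `C_G(P) = P × V`) (helper9)

`G` perfect with a Sylow `p`-subgroup of order `p` and `1 + n p` Sylow `p`-subgroups.
If `n` is not of the form `F(p, u, h) = (h u p + u² + u + h) / (u + 1)` then
`G ⧸ O_{p'}(G)` is `PSL₂(p)` (`p > 3`) or `SL₂(2^m)` (`p = 2^m + 1 > 3`).

* `br_s47_mainC` : THEOREM A under "`n` not of the form `F`" (instead of `2 n < p + 3`),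
  modulo the L7 core;
* `br_s47_core` : the same for `O_{p'}(H) = 1` without the hypothesis `C_H(Q) = Q`, modulo the
  statement `br_s47_VOne` (`V = 1`, proved in `BR/RedV`);
* `br_s47_main` : the reduction to `G ⧸ O_{p'}(G)`.
-/

set_option autoImplicit false
set_option linter.style.haveILetI false
set_option linter.unusedSectionVars false

namespace Cfsg.Agent.BR

open Cfsg Cfsg.Agent.Helper6 Finset
open scoped ComplexConjugate Classical

universe u

/-- **THEOREM A** when `n` is not of the form `F(p, u, h)`, modulo the L7 core. -/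
theorem br_s47_mainC {G : Type u} [Group G] [Fintype G] (p : ℕ) [Fact p.Prime] (P : Sylow p G)
    [Fintype (IrrCharacter G)] (hperf : commutator G = ⊤)
    (hP : Nat.card (P : Subgroup G) = p)
    (hC : Subgroup.centralizer ((P : Subgroup G) : Set G) ≤ (P : Subgroup G))
    (n : ℕ) (hn : Nat.card (Sylow p G) = 1 + n * p)
    (hnF : ¬ ∃ h u : ℕ, 0 < h ∧ 0 < u ∧ n * (u + 1) = h * u * p + u ^ 2 + u + h)
    (hcore : br_mc_L7Core G p) :
    (∃ (F : Type) (_ : Field F) (_ : Fintype F), Fintype.card F = p ∧ 3 < p ∧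
      Nonempty (G ≃* Matrix.ProjectiveSpecialLinearGroup (Fin 2) F)) ∨
    (∃ (m : ℕ) (F : Type) (_ : Field F) (_ : Fintype F), Fintype.card F = 2 ^ m ∧
      p = 2 ^ m + 1 ∧ 3 < p ∧ Nonempty (G ≃* Matrix.ProjectiveSpecialLinearGroup (Fin 2) F)) := by
  have : Fintype ↥(P : Subgroup G) := Fintype.ofFinite _
  have : Fintype ↥(Subgroup.normalizer ((P : Subgroup G) : Set G)) := Fintype.ofFinite _
  have : Fintype ↥(br_setup_A p P) := Fintype.ofFinite _
  obtain ⟨Xs, Ys, dl, ep, O, Xf, Yf, h, hXf, hYf, H, hXc⟩ :=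
    br_glf_main hperf p P hP hC n hn hnF
  refine br_mainB p P hperf hP hC n hn h _ _ (fun ψ hψ => (hYf ψ).mp hψ) H ?_
  intro he hf2 k₀ _ hS _ _
  rw [hf2] at hXc
  obtain ⟨z, χm, zz, h1, h2, h3, h4, h5, h6, h7, h8, h9, h10, h11, h12, h13⟩ :=
    br_f2i_table p P hP hf2 H hn k₀ hS hXc
  have hn1 : 1 ≤ n := br_ma_one_le_n p P hP hperf n hn
  exact hcore n _ z χm zz Fact.out (by omega) h1 h2 h3 h4 h5 h6 h7 h8 h9 h10 h11 h12 h13

/-- the statement "`V = 1`": in a perfect group with `O_{p'} = 1` whose `n` is not of the form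
`F(p, u, h)` a Sylow `p`-subgroup of order `p` is self-centralizing (`BR/RedV`). -/
def br_s47_VOne (p : ℕ) [Fact p.Prime] : Prop :=
  ∀ (H : Type u) [Group H] [Finite H], commutator H = ⊤ → ∀ Q : Sylow p H,
    Nat.card (Q : Subgroup H) = p → Cfsg.pPrimeCore p H = ⊥ →
    ∀ n : ℕ, Nat.card (Sylow p H) = 1 + n * p →
    (¬ ∃ h u : ℕ, 0 < h ∧ 0 < u ∧ n * (u + 1) = h * u * p + u ^ 2 + u + h) →
    Subgroup.centralizer ((Q : Subgroup H) : Set H) = (Q : Subgroup H)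

/-- the quotient arithmetic: a proper factorization of `1 + n p` gives the form `F` -/
theorem br_s47_quot_arith {p n nbar a : ℕ} (hnb : 1 ≤ nbar) (ha : 1 ≤ a)
    (h : 1 + n * p = (1 + nbar * p) * (1 + a * p)) (hp : 0 < p) :
    ∃ h u : ℕ, 0 < h ∧ 0 < u ∧ n * (u + 1) = h * u * p + u ^ 2 + u + h := by
  refine ⟨a * (nbar + 1), nbar, Nat.mul_pos ha (by omega), hnb, ?_⟩
  have h1 : n * p = (nbar + a + nbar * a * p) * p := by
    have : (1 + nbar * p) * (1 + a * p) = 1 + (nbar + a + nbar * a * p) * p := by ring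
    omega
  have h2 : n = nbar + a + nbar * a * p := Nat.eq_of_mul_eq_mul_right hp h1
  rw [h2]
  ring

/-- **S4700 for `O_{p'}(H) = 1`**, modulo `V = 1` and the L7 core -/
theorem br_s47_core {H : Type u} [Group H] [Finite H] (hperf : commutator H = ⊤) (p : ℕ)
    [Fact p.Prime] (Q : Sylow p H) (hQ : Nat.card (Q : Subgroup H) = p)
    (hcoreH : Cfsg.pPrimeCore p H = ⊥) (n : ℕ) (hn : Nat.card (Sylow p H) = 1 + n * p)
    (hnF : ¬ ∃ h u : ℕ, 0 < h ∧ 0 < u ∧ n * (u + 1) = h * u * p + u ^ 2 + u + h)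
    (hV : br_s47_VOne.{u} p)
    (hL7 : ∀ [Fintype H] [Fintype (IrrCharacter H)], br_mc_L7Core H p) :
    (∃ (F : Type) (_ : Field F) (_ : Fintype F), Fintype.card F = p ∧ 3 < p ∧
      Nonempty (H ≃* Matrix.ProjectiveSpecialLinearGroup (Fin 2) F)) ∨
    (∃ (m : ℕ) (F : Type) (_ : Field F) (_ : Fintype F), Fintype.card F = 2 ^ m ∧
      p = 2 ^ m + 1 ∧ 3 < p ∧ Nonempty (H ≃* Matrix.ProjectiveSpecialLinearGroup (Fin 2) F)) := by
  haveI : Fintype H := Fintype.ofFinite H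
  haveI : Finite (IrrCharacter H) := irr_finite
  haveI : Fintype (IrrCharacter H) := Fintype.ofFinite _
  have hC := hV H hperf Q hQ hcoreH n hn hnF
  exact br_s47_mainC p Q hperf hQ hC.le n hn hnF hL7

/-- **S4700**, modulo `V = 1` and the L7 core -/
theorem br_s47_main {G : Type u} [Group G] [Finite G] (hperf : commutator G = ⊤) (p : ℕ)
    [hp : Fact p.Prime] (P : Sylow p G) (hP : Nat.card (P : Subgroup G) = p) (n : ℕ)
    (hn : Nat.card (Sylow p G) = 1 + n * p)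
    (hV : br_s47_VOne.{u} p)
    (hL7 : ∀ (H : Type u) [Group H] [Fintype H] [Fintype (IrrCharacter H)], br_mc_L7Core H p) :
    (∃ (F : Type) (_ : Field F) (_ : Fintype F), Fintype.card F = p ∧ 3 < p ∧
      Nonempty (G ⧸ Cfsg.pPrimeCore p G ≃* Matrix.ProjectiveSpecialLinearGroup (Fin 2) F)) ∨
    (∃ (m : ℕ) (F : Type) (_ : Field F) (_ : Fintype F), Fintype.card F = 2 ^ m ∧
      p = 2 ^ m + 1 ∧ 3 < p ∧
      Nonempty (G ⧸ Cfsg.pPrimeCore p G ≃* Matrix.SpecialLinearGroup (Fin 2) F)) ∨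
    (∃ h u : ℕ, 0 < h ∧ 0 < u ∧ n * (u + 1) = h * u * p + u ^ 2 + u + h) := by
  by_cases hnF : ∃ h u : ℕ, 0 < h ∧ 0 < u ∧ n * (u + 1) = h * u * p + u ^ 2 + u + h
  · exact Or.inr (Or.inr hnF)
  set K := Cfsg.pPrimeCore p G with hK
  have hperfQ : commutator (G ⧸ K) = ⊤ := br_redK_quot_perfect K hperf
  have hcoreQ : Cfsg.pPrimeCore p (G ⧸ K) = ⊥ := Cfsg.Agent.Helper4.pPrimeCore_quotient_eq_bot p
  obtain ⟨Q⟩ : Nonempty (Sylow p (G ⧸ K)) := Sylow.nonempty
  have hQ : Nat.card (Q : Subgroup (G ⧸ K)) = p :=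
    (br_qs_card_sylow_quot p K (Cfsg.Agent.Helper5.not_dvd_card_pPrimeCore p) P Q).trans hP
  obtain ⟨nbar, a, hnb, hfac⟩ := br_qs_card_n p K n hn
  have hnb1 : 1 ≤ nbar := by
    rcases Nat.eq_zero_or_pos nbar with h0 | h0
    · exfalso
      rw [h0, zero_mul, add_zero] at hnb
      haveI : Subsingleton (Sylow p (G ⧸ K)) := (Nat.card_eq_one_iff_unique.mp hnb).1
      exact br_redK_not_normal hperfQ p Q hQ (Sylow.normal_of_subsingleton Q)
    · exact h0
  have ha0 : a = 0 := by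
    rcases Nat.eq_zero_or_pos a with h0 | h0
    · exact h0
    · exact absurd (br_s47_quot_arith hnb1 h0 hfac hp.out.pos) hnF
  have hnn : nbar = n := by
    rw [ha0, zero_mul, add_zero, mul_one] at hfac
    have : n * p = nbar * p := by omega
    exact (Nat.eq_of_mul_eq_mul_right hp.out.pos this).symm
  rw [hnn] at hnb
  rcases br_s47_core hperfQ p Q hQ hcoreQ n hnb hnF hV (hL7 (G ⧸ K)) with
    ⟨F, iF, iFt, hF, h3, ⟨e⟩⟩ | ⟨m, F, iF, iFt, hF, hpm, h3, ⟨e⟩⟩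
  · exact Or.inl ⟨F, iF, iFt, hF, h3, ⟨e⟩⟩
  · refine Or.inr (Or.inl ?_)
    have : Fact (Nat.Prime 2) := ⟨Nat.prime_two⟩
    have : CharP F 2 := charP_of_card_eq_prime_pow hF
    obtain ⟨e2⟩ := Cfsg.Agent.Helper4.psl2_equiv_sl2 (F := F)
    exact ⟨m, F, iF, iFt, hF, hpm, h3, ⟨e.trans e2⟩⟩

end Cfsg.Agent.BR
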