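import Cfsg.Agent.BR.Nodes

/-!
# Brauer–Reynolds track: values of the irreducible characters on `N ∖ P`

On top of the node bundle `br_nd_Hyp` (`BR/Nodes`), the vanishing of the characters outside
`X ∪ Y` on `P ∖ 1` (`BR/Block`, `val_Z`) and (F2) of `BR/Ind`
(`χ h = ∑ l, ⟨Θ l, χ⟩ λ_l(h)` for `h ∈ N ∖ P`):

* `br_vl_val_minus` : `χ ∈ X`, `dl χ = -1` ⟹ `χ h = 0`;
* `br_vl_val_plus`  : `χ ∈ X`, `χ ≠ 1`     ⟹ `χ h = ∑_{l : Θ l = χ} λ_l(h)`;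
* `br_vl_val_Y`     : `ψ ∈ Y` ⟹ `ψ h = ∑_{l ≠ l₀ : Θ l = ∑_Y} λ_l(h)` (`= 0` if `ε = 1`);
* `br_vl_Z`         : multiplicities `z ζ = ⟨Θ l₀, ζ⟩` for `ζ ∉ X ∪ Y` with `ζ 1 = p z ζ`,
  `ζ h = z ζ`, and `∑ (z ζ)² = n`.
These are the hypotheses of the L6 / L7 cores.
-/

set_option autoImplicit false
set_option linter.style.haveILetI false

namespace Cfsg.Agent.BR

open Cfsg Cfsg.Agent.Helper6 Cfsg.Agent.D1 Finset
open scoped ComplexConjugate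

universe u v

variable {G : Type u} [Group G] [Fintype G]

/-- The hypotheses of this file: the node bundle, `val_Z`, and (F2). `lam l h` is the value at
`h ∈ N` of the `l`-th linear character of `N` trivial on `P`. -/
structure br_vl_Hyp (p : ℕ) (P N : Subgroup G) [Fintype P] (f n : ℕ)
    (X Y : Finset (IrrCharacter G)) (dl : IrrCharacter G → ℤ) (ε : ℤ)
    {ι : Type v} [Fintype ι] (Θ : ι → G → ℂ) (l₀ : ι) (lam : ι → G → ℂ) : Prop where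
  nd : br_nd_Hyp p P f n X Y dl ε Θ l₀
  /-- characters outside `X ∪ Y` vanish on `P ∖ 1` -/
  Z_val : ∀ ζ : IrrCharacter G, ζ ∉ X → ζ ∉ Y → ∀ x ∈ P, x ≠ 1 → (ζ : G → ℂ) x = 0
  /-- (F2) -/
  F2 : ∀ χ : IrrCharacter G, ∀ h ∈ N, h ∉ P →
    (χ : G → ℂ) h = ∑ l, classInner (Θ l) (χ : G → ℂ) * lam l h
  lam_l₀ : ∀ h ∈ N, lam l₀ h = 1

section vals

variable {p : ℕ} {P N : Subgroup G} [Fintype P] {f n : ℕ} {X Y : Finset (IrrCharacter G)}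
  {dl : IrrCharacter G → ℤ} {ε : ℤ} {ι : Type v} [Fintype ι] {Θ : ι → G → ℂ} {l₀ : ι}
  {lam : ι → G → ℂ}

/-- `χ ∈ X` of sign `-` vanishes on `N ∖ P`. -/
theorem br_vl_val_minus (H : br_vl_Hyp p P N f n X Y dl ε Θ l₀ lam) (χ : IrrCharacter G)
    (hχ : χ ∈ X) (hd : dl χ = -1) (h : G) (hN : h ∈ N) (hP : h ∉ P) :
    (χ : G → ℂ) h = 0 := by
  rw [H.F2 χ h hN hP]
  apply Finset.sum_eq_zero
  intro l _
  rw [H.nd.inner_minus χ hχ hd l, zero_mul]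

open scoped Classical in
/-- `χ ∈ X`, `χ ≠ 1`: `χ h` is the sum of the `λ_l(h)` over the `l` with `Θ l = χ`. -/
theorem br_vl_val_plus (H : br_vl_Hyp p P N f n X Y dl ε Θ l₀ lam) (χ : IrrCharacter G)
    (hχ : χ ∈ X) (hχt : χ ≠ trivIrr G) (h : G) (hN : h ∈ N) (hP : h ∉ P) :
    (χ : G → ℂ) h = ∑ l ∈ Finset.univ.filter (fun l => Θ l = (χ : G → ℂ)), lam l h := by
  rw [H.F2 χ h hN hP, Finset.sum_filter]
  apply Finset.sum_congr rfl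
  intro l _
  by_cases hl : Θ l = (χ : G → ℂ)
  · rw [if_pos hl, (H.nd.inner_plus χ hχ hχt l).1 hl, one_mul]
  · rw [if_neg hl, (H.nd.inner_plus χ hχ hχt l).2 hl, zero_mul]

open scoped Classical in
/-- `ψ ∈ Y`: `ψ h` is the sum of the `λ_l(h)` over the `l ≠ l₀` with `Θ l = ∑_Y`. -/
theorem br_vl_val_Y (H : br_vl_Hyp p P N f n X Y dl ε Θ l₀ lam) (ψ : IrrCharacter G)
    (hψ : ψ ∈ Y) (h : G) (hN : h ∈ N) (hP : h ∉ P) :
    (ψ : G → ℂ) h =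
      ∑ l ∈ Finset.univ.filter (fun l => l ≠ l₀ ∧ Θ l = ∑ ψ' ∈ Y, (ψ' : G → ℂ)), lam l h := by
  rw [H.F2 ψ h hN hP, Finset.sum_filter]
  apply Finset.sum_congr rfl
  intro l _
  by_cases hl : l ≠ l₀ ∧ Θ l = ∑ ψ' ∈ Y, (ψ' : G → ℂ)
  · rw [if_pos hl, (H.nd.inner_Y ψ hψ l).1 hl, one_mul]
  · rw [if_neg hl, (H.nd.inner_Y ψ hψ l).2 hl, zero_mul]

/-- `ε = 1`: the exceptional characters vanish on `N ∖ P`. -/
theorem br_vl_val_Y_eps_plus (H : br_vl_Hyp p P N f n X Y dl ε Θ l₀ lam) (he : ε = 1)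
    (ψ : IrrCharacter G) (hψ : ψ ∈ Y) (h : G) (hN : h ∈ N) (hP : h ∉ P) :
    (ψ : G → ℂ) h = 0 := by
  classical
  rw [br_vl_val_Y H ψ hψ h hN hP]
  apply Finset.sum_eq_zero
  intro l hl
  exfalso
  obtain ⟨hl0, hΘ⟩ := (Finset.mem_filter.1 hl).2
  rcases H.nd.node l hl0 with ⟨χ, hχX, -, -, hΘχ⟩ | ⟨he', -⟩
  · exact H.nd.node_excl (Θ l) χ hχX hΘχ hΘ
  · rw [he] at he'; norm_num at he'

/-- a character outside `X ∪ Y` is orthogonal to `Θ l`, `l ≠ l₀`. -/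
theorem br_vl_inner_Z (H : br_vl_Hyp p P N f n X Y dl ε Θ l₀ lam) (ζ : IrrCharacter G)
    (hX : ζ ∉ X) (hY : ζ ∉ Y) (l : ι) (hl : l ≠ l₀) : classInner (Θ l) (ζ : G → ℂ) = 0 := by
  rcases H.nd.node l hl with ⟨χ, hχX, -, -, hΘ⟩ | ⟨-, hΘ⟩
  · rw [hΘ]
    apply classInner_irr_ne χ.2 ζ.2
    intro h
    exact hX ((Subtype.ext h : χ = ζ) ▸ hχX)
  · rw [hΘ]
    exact (br_nd_inner_sumY_left Y ζ).2 hY

open scoped Classical in
/-- the characters outside `X ∪ Y`: multiplicities in `π = Θ l₀`, degrees, values on `N ∖ P`, and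
`∑ z² = n`. -/
theorem br_vl_Z [Fintype (IrrCharacter G)] (H : br_vl_Hyp p P N f n X Y dl ε Θ l₀ lam) :
    ∃ z : IrrCharacter G → ℕ,
      (∀ ζ : IrrCharacter G, ζ ∉ X → ζ ∉ Y →
        classInner (Θ l₀) (ζ : G → ℂ) = (z ζ : ℂ) ∧ charDegree (ζ : G → ℂ) = p * z ζ ∧
          ∀ h ∈ N, h ∉ P → (ζ : G → ℂ) h = (z ζ : ℂ)) ∧
      ∑ ζ ∈ Finset.univ.filter (fun ζ : IrrCharacter G => ζ ∉ X ∧ ζ ∉ Y), (z ζ) ^ 2 = n := by
  obtain ⟨m, hm, -, hdeg⟩ := br_nd_mult (Θ l₀) (H.nd.Θ_char l₀)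
  have hp0 : 0 < p := H.nd.prime.pos
  have hZ : ∀ ζ : IrrCharacter G, ζ ∉ X → ζ ∉ Y →
      classInner (Θ l₀) (ζ : G → ℂ) = (m ζ : ℂ) ∧ charDegree (ζ : G → ℂ) = p * m ζ ∧
        ∀ h ∈ N, h ∉ P → (ζ : G → ℂ) h = (m ζ : ℂ) := by
    intro ζ hX hY
    have hsum : ∑ l, classInner (Θ l) (ζ : G → ℂ) = (m ζ : ℂ) := by
      rw [Finset.sum_eq_single l₀ (fun l _ hl => br_vl_inner_Z H ζ hX hY l hl)
        (fun h => absurd (Finset.mem_univ _) h), hm ζ]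
    refine ⟨hm ζ, ?_, ?_⟩
    · have h1 := H.nd.F1 ζ
      rw [hsum, br_nd_sum_P P (ζ : G → ℂ) 0 (H.Z_val ζ hX hY), mul_zero, add_zero,
        ← charDegree_cast_of_isCharacter (IsIrrCharacter.isCharacter ζ.2)] at h1
      exact_mod_cast h1.symm
    · intro h hN hP
      rw [H.F2 ζ h hN hP, Finset.sum_eq_single l₀
        (fun l _ hl => by rw [br_vl_inner_Z H ζ hX hY l hl, zero_mul])
        (fun h => absurd (Finset.mem_univ _) h), hm ζ, H.lam_l₀ h hN, mul_one]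
  refine ⟨m, hZ, ?_⟩
  -- the degree equation of `π`
  have hD := hdeg (1 + n * p) (H.nd.Θ_one l₀)
  have hmt : m (trivIrr G) = 1 := by
    have := hm (trivIrr G)
    rw [H.nd.Θ_triv₀] at this
    exact_mod_cast this.symm
  have hmX : ∀ χ ∈ X, χ ≠ trivIrr G → m χ = 0 := by
    intro χ hχ hχt
    have := hm χ
    rw [H.nd.perm.1 χ hχ hχt] at this
    exact_mod_cast this.symm
  have hmY : ∀ ψ ∈ Y, m ψ = 0 := by
    intro ψ hψ
    have := hm ψ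
    rw [H.nd.perm.2 ψ hψ] at this
    exact_mod_cast this.symm
  have hdt : charDegree ((trivIrr G : IrrCharacter G) : G → ℂ) = 1 := by
    have h1 := charDegree_cast_of_isCharacter (IsIrrCharacter.isCharacter (trivIrr G).2)
    have h2 : ((trivIrr G : IrrCharacter G) : G → ℂ) 1 = 1 := rfl
    rw [h2] at h1
    exact_mod_cast h1
  -- split the sum
  have hsplit : ∑ ξ : IrrCharacter G, m ξ * charDegree (ξ : G → ℂ) =
      1 + p * ∑ ζ ∈ Finset.univ.filter (fun ζ : IrrCharacter G => ζ ∉ X ∧ ζ ∉ Y), (m ζ) ^ 2 := by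
    rw [← Finset.sum_filter_add_sum_filter_not Finset.univ
      (fun ζ : IrrCharacter G => ζ ∉ X ∧ ζ ∉ Y), add_comm]
    congr 1
    · -- the part in X ∪ Y
      rw [Finset.sum_eq_single_of_mem (trivIrr G)
        (Finset.mem_filter.2 ⟨Finset.mem_univ _, fun h => h.1 H.nd.triv_mem⟩), hmt, hdt]
      intro ξ hξ hξt
      have hξ' := (Finset.mem_filter.1 hξ).2
      by_cases hξX : ξ ∈ X
      · rw [hmX ξ hξX hξt, zero_mul]
      · have hξY : ξ ∈ Y := by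
          by_contra hY
          exact hξ' ⟨hξX, hY⟩
        rw [hmY ξ hξY, zero_mul]
    · rw [Finset.mul_sum]
      apply Finset.sum_congr rfl
      intro ζ hζ
      obtain ⟨hX, hY⟩ := (Finset.mem_filter.1 hζ).2
      rw [(hZ ζ hX hY).2.1]; ring
  rw [hsplit] at hD
  have : p * ∑ ζ ∈ Finset.univ.filter (fun ζ : IrrCharacter G => ζ ∉ X ∧ ζ ∉ Y), (m ζ) ^ 2 =
      p * n := by
    have h2 : n * p = p * n := mul_comm _ _
    omega
  exact Nat.eq_of_mul_eq_mul_left hp0 this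

end vals

end Cfsg.Agent.BR
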